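import Cfsg.Agent.Lib.NoField.Pieces
import Mathlib.Data.ZMod.Basic
import Mathlib.Tactic.LinearCombination
import Mathlib.Tactic.FieldSimp

/-!
The numbers contradict: in a block of full defect the torus coefficients leave two further rows of the first
column, and their degrees are incompatible modulo eight.
-/

set_option autoImplicit false
set_option linter.style.haveILetI false
set_option linter.unusedSectionVars false

namespace Cfsg.Agent.NoField

open Cfsg Cfsg.Agent.Char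
open scoped ComplexConjugate Classical

universe u

namespace Arith

theorem exists_next {ι : Type*} [DecidableEq ι] (f : ι → ℤ) {s : Finset ι} {n : ℤ} (h : ∑ x ∈ s, f x * f x = n) (h0 : 0 < n)
    (h3 : n ≤ 3) : ∃ x ∈ s, f x * f x = 1 ∧ ∑ y ∈ s.erase x, f y * f y = n - 1 := by
  obtain ⟨x, hx, hne⟩ := Finset.exists_ne_zero_of_sum_ne_zero (h.trans_ne h0.ne')
  have hle : f x * f x ≤ 3 := le_trans
    (le_trans (Finset.single_le_sum (fun y _ => mul_self_nonneg (f y)) hx) h.le) h3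
  have hne' : f x ≠ 0 := fun e => hne (by rw [e, mul_zero])
  have h1 : f x * f x = 1 := by
    have hlo : -2 < f x := by nlinarith
    have hhi : f x < 2 := by nlinarith
    obtain e | e : f x = 1 ∨ f x = -1 := by omega
    all_goals rw [e]; norm_num
  refine ⟨x, hx, h1, ?_⟩
  rw [← Finset.add_sum_erase _ _ hx, h1] at h
  linarith

theorem eq_zero_of {ι : Type*} (f : ι → ℤ) {s : Finset ι} (h : ∑ x ∈ s, f x * f x = 0) {x : ι} (hx : x ∈ s) :
    f x = 0 :=
  mul_self_eq_zero.1 ((Finset.sum_eq_zero_iff_of_nonneg fun y _ => mul_self_nonneg (f y)).1 h x hx)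

theorem sum_three {ι M : Type*} [Fintype ι] [DecidableEq ι] [AddCommMonoid M] {g : ι → M} {x y z : ι} (hxy : x ≠ y)
    (hxz : x ≠ z) (hyz : y ≠ z) (h0 : ∀ w, w ≠ x → w ≠ y → w ≠ z → g w = 0) :
    ∑ w, g w = g x + (g y + g z) := by
  rw [← Finset.sum_subset (Finset.subset_univ ({x, y, z} : Finset ι)) fun w _ hw => ?_]
  · rw [Finset.sum_insert (by simp [hxy, hxz]), Finset.sum_insert (by simp [hyz]), Finset.sum_singleton]
  · simp only [Finset.mem_insert, Finset.mem_singleton, not_or] at hw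
    exact h0 w hw.1 hw.2.1 hw.2.2

theorem sum_four {ι M : Type*} [Fintype ι] [DecidableEq ι] [AddCommMonoid M] {g : ι → M} {x y z v : ι} (hxy : x ≠ y)
    (hxz : x ≠ z) (hxv : x ≠ v) (hyz : y ≠ z) (hyv : y ≠ v) (hzv : z ≠ v)
    (h0 : ∀ w, w ≠ x → w ≠ y → w ≠ z → w ≠ v → g w = 0) :
    ∑ w, g w = g x + (g y + (g z + g v)) := by
  rw [← Finset.sum_subset (Finset.subset_univ ({x, y, z, v} : Finset ι)) fun w _ hw => ?_]
  · rw [Finset.sum_insert (by simp [hxy, hxz, hxv]), Finset.sum_insert (by simp [hyz, hyv]),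
      Finset.sum_insert (by simp [hzv]), Finset.sum_singleton]
  · simp only [Finset.mem_insert, Finset.mem_singleton, not_or] at hw
    exact h0 w hw.1 hw.2.1 hw.2.2.1 hw.2.2.2

theorem unit_cases {x : ℤ} (h : x * x = 1) : x = 1 ∨ x = -1 := mul_self_eq_one_iff.1 h

theorem sq_sign {b : ℤ} (hb : b * b = 1) (t d : ℤ) :
    (b : ℚ) * ((t : ℚ) ^ 2 / (d : ℚ)) = ((b * t : ℤ) : ℚ) ^ 2 / ((b * d : ℤ) : ℚ) := by
  rcases unit_cases hb with rfl | rfl <;> push_cast <;> ring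

/-- The two rows with second entry zero. -/
theorem no_zero {q A D1 D2 : ℤ} (hq : q % 8 = 3) (hA : A % 8 = 1) (h1 : D1 ≠ 0) (h2 : D2 ≠ 0)
    (hs : D1 + D2 = -((q + 1) * A))
    (he : ((q + 1 : ℤ) / 2 : ℚ) ^ 2 / (D1 : ℚ) + ((q + 1 : ℤ) / 2 : ℚ) ^ 2 / (D2 : ℚ) =
      1 - (q : ℚ) ^ 2 / (1 + (q + 1) * A : ℤ)) : False := by
  have qz : (q : ZMod 8) = 3 := by exact_mod_cast (ZMod.intCast_eq_intCast_iff' q 3 8).2 (by simpa using hq)
  have Az : (A : ZMod 8) = 1 := by exact_mod_cast (ZMod.intCast_eq_intCast_iff' A 1 8).2 (by simpa using hA)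
  set B0 : ℤ := 1 + (q + 1) * A with hB
  have hB0 : B0 ≠ 0 := fun e => by
    have := congrArg (Int.cast : ℤ → ZMod 8) e
    rw [hB] at this
    push_cast at this
    rw [qz, Az] at this
    revert this
    decide
  have e1 : (q + 1) ^ 2 * (D1 + D2) * B0 = 4 * D1 * D2 * (B0 - q ^ 2) := by
    have h1' : (D1 : ℚ) ≠ 0 := Int.cast_ne_zero.2 h1
    have h2' : (D2 : ℚ) ≠ 0 := Int.cast_ne_zero.2 h2
    have hB' : (B0 : ℚ) ≠ 0 := Int.cast_ne_zero.2 hB0
    rw [← Int.cast_inj (α := ℚ)]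
    push_cast at he ⊢
    field_simp at he
    linear_combination he
  set X : ℤ := A + 1 - q with hX
  have hq1 : q + 1 ≠ 0 := by omega
  have e2 : -((q + 1) ^ 2 * A * B0) = 4 * D1 * D2 * X := by
    refine mul_left_cancel₀ hq1 ?_
    rw [hs] at e1
    rw [hX, hB] at *
    linear_combination e1
  have e3 : (X * (D1 - D2)) ^ 2 = ((q + 1) * (A + 1)) ^ 2 * (A * X) := by
    have e4 : (X * (D1 - D2)) ^ 2 = X * (X * (D1 + D2) ^ 2 - 4 * D1 * D2 * X) := by ring
    rw [e4, ← e2, hs, hX, hB]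
    ring
  have hA1 : A + 1 ≠ 0 := by omega
  have hne : ((q + 1) * (A + 1)) ≠ 0 := mul_ne_zero hq1 hA1
  obtain ⟨k, hk⟩ := (Int.pow_dvd_pow_iff two_ne_zero).1 ⟨_, e3⟩
  rw [hk, mul_pow] at e3
  have e5 := mul_left_cancel₀ (pow_ne_zero 2 hne) e3
  have e6 := congrArg (Int.cast : ℤ → ZMod 8) e5
  rw [hX] at e6
  push_cast at e6
  rw [qz, Az] at e6
  have key : ∀ z : ZMod 8, z ^ 2 ≠ (1 : ZMod 8) * (1 + 1 - 3) := by decide
  exact key _ e6

/-- The two rows with second entries `±1`. -/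
theorem eq_one {q A D1 D2 : ℤ} (hq : q % 8 = 3) (hA : A % 8 = 1) (hD : D1 % 8 = 1) (h2 : D2 ≠ 0)
    (hs : D1 + D2 = -((q + 1) * A))
    (he : (1 : ℚ) / (D1 : ℚ) + (q : ℚ) ^ 2 / (D2 : ℚ) = 1 - (q : ℚ) ^ 2 / (1 + (q + 1) * A : ℤ)) :
    D1 = 1 := by
  have qz : (q : ZMod 8) = 3 := by exact_mod_cast (ZMod.intCast_eq_intCast_iff' q 3 8).2 (by simpa using hq)
  have Az : (A : ZMod 8) = 1 := by exact_mod_cast (ZMod.intCast_eq_intCast_iff' A 1 8).2 (by simpa using hA)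
  have Dz : (D1 : ZMod 8) = 1 := by exact_mod_cast (ZMod.intCast_eq_intCast_iff' D1 1 8).2 (by simpa using hD)
  set B0 : ℤ := 1 + (q + 1) * A with hB
  have hB0 : B0 ≠ 0 := fun e => by
    have := congrArg (Int.cast : ℤ → ZMod 8) e
    rw [hB] at this
    push_cast at this
    rw [qz, Az] at this
    revert this
    decide
  have h1 : D1 ≠ 0 := by omega
  have e1 : B0 * (D2 + q ^ 2 * D1) = D1 * D2 * (B0 - q ^ 2) := by
    have h1' : (D1 : ℚ) ≠ 0 := Int.cast_ne_zero.2 h1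
    have h2' : (D2 : ℚ) ≠ 0 := Int.cast_ne_zero.2 h2
    have hB' : (B0 : ℚ) ≠ 0 := Int.cast_ne_zero.2 hB0
    rw [← Int.cast_inj (α := ℚ)]
    push_cast at he ⊢
    field_simp at he
    linear_combination he
  have eD : D2 = -((q + 1) * A) - D1 := by linarith
  subst eD
  rw [hB] at e1
  have e2 : (1 - D1) * ((-((q + 1) * A) - D1) * B0 + q ^ 2 * D1) = 0 := by
    rw [hB]
    linear_combination e1
  rcases mul_eq_zero.1 e2 with e | e
  · linarith
  exfalso
  have e3 : (q + 1) * (D1 * (q - 1 - A) - A * B0) = 0 := by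
    rw [hB] at e ⊢
    linear_combination e
  have e4 := congrArg (Int.cast : ℤ → ZMod 8)
    ((mul_eq_zero.1 e3).resolve_left (by omega : q + 1 ≠ 0))
  rw [hB] at e4
  push_cast at e4
  rw [qz, Az, Dz] at e4
  revert e4
  decide

end Arith

open Arith

variable {G : Type u} [Group G] [Fintype G] {D : Data G} {M : Main D} {XF : XFacts M}

local notation "qq" => (Fintype.card D.F : ℤ)

/-- The class product sum of the first column. -/
noncomputable def XFacts.wsum (XF : XFacts M) (μ : D.Φ →* ℂˣ) : ℚ :=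
  ∑ χ, (XF.bc μ χ : ℚ) * ((D.tv χ : ℚ) ^ 2 / (D.dg χ : ℚ))

/-- The two rows of the first column outside the torus. -/
structure Rows (T : Torus XF) (μ : D.Φ →* ℂˣ) (A : ℤ) (R S : IrrCharacter G) : Prop where
  A_mod : A % 8 = 1
  bR : XF.bc μ R * XF.bc μ R = 1
  bS : XF.bc μ S * XF.bc μ S = 1
  eta : XF.bc μ R * XF.ec μ R + XF.bc μ S * XF.ec μ S = 0
  eta_le : XF.ec μ R * XF.ec μ R + XF.ec μ S * XF.ec μ S ≤ 6
  dsum : XF.bc μ R * D.dg R + XF.bc μ S * D.dg S = -((qq + 1) * A)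
  weight : XF.wsum μ = ((qq + 1 : ℤ) : ℚ) / (A : ℚ) +
    ((((XF.bc μ R * D.tv R : ℤ) : ℚ) ^ 2 / ((XF.bc μ R * D.dg R : ℤ) : ℚ)) +
      ((XF.bc μ S * D.tv S : ℤ) : ℚ) ^ 2 / ((XF.bc μ S * D.dg S : ℤ) : ℚ))
  only : ∀ χ, T.a μ χ = 0 → XF.bc μ χ ≠ 0 → χ = R ∨ χ = S

theorem Rows.symm {T : Torus XF} {μ : D.Φ →* ℂˣ} {A : ℤ} {R S : IrrCharacter G} (h : Rows T μ A R S) :
    Rows T μ A S R where
  A_mod := h.A_mod
  bR := h.bS
  bS := h.bR
  eta := (add_comm _ _).trans h.eta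
  eta_le := (add_comm _ _).le.trans h.eta_le
  dsum := (add_comm _ _).trans h.dsum
  weight := h.weight.trans (by rw [add_comm (((XF.bc μ R * D.tv R : ℤ) : ℚ) ^ 2 / _)])
  only χ ha hb := (h.only χ ha hb).symm

theorem exists_rows (hloc : LocalStmt XF) (T : Torus XF) (μ : D.Φ →* ℂˣ) (ψ : IrrCharacter G) (ε : ℤ)
    (hε : ε = 1 ∨ ε = -1) (hrow : XF.bc μ ψ = ε ∧ XF.ec μ ψ = ε ∧ T.a μ ψ = -ε) :
    ∃ R S, Rows T μ (ε * D.dg ψ) R S := by
  obtain ⟨hbψ, heψ, haψ⟩ := hrow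
  have hεε : ε * ε = 1 := by rcases hε with e | e <;> rw [e] <;> norm_num
  have hq3 : qq % 8 = 3 := by have := M.q_mod_three; omega
  have hq1 : qq - 1 ≠ 0 := by have := D.three_lt; omega
  have tvf : ∀ χ, (XF.bc μ χ ≠ 0 ∨ XF.ec μ χ ≠ 0) →
      2 * D.tv χ = (qq + 1) * XF.bc μ χ - (qq - 1) * XF.ec μ χ := fun χ h => (hloc μ χ h).1
  -- the three rows of the torus
  have na := T.norm μ
  rw [← Finset.add_sum_erase _ _ (Finset.mem_univ ψ), haψ, neg_mul_neg, hεε] at na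
  obtain ⟨R1, hR1, a1, n1⟩ := exists_next (T.a μ) (n := 2) (by linarith) (by norm_num) (by norm_num)
  obtain ⟨R2, hR2, a2, n2⟩ := exists_next (T.a μ) n1 (by norm_num) (by norm_num)
  have hd1 : ψ ≠ R1 := (Finset.mem_erase.1 hR1).1.symm
  have hd2 : ψ ≠ R2 := (Finset.mem_erase.1 (Finset.mem_erase.1 hR2).2).1.symm
  have hd3 : R1 ≠ R2 := (Finset.mem_erase.1 hR2).1.symm
  have hz : ∀ χ, χ ≠ ψ → χ ≠ R1 → χ ≠ R2 → T.a μ χ = 0 := fun χ x y z => eq_zero_of (T.a μ) (by linarith)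
    (Finset.mem_erase.2 ⟨z, Finset.mem_erase.2 ⟨y, Finset.mem_erase.2 ⟨x, Finset.mem_univ χ⟩⟩⟩)
  have key : ∀ g : IrrCharacter G → ℤ,
      ∑ χ, T.a μ χ * g χ = -ε * g ψ + (T.a μ R1 * g R1 + T.a μ R2 * g R2) := fun g => by
    rw [sum_three hd1 hd2 hd3 fun χ x y z => by rw [hz χ x y z, zero_mul], haψ]
  have sb := T.a_bc μ μ
  have se := T.a_ec μ μ
  rw [key, hbψ] at sb
  rw [key, heψ, if_pos rfl] at se
  have htv := T.a_tv μ
  rw [key] at htv
  have hψtv : 2 * D.tv ψ = 2 * ε := by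
    rw [tvf ψ (Or.inl (by rw [hbψ]; rcases hε with e | e <;> rw [e] <;> norm_num)), hbψ, heψ]
    ring
  obtain ⟨C, F, hdC, hdF, hdCF, aC, aF, hzCF, bF, eF⟩ : ∃ C F, ψ ≠ C ∧ ψ ≠ F ∧ C ≠ F ∧
      T.a μ C * T.a μ C = 1 ∧ T.a μ F * T.a μ F = 1 ∧
      (∀ χ, χ ≠ ψ → χ ≠ C → χ ≠ F → T.a μ χ = 0) ∧ XF.bc μ F = 0 ∧ XF.ec μ F = 0 := by
    by_cases h2 : XF.bc μ R2 = 0 ∧ XF.ec μ R2 = 0
    · exact ⟨R1, R2, hd1, hd2, hd3, a1, a2, hz, h2.1, h2.2⟩
    by_cases h1 : XF.bc μ R1 = 0 ∧ XF.ec μ R1 = 0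
    · exact ⟨R2, R1, hd2, hd1, hd3.symm, a2, a1, fun χ x y z => hz χ x z y, h1.1, h1.2⟩
    exfalso
    have f1 := tvf R1 (not_and_or.1 h1)
    have f2 := tvf R2 (not_and_or.1 h2)
    have h0 : 2 * (qq - 1) = 0 := by
      linear_combination (2 : ℤ) * htv + ε * hψtv - T.a μ R1 * f1 - T.a μ R2 * f2 - (qq + 1) * sb +
        (qq - 1) * se
    exact hq1 (by linarith)
  clear sb se htv
  have key' : ∀ g : IrrCharacter G → ℤ,
      ∑ χ, T.a μ χ * g χ = -ε * g ψ + (T.a μ C * g C + T.a μ F * g F) := fun g => by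
    rw [sum_three hdC hdF hdCF fun χ x y z => by rw [hzCF χ x y z, zero_mul], haψ]
  have sb := T.a_bc μ μ
  have se := T.a_ec μ μ
  rw [key', hbψ, bF, mul_zero, add_zero] at sb
  rw [key', heψ, eF, mul_zero, add_zero, if_pos rfl] at se
  set γ := T.a μ C with hγ
  set φ := T.a μ F
  have bC : XF.bc μ C = γ := by linear_combination γ * sb - XF.bc μ C * aC + γ * hεε
  have eC : XF.ec μ C = -γ := by linear_combination γ * se - XF.ec μ C * aC + γ * hεε
  have hC0 : γ ≠ 0 := fun e => by rw [e] at aC; norm_num at aC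
  have tC : D.tv C = qq * γ := by
    have := tvf C (Or.inl (bC ▸ hC0))
    rw [bC, eC] at this
    linarith
  have tψ : D.tv ψ = ε := by linarith
  have tF : φ * D.tv F = 1 - qq := by
    have := T.a_tv μ
    rw [key', tψ, tC] at this
    linear_combination this + hεε - qq * aC
  have dψ : D.dg ψ ≠ 0 := (D.dg_pos ψ).ne'
  set A := ε * D.dg ψ with hA
  have hA0 : A ≠ 0 := mul_ne_zero (fun e => by rw [e] at hεε; norm_num at hεε) dψ
  have hdd := T.a_dg μ
  rw [key'] at hdd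
  set Cc := γ * D.dg C with hCc
  have hF : φ * D.dg F = A - Cc := by rw [hA, hCc]; linarith
  have hCc0 : Cc ≠ 0 := mul_ne_zero hC0 (D.dg_pos C).ne'
  have hF0 : φ * D.dg F ≠ 0 := mul_ne_zero (fun e => by rw [e] at aF; norm_num at aF) (D.dg_pos F).ne'
  have hw := T.a_weight μ
  rw [sum_three hdC hdF hdCF fun χ x y z => by rw [hzCF χ x y z, Int.cast_zero, zero_mul],
    sq_sign (show T.a μ ψ * T.a μ ψ = 1 by rw [haψ]; linear_combination hεε), sq_sign aC, sq_sign aF,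
    haψ, tψ, tC, tF] at hw
  have hCA : Cc = qq * A := by
    have e1 : ((-ε * ε : ℤ) : ℚ) ^ 2 = 1 := by rw [neg_mul, hεε]; norm_num
    have e2 : ((γ * (qq * γ) : ℤ) : ℚ) ^ 2 = (qq : ℚ) ^ 2 := by
      rw [show γ * (qq * γ) = qq by linear_combination qq * aC]
    rw [show -ε * D.dg ψ = -A by rw [hA]; ring, ← hCc, hF, e1, e2] at hw
    have h1 : (A : ℚ) ≠ 0 := Int.cast_ne_zero.2 hA0
    have h2 : (Cc : ℚ) ≠ 0 := Int.cast_ne_zero.2 hCc0
    have h3 : (A : ℚ) - Cc ≠ 0 := by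
      have := Int.cast_ne_zero (α := ℚ).2 (hF ▸ hF0)
      push_cast at this
      exact this
    push_cast at hw
    field_simp at hw
    have hsq : ((Cc - qq * A : ℤ) : ℚ) ^ 2 = 0 := by
      push_cast
      linear_combination hw
    have h4 := Int.cast_eq_zero.1 (pow_eq_zero_iff two_ne_zero |>.1 hsq)
    linarith
  have hAmod : A % 8 = 1 := by
    obtain ⟨k, hk⟩ := D.dg_mod_eight ψ
    rw [tψ] at hk
    have : A = 8 * (ε * k) + 1 := by rw [hA]; linear_combination ε * hk + hεε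
    omega
  -- the rows of the first column
  have nb := (XF.gram μ μ).1
  rw [if_pos rfl, ← Finset.add_sum_erase _ _ (Finset.mem_univ ψ), hbψ, hεε,
    ← Finset.add_sum_erase _ _ (Finset.mem_erase.2 ⟨hdC.symm, Finset.mem_univ C⟩), bC, aC] at nb
  obtain ⟨R, hR, bR, m1⟩ := exists_next (XF.bc μ) (n := 2) (by linarith) (by norm_num) (by norm_num)
  obtain ⟨S, hS, bS, m2⟩ := exists_next (XF.bc μ) m1 (by norm_num) (by norm_num)
  simp only [Finset.mem_erase, Finset.mem_univ, and_true] at hR hS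
  obtain ⟨hRC, hRψ⟩ := hR
  obtain ⟨hSR, hSC, hSψ⟩ := hS
  have hzb : ∀ χ, χ ≠ ψ → χ ≠ C → χ ≠ R → χ ≠ S → XF.bc μ χ = 0 := fun χ x y z w =>
    eq_zero_of (XF.bc μ) (by linarith) (Finset.mem_erase.2 ⟨w, Finset.mem_erase.2 ⟨z,
      Finset.mem_erase.2 ⟨y, Finset.mem_erase.2 ⟨x, Finset.mem_univ χ⟩⟩⟩⟩)
  have key4 : ∀ g : IrrCharacter G → ℤ, ∑ χ, XF.bc μ χ * g χ =
      ε * g ψ + (γ * g C + (XF.bc μ R * g R + XF.bc μ S * g S)) := fun g => by
    rw [sum_four hdC hRψ.symm hSψ.symm hRC.symm hSC.symm hSR.symm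
      fun χ x y z w => by rw [hzb χ x y z w, zero_mul], hbψ, bC]
  refine ⟨R, S, hAmod, bR, bS, ?_, ?_, ?_, ?_, ?_⟩
  · have := (XF.gram μ μ).2.2
    rw [key4, heψ, eC] at this
    linear_combination this - hεε + aC
  · have := (XF.gram μ μ).2.1
    rw [if_pos rfl] at this
    have hle : ∑ χ ∈ ({ψ, C, R, S} : Finset (IrrCharacter G)), XF.ec μ χ * XF.ec μ χ ≤
        ∑ χ, XF.ec μ χ * XF.ec μ χ :=
      Finset.sum_le_sum_of_subset_of_nonneg (Finset.subset_univ _) fun χ _ _ => mul_self_nonneg _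
    rw [Finset.sum_insert (by simp [hdC, hRψ.symm, hSψ.symm]),
      Finset.sum_insert (by simp [hRC.symm, hSC.symm]), Finset.sum_insert (by simp [hSR.symm]),
      Finset.sum_singleton, heψ, eC, hεε, neg_mul_neg, aC, this] at hle
    linarith
  · have := (XF.deg_int μ).1
    rw [key4] at this
    linear_combination this - hCA
  · rw [XFacts.wsum, sum_four hdC hRψ.symm hSψ.symm hRC.symm hSC.symm hSR.symm
      fun χ x y z w => by rw [hzb χ x y z w, Int.cast_zero, zero_mul],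
      sq_sign (show XF.bc μ ψ * XF.bc μ ψ = 1 by rw [hbψ, hεε]),
      sq_sign (show XF.bc μ C * XF.bc μ C = 1 by rw [bC, aC]), sq_sign bR, sq_sign bS, hbψ, bC, tψ, tC,
      ← hA, ← hCc, hCA, hεε, show γ * (qq * γ) = qq by linear_combination qq * aC]
    have h1 : (A : ℚ) ≠ 0 := Int.cast_ne_zero.2 hA0
    have hqne : (qq : ℚ) ≠ 0 := Int.cast_ne_zero.2 (by omega)
    rw [← add_assoc]
    congr 1
    push_cast
    field_simp
    ring
  · intro χ ha hb
    have x : χ ≠ ψ := fun e => by rw [e, haψ] at ha; rcases hε with h | h <;> rw [h] at ha <;> norm_num at ha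
    have y : χ ≠ C := fun e => hC0 (by rw [hγ, ← e]; exact ha)
    by_contra hc
    exact hb (hzb χ x y (fun e => hc (Or.inl e)) fun e => hc (Or.inr e))

/-- The torus coefficients vanish at the principal character. -/
theorem Torus.a_principal (T : Torus XF) (μ : D.Φ →* ℂˣ) : T.a μ (principal G) = 0 := by
  have h := T.a_spec μ (principal G)
  have hv : ∀ g : G, ((principal G : IrrCharacter G) : G → ℂ) g = 1 := fun g => rfl
  simp only [hv, mul_one, Fintype.sum_bool, if_true, if_false, Bool.false_eq_true] at h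
  have hz : (T.a μ (principal G) : ℂ) * (4 * (Nat.card M.ld.Zh : ℂ) * (Nat.card D.Φ : ℂ)) = 0 := by
    rw [h]
    refine Finset.sum_eq_zero fun z _ => Finset.sum_eq_zero fun σ _ => ?_
    ring
  haveI : Finite D.Φ := Finite.of_injective _ D.jΦ_inj
  have hne : (4 * (Nat.card M.ld.Zh : ℂ) * (Nat.card D.Φ : ℂ)) ≠ 0 :=
    mul_ne_zero (mul_ne_zero (by norm_num) (Nat.cast_ne_zero.2 Nat.card_pos.ne'))
      (Nat.cast_ne_zero.2 Nat.card_pos.ne')
  exact_mod_cast (mul_eq_zero.1 hz).resolve_right hne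

theorem Data.eq_principal (D : Data G) {χ : IrrCharacter G} (hd : D.dg χ = 1) : χ = principal G := by
  haveI := D.simple
  have h1 : (χ : G → ℂ) 1 = 1 := by rw [← D.dg_cast, hd, Int.cast_one]
  obtain ⟨f, hf⟩ := exists_hom_of_degree_one (IsIrrCharacter.isCharacter χ.2) h1
  rcases (inferInstance : f.ker.Normal).eq_bot_or_eq_top with e | e
  · exact absurd ⟨⟨fun a b => (MonoidHom.ker_eq_bot_iff f).1 e (by rw [map_mul, map_mul, mul_comm])⟩⟩ D.nc
  · refine Subtype.ext (funext fun g => ?_)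
    have : f g = 1 := MonoidHom.mem_ker.1 (e ▸ Subgroup.mem_top g)
    rw [congrFun hf g, this]
    simp [principal]

/-- The numbers contradict. -/
theorem arith (T : Torus XF) : ArithStmt T := by
  intro hloc P
  have hq3 : qq % 8 = 3 := by have := M.q_mod_three; omega
  set A := P.ε * D.dg P.ψ with hA
  obtain ⟨R, S, hμ⟩ := exists_rows hloc T P.μ P.ψ P.ε P.ε_unit P.ψ_row
  obtain ⟨R', S', h1⟩ := exists_rows hloc T 1 P.ψ' P.ε P.ε_unit P.ψ'_row
  rw [← P.same_deg] at h1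
  -- the first block
  obtain ⟨hb0, he0⟩ := XF.col_one 1 (χ := principal G) fun _ => rfl
  rw [if_pos rfl] at hb0 he0
  have hd0 : D.dg (principal G) = 1 := by
    have : (D.dg (principal G) : ℂ) = 1 := by rw [D.dg_cast]; rfl
    exact_mod_cast this
  have ht0 : D.tv (principal G) = 1 := by
    have : (D.tv (principal G) : ℂ) = 1 := by rw [D.tv_cast]; rfl
    exact_mod_cast this
  obtain ⟨S₀, h1⟩ : ∃ S₀, Rows T 1 A (principal G) S₀ := by
    rcases h1.only (principal G) (T.a_principal 1) (by rw [hb0]; norm_num) with e | e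
    · exact ⟨S', e ▸ h1⟩
    · exact ⟨R', e ▸ h1.symm⟩
  have heS : XF.ec 1 S₀ = -XF.bc 1 S₀ := by
    have := h1.eta
    rw [hb0, he0] at this
    linear_combination XF.bc 1 S₀ * this - XF.ec 1 S₀ * h1.bS
  have htS : XF.bc 1 S₀ * D.tv S₀ = qq := by
    have := (hloc 1 S₀ (Or.inl fun e => by have := h1.bS; rw [e] at this; norm_num at this)).1
    rw [heS] at this
    have h2 : 2 * (XF.bc 1 S₀ * D.tv S₀) = 2 * qq := by
      linear_combination XF.bc 1 S₀ * this + 2 * qq * h1.bS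
    linarith
  have hdS : XF.bc 1 S₀ * D.dg S₀ = -(1 + (qq + 1) * A) := by
    have := h1.dsum
    rw [hb0, hd0] at this
    linarith
  have hw1 : XF.wsum 1 = ((qq + 1 : ℤ) : ℚ) / (A : ℚ) + (1 - (qq : ℚ) ^ 2 / (1 + (qq + 1) * A : ℤ)) := by
    rw [h1.weight, hb0, hd0, ht0, htS, hdS]
    push_cast
    rw [div_neg]
    ring
  have hw := XF.weight P.μ
  change XF.wsum P.μ = XF.wsum 1 at hw
  rw [hμ.weight, hw1] at hw
  replace hw := add_left_cancel hw
  -- the other block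
  have hne : ∀ {b : ℤ}, b * b = 1 → b ≠ 0 := fun h e => by rw [e] at h; norm_num at h
  have tau : ∀ χ, XF.bc P.μ χ * XF.bc P.μ χ = 1 → 2 * (XF.bc P.μ χ * D.tv χ) =
      (qq + 1) - (qq - 1) * (XF.bc P.μ χ * XF.ec P.μ χ) := fun χ hb => by
    linear_combination XF.bc P.μ χ * (hloc P.μ χ (Or.inl (hne hb))).1 + (qq + 1) * hb
  have hdne : ∀ χ, XF.bc P.μ χ * XF.bc P.μ χ = 1 → XF.bc P.μ χ * D.dg χ ≠ 0 := fun χ hb =>
    mul_ne_zero (hne hb) (D.dg_pos χ).ne'
  have main : ∀ R S, Rows T P.μ A R S →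
      ((((XF.bc P.μ R * D.tv R : ℤ) : ℚ) ^ 2 / ((XF.bc P.μ R * D.dg R : ℤ) : ℚ)) +
        ((XF.bc P.μ S * D.tv S : ℤ) : ℚ) ^ 2 / ((XF.bc P.μ S * D.dg S : ℤ) : ℚ) =
        1 - (qq : ℚ) ^ 2 / (1 + (qq + 1) * A : ℤ)) →
      XF.bc P.μ R * XF.ec P.μ R = 1 → False := by
    intro R S h hw hη
    have hηS : XF.bc P.μ S * XF.ec P.μ S = -1 := by linarith [h.eta]
    have tR : XF.bc P.μ R * D.tv R = 1 := by
      have := tau R h.bR
      rw [hη] at this
      linarith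
    have tS : XF.bc P.μ S * D.tv S = qq := by
      have := tau S h.bS
      rw [hηS] at this
      linarith
    have hmod : (XF.bc P.μ R * D.dg R) % 8 = 1 := by
      obtain ⟨k, hk⟩ := D.dg_mod_eight R
      have : XF.bc P.μ R * D.dg R = 8 * (XF.bc P.μ R * k) + 1 := by
        linear_combination XF.bc P.μ R * hk + tR
      omega
    rw [tR, tS] at hw
    have hone : XF.bc P.μ R * D.dg R = 1 :=
      Arith.eq_one hq3 h.A_mod hmod (hdne S h.bS) h.dsum (by push_cast at hw ⊢; linear_combination hw)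
    have hd : D.dg R = 1 := by
      rcases unit_cases h.bR with e | e <;> rw [e] at hone
      · linarith
      · linarith [D.dg_pos R]
    have hb : XF.bc P.μ R = 0 := by
      rw [D.eq_principal hd, (XF.col_one P.μ (χ := principal G) fun _ => rfl).1, if_neg P.μ_ne]
    exact hne h.bR hb
  obtain hη | hη | hη : XF.bc P.μ R * XF.ec P.μ R = 1 ∨ XF.bc P.μ R * XF.ec P.μ R = -1 ∨
      XF.bc P.μ R * XF.ec P.μ R = 0 := by
    have e1 : (XF.bc P.μ R * XF.ec P.μ R) * (XF.bc P.μ R * XF.ec P.μ R) = XF.ec P.μ R * XF.ec P.μ R := by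
      linear_combination XF.ec P.μ R * XF.ec P.μ R * hμ.bR
    have e2 : (XF.bc P.μ S * XF.ec P.μ S) * (XF.bc P.μ S * XF.ec P.μ S) = XF.ec P.μ S * XF.ec P.μ S := by
      linear_combination XF.ec P.μ S * XF.ec P.μ S * hμ.bS
    have e3 : XF.bc P.μ S * XF.ec P.μ S = -(XF.bc P.μ R * XF.ec P.μ R) := by linarith [hμ.eta]
    rw [e3] at e2
    have h6 := hμ.eta_le
    have hlo : -2 < XF.bc P.μ R * XF.ec P.μ R := by nlinarith
    have hhi : XF.bc P.μ R * XF.ec P.μ R < 2 := by nlinarith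
    omega
  · exact main R S hμ hw hη
  · exact main S R hμ.symm (by rw [add_comm]; exact hw) (by linarith [hμ.eta])
  · have hηS : XF.bc P.μ S * XF.ec P.μ S = 0 := by linarith [hμ.eta]
    have tR := tau R hμ.bR
    have tS := tau S hμ.bS
    rw [hη] at tR
    rw [hηS] at tS
    have cR : ((XF.bc P.μ R * D.tv R : ℤ) : ℚ) = ((qq + 1 : ℤ) / 2 : ℚ) := by
      rw [eq_div_iff (two_ne_zero' ℚ)]
      exact_mod_cast (by linarith : XF.bc P.μ R * D.tv R * 2 = qq + 1)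
    have cS : ((XF.bc P.μ S * D.tv S : ℤ) : ℚ) = ((qq + 1 : ℤ) / 2 : ℚ) := by
      rw [eq_div_iff (two_ne_zero' ℚ)]
      exact_mod_cast (by linarith : XF.bc P.μ S * D.tv S * 2 = qq + 1)
    rw [cR, cS] at hw
    exact Arith.no_zero hq3 hμ.A_mod (hdne R hμ.bR) (hdne S hμ.bS) hμ.dsum hw

end Cfsg.Agent.NoField
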