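import Cfsg.Agent.Lib.Walter8.Base
import Cfsg.Agent.Lib.AutPSL.Automorphisms
import Cfsg.Agent.Lib.JanThom.LData
import Cfsg.Prelude.Def_Blocks

/-!
Elimination of the field automorphisms in the centraliser of an involution `C(t) = ⟨t⟩ × (L ⋊ Φ)`,
`L = PSL₂(q)`: the data, the notions used by the pieces and the statements of the pieces
(`tools/walter/NOFIELD_helper19.md`).
-/

set_option autoImplicit false
set_option linter.style.haveILetI false
set_option linter.unusedSectionVars false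

namespace Cfsg.Agent.NoField

open Subgroup Cfsg.Agent.Walter8 Cfsg.Agent.AutPSL
open Cfsg.Agent.ClosedAbelian (core)
open scoped ComplexConjugate Classical

universe u

/-- `PSL₂(F)`. -/
abbrev PSL2 (F : Type) [Field F] [Fintype F] : Type := Matrix.ProjectiveSpecialLinearGroup (Fin 2) F

/-- The statement to be proved, at one group (`Walter8.NoFieldStmt` is its quantification). -/
def NoFieldAt (G : Type u) [Group G] : Prop :=
  ∀ (S : Subgroup G), ¬ IsMulCommutative G → Eight S → LType S →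
    (∀ a ∈ S, a ≠ 1 → core (cen a) = ⊥) → ∀ a : G, a ∈ S → a ≠ 1 →
      ∃ (F : Type) (_ : Field F) (_ : Fintype F), Odd (Fintype.card F) ∧ 3 < Fintype.card F ∧
        Nonempty (cen a ≃* Multiplicative (ZMod 2) × PSL2 F)

/-- A counterexample all of whose smaller simple groups satisfy the statement. The field automorphisms
`Φ ≠ 1` act entrywise; `s, i, y` lie in the image of the prime field. -/
structure Data (G : Type u) [Group G] where
  F : Type
  [fld : Field F]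
  [fin : Fintype F]
  t : G
  X : Subgroup G
  Φ : Subgroup (F ≃+* F)
  jL : PSL2 F →* G
  jΦ : Φ →* G
  pr : X →* Φ
  s : PSL2 F
  i : PSL2 F
  y : PSL2 F
  simple : IsSimpleGroup G
  nc : ¬ IsMulCommutative G
  odd : Odd (Fintype.card F)
  three_lt : 3 < Fintype.card F
  q_mod : Fintype.card F % 8 = 3 ∨ Fintype.card F % 8 = 5
  t_sq : t * t = 1
  t_ne : t ≠ 1
  X_le : X ≤ cen t
  t_notMem : t ∉ X
  dec : ∀ g ∈ cen t, g ∈ X ∨ t * g ∈ X
  jL_mem : ∀ l, jL l ∈ X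
  jL_inj : Function.Injective jL
  jΦ_mem : ∀ σ, jΦ σ ∈ X
  jΦ_inj : Function.Injective jΦ
  jconj : ∀ (σ : Φ) (l : PSL2 F), jΦ σ * jL l * (jΦ σ)⁻¹ = jL (semi 1 (σ : F ≃+* F) l)
  prod : ∀ x ∈ X, ∃ (l : PSL2 F) (σ : Φ), x = jL l * jΦ σ
  pr_spec : ∀ (x : X) (l : PSL2 F) (σ : Φ), (x : G) = jL l * jΦ σ → pr x = σ
  s_sq : s * s = 1
  s_ne : s ≠ 1
  i_sq : i * i = 1
  i_ne : i ≠ 1
  i_ne_s : i ≠ s
  i_comm : i * s = s * i
  y_cube : y ^ 3 = 1
  y_s : y * s * y⁻¹ = i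
  y_i : y * i * y⁻¹ = s * i
  fix_s : ∀ σ : F ≃+* F, semi 1 σ s = s
  fix_i : ∀ σ : F ≃+* F, semi 1 σ i = i
  fix_y : ∀ σ : F ≃+* F, semi 1 σ y = y
  card_Φ_odd : Odd (Nat.card Φ)
  nontrivial : Φ ≠ ⊥
  eight : 8 ∣ Nat.card G
  sixteen : ¬ 16 ∣ Nat.card G
  no_four : ∀ x : G, orderOf x ≠ 4
  one_class : ∀ a b : G, orderOf a = 2 → orderOf b = 2 → IsConj a b
  core_bot : ∀ a : G, orderOf a = 2 → core (cen a) = ⊥
  smaller : ∀ (H : Type u) [Group H] [Finite H] [IsSimpleGroup H], Nat.card H < Nat.card G → NoFieldAt H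

attribute [instance] Data.fld Data.fin

variable {G : Type u} [Group G]

/-- The part over a fixed complement: the Sylow subgroup `⟨t⟩ × ⟨s, i⟩`. -/
def Data.S (D : Data G) : Subgroup G := closure {D.t, D.jL D.s, D.jL D.i}

/-- The four-group `⟨t, s⟩`. -/
def Data.E4 (D : Data G) : Subgroup G := closure {D.t, D.jL D.s}

/-- The number of field elements fixed by `σ`. -/
noncomputable def Data.qfix (D : Data G) (σ : D.Φ) : ℕ := Nat.card {x : D.F // (σ : D.F ≃+* D.F) x = x}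

/-- The number of field elements fixed by all of `Φ`. -/
noncomputable def Data.qbot (D : Data G) : ℕ :=
  Nat.card {x : D.F // ∀ σ : D.Φ, (σ : D.F ≃+* D.F) x = x}

/-- The root groups of `L` inside `G`: the points of the projective line. -/
def Data.Roots (D : Data G) : Set (Subgroup G) :=
  {P | ∃ R : Sylow (ringChar D.F) (PSL2 D.F), P = (R : Subgroup (PSL2 D.F)).map D.jL}

/-- The number of fixed points on the projective line. -/
noncomputable def Data.fixN (D : Data G) (x : G) : ℕ :=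
  Nat.card {P : Subgroup G // P ∈ D.Roots ∧ P.map (MulAut.conj x).toMonoidHom = P}

/-- The number of common fixed points with the field automorphism `σ`. -/
noncomputable def Data.fix1 (D : Data G) (σ : D.Φ) (x : G) : ℕ :=
  Nat.card {P : Subgroup G // P ∈ D.Roots ∧ P.map (MulAut.conj (D.jΦ σ)).toMonoidHom = P ∧
    P.map (MulAut.conj x).toMonoidHom = P}

/-- The centraliser of a field automorphism. -/
abbrev Data.Cf (D : Data G) (σ : D.Φ) : Subgroup G := cen (D.jΦ σ)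

/-- `σ` generates the `p`-part of `Φ`. -/
def Data.IsPart (D : Data G) (p : ℕ) (σ : D.Φ) : Prop :=
  p.Prime ∧ p ∣ Nat.card D.Φ ∧ orderOf σ = p ^ (Nat.card D.Φ).factorization p

/-! ### The statements on the centralisers of field automorphisms -/

/-- The possibilities for a prime divisor of `|Φ|`: transfer gives that it divides the number of
involutions of `C(σ)/⟨σ⟩`, a group of Ree order, `J₁`, or one with solvable involution centralisers. -/
def CasesStmt (D : Data G) : Prop :=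
  ∀ (p : ℕ) (σ : D.Φ), D.IsPart p σ →
    (p = 3 ∧ ringChar D.F = 3) ∨
    (11 ≤ D.qfix σ ∧ ringChar D.F = 3 ∧ p ≠ 3 ∧ p ∣ D.qfix σ ^ 2 - D.qfix σ + 1) ∨
    (D.qfix σ = 5 ∧ (p = 7 ∨ p = 11 ∨ p = 19)) ∨
    (D.qfix σ = 3 ∧ p = 7)

/-- No field automorphism of order three in characteristic three. -/
def P3Stmt (D : Data G) : Prop := 3 ∣ Nat.card D.Φ → ringChar D.F = 3 → False

/-- The prime field, or the field of five elements, as common fixed field. -/
def SmallStmt (D : Data G) : Prop :=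
  ¬ (3 ∣ Nat.card D.Φ ∧ ringChar D.F = 3) → D.qbot < 11 → False

/-- Transfer kills `f` when the Sylow subgroup of its centraliser is `⟨f⟩ × ⟨z⟩` and `C(f)` has an
element acting on `⟨z⟩` with weight `ω`, `ω² ∉ {1, ω}`. -/
def WeightStmt (G : Type u) [Group G] : Prop :=
  ∀ (p : ℕ), p.Prime → p ≠ 2 → ∀ (f z w : G) (v ω : ℕ),
    IsSimpleGroup G → ¬ IsMulCommutative G → (∀ x : G, orderOf x ≠ 4) →
    0 < v → orderOf f = p ^ v → orderOf z = p → z ∉ zpowers f → f * z = z * f → f * w = w * f →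
    w * z * w⁻¹ = z ^ ω → ¬ ω % p = 1 → ¬ ω ^ 2 % p = 1 →
    (Nat.card (cen f)).factorization p = v + 1 →
    (∀ (g : G) (a b : ℕ), g * f ^ a * g⁻¹ = f ^ b → f ^ a = f ^ b) →
    (∀ x i : G, orderOf i = 2 → x * i = i * x → (∃ k, orderOf x = p ^ k) →
      ∃ g : G, g * x * g⁻¹ ∈ zpowers f) →
    False

/-! ### The main case: a common fixed field with at least eleven elements -/

/-- The data of the main case. -/
structure Main (D : Data G) where
  p : ℕ
  v : ℕ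
  σ : D.Φ
  l : ℕ
  r : PSL2 D.F
  ld : JanThom.LData (PSL2 D.F) (Fintype.card D.F : ℤ)
  ld_s : ld.s = D.s
  char3 : ringChar D.F = 3
  three : ¬ 3 ∣ Nat.card D.Φ
  qbot_large : 27 ≤ D.qbot
  q_mod_three : Fintype.card D.F % 8 = 3
  p_prime : p.Prime
  p_five : 5 ≤ p
  v_eq : (Nat.card D.Φ).factorization p = v
  v_pos : 0 < v
  σ_order : orderOf σ = p ^ v
  p_dvd : p ∣ D.qfix σ ^ 2 - D.qfix σ + 1
  p_coprime : ¬ p ∣ Fintype.card D.F * (Fintype.card D.F ^ 2 - 1)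
  qfix_large : 27 ≤ D.qfix σ
  l_prime : l.Prime
  r_order : orderOf r = l
  r_mem : r ∈ ld.Zh
  r_fix : ∀ σ : D.Φ, semi 1 (σ : D.F ≃+* D.F) r = r
  l_coprime : ¬ l ∣ Nat.card D.Φ

variable {D : Data G}

/-- The order of `L ∩ C(f)`. -/
noncomputable def Main.card1 (M : Main D) : ℕ :=
  Nat.card {g : PSL2 D.F // semi 1 (M.σ : D.F ≃+* D.F) g = g}

/-- No element moving `t → s → ts` centralises `r`. -/
def FreeStmt (M : Main D) : Prop :=
  ∀ g : G, g * D.t * g⁻¹ = D.jL D.s → g * D.jL D.s * g⁻¹ = D.t * D.jL D.s →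
    g * D.jL M.r ≠ D.jL M.r * g

/-- A function on a subgroup, extended by zero. -/
noncomputable def ev {H : Subgroup G} (η : H → ℂ) (g : G) : ℂ :=
  if hg : g ∈ H then η ⟨g, hg⟩ else 0

/-- An element `t ^ a * s ^ b` of the four-group. -/
def Data.four (D : Data G) (a b : Bool) : G := (if a then D.t else 1) * (if b then D.jL D.s else 1)

/-- The character of defect zero of the Ree type group in `C(f)/⟨f⟩`, read on `C(f)`. The sums are
the columns `b`, `e` and a torus coefficient of the section of `t`, all known from Janko–Thompson. -/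
structure EtaData (M : Main D) [Fintype G] where
  η : IrrCharacter (D.Cf M.σ)
  ker : ∀ g : D.Cf M.σ, (g : G) ∈ zpowers (D.jΦ M.σ) → (η : D.Cf M.σ → ℂ) g = (η : D.Cf M.σ → ℂ) 1
  defect_zero : (charDegree (η : D.Cf M.σ → ℂ)).factorization M.p + M.v =
    (Nat.card (D.Cf M.σ)).factorization M.p
  twist : ∀ μ : D.Φ →* ℂˣ, μ M.σ = 1 → ∃ c : D.Cf M.σ →* ℂˣ,
    ∀ g : D.Cf M.σ, ((g : G) = D.t → c g = 1) ∧ ∀ hg : (g : G) ∈ D.X, c g = μ (D.pr ⟨g, hg⟩)
  sum_b : ∑ g : {g : PSL2 D.F // semi 1 (M.σ : D.F ≃+* D.F) g = g ∧ Odd (orderOf g)},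
      (D.fix1 M.σ (D.jL g) : ℂ) * ev (η : D.Cf M.σ → ℂ) (D.t * D.jL g) = -(M.card1 : ℂ)
  sum_e : ∑ g : {g : PSL2 D.F // semi 1 (M.σ : D.F ≃+* D.F) g = g ∧ Odd (orderOf g)},
      (4 - 2 * (D.fix1 M.σ (D.jL g) : ℂ)) * ev (η : D.Cf M.σ → ℂ) (D.t * D.jL g) = -(M.card1 : ℂ)
  torus : ∀ lam : M.ld.Zh →* ℂˣ,
    (∃ z : M.ld.Zh, semi 1 (M.σ : D.F ≃+* D.F) (z : PSL2 D.F) = z ∧ lam z ≠ 1) →
    ∑ z : {z : M.ld.Zh // semi 1 (M.σ : D.F ≃+* D.F) (z : PSL2 D.F) = z},
      ∑ a : Bool, ∑ b : Bool, (if b then -1 else 1 : ℂ) * (1 - conj ((lam z.1 : ℂˣ) : ℂ)) *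
        ev (η : D.Cf M.σ → ℂ) (D.four a b * D.jL (z.1 : PSL2 D.F)) =
      4 * (Nat.card {z : M.ld.Zh // semi 1 (M.σ : D.F ≃+* D.F) (z : PSL2 D.F) = z} : ℂ)

/-- Existence of `EtaData`. -/
def EtaStmt (M : Main D) [Fintype G] : Prop := Nonempty (EtaData M)

/-- What the main case needs from the principal 2-block of `X` and the projective line. -/
structure XFacts (M : Main D) [Fintype G] where
  ξ : Fin 4 → IrrCharacter D.X
  sgn : Fin 4 → ℤ
  sgn_unit : ∀ j, sgn j = 1 ∨ sgn j = -1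
  ξ_zero : (ξ 0 : D.X → ℂ) = fun _ => 1
  sgn_zero : sgn 0 = 1
  ξ_inj : Function.Injective ξ
  I : Ideal AlgInt
  modular : IsPModular 2 I
  block : principalBlock I D.X = Set.range ξ
  deg : ∀ j, (sgn j : ℂ) * (ξ j : D.X → ℂ) 1 =
    (![1, -(Fintype.card D.F : ℂ), ((Fintype.card D.F : ℂ) - 1) / 2,
      ((Fintype.card D.F : ℂ) - 1) / 2] : Fin 4 → ℂ) j
  singular : ∀ x : D.X, ∑ j, (sgn j : ℂ) * (ξ j : D.X → ℂ) x = if Odd (orderOf x) then 0 else 4
  steinberg : ∀ x : D.X, (D.fixN x : ℂ) = 1 - (sgn 1 : ℂ) * (ξ 1 : D.X → ℂ) x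
  coset : ∀ (j : Fin 4), j ≠ 0 → ∀ σ : D.Φ,
    ∑ x : D.X, (if D.pr x = σ then (ξ j : D.X → ℂ) x else 0) = 0
  fix_even : ∀ x : D.X, ¬ Odd (orderOf x) → D.fixN x = 0
  fix_sum : ∀ σ : D.Φ, ∑ x : D.X, (if D.pr x = σ then (D.fixN x : ℂ) ^ 2 else 0) =
    2 * Nat.card (PSL2 D.F)
  fix_torus : ∀ x : D.X, D.jL M.r ∈ zpowers (x : G) → D.fixN x = 0
  fix_field : ∀ (x : G) (k : ℕ), ¬ M.p ∣ k → x * D.jΦ M.σ = D.jΦ M.σ * x → ¬ M.p ∣ orderOf x →
    D.fixN (D.jΦ M.σ ^ k * x) = D.fix1 M.σ x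

/-- The main case does not occur. -/
def MainStmt (D : Data G) : Prop := Main D → False

end Cfsg.Agent.NoField
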