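import Cfsg.Agent.Lib.AutPSL.Main
import Cfsg.Agent.Lib.Classical.PSL2Involutions
import Mathlib.FieldTheory.Finite.Basic

/-!
A four-group of `PSL₂(F)`, `|F|` odd, and an element of order three normalising it, with entries in
the prime field: fixed by every field automorphism.
-/

set_option autoImplicit false

namespace Cfsg.Agent.NoField

open Matrix Cfsg.Agent.AutPSL

variable {F : Type} [Field F] [Fintype F]

local notation "SL2" => Matrix.SpecialLinearGroup (Fin 2) F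
local notation "P2" => Matrix.ProjectiveSpecialLinearGroup (Fin 2) F

theorem semi_one_fix (σ : F ≃+* F) (g : SL2)
    (h : ∀ i j, σ ((g : Matrix (Fin 2) (Fin 2) F) i j) = (g : Matrix (Fin 2) (Fin 2) F) i j) :
    semi 1 σ (QuotientGroup.mk g : P2) = QuotientGroup.mk g := by
  rw [semi_mk]
  refine congrArg QuotientGroup.mk (Subtype.ext ?_)
  rw [slSemi_coe, inv_one, Units.val_one, one_mul, mul_one]
  ext i j
  exact h i j

theorem exists_quaternion (h2 : (2 : F) ≠ 0) :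
    ∃ s i y : P2, s * s = 1 ∧ s ≠ 1 ∧ i * i = 1 ∧ i ≠ 1 ∧ i ≠ s ∧ i * s = s * i ∧ y ^ 3 = 1 ∧
      y * s * y⁻¹ = i ∧ y * i * y⁻¹ = s * i ∧
      (∀ σ : F ≃+* F, semi 1 σ s = s) ∧ (∀ σ : F ≃+* F, semi 1 σ i = i) ∧
      ∀ σ : F ≃+* F, semi 1 σ y = y := by
  obtain ⟨a, b, hab, hσ⟩ : ∃ a b : F, a ^ 2 + b ^ 2 = -1 ∧ ∀ σ : F ≃+* F, σ a = a ∧ σ b = b := by
    obtain ⟨p, hp⟩ := CharP.exists F
    haveI : Fact p.Prime := ⟨CharP.char_is_prime F p⟩
    obtain ⟨a, b, hab⟩ := ZMod.sq_add_sq p (-1)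
    refine ⟨ZMod.castHom (dvd_refl p) F a, ZMod.castHom (dvd_refl p) F b, ?_, fun σ => ⟨?_, ?_⟩⟩
    · rw [← map_pow, ← map_pow, ← map_add, hab, map_neg, map_one]
    · exact RingHom.congr_fun (RingHom.ext_zmod (σ.toRingHom.comp (ZMod.castHom (dvd_refl p) F))
        (ZMod.castHom (dvd_refl p) F)) a
    · exact RingHom.congr_fun (RingHom.ext_zmod (σ.toRingHom.comp (ZMod.castHom (dvd_refl p) F))
        (ZMod.castHom (dvd_refl p) F)) b
  have hh : (2 : F) * 2⁻¹ = 1 := mul_inv_cancel₀ h2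
  let J : SL2 := ⟨!![0, 1; -1, 0], by simp [Matrix.det_fin_two]⟩
  let K : SL2 := ⟨!![a, b; b, -a], by
    rw [Matrix.det_fin_two]; simp; linear_combination -hab⟩
  let W : SL2 := ⟨!![2⁻¹ * (1 + a + b), 2⁻¹ * (1 + b - a); 2⁻¹ * (-1 + b - a), 2⁻¹ * (1 - a - b)], by
    rw [Matrix.det_fin_two]; simp
    linear_combination -2 * (2⁻¹ : F) ^ 2 * hab + (2 * 2⁻¹ + 1) * hh⟩
  have hJK : (QuotientGroup.mk (J * K) : P2) = QuotientGroup.mk (K * J) := by
    refine mk_eq_mk_of_smul (c := (-1 : F)) ?_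
    show (J : Matrix (Fin 2) (Fin 2) F) * (K : Matrix (Fin 2) (Fin 2) F) = (-1 : F) • ((K : Matrix (Fin 2) (Fin 2) F) * (J : Matrix (Fin 2) (Fin 2) F))
    ext x y; fin_cases x <;> fin_cases y <;> simp [J, K, Matrix.SpecialLinearGroup.coe_mul, Matrix.mul_apply, Fin.sum_univ_two]
  have hWJ : (QuotientGroup.mk (W * J) : P2) = QuotientGroup.mk (K * W) := by
    refine congrArg QuotientGroup.mk (Subtype.ext ?_)
    show (W : Matrix (Fin 2) (Fin 2) F) * (J : Matrix (Fin 2) (Fin 2) F) = (K : Matrix (Fin 2) (Fin 2) F) * (W : Matrix (Fin 2) (Fin 2) F)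
    ext x y; fin_cases x <;> fin_cases y <;> simp [W, J, K, Matrix.SpecialLinearGroup.coe_mul, Matrix.mul_apply, Fin.sum_univ_two] <;>
      grind
  have hWK : (QuotientGroup.mk (W * K) : P2) = QuotientGroup.mk (J * K * W) := by
    refine congrArg QuotientGroup.mk (Subtype.ext ?_)
    show (W : Matrix (Fin 2) (Fin 2) F) * (K : Matrix (Fin 2) (Fin 2) F) = (J : Matrix (Fin 2) (Fin 2) F) * (K : Matrix (Fin 2) (Fin 2) F) * (W : Matrix (Fin 2) (Fin 2) F)
    ext x y; fin_cases x <;> fin_cases y <;> simp [W, J, K, Matrix.SpecialLinearGroup.coe_mul, Matrix.mul_apply, Fin.sum_univ_two] <;>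
      grind
  have hW3 : (QuotientGroup.mk (W ^ 3) : P2) = QuotientGroup.mk 1 := by
    refine mk_eq_mk_of_smul (c := (-1 : F)) ?_
    show (W : Matrix (Fin 2) (Fin 2) F) ^ 3 = (-1 : F) • (1 : Matrix (Fin 2) (Fin 2) F)
    ext x y; fin_cases x <;> fin_cases y <;>
      simp [W, pow_succ, Matrix.SpecialLinearGroup.coe_mul, Matrix.mul_apply, Fin.sum_univ_two] <;> grind
  have hKJ : (QuotientGroup.mk K : P2) ≠ QuotientGroup.mk J := by
    intro e
    obtain ⟨c, -, hc⟩ := exists_smul_of_mk_eq (F := F) e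
    have h00 := congrFun (congrFun hc 0) 0
    have h01 := congrFun (congrFun hc 0) 1
    have h10 := congrFun (congrFun hc 1) 0
    simp [J, K] at h00 h01 h10
    have : (2 : F) * b = 0 := by linear_combination h01 + h10
    rcases mul_eq_zero.1 this with h | h
    · exact h2 h
    · rw [h00, h] at hab; simp at hab
  refine ⟨QuotientGroup.mk J, QuotientGroup.mk K, QuotientGroup.mk W,
    PSL2Inv.pr_mul_self (by simp [J, Matrix.trace_fin_two]), PSL2Inv.pr_ne_one h2 (by simp [J, Matrix.trace_fin_two]),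
    PSL2Inv.pr_mul_self (by simp [K, Matrix.trace_fin_two]), PSL2Inv.pr_ne_one h2 (by simp [K, Matrix.trace_fin_two]),
    hKJ, ?_, ?_, ?_, ?_, fun σ => semi_one_fix σ J ?_, fun σ => semi_one_fix σ K ?_,
    fun σ => semi_one_fix σ W ?_⟩
  · rw [← QuotientGroup.mk_mul, ← QuotientGroup.mk_mul, hJK]
  · rw [← QuotientGroup.mk_pow, hW3, QuotientGroup.mk_one]
  · rw [mul_inv_eq_iff_eq_mul, ← QuotientGroup.mk_mul, ← QuotientGroup.mk_mul, hWJ]
  · rw [mul_inv_eq_iff_eq_mul, ← QuotientGroup.mk_mul, ← QuotientGroup.mk_mul, ← QuotientGroup.mk_mul, hWK]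
  all_goals
    intro i j
    obtain ⟨ha, hb⟩ := hσ σ
    fin_cases i <;> fin_cases j <;> simp [J, K, W, ha, hb, map_inv₀, map_ofNat]

end Cfsg.Agent.NoField
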