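import Cfsg.Agent.Lib.NoField.Base
import Cfsg.Agent.Lib.NoField.Matrices
import Cfsg.Agent.Lib.Walter8.Setup
import Cfsg.Agent.Lib.Walter8.Reduce

/-!
A counterexample to `NoFieldAt` gives the data.
-/

set_option autoImplicit false
set_option linter.style.haveILetI false
set_option linter.unusedSectionVars false

namespace Cfsg.Agent.NoField

open Subgroup Cfsg.Agent.Walter8 Cfsg.Agent.AutPSL
open Cfsg.Agent.ClosedAbelian (core)

universe u

variable {G : Type u} [Group G] [Finite G]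

theorem c2_facts : (∀ z : Multiplicative (ZMod 2), z = 1 ∨ z = Multiplicative.ofAdd 1) ∧
    (Multiplicative.ofAdd 1 : Multiplicative (ZMod 2)) ≠ 1 ∧
    (Multiplicative.ofAdd 1 : Multiplicative (ZMod 2)) * Multiplicative.ofAdd 1 = 1 := by
  refine ⟨?_, ?_, ?_⟩ <;> decide

/-- `q ≡ ± 3 (mod 8)` when the order of `PSL₂(q)` is not divisible by `8`. -/
theorem q_mod_of_card {F : Type} [Field F] [Fintype F] (hodd : Odd (Fintype.card F))
    (h : ¬ 8 ∣ Nat.card (PSL2 F)) : Fintype.card F % 8 = 3 ∨ Fintype.card F % 8 = 5 := by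
  have key : ∀ r < 16, (r % 8 = 1 ∨ r % 8 = 7) → (r * r + 15) % 16 = 0 := by decide
  have h2 := two_mul_card_psl hodd
  have ho := Nat.odd_iff.1 hodd
  by_contra hne
  refine h (Nat.dvd_of_mul_dvd_mul_left two_pos ?_)
  rw [h2]
  refine Dvd.dvd.mul_left ?_ _
  have h1 := key (Fintype.card F % 16) (Nat.mod_lt _ (by norm_num)) (by omega)
  rw [Nat.add_mod, Nat.mul_mod, Nat.mod_mod] at h1
  rw [← Nat.mul_mod, ← Nat.add_mod] at h1
  have h3 : 1 ≤ Fintype.card F * Fintype.card F := Nat.mul_pos Fintype.card_pos Fintype.card_pos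
  rw [pow_two]
  omega

theorem exists_data {S : Subgroup G} [IsSimpleGroup G] (hnc : ¬ IsMulCommutative G) (hE : Eight S)
    (hL : LType S) (hcore : ∀ a ∈ S, a ≠ 1 → core (cen a) = ⊥)
    (ih : ∀ (H : Type u) [Group H] [Finite H] [IsSimpleGroup H], Nat.card H < Nat.card G → NoFieldAt H)
    {a : G} (ha : a ∈ S) (ha1 : a ≠ 1) :
    (∃ (F : Type) (_ : Field F) (_ : Fintype F), Odd (Fintype.card F) ∧ 3 < Fintype.card F ∧
        Nonempty (cen a ≃* Multiplicative (ZMod 2) × PSL2 F)) ∨ Nonempty (Data G) := by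
  classical
  haveI : Fact (Nat.Prime 2) := ⟨Nat.prime_two⟩
  obtain ⟨L, F, i1, i2, φ, hodd, h3, hLC, hCN, hφ, -, hker, hcl⟩ := hL a ha ha1
  have hC0 := hcore a ha ha1
  have hφi : Function.Injective φ := by
    rw [← MonoidHom.ker_eq_bot_iff, hker, hC0, bot_subgroupOf]
  let e : L ≃* PSL2 F := MulEquiv.ofBijective φ ⟨hφi, hφ⟩
  haveI hs : IsSimpleGroup (Matrix.ProjectiveSpecialLinearGroup (Fin 2) F) :=
    Matrix.ProjectiveSpecialLinearGroup.rank_two_simple (by rw [Nat.card_eq_fintype_card]; omega)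
  have hpnc : ¬ IsMulCommutative (PSL2 F) := not_comm_psl hodd
  have h4q : 4 ≤ Fintype.card F := h3
  have haa : a * a = 1 := hE.sq a ha
  -- the action on `L`
  let c0 : cen a →* MulAut L := L.normalizerMonoidHom.comp (inclusion hCN)
  let c : cen a →* MulAut (PSL2 F) :=
    { toFun := fun g => e.symm.trans ((c0 g).trans e)
      map_one' := by ext x; simp
      map_mul' := fun g h => by ext x; simp }
  have hc : ∀ (g : cen a) (x : L), c g (e x) = e (c0 g x) := fun g x => by simp [c]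
  have hc0 : ∀ (g : cen a) (x : L), (c0 g x : G) = (g : G) * x * (g : G)⁻¹ := fun g x => rfl
  let jL : PSL2 F →* G := L.subtype.comp e.symm.toMonoidHom
  have hjL : ∀ x, jL x ∈ L := fun x => (e.symm x).2
  have hjLi : Function.Injective jL := L.subtype_injective.comp e.symm.injective
  let jLC : PSL2 F →* cen a := jL.codRestrict _ fun x => hLC (hjL x)
  have hconjL : ∀ (g : cen a) (x : PSL2 F), (g : G) * jL x * (g : G)⁻¹ = jL (c g x) := fun g x => by
    obtain ⟨l, rfl⟩ := e.surjective x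
    rw [hc]
    simp only [jL, MonoidHom.comp_apply, MulEquiv.coe_toMonoidHom, MulEquiv.symm_apply_apply,
      Subgroup.coe_subtype, hc0]
  have hcj : ∀ x, c (jLC x) = MulAut.conj x := fun x => MulEquiv.ext fun y => hjLi (by
    rw [← hconjL, MulAut.conj_apply, map_mul, map_mul, map_inv]
    rfl)
  have hck : ∀ g : cen a, c g = 1 → (g : G) = 1 ∨ (g : G) = a := by
    intro g hg
    have hm := hcl g g.2 fun l hl => by
      have h := congrArg (fun f : MulAut (PSL2 F) => f (e ⟨l, hl⟩)) hg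
      simp only [MulAut.one_apply, hc, EmbeddingLike.apply_eq_iff_eq] at h
      have h' : (g : G) * l * (g : G)⁻¹ = l := by rw [← hc0 g ⟨l, hl⟩, h]
      rw [h', mul_inv_cancel]; exact one_mem _
    rw [hC0, bot_sup_eq, mem_zpowers_iff] at hm
    obtain ⟨j, hj⟩ := hm
    rcases Int.even_or_odd' j with ⟨k, rfl | rfl⟩
    · rw [_root_.zpow_mul, zpow_two, haa, _root_.one_zpow] at hj; exact Or.inl hj.symm
    · rw [zpow_add, _root_.zpow_mul, zpow_two, haa, _root_.one_zpow, one_mul, zpow_one] at hj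
      exact Or.inr hj.symm
  let aC : cen a := ⟨a, mem_centralizer_singleton_iff.2 rfl⟩
  have haC : ∀ g : cen a, aC * g = g * aC := fun g =>
    Subtype.ext (mem_centralizer_singleton_iff.1 g.2).symm
  have haaC : aC * aC = 1 := Subtype.ext haa
  have hca : c aC = 1 := MulEquiv.ext fun y => hjLi (by
    rw [← hconjL, MulAut.one_apply, ← mem_centralizer_singleton_iff.1 (hLC (hjL y)),
      mul_inv_cancel_right])
  have haL : ∀ x, jL x ≠ a := fun x h => by
    have h1 : MulAut.conj x = 1 := by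
      rw [← hcj, show jLC x = aC from Subtype.ext h, hca]
    have h2 : x ∈ Subgroup.center (PSL2 F) := Subgroup.mem_center_iff.2 fun y => by
      have := congrArg (fun f : MulAut (PSL2 F) => f y) h1
      simp only [MulAut.one_apply, MulAut.conj_apply] at this
      exact (mul_inv_eq_iff_eq_mul.1 this).symm
    rw [(Subgroup.center_eq_top_iff (G := PSL2 F)).not.2 hpnc |> (inferInstance : (Subgroup.center (PSL2 F)).Normal).eq_bot_or_eq_top.resolve_right, mem_bot] at h2
    rw [h2, map_one] at h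
    exact ha1 h.symm
  -- the field part
  let Ψ : cen a →* (F ≃+* F) := GW.fldHom.comp c
  let sF : (F ≃+* F) →* MulAut (PSL2 F) := MonoidHom.mk' (fun σ => semi 1 σ) fun σ τ => by
    rw [semi_mul', map_one, mul_one]
  have hΨ : ∀ (g : cen a) (σ : F ≃+* F), c g = semi 1 σ → Ψ g = σ := fun g σ h => by
    show GW.fldHom (c g) = σ
    rw [h, GW.fldHom_semi]
  have hΨL : ∀ x, Ψ (jLC x) = 1 := fun x => by
    show GW.fldHom (c (jLC x)) = 1
    rw [hcj]; exact GW.fldHom_inn ⟨x, rfl⟩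
  have hΨa : Ψ aC = 1 := by show GW.fldHom (c aC) = 1; rw [hca, map_one]
  -- `⟨a⟩ × L` has odd index
  let AL : Multiplicative (ZMod 2) × PSL2 F →* cen a :=
    { toFun := fun p => (if p.1 = 1 then 1 else aC) * jLC p.2
      map_one' := by simp
      map_mul' := fun p q => by
        obtain ⟨hC2, hne, hsq⟩ := c2_facts
        obtain ⟨z, x⟩ := p
        obtain ⟨w, y⟩ := q
        rcases hC2 z with rfl | rfl <;> rcases hC2 w with rfl | rfl <;>
          simp only [Prod.mk_mul_mk, one_mul, mul_one, hsq, if_neg hne, if_true, map_mul]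
        · rw [← mul_assoc (jLC x), ← haC, mul_assoc]
        · rw [mul_assoc]
        · rw [mul_assoc, ← mul_assoc (jLC x), ← haC, mul_assoc aC (jLC x), ← mul_assoc aC aC, haaC, one_mul] }
  have hALi : Function.Injective AL := by
    refine (injective_iff_map_eq_one AL).2 ?_
    rintro ⟨z, x⟩ h
    change (if z = 1 then 1 else aC) * jLC x = 1 at h
    by_cases hz : z = 1
    · rw [if_pos hz, one_mul] at h
      exact Prod.ext hz (hjLi ((congrArg Subtype.val h).trans (map_one jL).symm))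
    · rw [if_neg hz] at h
      refine absurd ?_ (haL x⁻¹)
      rw [map_inv]
      exact (eq_inv_of_mul_eq_one_left (congrArg Subtype.val h)).symm
  have h4 : 4 ∣ Nat.card (PSL2 F) := four_dvd_psl hodd
  have hALcard : Nat.card AL.range = 2 * Nat.card (PSL2 F) := by
    rw [← Nat.card_congr (MonoidHom.ofInjective hALi).toEquiv, Nat.card_prod]
    simp
  have h8AL : 8 ∣ Nat.card AL.range := hALcard ▸ mul_dvd_mul_left 2 h4
  have hALG : Nat.card AL.range ∣ Nat.card G :=
    (card_subgroup_dvd_card _).trans (card_subgroup_dvd_card (cen a))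
  have hidx : Odd AL.range.index := by
    rw [← Nat.not_even_iff_odd, even_iff_two_dvd]
    intro h2
    refine hE.sixteen (dvd_trans ?_ (card_subgroup_dvd_card (cen a)))
    rw [← AL.range.card_mul_index]
    exact Nat.mul_dvd_mul h8AL h2
  -- modulo inner automorphisms every image has odd order
  let N := Cfsg.Inn (PSL2 F)
  let qH : cen a →* MulAut (PSL2 F) ⧸ N := (QuotientGroup.mk' N).comp c
  have hqodd : ∀ g, Odd (orderOf (qH g)) := fun g => by
    have hle : AL.range ≤ qH.ker := by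
      rintro _ ⟨⟨z, x⟩, rfl⟩
      rw [MonoidHom.mem_ker]
      show QuotientGroup.mk' N (c ((if z = 1 then 1 else aC) * jLC x)) = 1
      rw [map_mul, hcj, show c (if z = 1 then 1 else aC) = 1 by split_ifs; exacts [map_one c, hca],
        one_mul]
      exact (QuotientGroup.eq_one_iff _).2 ⟨x, rfl⟩
    refine (hidx.of_dvd_nat (index_dvd_of_le hle)).of_dvd_nat ?_
    rw [Subgroup.index_ker]
    have := orderOf_dvd_natCard (⟨qH g, g, rfl⟩ : qH.range)
    rwa [← Subgroup.orderOf_coe] at this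
  have hx2 : ∀ h : GL (Fin 2) F,
      (QuotientGroup.mk (semi h 1) : MulAut (PSL2 F) ⧸ N) * QuotientGroup.mk (semi h 1) = 1 := fun h => by
    rw [← QuotientGroup.mk_mul, QuotientGroup.eq_one_iff]
    exact (GW.inn_mul_mem hodd (mem_inndiag.2 ⟨h, rfl⟩) (mem_inndiag.2 ⟨h, rfl⟩)).2 Iff.rfl
  have hinn : ∀ u : cen a, Ψ u = 1 → ∃ l, c u = MulAut.conj l := fun u hu => by
    obtain ⟨h, τ, hcu⟩ := GW.exists_semi (c u)
    have hτ : τ = 1 := by rw [← hu]; show τ = GW.fldHom (c u); rw [hcu, GW.fldHom_semi]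
    subst hτ
    obtain ⟨k, hk⟩ := hqodd u
    have h1 : qH u = QuotientGroup.mk (semi h 1) := congrArg (QuotientGroup.mk' N) hcu
    have h2 : qH u = 1 := by
      have := pow_orderOf_eq_one (qH u)
      rwa [hk, pow_succ, pow_mul, pow_two, h1, hx2, one_pow, one_mul, ← h1] at this
    obtain ⟨l, hl⟩ := (QuotientGroup.eq_one_iff _).1 h2
    exact ⟨l, hl.symm⟩
  let Φ : Subgroup (F ≃+* F) := Ψ.range
  have hΦodd : Odd (Nat.card Φ) := by
    refine hidx.of_dvd_nat ?_
    show Nat.card Ψ.range ∣ _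
    rw [← Subgroup.index_ker]
    refine index_dvd_of_le ?_
    rintro _ ⟨⟨z, x⟩, rfl⟩
    rw [MonoidHom.mem_ker]
    show Ψ ((if z = 1 then 1 else aC) * jLC x) = 1
    rw [map_mul, hΨL, mul_one]
    split_ifs
    · exact map_one Ψ
    · exact hΨa
  -- lifts of odd order
  have hlift : ∀ σ : Φ, ∃ g : cen a, c g = semi 1 (σ : F ≃+* F) ∧ Odd (orderOf g) := by
    rintro ⟨σ, g0, hg0⟩
    have hσodd : Odd (orderOf σ) := by
      refine hΦodd.of_dvd_nat ?_
      have := orderOf_dvd_natCard (⟨σ, g0, hg0⟩ : Φ)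
      rwa [← Subgroup.orderOf_coe] at this
    obtain ⟨h, τ, hcg⟩ := GW.exists_semi (c g0)
    have hτ : τ = σ := by rw [← hg0]; show τ = GW.fldHom (c g0); rw [hcg, GW.fldHom_semi]
    subst hτ
    have hprod : c g0 = semi h 1 * semi 1 τ := by rw [hcg, semi_mul', mapGL_one, mul_one, one_mul]
    set x : MulAut (PSL2 F) ⧸ N := QuotientGroup.mk (semi h 1) with hx
    set y : MulAut (PSL2 F) ⧸ N := QuotientGroup.mk (semi 1 τ) with hy
    have hxd : semi h 1 ∈ Cfsg.inndiagPSL 2 F := mem_inndiag.2 ⟨h, rfl⟩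
    have hxy : Commute x y := by
      have hconj : semi 1 τ * semi h 1 * (semi 1 τ)⁻¹ ∈ Cfsg.inndiagPSL 2 F :=
        (GW.mem_inndiag_iff_fld _).2 (by
          rw [map_mul, map_mul, map_inv, GW.fldHom_semi, GW.fldHom_semi, mul_one, mul_inv_cancel])
      have hNn : N.Normal := inferInstance
      have h1 : semi 1 τ * semi h 1 * (semi 1 τ)⁻¹ * semi h 1 ∈ N :=
        (GW.inn_mul_mem hodd hconj hxd).2 ⟨fun hh => by
          have := hNn.conj_mem _ hh (semi 1 τ)⁻¹
          rwa [inv_inv, show (semi 1 τ)⁻¹ * (semi 1 τ * semi h 1 * (semi 1 τ)⁻¹) * semi 1 τ = semi h 1 by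
            group] at this, fun hh => hNn.conj_mem _ hh _⟩
      have h2 : y * x * y⁻¹ * x = 1 := by
        rw [hx, hy, ← QuotientGroup.mk_inv, ← QuotientGroup.mk_mul, ← QuotientGroup.mk_mul,
          ← QuotientGroup.mk_mul, QuotientGroup.eq_one_iff]
        exact h1
      have h3 : y * x * y⁻¹ = x := by
        rw [eq_inv_of_mul_eq_one_left h2, inv_eq_of_mul_eq_one_right (hx2 h)]
      exact (mul_inv_eq_iff_eq_mul.1 h3).symm
    have hxy' : qH g0 = x * y := (congrArg (QuotientGroup.mk' N) hprod).trans (map_mul _ _ _)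
    have hy1 : y ^ orderOf τ = 1 := by
      show (QuotientGroup.mk' N (sF τ)) ^ orderOf τ = 1
      rw [← map_pow, ← map_pow, pow_orderOf_eq_one, map_one, map_one]
    obtain ⟨k, hk⟩ := (hqodd g0).mul hσodd
    have hx1 : x = 1 := by
      have e1 : qH g0 ^ (orderOf (qH g0) * orderOf τ) = 1 := by rw [pow_mul, pow_orderOf_eq_one, one_pow]
      rw [hxy', hxy.mul_pow, show y ^ (orderOf (x * y) * orderOf τ) = 1 by
        rw [pow_mul', hy1, one_pow], mul_one] at e1
      rwa [← hxy', hk, pow_succ, pow_mul, pow_two, hx, hx2, one_pow, one_mul, ← hx] at e1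
    obtain ⟨z, hz⟩ := (QuotientGroup.eq_one_iff _).1 hx1
    set g := jLC z⁻¹ * g0 with hg
    have hcg' : c g = semi 1 τ := by
      rw [hg, map_mul, hcj, hprod, ← hz, ← mul_assoc, ← map_mul, inv_mul_cancel, map_one, one_mul]
    obtain ⟨m, hm⟩ := hσodd
    have hgm : c (g ^ orderOf τ) = 1 := by
      rw [map_pow, hcg']
      show sF τ ^ orderOf τ = 1
      rw [← map_pow, pow_orderOf_eq_one, map_one]
    rcases hck _ hgm with h1 | h1
    · exact ⟨g, hcg', Odd.of_dvd_nat (⟨m, hm⟩ : Odd (orderOf τ)) (orderOf_dvd_of_pow_eq_one (Subtype.ext h1))⟩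
    · refine ⟨aC * g, by rw [map_mul, hca, one_mul, hcg'],
        Odd.of_dvd_nat (⟨m, hm⟩ : Odd (orderOf τ)) (orderOf_dvd_of_pow_eq_one ?_)⟩
      rw [Commute.mul_pow (haC g), show g ^ orderOf τ = aC from Subtype.ext h1, hm, pow_succ,
        pow_mul, pow_two, haaC, one_pow, one_mul, haaC]
  choose jf hjfc hjfo using hlift
  have huniq : ∀ (σ : F ≃+* F) (g g' : cen a), c g = semi 1 σ → c g' = semi 1 σ → Odd (orderOf g) →
      Odd (orderOf g') → g = g' := by
    intro σ g g' h h' ho ho'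
    have h1 : c (g' * g⁻¹) = 1 := by rw [map_mul, map_inv, h, h', mul_inv_cancel]
    rcases hck _ h1 with h2 | h2
    · exact (mul_inv_eq_one.1 (Subtype.ext h2)).symm
    · exfalso
      have h3 : g' = aC * g := mul_inv_eq_iff_eq_mul.1 (Subtype.ext h2)
      obtain ⟨k, hk⟩ := ho.mul ho'
      have e1 : g' ^ (orderOf g * orderOf g') = 1 := by rw [pow_mul', pow_orderOf_eq_one, one_pow]
      have e2 : g ^ (orderOf g * orderOf g') = 1 := by rw [pow_mul, pow_orderOf_eq_one, one_pow]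
      rw [h3, Commute.mul_pow (haC g), ← h3, e2, mul_one, hk, pow_succ, pow_mul, pow_two, haaC,
        one_pow, one_mul] at e1
      exact ha1 (congrArg Subtype.val e1)
  let jΦC : Φ →* cen a := MonoidHom.mk' jf fun σ τ => by
    have hcomm : Commute (jf σ) (jf τ) := by
      refine mul_inv_eq_iff_eq_mul.1 (huniq τ (jf σ * jf τ * (jf σ)⁻¹) (jf τ) ?_ (hjfc τ) ?_ (hjfo τ))
      · rw [map_mul, map_mul, map_inv, hjfc, hjfc]
        show sF σ * sF τ * (sF σ)⁻¹ = sF τ
        rw [← map_mul, ringAut_comm, map_mul, mul_inv_cancel_right]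
      · rw [← MulAut.conj_apply]
        exact (orderOf_injective (MulAut.conj (jf σ)).toMonoidHom (MulAut.conj (jf σ)).injective (jf τ)).symm ▸ hjfo τ
    refine huniq ((σ : F ≃+* F) * τ) _ _ (hjfc (σ * τ)) ?_ (hjfo _)
      (((hjfo σ).mul (hjfo τ)).of_dvd_nat hcomm.orderOf_mul_dvd_mul_orderOf)
    rw [map_mul, hjfc, hjfc]
    exact (map_mul sF _ _).symm
  have hΨf : ∀ σ : Φ, Ψ (jΦC σ) = σ := fun σ => hΨ _ _ (hjfc σ)
  let jΦ : Φ →* G := (cen a).subtype.comp jΦC
  have hdec : ∀ g : cen a, ∃ (l : PSL2 F) (σ : Φ), g = jLC l * jΦC σ ∨ g = aC * (jLC l * jΦC σ) := by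
    intro g
    set σ : Φ := ⟨Ψ g, g, rfl⟩
    have h1 : Ψ (g * (jΦC σ)⁻¹) = 1 := by rw [map_mul, map_inv, hΨf]; exact mul_inv_cancel (Ψ g)
    obtain ⟨l, hl⟩ := hinn _ h1
    have h2 : c (g * (jΦC σ)⁻¹ * (jLC l)⁻¹) = 1 := by rw [map_mul, map_inv c (jLC l), hl, hcj, mul_inv_cancel]
    refine ⟨l, σ, ?_⟩
    rcases hck _ h2 with h3 | h3
    · refine Or.inl ?_
      rw [← mul_inv_eq_one.1 (Subtype.ext h3), inv_mul_cancel_right]
    · refine Or.inr ?_
      rw [← mul_assoc, ← mul_inv_eq_iff_eq_mul.1 (Subtype.ext h3 : g * (jΦC σ)⁻¹ * (jLC l)⁻¹ = aC),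
        inv_mul_cancel_right]
  by_cases hbot : Φ = ⊥
  · refine Or.inl ⟨F, i1, i2, hodd, h3, ⟨(MulEquiv.ofBijective AL ⟨hALi, fun g => ?_⟩).symm⟩⟩
    obtain ⟨l, σ, h⟩ := hdec g
    have hσ : σ = 1 := Subtype.ext ((Subgroup.eq_bot_iff_forall _).1 hbot σ σ.2)
    rw [hσ, map_one, mul_one] at h
    rcases h with rfl | rfl
    · exact ⟨(1, l), by show (if (1 : Multiplicative (ZMod 2)) = 1 then 1 else aC) * jLC l = _; rw [if_pos rfl, one_mul]⟩
    · exact ⟨(Multiplicative.ofAdd 1, l), by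
        show (if (Multiplicative.ofAdd 1 : Multiplicative (ZMod 2)) = 1 then 1 else aC) * jLC l = _
        rw [if_neg c2_facts.2.1]⟩
  refine Or.inr ?_
  obtain ⟨s, i, y, hs2, hs1, hi2, hi1, his, hic, hy3, hys, hyi, hfs, hfi, hfy⟩ :=
    exists_quaternion (F := F) (by
      intro h2
      have := (FiniteField.odd_card_of_char_ne_two (F := F)).mt
      haveI : CharP F 2 := (CharP.charP_iff_prime_eq_zero Nat.prime_two).2 (by exact_mod_cast h2)
      exact Nat.not_even_iff_odd.2 hodd (even_iff_two_dvd.2 (Nat.dvd_of_mod_eq_zero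
        (FiniteField.even_card_of_char_two (ringChar.eq_iff.2 ‹_›)))))
  have hmove : ∀ (σ : Φ) (l : PSL2 F), jΦ σ * jL l * (jΦ σ)⁻¹ = jL (semi 1 (σ : F ≃+* F) l) :=
    fun σ l => by rw [← hjfc σ]; exact hconjL (jf σ) l
  let X : Subgroup G :=
    { carrier := {g | ∃ (l : PSL2 F) (σ : Φ), g = jL l * jΦ σ}
      one_mem' := ⟨1, 1, by rw [map_one, map_one, mul_one]⟩
      mul_mem' := by
        rintro _ _ ⟨l, σ, rfl⟩ ⟨l', τ, rfl⟩
        exact ⟨l * semi 1 (σ : F ≃+* F) l', σ * τ, by rw [map_mul, ← hmove, map_mul]; group⟩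
      inv_mem' := by
        rintro _ ⟨l, σ, rfl⟩
        exact ⟨semi 1 ((σ⁻¹ : Φ) : F ≃+* F) l⁻¹, σ⁻¹, by rw [← hmove, map_inv, map_inv]; group⟩ }
  have hXle : X ≤ cen a := by
    rintro _ ⟨l, σ, rfl⟩
    exact mul_mem (hLC (hjL l)) (jΦC σ).2
  have hspec : ∀ (x : X) (l : PSL2 F) (σ : Φ), (x : G) = jL l * jΦ σ →
      (Ψ.rangeRestrict.comp (inclusion hXle)) x = σ := fun x l σ h => Subtype.ext (by
    show Ψ (inclusion hXle x) = σ
    rw [show inclusion hXle x = jLC l * jΦC σ from Subtype.ext h, map_mul, hΨL, hΨf, one_mul])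
  have hSsq := hE.sq
  let Sy : Sylow 2 G := Sylow.ofCard S (by
    rw [hE.card, show (8 : ℕ) = 2 ^ 3 from rfl]
    refine congrArg (2 ^ ·) ?_
    have h0 : Nat.card G ≠ 0 := Nat.card_pos.ne'
    refine le_antisymm ((Nat.prime_two.pow_dvd_iff_le_factorization h0).1 ?_) ?_
    · rw [show 2 ^ 3 = Nat.card S by rw [hE.card]; rfl]; exact card_subgroup_dvd_card S
    · by_contra hlt
      exact hE.sixteen ((Nat.prime_two.pow_dvd_iff_le_factorization h0 (k := 4)).2 (by omega)))
  have hinto : ∀ x : G, (∃ k, orderOf x = 2 ^ k) → ∃ g : G, g * x * g⁻¹ ∈ S := fun x ⟨k, hk⟩ => by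
    obtain ⟨R, hR⟩ := (IsPGroup.of_card (n := k) (by rw [Nat.card_zpowers, hk]) :
      IsPGroup 2 (zpowers x)).exists_le_sylow
    obtain ⟨g, hg⟩ := MulAction.exists_smul_eq G R Sy
    refine ⟨g, ?_⟩
    show g * x * g⁻¹ ∈ (Sy : Subgroup G)
    rw [← hg, Sylow.coe_subgroup_smul]
    exact ⟨x, hR (mem_zpowers x), rfl⟩
  have hne : ∀ {x g : G}, orderOf x ≠ 1 → g * x * g⁻¹ ≠ 1 := fun h e =>
    h (by rw [conj_eq_one_iff.1 e, orderOf_one])
  exact ⟨{
    F := F, t := a, X := X, Φ := Φ, jL := jL, jΦ := jΦ, pr := Ψ.rangeRestrict.comp (inclusion hXle)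
    s := s, i := i, y := y
    simple := ‹IsSimpleGroup G›
    nc := hnc
    odd := hodd
    three_lt := h3
    q_mod := q_mod_of_card hodd fun h8 => hE.sixteen
      ((show 16 = 2 * 8 from rfl) ▸ dvd_trans (mul_dvd_mul_left 2 h8) (hALcard ▸ hALG))
    t_sq := haa
    t_ne := ha1
    X_le := hXle
    t_notMem := by
      rintro ⟨l, σ, h⟩
      have h1 := hspec ⟨a, l, σ, h⟩ l σ h
      have h2 : σ = 1 := h1.symm.trans (Subtype.ext hΨa)
      rw [h2, map_one, mul_one] at h
      exact haL l h.symm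
    dec := fun g hg => by
      obtain ⟨l, σ, h | h⟩ := hdec ⟨g, hg⟩
      · exact Or.inl ⟨l, σ, congrArg Subtype.val h⟩
      · refine Or.inr ⟨l, σ, ?_⟩
        rw [show g = a * (jL l * jΦ σ) from congrArg Subtype.val h, ← mul_assoc, haa, one_mul]
    jL_mem := fun l => ⟨l, 1, by rw [map_one, mul_one]⟩
    jL_inj := hjLi
    jΦ_mem := fun σ => ⟨1, σ, by rw [map_one, one_mul]⟩
    jΦ_inj := fun σ τ h => Subtype.ext (by rw [← hΨf σ, ← hΨf τ, show jΦC σ = jΦC τ from Subtype.ext h])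
    jconj := hmove
    prod := fun x hx => hx
    pr_spec := hspec
    s_sq := hs2, s_ne := hs1, i_sq := hi2, i_ne := hi1, i_ne_s := his, i_comm := hic
    y_cube := hy3, y_s := hys, y_i := hyi, fix_s := hfs, fix_i := hfi, fix_y := hfy
    card_Φ_odd := hΦodd
    nontrivial := hbot
    eight := h8AL.trans hALG
    sixteen := hE.sixteen
    no_four := fun x hx => by
      obtain ⟨g, hg⟩ := hinto x ⟨2, hx⟩
      have h1 := hE.sq _ hg
      have h2 : x * x = 1 := by
        have : g * (x * x) * g⁻¹ = 1 := by rw [← h1]; group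
        exact conj_eq_one_iff.1 this
      have := orderOf_dvd_of_pow_eq_one (show x ^ 2 = 1 by rw [pow_two, h2])
      rw [hx] at this
      norm_num at this
    one_class := fun x y hx hy => by
      obtain ⟨g, hg⟩ := hinto x ⟨1, hx⟩
      obtain ⟨g', hg'⟩ := hinto y ⟨1, hy⟩
      obtain ⟨n, -, hn⟩ := hE.trans _ hg (hne (by omega)) _ hg' (hne (by omega))
      refine isConj_iff.2 ⟨g'⁻¹ * n * g, ?_⟩
      calc g'⁻¹ * n * g * x * (g'⁻¹ * n * g)⁻¹ = g'⁻¹ * (n * (g * x * g⁻¹) * n⁻¹) * g' := by group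
        _ = y := by rw [hn]; group
    core_bot := fun x hx => by
      obtain ⟨g, hg⟩ := hinto x ⟨1, hx⟩
      have h := hcore _ hg (hne (by omega))
      rw [core_conj] at h
      exact (Subgroup.map_eq_bot_iff_of_injective _ (MulAut.conj g).injective).1 h
    smaller := ih }⟩

end Cfsg.Agent.NoField
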