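import Cfsg.Agent.Lib.NoField.CPhiSimple
import Cfsg.Agent.Lib.Char.Burnside
import Cfsg.Agent.Lib.Walter8.Reduce
import Cfsg.Agent.S3188

/-!
`C(f) ⧸ ⟨f⟩` when the fixed field has three elements: solvable centralisers of involutions.
-/

set_option autoImplicit false
set_option linter.style.haveILetI false
set_option linter.unusedSectionVars false

namespace Cfsg.Agent.NoField

open Subgroup Cfsg.Agent.AutPSL
open Cfsg.Agent.Walter8 (cen)
open scoped commutatorElement

universe u

variable {G : Type u} [Group G] [Finite G]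

namespace Data

/-- The image of `S` is normalised by the image of `N(S)`, which is transitive on it. -/
theorem trans_bar (D : Data G) (σ : D.Φ) {x : D.Hbar σ} (hx : x ∈ (D.S.subgroupOf (D.Cf σ)).map (D.pH σ))
    (hx1 : x ≠ 1) :
    ∃ n ∈ normalizer (((D.S.subgroupOf (D.Cf σ)).map (D.pH σ) : Subgroup (D.Hbar σ)) : Set (D.Hbar σ)),
      n * D.tb σ * n⁻¹ = x := by
  obtain ⟨a, ha, rfl⟩ := hx
  have ha1 : (a : G) ≠ 1 := fun h => hx1 (by rw [show a = 1 from Subtype.ext h, map_one])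
  obtain ⟨g, hg, hga⟩ := D.trans D.t_mem_S D.t_ne (mem_subgroupOf.1 ha) ha1
  refine ⟨D.pH σ ⟨g, D.normalizer_le_Cf σ hg⟩, ?_, ?_⟩
  · refine SEBrick.mem_normalizer_of ?_
    rintro _ ⟨b, hb, rfl⟩
    refine ⟨⟨g, D.normalizer_le_Cf σ hg⟩ * b * ⟨g, D.normalizer_le_Cf σ hg⟩⁻¹, ?_, ?_⟩
    · exact (mem_normalizer_iff.1 hg _).1 hb
    · rw [map_mul, map_mul, map_inv]
  · rw [← map_inv, ← map_mul, ← map_mul]
    exact congrArg (D.pH σ) (Subtype.ext hga)

theorem fix_small (D : Data G) {σ : D.Φ} (h3 : D.qfix σ = 3) (τ : D.Φ) (a : D.F)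
    (ha : (σ : D.F ≃+* D.F) a = a) : (τ : D.F ≃+* D.F) a = a := by
  classical
  haveI := Fintype.ofFinite {x : D.F // (σ : D.F ≃+* D.F) x = x}
  let f : Fin 3 → {x : D.F // (σ : D.F ≃+* D.F) x = x} :=
    ![⟨0, map_zero _⟩, ⟨1, map_one _⟩, ⟨-1, by rw [map_neg, map_one]⟩]
  have h2 := D.two_ne_zero
  have hf : Function.Injective f := by
    have h11 : (-1 : D.F) ≠ 1 := fun h => h2 (by linear_combination -h)
    intro i j h
    fin_cases i <;> fin_cases j <;> simp [f, h11, Ne.symm h11, Subtype.ext_iff] at h ⊢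
  have hbij : Function.Bijective f := by
    refine (Fintype.bijective_iff_injective_and_card f).2 ⟨hf, ?_⟩
    rw [← Nat.card_eq_fintype_card, ← Nat.card_eq_fintype_card, Nat.card_fin]
    exact h3.symm
  obtain ⟨i, hi⟩ := hbij.2 ⟨a, ha⟩
  have e : a = ((f i : {x : D.F // (σ : D.F ≃+* D.F) x = x}) : D.F) := by rw [hi]
  fin_cases i <;> simp [f] at e <;> simp [e]

theorem card_cen_small (D : Data G) {σ : D.Φ} (h3 : D.qfix σ = 3) : Nat.card (cen (D.tb σ)) = 24 := by
  classical
  have hphi : ∀ τ, D.phib σ τ = 1 := fun τ => by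
    obtain ⟨k, hk⟩ := mem_zpowers_iff.1 (mem_zpowers_of_fix (D.fix_small h3 τ))
    rw [phib_apply, D.pH_eq_one]
    exact mem_zpowers_iff.2 ⟨k, by
      rw [← map_zpow]
      exact congrArg D.jΦ (Subtype.ext ((SubgroupClass.coe_zpow σ k).trans hk))⟩
  let f : Bool × fixed (σ : D.F ≃+* D.F) → cen (D.tb σ) := fun p =>
    ⟨(if p.1 then D.tb σ else 1) * D.lam σ p.2, mul_mem (by
      split_ifs
      exacts [mem_centralizer_singleton_iff.2 rfl, one_mem _]) (D.lam_mem_cen σ p.2)⟩
  have hf : Function.Bijective f := by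
    constructor
    · rintro ⟨a, v⟩ ⟨b, w⟩ h
      have h' : (if a then D.tb σ else 1) * D.lam σ v = (if b then D.tb σ else 1) * D.lam σ w :=
        congrArg Subtype.val h
      cases a <;> cases b <;> simp only [if_true, one_mul, Bool.false_eq_true, if_false] at h'
      · exact Prod.ext rfl (D.lam_injective σ h')
      · exact absurd (by rw [map_mul, map_inv, h', mul_assoc, mul_inv_cancel, mul_one, D.tb_sq])
          (D.tb_mul_lam_ne σ (v * w⁻¹))
      · exact absurd (by rw [map_mul, map_inv, ← h', mul_assoc, mul_inv_cancel, mul_one, D.tb_sq])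
          (D.tb_mul_lam_ne σ (w * v⁻¹))
      · exact Prod.ext rfl (D.lam_injective σ (mul_left_cancel h'))
    · rintro ⟨x, hx⟩
      obtain ⟨a, ha, l, τ, rfl⟩ := D.pH_mem_split hx
      rcases ha with rfl | rfl
      · exact ⟨(false, l), Subtype.ext (by simp [f, hphi])⟩
      · exact ⟨(true, l), Subtype.ext (by simp [f, hphi])⟩
  have h12 := D.two_mul_card_fixed σ
  rw [h3] at h12
  rw [← Nat.card_eq_of_bijective f hf, Nat.card_prod, Nat.card_eq_fintype_card (α := Bool), Fintype.card_bool]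
  omega

/-- The image of `S` has order eight. -/
theorem card_Sb (D : Data G) (σ : D.Φ) : Nat.card ((D.S.subgroupOf (D.Cf σ)).map (D.pH σ)) = 8 := by
  rw [← D.card_S, ← Nat.card_congr (subgroupOfEquivOfLe (D.S_le_Cf σ)).toEquiv]
  refine (Nat.card_eq_of_bijective ((D.pH σ).subgroupMap (D.S.subgroupOf (D.Cf σ)))
    ⟨?_, (D.pH σ).subgroupMap_surjective _⟩).symm
  refine (injective_iff_map_eq_one _).2 fun a ha => ?_
  have h1 : (a : G) ∈ zpowers (D.jΦ σ) := (D.pH_eq_one σ).1 (congrArg Subtype.val ha)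
  have h2 : Odd (orderOf (a : G)) := (D.jΦ_odd σ).of_dvd_nat (orderOf_dvd_of_mem_zpowers h1)
  by_contra hne
  rw [D.S_order (mem_subgroupOf.1 a.2) fun h => hne (Subtype.ext (Subtype.ext h))] at h2
  exact absurd h2 (by decide)

/-- The Sylow 2-subgroups of `C(f) ⧸ ⟨f⟩`: one, or as many as in a normal simple group of order 504. -/
theorem exists_count (D : Data G) {σ : D.Φ} (h3 : D.qfix σ = 3) :
    ∃ P : Sylow 2 (D.Hbar σ), (P : Subgroup (D.Hbar σ)) = (D.S.subgroupOf (D.Cf σ)).map (D.pH σ) ∧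
      Nat.card (Sylow 2 (D.Hbar σ)) ∣ 63 ∧
      (Nat.card (Sylow 2 (D.Hbar σ)) = 1 ∨ ∃ M : Subgroup (D.Hbar σ), M.Normal ∧ IsSimpleGroup M ∧
        (P : Subgroup (D.Hbar σ)) ≤ M ∧ Nat.card M = 504 ∧
        Nat.card (Sylow 2 (D.Hbar σ)) = Nat.card (Sylow 2 M)) := by
  classical
  haveI : Fact (Nat.Prime 2) := ⟨Nat.prime_two⟩
  set Sb := (D.S.subgroupOf (D.Cf σ)).map (D.pH σ) with hSb
  have hSsq : ∀ x ∈ Sb, x * x = 1 := by
    rintro _ ⟨a, ha, rfl⟩
    rw [← map_mul, show a * a = 1 from Subtype.ext (D.S_sq (mem_subgroupOf.1 ha)), map_one]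
  have htS : D.tb σ ∈ Sb := ⟨D.tH σ, D.t_mem_S, rfl⟩
  have hcard : Nat.card Sb = 8 := D.card_Sb σ
  have h16 : ¬ 16 ∣ Nat.card (D.Hbar σ) := fun h => by
    refine D.sixteen (h.trans ((card_quotient_dvd_card (D.fsub σ)).trans (card_subgroup_dvd_card (D.Cf σ))))
  have hf : (Nat.card (D.Hbar σ)).factorization 2 = 3 := by
    refine le_antisymm ?_ ((Nat.prime_two.pow_dvd_iff_le_factorization Nat.card_pos.ne').1
      (hcard ▸ card_subgroup_dvd_card Sb : 8 ∣ Nat.card (D.Hbar σ)))
    by_contra h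
    exact h16 ((pow_dvd_pow 2 (by omega : 4 ≤ _)).trans (Nat.ordProj_dvd _ _))
  let P : Sylow 2 (D.Hbar σ) := Sylow.ofCard Sb (by rw [hcard, hf]; norm_num)
  haveI hPc : IsMulCommutative (P : Subgroup (D.Hbar σ)) := ⟨⟨fun x y => Subtype.ext (by
    have hinv : ∀ w ∈ Sb, w⁻¹ = w := fun w hw => inv_eq_of_mul_eq_one_right (hSsq w hw)
    calc (x : D.Hbar σ) * y = ((x : D.Hbar σ) * y)⁻¹ := (hinv _ (mul_mem x.2 y.2)).symm
      _ = y * x := by rw [mul_inv_rev, hinv _ x.2, hinv _ y.2])⟩⟩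
  have hC := D.card_cen_small h3
  have hsol : ∀ x : D.Hbar σ, orderOf x = 2 →
      Group.IsSolvable (centralizer ({x} : Set (D.Hbar σ))) := by
    intro x hx
    obtain ⟨g, rfl⟩ := D.one_class_bar σ hx
    haveI : Group.IsSolvable (cen (D.tb σ)) :=
      Char.isSolvable_of_card_pq 2 3 Nat.prime_two Nat.prime_three 24 _ hC ⟨3, 1, rfl⟩
    have hle : centralizer ({g * D.tb σ * g⁻¹} : Set (D.Hbar σ)) ≤
        (cen (D.tb σ)).map (MulAut.conj g).toMonoidHom := by
      intro z hz
      refine ⟨g⁻¹ * z * g, mem_centralizer_singleton_iff.2 ?_, by simp [mul_assoc]⟩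
      rw [mem_centralizer_singleton_iff] at hz
      calc g⁻¹ * z * g * D.tb σ = g⁻¹ * (z * (g * D.tb σ * g⁻¹)) * g := by group
        _ = D.tb σ * (g⁻¹ * z * g) := by rw [hz]; group
    haveI : Group.IsSolvable ((cen (D.tb σ)).map (MulAut.conj g).toMonoidHom) :=
      Group.isSolvable_of_surjective ((MulAut.conj g).toMonoidHom.subgroupMap_surjective (cen (D.tb σ)))
    exact Group.isSolvable_of_isSolvable_injective (Subgroup.inclusion_injective hle)
  have hall : ∀ N : Subgroup (D.Hbar σ), N.Normal → N ≠ ⊥ → ∀ x, orderOf x = 2 → x ∈ N := by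
    intro N hN hN1 x hx
    obtain ⟨z, hz, hz2⟩ : ∃ z ∈ N, orderOf z = 2 := by
      by_contra hno
      push Not at hno
      exact hN1 (D.hbar_odd_normal σ hN (SEBrick.odd_card_of_orders hno))
    obtain ⟨g, rfl⟩ := D.one_class_bar σ hx
    obtain ⟨c, rfl⟩ := D.one_class_bar σ hz2
    have h := hN.conj_mem _ hz (g * c⁻¹)
    rwa [show g * c⁻¹ * (c * D.tb σ * c⁻¹) * (g * c⁻¹)⁻¹ = g * D.tb σ * g⁻¹ by group] at h
  have hsyl : ∀ N : Subgroup (D.Hbar σ), N.Normal → N ≠ ⊥ → ∀ Q : Sylow 2 (D.Hbar σ),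
      (Q : Subgroup (D.Hbar σ)) ≤ N := by
    intro N hN hN1 Q x hx
    by_cases h1 : x = 1
    · rw [h1]; exact one_mem _
    refine hall N hN hN1 x (Invol.order_two_of_sq ?_ h1)
    obtain ⟨g, hg⟩ := MulAction.exists_smul_eq (D.Hbar σ) Q P
    have hgx : g * x * g⁻¹ ∈ Sb := by
      show _ ∈ (P : Subgroup (D.Hbar σ))
      rw [← hg, Sylow.coe_subgroup_smul]
      exact ⟨x, hx, by simp⟩
    exact conj_eq_one_iff.1 (show g * (x * x) * g⁻¹ = 1 by rw [← hSsq _ hgx]; group)
  -- the number of Sylow subgroups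
  refine ⟨P, rfl, ?_⟩
  rcases S3188.result P hPc hsol with h | ⟨F, i1, i2, hF, N, hN, ⟨e⟩, -⟩
  · haveI := h
    haveI : Nontrivial (D.Hbar σ) := ⟨⟨_, _, D.tb_ne σ⟩⟩
    obtain ⟨A, hA, hA1, hAc⟩ : ∃ A : Subgroup (D.Hbar σ), A.Normal ∧ A ≠ ⊥ ∧
        ∀ a ∈ A, ∀ b ∈ A, a * b = b * a := by
      obtain ⟨n, hn⟩ := (Group.isSolvable_def (G := D.Hbar σ)).1 inferInstance
      induction n with
      | zero => exact absurd hn (by rw [derivedSeries_zero]; exact top_ne_bot)
      | succ n ih =>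
        by_cases hb : derivedSeries (D.Hbar σ) n = ⊥
        · exact ih hb
        · refine ⟨derivedSeries (D.Hbar σ) n, derivedSeries_normal _ n, hb, fun a ha b hb => ?_⟩
          have : ⁅a, b⁆ ∈ derivedSeries (D.Hbar σ) (n + 1) := by
            rw [derivedSeries_succ]; exact Subgroup.commutator_mem_commutator ha hb
          rw [hn, mem_bot] at this
          exact commutatorElement_eq_one_iff_mul_comm.1 this
    let B : Subgroup (D.Hbar σ) :=
      { carrier := {x | x ∈ A ∧ x * x = 1}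
        one_mem' := ⟨one_mem _, one_mul _⟩
        mul_mem' := fun {a b} ha hb => ⟨mul_mem ha.1 hb.1, by
          rw [mul_assoc, ← mul_assoc b, hAc b hb.1 a ha.1, mul_assoc a, hb.2, mul_one, ha.2]⟩
        inv_mem' := fun {a} ha => ⟨inv_mem ha.1, by rw [← mul_inv_rev, ha.2, inv_one]⟩ }
    have hBn : B.Normal := ⟨fun x hx g => ⟨hA.conj_mem x hx.1 g, by
      rw [show g * x * g⁻¹ * (g * x * g⁻¹) = g * (x * x) * g⁻¹ by group, hx.2]; group⟩⟩
    have hBS : ∀ x ∈ Sb, x ∈ B := fun x hx => by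
      by_cases h1 : x = 1
      · rw [h1]; exact one_mem _
      · exact ⟨hall A hA hA1 x (Invol.order_two_of_sq (hSsq x hx) h1), hSsq x hx⟩
    have hB2 : IsPGroup 2 B := fun x => ⟨1, Subtype.ext (by rw [pow_one, pow_two]; exact x.2.2)⟩
    have hBP : B = (P : Subgroup (D.Hbar σ)) := P.3 hB2 hBS
    have hPn : (P : Subgroup (D.Hbar σ)).Normal := hBP ▸ hBn
    haveI := P.unique_of_normal hPn
    rw [Nat.card_unique]
    exact ⟨by norm_num, Or.inl rfl⟩
  · let ψ : D.Hbar σ ⧸ Cfsg.oddCore (D.Hbar σ) ≃* D.Hbar σ :=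
      (QuotientGroup.quotientMulEquivOfEq (D.hbar_odd_normal σ (FittingCores.pPrimeCore_normal 2)
        (Nat.coprime_two_right.1 (PBasic.pPrimeCore_coprime 2 _)))).trans QuotientGroup.quotientBot
    let M := N.map ψ.toMonoidHom
    have hM : M.Normal := hN.map _ ψ.surjective
    have hMe : Nat.card M = Nat.card (Matrix.ProjectiveSpecialLinearGroup (Fin 2) F) := by
      rw [← Nat.card_congr e.toEquiv]
      exact card_map_of_injective ψ.injective
    have hc := Dickson.gcd_mul_card_psl (K := F)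
    rw [← hMe, Nat.card_eq_fintype_card (α := F)] at hc
    have hq1 : 1 < Fintype.card F := Fintype.one_lt_card
    have hM1 : M ≠ ⊥ := fun h => by
      rw [h, card_bot, mul_one] at hc
      rcases hF with ⟨-, h5⟩ | ⟨n, hn, hq⟩
      · have : Nat.gcd 2 (Fintype.card F - 1) ≤ 2 := Nat.gcd_le_left _ (by norm_num)
        have : 5 * 1 ≤ Fintype.card F * (Fintype.card F ^ 2 - 1) :=
          Nat.mul_le_mul h5 (by have := Nat.pow_le_pow_left (show 2 ≤ Fintype.card F by omega) 2; omega)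
        omega
      · have : Nat.gcd 2 (Fintype.card F - 1) ≤ 2 := Nat.gcd_le_left _ (by norm_num)
        have : 4 * 1 ≤ Fintype.card F * (Fintype.card F ^ 2 - 1) :=
          Nat.mul_le_mul (hq ▸ (show 4 ≤ 2 ^ n from le_trans (by norm_num) (Nat.pow_le_pow_right (by norm_num) hn)))
            (by have := Nat.pow_le_pow_left (show 2 ≤ Fintype.card F by omega) 2; omega)
        omega
    have hle := hsyl M hM hM1
    have h8 : 8 ∣ Nat.card M := hcard ▸ card_dvd_of_le (hle P)
    have h16M : ¬ 16 ∣ Nat.card M := fun h => h16 (h.trans (card_subgroup_dvd_card M))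
    have h504 : Nat.card M = 504 := by
      rcases hF with ⟨hq, -⟩ | ⟨n, hn, hq⟩
      · exfalso
        refine Walter8.mod_eight ?_ hq
        rw [← hc, show Nat.gcd 2 (Fintype.card F - 1) = 2 from Nat.gcd_eq_left (by omega)]
        exact Nat.mul_dvd_mul (dvd_refl 2) h8
      · have hg : Nat.gcd 2 (Fintype.card F - 1) = 1 := by
          obtain ⟨n', rfl⟩ : ∃ n', n = n' + 1 := ⟨n - 1, by omega⟩
          refine (Nat.prime_two.coprime_iff_not_dvd).2 ?_
          have := Nat.two_pow_pos n'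
          rw [hq, pow_succ]
          omega
        rw [hg, one_mul, hq] at hc
        have hn4 : n < 4 := by
          by_contra h
          exact h16M (hc ▸ Dvd.dvd.mul_right ((show 16 = 2 ^ 4 by norm_num) ▸ pow_dvd_pow 2 (by omega)) _)
        interval_cases n
        · omega
        · norm_num at hc; exact hc
    let f : Sylow 2 (D.Hbar σ) → Sylow 2 M := fun Q => Q.subtype (hle Q)
    have hfi : Function.Injective f := fun Q Q' h => by
      refine Sylow.ext ?_
      have h' := congrArg (fun R : Sylow 2 M => (R : Subgroup M).map M.subtype) h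
      simp only [f, Sylow.coe_subtype] at h'
      rwa [map_subgroupOf_eq_of_le (hle Q), map_subgroupOf_eq_of_le (hle Q')] at h'
    have hfs : Function.Surjective f := fun R => by
      let Q : Sylow 2 (D.Hbar σ) := Sylow.ofCard ((R : Subgroup M).map M.subtype) (by
        rw [card_map_of_injective M.subtype_injective, R.card_eq_multiplicity, hf, h504]
        refine congrArg (2 ^ ·) ?_
        have h' := Nat.factorization_mul (a := 8) (b := 63) (by norm_num) (by norm_num)
        rw [show 8 * 63 = 504 from rfl] at h'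
        rw [h', Finsupp.add_apply, show (8 : ℕ) = 2 ^ 3 from rfl, Nat.prime_two.factorization_pow,
          Finsupp.single_eq_same, Nat.factorization_eq_zero_of_not_dvd (by norm_num : ¬ 2 ∣ 63)])
      refine ⟨Q, Sylow.ext ?_⟩
      show (((R : Subgroup M).map M.subtype)).subgroupOf M = _
      exact comap_map_eq_self_of_injective M.subtype_injective _
    have hMs : IsSimpleGroup M := by
      haveI : IsSimpleGroup (Matrix.ProjectiveSpecialLinearGroup (Fin 2) F) :=
        Matrix.ProjectiveSpecialLinearGroup.rank_two_simple (by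
          by_contra hle'
          rw [Nat.card_eq_fintype_card, not_le] at hle'
          rw [h504] at hc
          have hg := Nat.gcd_le_left (Fintype.card F - 1) (show 0 < 2 by norm_num)
          have hg0 := Nat.gcd_pos_of_pos_left (Fintype.card F - 1) (show 0 < 2 by norm_num)
          have : Fintype.card F * (Fintype.card F ^ 2 - 1) ≤ 3 * 8 := Nat.mul_le_mul (by omega) (by
            have := Nat.pow_le_pow_left (show Fintype.card F ≤ 3 by omega) 2; omega)
          have : 1 * 504 ≤ Nat.gcd 2 (Fintype.card F - 1) * 504 := Nat.mul_le_mul hg0 le_rfl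
          omega)
      exact ((QuotientGroup.quotientBot (G := M)).symm.trans QuotientGroup.quotientBot |>.trans
        ((Subgroup.equivMapOfInjective N ψ.toMonoidHom ψ.injective).symm.trans e)).isSimpleGroup
    have hcnt : Nat.card (Sylow 2 (D.Hbar σ)) = Nat.card (Sylow 2 M) := Nat.card_eq_of_bijective f ⟨hfi, hfs⟩
    refine ⟨?_, Or.inr ⟨M, hM, hMs, hle P, h504, hcnt⟩⟩
    rw [hcnt]
    have hd := (f P).card_dvd_index
    have h8' : Nat.card (f P : Subgroup M) = 8 := by
      show Nat.card ((P : Subgroup (D.Hbar σ)).subgroupOf M) = 8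
      rw [Nat.card_congr (subgroupOfEquivOfLe (hle P)).toEquiv]; exact hcard
    have h63 := (f P : Subgroup M).card_mul_index
    rw [h8', h504] at h63
    rw [show (f P : Subgroup M).index = 63 by omega] at hd
    exact hd

/-- The normaliser of the image of `S`, with three fixed elements. -/
theorem card_normalizer_Sb (D : Data G) {σ : D.Φ} (h3 : D.qfix σ = 3) :
    Nat.card (normalizer (((D.S.subgroupOf (D.Cf σ)).map (D.pH σ) : Subgroup (D.Hbar σ)) : Set (D.Hbar σ))) ∣
      24 * 7 := by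
  classical
  set Sb := (D.S.subgroupOf (D.Cf σ)).map (D.pH σ) with hSb
  have htS : D.tb σ ∈ Sb := ⟨D.tH σ, D.t_mem_S, rfl⟩
  have hC := D.card_cen_small h3
  have hcard : Nat.card Sb = 8 := D.card_Sb σ
  -- the normaliser of the Sylow subgroup
  set N := normalizer (Sb : Set (D.Hbar σ)) with hNdef
  let X := {x : D.Hbar σ // x ∈ Sb ∧ x ≠ 1}
  letI act : MulAction N X :=
    { smul := fun n x => ⟨(n : D.Hbar σ) * x.1 * (n : D.Hbar σ)⁻¹, (mem_normalizer_iff.1 n.2 _).1 x.2.1,
        fun e => x.2.2 (conj_eq_one_iff.1 e)⟩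
      one_smul := fun x => Subtype.ext (show (1 : D.Hbar σ) * x.1 * 1⁻¹ = x.1 by simp)
      mul_smul := fun a b x => Subtype.ext (show ((a : D.Hbar σ) * b) * x.1 * ((a : D.Hbar σ) * b)⁻¹ =
        a * (b * x.1 * (b : D.Hbar σ)⁻¹) * (a : D.Hbar σ)⁻¹ by group) }
  let x0 : X := ⟨D.tb σ, htS, D.tb_ne σ⟩
  haveI : MulAction.IsPretransitive N X := by
    refine (MulAction.isPretransitive_iff_base x0).2 fun x => ?_
    obtain ⟨n, hn, e⟩ := D.trans_bar σ x.2.1 x.2.2
    exact ⟨⟨n, hn⟩, Subtype.ext e⟩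
  have hX : Nat.card X = 7 := by
    haveI := Fintype.ofFinite Sb
    rw [Nat.card_congr (show X ≃ {x : Sb // x ≠ 1} from
      { toFun := fun x => ⟨⟨x.1, x.2.1⟩, fun h => x.2.2 (congrArg Subtype.val h)⟩
        invFun := fun x => ⟨x.1.1, x.1.2, fun h => x.2 (Subtype.ext h)⟩
        left_inv := fun _ => rfl
        right_inv := fun _ => rfl }), Nat.card_eq_fintype_card, Fintype.card_subtype_compl,
      Fintype.card_subtype_eq, ← Nat.card_eq_fintype_card, hcard]
  have hstab : Nat.card (MulAction.stabilizer N x0) ∣ 24 := by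
    rw [← hC]
    refine card_dvd_of_injective
      ((N.subtype.comp (MulAction.stabilizer N x0).subtype).codRestrict (cen (D.tb σ)) fun n =>
        mem_centralizer_singleton_iff.2 (mul_inv_eq_iff_eq_mul.1 (congrArg Subtype.val n.2))) ?_
    exact fun a b h => Subtype.ext (Subtype.ext (congrArg (fun z : cen (D.tb σ) => (z : D.Hbar σ)) h))
  have hN : Nat.card N ∣ 24 * 7 := by
    rw [← (MulAction.stabilizer N x0).card_mul_index, MulAction.index_stabilizer_of_transitive, hX]
    exact Nat.mul_dvd_mul hstab (dvd_refl 7)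
  exact hN

/-- With three fixed elements `p ∈ {3, 7}`. -/
theorem three_or_seven (D : Data G) {σ : D.Φ} (h3 : D.qfix σ = 3) {p : ℕ} (hp : p.Prime)
    (hdvd : p ∣ (cen (D.tb σ)).index) : p = 3 ∨ p = 7 := by
  classical
  haveI : Fact (Nat.Prime 2) := ⟨Nat.prime_two⟩
  obtain ⟨P, hPS, hn, -⟩ := D.exists_count h3
  have hN := D.card_normalizer_Sb h3
  set N := normalizer (((D.S.subgroupOf (D.Cf σ)).map (D.pH σ) : Subgroup (D.Hbar σ)) : Set (D.Hbar σ))
  have hC := D.card_cen_small h3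
  have hH : Nat.card (D.Hbar σ) ∣ 24 * 7 * 63 := by
    rw [← N.card_mul_index, show N.index = Nat.card (Sylow 2 (D.Hbar σ)) from (P.card_eq_index_normalizer.trans
      (congrArg (fun Q : Subgroup (D.Hbar σ) => (normalizer (Q : Set (D.Hbar σ))).index) hPS)).symm]
    exact Nat.mul_dvd_mul hN hn
  rw [← (cen (D.tb σ)).card_mul_index, hC, mul_assoc] at hH
  have h := hdvd.trans (Nat.dvd_of_mul_dvd_mul_left (by norm_num) hH)
  rcases hp.dvd_mul.1 h with h | h
  · exact Or.inr ((Nat.prime_dvd_prime_iff_eq hp (by norm_num)).1 h)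
  · rw [show (63 : ℕ) = 3 ^ 2 * 7 from rfl] at h
    rcases hp.dvd_mul.1 h with h | h
    · exact Or.inl ((Nat.prime_dvd_prime_iff_eq hp Nat.prime_three).1 (hp.dvd_of_dvd_pow h))
    · exact Or.inr ((Nat.prime_dvd_prime_iff_eq hp (by norm_num)).1 h)

end Data

end Cfsg.Agent.NoField
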