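import Cfsg.Agent.Lib.NoField.CPhiSoc
import Cfsg.Agent.Lib.NoField.CPhiThree

/-!
The possibilities for a prime dividing the order of the field automorphisms.
-/

set_option autoImplicit false
set_option linter.style.haveILetI false
set_option linter.unusedSectionVars false

namespace Cfsg.Agent.NoField

open Subgroup Cfsg.Agent.AutPSL
open Cfsg.Agent.Walter8 (cen)

universe u

variable {G : Type u} [Group G] [Finite G]

theorem Data.ringChar_three (D : Data G) {σ : D.Φ} {k : ℕ} (hk : D.qfix σ = 3 ^ k) :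
    ringChar D.F = 3 := by
  obtain ⟨K, _, _, hK, -, -, hq, -⟩ := D.qfix_spec σ
  obtain ⟨p, hchar⟩ := CharP.exists D.F
  obtain ⟨f, hp, hf⟩ := FiniteField.card D.F p
  rw [hK, hk, ← pow_mul] at hq
  have h3 : p ∣ 3 ^ (k * orderOf σ) := by
    rw [← hq, hf]; exact dvd_pow_self p f.ne_zero
  rw [ringChar.eq D.F p]
  exact (Nat.prime_dvd_prime_iff_eq hp Nat.prime_three).1 (hp.dvd_of_dvd_pow h3)

/-- The possibilities for a prime divisor of `|Φ|`. -/
theorem cases (D : Data G) : CasesStmt D := by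
  rintro p σ ⟨hp, hpd, hord⟩
  have hv : 0 < (Nat.card D.Φ).factorization p := hp.factorization_pos_of_dvd Nat.card_pos.ne' hpd
  have hσ : σ ≠ 1 := fun h => by
    rw [h, orderOf_one] at hord
    have := Nat.one_lt_pow hv.ne' hp.one_lt
    omega
  have hdvd : p ∣ (cen (D.tb σ)).index := D.dvd_index hp hv hord
  obtain ⟨K, _, _, hK, -, h8, -, -⟩ := D.qfix_spec σ
  by_cases h5 : 5 ≤ D.qfix σ
  · obtain ⟨E, hE⟩ := D.exists_soc h5
    rcases hE.index_val h5 hσ with ⟨⟨m, hm, hq⟩, hi⟩ | ⟨hq, hi⟩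
    · have hc := D.ringChar_three hq
      by_cases hp3 : p = 3
      · exact Or.inl ⟨hp3, hc⟩
      refine Or.inr (Or.inl ⟨?_, hc, hp3, ?_⟩)
      · have := Nat.pow_le_pow_right (show 0 < 3 by norm_num) (show 3 ≤ 2 * m + 1 by omega)
        omega
      · rw [hi] at hdvd
        refine (hp.dvd_mul.1 hdvd).resolve_left fun h => hp3 ?_
        have h' := hp.dvd_of_dvd_pow h
        rw [hq] at h'
        exact (Nat.prime_dvd_prime_iff_eq hp Nat.prime_three).1 (hp.dvd_of_dvd_pow h')
    · refine Or.inr (Or.inr (Or.inl ⟨hq, ?_⟩))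
      rw [hi, show 1463 = 7 * (11 * 19) from rfl] at hdvd
      rcases hp.dvd_mul.1 hdvd with h | h
      · exact Or.inl ((Nat.prime_dvd_prime_iff_eq hp (by norm_num)).1 h)
      rcases hp.dvd_mul.1 h with h | h
      · exact Or.inr (Or.inl ((Nat.prime_dvd_prime_iff_eq hp (by norm_num)).1 h))
      · exact Or.inr (Or.inr ((Nat.prime_dvd_prime_iff_eq hp (by norm_num)).1 h))
  · have h3 : D.qfix σ = 3 := by omega
    rcases D.three_or_seven h3 hp hdvd with h | h
    · exact Or.inl ⟨h, D.ringChar_three (k := 1) (by rw [h3, pow_one])⟩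
    · exact Or.inr (Or.inr (Or.inr ⟨h3, h⟩))

end Cfsg.Agent.NoField
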