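import Cfsg.Agent.Lib.AutPSL.Centralizer
import Cfsg.Agent.Lib.GW.FieldPart
import Cfsg.Agent.Lib.InnerSylow.Linear

/-!
The fixed points of a field automorphism in `PSL₂(q)` and what centralises them.
-/

set_option autoImplicit false
set_option linter.unusedSectionVars false
set_option linter.style.haveILetI false

namespace Cfsg.Agent.NoField

open Matrix Cfsg.Agent.AutPSL

variable {F : Type} [Field F] [Fintype F]

local notation "M2" => Matrix (Fin 2) (Fin 2) F
local notation "SL2" => Matrix.SpecialLinearGroup (Fin 2) F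
local notation "L2" => Matrix.ProjectiveSpecialLinearGroup (Fin 2) F

/-- The points of `PSL₂(F)` fixed by `σ` acting entrywise. -/
def fixed (σ : F ≃+* F) : Subgroup L2 := MonoidHom.eqLocus (semi 1 σ).toMonoidHom (MonoidHom.id _)

theorem mem_fixed {σ : F ≃+* F} {l : L2} : l ∈ fixed σ ↔ semi 1 σ l = l := Iff.rfl

theorem finite_aut : Finite (F ≃+* F) :=
  Finite.of_injective (fun e : F ≃+* F => (e : F → F)) DFunLike.coe_injective

theorem pow_apply_neg {σ : F ≃+* F} {a : F} (h : σ a = -a) (i : ℕ) : (σ ^ i : F ≃+* F) a = (-1) ^ i * a := by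
  induction i with
  | zero => simp
  | succ i ih => rw [pow_succ', RingAut.mul_apply, ih, map_mul, map_pow, map_neg, map_one, h, pow_succ]; ring

theorem map_eq_self_of_mk {σ : F ≃+* F} (h2 : (2 : F) ≠ 0) (ho : Odd (orderOf σ)) {s : SL2}
    (h : semi 1 σ (QuotientGroup.mk s : L2) = QuotientGroup.mk s) : ∀ a b, σ ((s : M2) a b) = (s : M2) a b := by
  rw [semi_mk] at h
  obtain ⟨c, hc2, hc⟩ := exists_smul_of_mk_eq h
  have hval : ∀ a b, σ ((s : M2) a b) = c * (s : M2) a b := fun a b => by
    have e := congrFun (congrFun hc a) b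
    rw [slSemi_coe, inv_one, Units.val_one, one_mul, mul_one] at e
    simpa using e
  intro a b
  rcases sq_eq_one_iff.1 hc2 with rfl | rfl
  · rw [hval, one_mul]
  · exfalso
    have hz : ∀ a b, (s : M2) a b = 0 := fun a b => by
      have e := pow_apply_neg (by simpa using hval a b) (orderOf σ)
      rw [pow_orderOf_eq_one, ho.neg_one_pow, neg_one_mul] at e
      have h' : (2 : F) * (s : M2) a b = 0 := by
        have e' : (s : M2) a b = -(s : M2) a b := e
        linear_combination e'
      exact (mul_eq_zero.1 h').resolve_left h2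
    have hd := s.2
    rw [Matrix.det_fin_two, hz 0 0, hz 0 1] at hd
    simp at hd

/-- The fixed points are `PSL₂` of the fixed field. -/
theorem exists_psl_fixed (h2 : (2 : F) ≠ 0) {σ : F ≃+* F} (ho : Odd (orderOf σ)) :
    ∃ (K : Type) (_ : Field K) (_ : Fintype K),
      Fintype.card K = Nat.card {x : F // σ x = x} ∧ Fintype.card F = Fintype.card K ^ orderOf σ ∧
        Nonempty (fixed σ ≃* Matrix.ProjectiveSpecialLinearGroup (Fin 2) K) := by
  classical
  obtain ⟨K, hK, hcard⟩ := exists_fixed_field σ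
  letI : Fintype K := Fintype.ofFinite K
  refine ⟨K, inferInstance, inferInstance, ?_, by rw [hcard, Nat.card_eq_fintype_card], ?_⟩
  · rw [← Nat.card_eq_fintype_card]
    exact Nat.card_congr (Equiv.subtypeEquivRight fun x => hK x)
  let Θ : Matrix.SpecialLinearGroup (Fin 2) K →* L2 :=
    (QuotientGroup.mk' _).comp (Matrix.SpecialLinearGroup.map K.subtype)
  have hΘ : ∀ s, Θ s = QuotientGroup.mk (Matrix.SpecialLinearGroup.map K.subtype s) := fun _ => rfl
  have hker : Θ.ker = Subgroup.center (Matrix.SpecialLinearGroup (Fin 2) K) := by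
    ext s
    rw [MonoidHom.mem_ker, hΘ, QuotientGroup.eq_one_iff, Matrix.SpecialLinearGroup.mem_center_iff,
      Matrix.SpecialLinearGroup.mem_center_iff]
    constructor
    · rintro ⟨c, hc, hcs⟩
      have e : ∀ a b, (((s : Matrix (Fin 2) (Fin 2) K) a b : K) : F) = if a = b then c else 0 := fun a b => by
        have := (congrFun (congrFun hcs a) b).symm
        simpa [Matrix.diagonal_apply] using this
      refine ⟨(s : Matrix (Fin 2) (Fin 2) K) 0 0, Subtype.ext ?_, Matrix.ext fun a b => Subtype.ext ?_⟩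
      · simpa [e 0 0] using hc
      · by_cases hab : a = b <;> simp [Matrix.diagonal_apply, hab, e]
    · rintro ⟨c, hc, hcs⟩
      refine ⟨(c : F), by simpa using congrArg Subtype.val hc, Matrix.ext fun a b => ?_⟩
      have := congrArg Subtype.val (congrFun (congrFun hcs a) b)
      by_cases hab : a = b <;> simpa [Matrix.diagonal_apply, hab] using this
  have hrange : Θ.range = fixed σ := by
    ext l
    constructor
    · rintro ⟨s, rfl⟩
      rw [mem_fixed, hΘ, semi_mk]
      refine congrArg QuotientGroup.mk (Subtype.ext ?_)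
      rw [slSemi_coe, inv_one, Units.val_one, one_mul, mul_one]
      ext a b
      exact (hK _).1 ((s : Matrix (Fin 2) (Fin 2) K) a b).2
    · intro hl
      obtain ⟨s, rfl⟩ := QuotientGroup.mk_surjective l
      have hfix := map_eq_self_of_mk h2 ho (mem_fixed.1 hl)
      let M : Matrix (Fin 2) (Fin 2) K := Matrix.of fun a b => ⟨(s : M2) a b, (hK _).2 (hfix a b)⟩
      have hM : M.map K.subtype = (s : M2) := rfl
      have hdet : M.det = 1 := by
        apply K.subtype.injective
        rw [RingHom.map_det, RingHom.mapMatrix_apply, hM, s.2, map_one]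
      exact ⟨⟨M, hdet⟩, congrArg QuotientGroup.mk (Subtype.ext hM)⟩
  exact ⟨(MulEquiv.subgroupCongr hrange.symm).trans ((QuotientGroup.quotientKerEquivRange Θ).symm.trans
    (QuotientGroup.quotientMulEquivOfEq hker))⟩

/-- An element of `L.Φ` centralising the fixed points of `σ` is a field automorphism fixing its field. -/
theorem cent_fixed {σ τ : F ≃+* F} {l : L2}
    (h : ∀ x ∈ fixed σ, l * semi 1 τ x * l⁻¹ = x) : l = 1 ∧ ∀ a, σ a = a → τ a = a := by
  obtain ⟨s, rfl⟩ := QuotientGroup.mk_surjective l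
  have h' : ∀ x ∈ fixed σ, semi (Matrix.SpecialLinearGroup.toGL s) τ x = x := fun x hx => by
    have e : (semi (Matrix.SpecialLinearGroup.toGL s) τ : MulAut L2) =
        MulAut.conj (QuotientGroup.mk s : L2) * semi 1 τ := by
      rw [inner_eq_semi, semi_mul', mapGL_one, mul_one, one_mul]
    rw [e, MulAut.mul_apply, MulAut.conj_apply]
    exact h x hx
  have hX : ∀ (i j : Fin 2) (hij : i ≠ j) (t : F), σ t = t → ∀ a b : Fin 2,
      (if b = j then (Matrix.SpecialLinearGroup.toGL s : M2) a i * τ t else 0) =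
        if a = i then t * (Matrix.SpecialLinearGroup.toGL s : M2) j b else 0 := by
    intro i j hij t ht
    refine entries_of_conj_single (conj_single_of_mk_eq _ τ hij hij t t ?_)
    rw [← semi_mk]
    refine h' _ (mem_fixed.2 ?_)
    rw [semi_mk]
    refine congrArg QuotientGroup.mk (Subtype.ext ?_)
    rw [slSemi_coe, inv_one, Units.val_one, one_mul, mul_one, Matrix.SpecialLinearGroup.transvection_coe]
    ext a b
    simp [Matrix.single_apply, Matrix.one_apply, map_add]
    split_ifs <;> simp [ht, *]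
  have h01 : (0 : Fin 2) ≠ 1 := by simp
  have e10 : (s : M2) 1 0 = 0 := by simpa using hX 0 1 h01 1 (map_one σ) 1 1
  have e01 : (s : M2) 0 1 = 0 := by simpa using hX 1 0 h01.symm 1 (map_one σ) 0 0
  have ed : (s : M2) 1 1 = (s : M2) 0 0 := by simpa using (hX 0 1 h01 1 (map_one σ) 0 1).symm
  have hdet := s.2
  rw [Matrix.det_fin_two, e10, e01, ed] at hdet
  have hc : (s : M2) 0 0 ≠ 0 := fun e => by rw [e] at hdet; simp at hdet
  refine ⟨?_, fun a ha => ?_⟩
  · rw [QuotientGroup.eq_one_iff, Matrix.SpecialLinearGroup.mem_center_iff]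
    refine ⟨(s : M2) 0 0, ?_, Matrix.ext fun a b => ?_⟩
    · simpa [sq] using hdet
    · fin_cases a <;> fin_cases b <;> simp [e10, e01, ed]
  · have e := hX 0 1 h01 a ha 0 1
    rw [if_pos rfl, if_pos rfl, show (Matrix.SpecialLinearGroup.toGL s : M2) = (s : M2) from rfl, ed,
      mul_comm a] at e
    exact mul_left_cancel₀ hc e

/-- The automorphisms fixing the fixed field of `σ` are its powers. -/
theorem mem_zpowers_of_fix {σ τ : F ≃+* F} (h : ∀ a, σ a = a → τ a = a) : τ ∈ Subgroup.zpowers σ := by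
  classical
  haveI := finite_aut (F := F)
  obtain ⟨p, hchar⟩ := CharP.exists F
  obtain ⟨f, hp, hf⟩ := FiniteField.card F p
  haveI : Fact p.Prime := ⟨hp⟩
  obtain ⟨E⟩ := exists_ringAut_equiv (F := F) p f hf
  haveI : IsCyclic (F ≃+* F) := isCyclic_of_surjective E.symm.toMonoidHom E.symm.surjective
  set U := Subgroup.zpowers σ ⊔ Subgroup.zpowers τ with hU
  obtain ⟨ρ, hρ⟩ := U.isCyclic_iff_exists_zpowers_eq_top.1 inferInstance
  obtain ⟨K, hK, hcK⟩ := exists_fixed_field σ
  obtain ⟨K', hK', hcK'⟩ := exists_fixed_field ρ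
  have hKK : K = K' := by
    ext a
    rw [hK, hK']
    constructor
    · intro ha
      have hle : U ≤ MulAction.stabilizer (F ≃+* F) a := sup_le
        (Subgroup.zpowers_le.2 (MulAction.mem_stabilizer_iff.2 ha))
        (Subgroup.zpowers_le.2 (MulAction.mem_stabilizer_iff.2 (h a ha)))
      exact hle (hρ ▸ Subgroup.mem_zpowers ρ)
    · intro ha
      have hle : Subgroup.zpowers ρ ≤ MulAction.stabilizer (F ≃+* F) a :=
        Subgroup.zpowers_le.2 (MulAction.mem_stabilizer_iff.2 ha)
      exact hle (hρ.symm ▸ (le_sup_left : Subgroup.zpowers σ ≤ U) (Subgroup.mem_zpowers σ))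
  subst hKK
  have hord : orderOf σ = orderOf ρ := Nat.pow_right_injective
    (Finite.one_lt_card : 1 < Nat.card K) (hcK.symm.trans hcK')
  have hUeq : Subgroup.zpowers σ = U := Subgroup.eq_of_le_of_card_ge le_sup_left
    (by rw [← hρ, Nat.card_zpowers, Nat.card_zpowers, hord])
  rw [hUeq]
  exact (le_sup_right : Subgroup.zpowers τ ≤ U) (Subgroup.mem_zpowers τ)

/-- The residue modulo 8 of the fixed field. -/
theorem mod_eight_of_pow {q r d : ℕ} (hq : q = r ^ d) (hd : Odd d) (hodd : Odd q) : q % 8 = r % 8 := by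
  obtain ⟨j, rfl⟩ := hd
  have hr : Odd r := by
    rw [hq] at hodd
    exact (Nat.odd_pow_iff (by omega)).1 hodd
  have h8 : r ^ 2 % 8 = 1 := by
    obtain ⟨i, rfl⟩ := hr
    rcases Nat.even_or_odd i with ⟨k, rfl⟩ | ⟨k, rfl⟩
    · rw [show (2 * (k + k) + 1) ^ 2 = 8 * (2 * k * k + k) + 1 by ring]; omega
    · rw [show (2 * (2 * k + 1) + 1) ^ 2 = 8 * (2 * k * k + 3 * k + 1) + 1 by ring]; omega
  rw [hq, pow_succ, pow_mul, Nat.mul_mod, Nat.pow_mod, h8, one_pow, Nat.one_mod, one_mul, Nat.mod_mod]

end Cfsg.Agent.NoField
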