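import Cfsg.Agent.Lib.NoField.CPhiSoc
import Cfsg.Agent.Lib.JanThom.Fixed

/-!
The Janko–Thompson setup of the socle of `C(f) ⧸ ⟨f⟩`, and the element moving the four-group: it does
not centralise `r`.
-/

set_option autoImplicit false
set_option linter.style.haveILetI false
set_option linter.unusedSectionVars false

namespace Cfsg.Agent.NoField

open Subgroup Cfsg.Agent.AutPSL
open Cfsg.Agent.Walter8 (cen)
open Cfsg.Agent.JanThom (C2 c2 Setup LData)

universe u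

variable {G : Type u} [Group G] [Finite G]

namespace Data

namespace IsSoc

variable {D : Data G} {σ : D.Φ} {E : Subgroup (D.Hbar σ)}

/-- The setup of Janko–Thompson in the socle, compatible with `t`, `s` and `L ∩ C(f)`. -/
theorem exists_setup (hE : D.IsSoc σ E) (h11 : 11 ≤ D.qfix σ) (hσ : σ ≠ 1) :
    ∃ (K : Type) (_ : Field K) (_ : Fintype K) (Q : ℤ) (ek : fixed (σ : D.F ≃+* D.F) ≃* PSL2 K)
      (J : Setup E (PSL2 K) Q), Fintype.card K = D.qfix σ ∧ Q.natAbs = D.qfix σ ∧ J.τ = hE.tE ∧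
      J.D.s = ek ⟨D.s, D.fixed_s σ⟩ ∧ ∀ l, J.ι (1, ek l) = hE.lamE l := by
  classical
  obtain ⟨K, k1, k2, ek, ι, hK, -, hK8, hι, hr, ht, hl⟩ := hE.exists_iota (by omega) hσ
  obtain ⟨ld, hld⟩ := exists_lData_at (F := K) hK8 (by omega) (s := ek ⟨D.s, D.fixed_s σ⟩)
    (by rw [← map_mul, ← map_one ek]; exact congrArg ek (Subtype.ext D.s_sq))
    (fun h => D.s_ne (congrArg Subtype.val (ek.map_eq_one_iff.1 h)))
  refine ⟨K, k1, k2, _, ek, ⟨ld, ι, hι, fun g hg => ?_, fun h => D.not_sixteen_bar σ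
    (h.trans (card_subgroup_dvd_card E))⟩, hK, ?_, ht, hld, hl⟩
  · have hm : g ∈ ι.range := by
      rw [hr]
      exact mem_centralizer_singleton_iff.2 (by rw [← ht]; exact hg)
    exact hm
  · rw [← hK]; split_ifs <;> simp

/-- Powers by the number of field automorphisms fall into the socle. -/
theorem pow_mem (hE : D.IsSoc σ E) (h5 : 5 ≤ D.qfix σ) (x : D.Hbar σ) : x ^ Nat.card D.Φ ∈ E := by
  haveI := hE.normal
  have hx2 : orderOf (x * D.tb σ * x⁻¹) = 2 := by rw [Invol.order_conj]; exact D.t_order_bar σ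
  obtain ⟨c, hc⟩ := isConj_iff.1 (hE.one_class h5 (x := ⟨_, hE.invol _ hx2⟩) (by rw [← Subgroup.orderOf_coe]; exact hx2))
  have hc' : (c : D.Hbar σ) * D.tb σ * (c : D.Hbar σ)⁻¹ = x * D.tb σ * x⁻¹ := congrArg Subtype.val hc
  have hm : (c : D.Hbar σ)⁻¹ * x ∈ cen (D.tb σ) := mem_centralizer_singleton_iff.2 (by
    calc (c : D.Hbar σ)⁻¹ * x * D.tb σ = (c : D.Hbar σ)⁻¹ * (x * D.tb σ * x⁻¹) * x := by group
      _ = (c : D.Hbar σ)⁻¹ * ((c : D.Hbar σ) * D.tb σ * (c : D.Hbar σ)⁻¹) * x := by rw [hc']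
      _ = _ := by group)
  obtain ⟨a, ha, l, τ, he⟩ := D.pH_mem_split hm
  have haE : a ∈ E := by
    rcases ha with rfl | rfl
    · exact one_mem _
    · exact hE.invol _ (D.t_order_bar σ)
  have hmk : QuotientGroup.mk' E x = QuotientGroup.mk' E (D.phib σ τ) := by
    have hx : x = (c : D.Hbar σ) * (a * (D.lam σ l * D.phib σ τ)) := by rw [← he, mul_inv_cancel_left]
    have h1 : ∀ z ∈ E, QuotientGroup.mk' E z = 1 := fun z hz => (QuotientGroup.eq_one_iff z).2 hz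
    rw [hx, map_mul, map_mul, map_mul, h1 _ c.2, h1 _ haE, h1 _ (hE.lam_le ⟨l, rfl⟩), one_mul, one_mul, one_mul]
  refine (QuotientGroup.eq_one_iff _).1 ?_
  show QuotientGroup.mk' E (x ^ Nat.card D.Φ) = 1
  rw [map_pow, hmk, ← map_pow, ← map_pow, pow_card_eq_one', map_one, map_one]

end IsSoc

end Data

variable {D : Data G}

theorem Main.qfix_pos (M : Main D) : 11 ≤ D.qfix M.σ := by
  have := M.qfix_large
  omega

theorem Main.σ_ne (M : Main D) : M.σ ≠ 1 := fun h => by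
  have h1 := M.σ_order
  rw [h, orderOf_one] at h1
  have := Nat.one_lt_pow M.v_pos.ne' M.p_prime.one_lt
  omega

/-- An element moving `t → s → ts` and centralising `r` may be taken in `C(f)`. -/
theorem exists_move (M : Main D) {g : G} (h1 : g * D.t * g⁻¹ = D.jL D.s)
    (h2 : g * D.jL D.s * g⁻¹ = D.t * D.jL D.s) (h3 : g * D.jL M.r = D.jL M.r * g) :
    ∃ g' ∈ D.Cf M.σ, g' * D.t * g'⁻¹ = D.jL D.s ∧ g' * D.jL D.s * g'⁻¹ = D.t * D.jL D.s ∧
      g' * D.jL M.r = D.jL M.r * g' := by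
  classical
  haveI : Fact M.p.Prime := ⟨M.p_prime⟩
  set ts := D.jL D.s with hts
  set R := D.jL M.r with hR
  set f := D.jΦ M.σ with hf
  let K : Subgroup G := cen D.t ⊓ cen ts ⊓ cen R
  have hKmem : ∀ x, x ∈ K ↔ x * D.t = D.t * x ∧ x * ts = ts * x ∧ x * R = R * x := fun x => by
    simp only [K, Subgroup.mem_inf, mem_centralizer_singleton_iff, and_assoc]
  have hfK : f ∈ K := (hKmem f).2 ⟨(D.t_jΦ _).symm, D.jΦ_comm_s _, D.jΦ_comm_jL _ _ (M.r_fix _)⟩
  have hfK' : g * f * g⁻¹ ∈ K := by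
    obtain ⟨hft, hfs, hfr⟩ := (hKmem f).1 hfK
    have hconj : ∀ a b, f * a = a * f → g * a * g⁻¹ = b → g * f * g⁻¹ * b = b * (g * f * g⁻¹) := by
      rintro a b h rfl
      calc g * f * g⁻¹ * (g * a * g⁻¹) = g * (f * a) * g⁻¹ := by group
        _ = g * (a * f) * g⁻¹ := by rw [h]
        _ = _ := by group
    have a1 := hconj D.t ts hft h1
    have a2 := hconj ts (D.t * ts) hfs h2
    refine (hKmem _).2 ⟨?_, a1, hconj R R hfr (mul_inv_eq_iff_eq_mul.2 h3)⟩
    refine mul_right_cancel (b := ts) ?_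
    rw [mul_assoc, a2, mul_assoc D.t, mul_assoc D.t, a1]
  -- the order of `K`
  obtain ⟨χ, hχ⟩ := D.exists_proj
  let ψ : K →* D.Φ := χ.comp (inclusion (inf_le_left.trans inf_le_left : K ≤ cen D.t))
  have hker : ¬ M.p ∣ Nat.card ψ.ker := by
    intro hd
    obtain ⟨x, hx⟩ := exists_prime_orderOf_dvd_card' M.p hd
    have hxo : orderOf (((x : K) : G)) = M.p := by rw [Subgroup.orderOf_coe, Subgroup.orderOf_coe, hx]
    have hxt : ((x : K) : G) * D.t = D.t * ((x : K) : G) := ((hKmem _).1 (x : K).2).1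
    obtain ⟨l, τ, he⟩ := D.exists_dec hxt
    have hX2 : ((x : K) : G) * ((x : K) : G) ∈ D.X := by
      rcases he with e | e
      · rw [e]; exact mul_mem (mul_mem (D.jL_mem _) (D.jΦ_mem _)) (mul_mem (D.jL_mem _) (D.jΦ_mem _))
      · have hm : D.jL l * D.jΦ τ ∈ D.X := mul_mem (D.jL_mem _) (D.jΦ_mem _)
        rw [e, show D.t * (D.jL l * D.jΦ τ) * (D.t * (D.jL l * D.jΦ τ)) =
          D.t * ((D.jL l * D.jΦ τ) * D.t) * (D.jL l * D.jΦ τ) by group, D.X_comm hm, ← mul_assoc D.t D.t, D.t_sq,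
          one_mul]
        exact mul_mem hm hm
    obtain ⟨m, τ', hm⟩ := D.prod _ hX2
    have hτ : τ' = 1 := by
      have h := hχ ((inclusion (inf_le_left.trans inf_le_left : K ≤ cen D.t)) ((x : K) * (x : K))) m τ' hm
      have hx' : ψ (x : K) = 1 := x.2
      rw [map_mul, map_mul] at h
      change ψ (x : K) * ψ (x : K) = τ' at h
      rw [← h, hx', mul_one]
    rw [hτ, map_one, mul_one] at hm
    have hodd := M.p_prime.odd_of_ne_two (by have := M.p_five; omega)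
    have hm2 : orderOf m = M.p := by
      rw [← orderOf_injective D.jL D.jL_inj m, ← hm, ← pow_two, Nat.Coprime.orderOf_pow, hxo]
      rw [hxo]
      exact Nat.coprime_two_right.2 hodd
    refine M.p_coprime ?_
    rw [← Walter8.two_mul_card_psl D.odd, ← hm2]
    exact Dvd.dvd.mul_left (orderOf_dvd_natCard m) 2
  have hfac : (Nat.card K).factorization M.p = M.v := by
    have hle : (Nat.card K).factorization M.p ≤ M.v := by
      rw [← ψ.ker.card_mul_index, index_ker, Nat.factorization_mul Nat.card_pos.ne' Nat.card_pos.ne',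
        Finsupp.add_apply, Nat.factorization_eq_zero_of_not_dvd hker, zero_add, ← M.v_eq]
      exact (Nat.factorization_le_iff_dvd Nat.card_pos.ne' Nat.card_pos.ne').2 (card_subgroup_dvd_card _) M.p
    refine le_antisymm hle ((M.p_prime.pow_dvd_iff_le_factorization Nat.card_pos.ne').1 ?_)
    rw [← M.σ_order, ← D.orderOf_jΦ, ← hf]
    exact Subgroup.orderOf_dvd_natCard K hfK
  have hcard : ∀ z : K, orderOf (z : G) = M.p ^ M.v → Nat.card (zpowers z) = M.p ^ (Nat.card K).factorization M.p := by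
    intro z hz
    rw [Nat.card_zpowers, hfac, ← Subgroup.orderOf_coe, hz]
  have hof : orderOf f = M.p ^ M.v := by rw [hf, D.orderOf_jΦ, M.σ_order]
  let P1 : Sylow M.p K := Sylow.ofCard (zpowers ⟨f, hfK⟩) (hcard _ hof)
  let P2 : Sylow M.p K := Sylow.ofCard (zpowers ⟨g * f * g⁻¹, hfK'⟩) (hcard _ (by
    show orderOf (g * f * g⁻¹) = _
    rw [Invol.order_conj, hof]))
  obtain ⟨k, hk⟩ := MulAction.exists_smul_eq K P2 P1
  have hmem : k * ⟨g * f * g⁻¹, hfK'⟩ * k⁻¹ ∈ zpowers (⟨f, hfK⟩ : K) := by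
    show _ ∈ (P1 : Subgroup K)
    rw [← hk, Sylow.coe_subgroup_smul]
    exact ⟨_, mem_zpowers _, rfl⟩
  obtain ⟨j, hj⟩ := mem_zpowers_iff.1 hmem
  have hj' : f ^ j = (k : G) * (g * f * g⁻¹) * (k : G)⁻¹ := by
    have h := congrArg Subtype.val hj
    simpa only [Subgroup.coe_zpow, Subgroup.coe_mul, Subgroup.coe_inv] using h
  have hconj : ((k : G) * g) * D.jΦ M.σ * ((k : G) * g)⁻¹ = D.jΦ (M.σ ^ j) := by
    rw [map_zpow, ← hf, hj']; group
  rw [← D.jΦ_conj hconj] at hconj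
  obtain ⟨hkt, hks, hkR⟩ := (hKmem _).1 k.2
  refine ⟨(k : G) * g, mem_centralizer_singleton_iff.2 (mul_inv_eq_iff_eq_mul.1 hconj), ?_, ?_, ?_⟩
  · calc (k : G) * g * D.t * ((k : G) * g)⁻¹ = k * (g * D.t * g⁻¹) * (k : G)⁻¹ := by group
      _ = ts := by rw [h1, hks, mul_inv_cancel_right]
  · calc (k : G) * g * ts * ((k : G) * g)⁻¹ = k * (g * ts * g⁻¹) * (k : G)⁻¹ := by group
      _ = D.t * ts := by rw [h2, ← mul_assoc, hkt, mul_assoc D.t, hks, ← mul_assoc, mul_inv_cancel_right]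
  · rw [mul_assoc, h3, ← mul_assoc, hkR, mul_assoc]

/-- No element moving `t → s → ts` centralises `r`. -/
theorem free (M : Main D) : FreeStmt M := by
  intro g h1 h2 h3
  classical
  obtain ⟨g, hgf, h1, h2, h3⟩ := exists_move M h1 h2 h3
  set σ := M.σ
  obtain ⟨E, hE⟩ := D.exists_soc (σ := σ) (le_trans (by norm_num) M.qfix_pos)
  haveI := hE.simple
  obtain ⟨K, _, _, Q, ek, J, -, -, hτ, hs, hι⟩ := hE.exists_setup M.qfix_pos M.σ_ne
  have hσs : J.σ = hE.lamE ⟨D.s, D.fixed_s σ⟩ := by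
    show J.ι (1, J.D.s) = _
    rw [hs, hι]
  set rr : fixed (σ : D.F ≃+* D.F) := ⟨M.r, M.r_fix σ⟩
  have hrZ : hE.lamE rr ∈ J.Zg := by
    rw [← hι]
    refine J.ι_mem_Zg ?_
    have hro : Odd (orderOf M.r) := by
      refine M.ld.h_odd'.of_dvd_nat ?_
      rw [← M.ld.card_Zh]
      exact Subgroup.orderOf_dvd_natCard _ M.r_mem
    have hro' : Odd (orderOf (ek rr)) := by
      show Odd (orderOf (ek.toMonoidHom rr))
      rw [orderOf_injective ek.toMonoidHom ek.injective rr, ← Subgroup.orderOf_coe]; exact hro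
    have hrs : ek rr * J.D.s = J.D.s * ek rr := by
      rw [hs, ← map_mul, ← map_mul]
      refine congrArg ek (Subtype.ext ?_)
      have := mem_centralizer_singleton_iff.1 (M.ld.Zh_le M.r_mem)
      rwa [M.ld_s] at this
    rcases J.D.Cs_cases (ek rr) (mem_centralizer_singleton_iff.2 hrs) with h | ⟨h, h', -⟩
    · refine ClosedAbelian.mem_of_sq_mem ?_ hro'
      have hsn : zpowers J.D.s ≤ normalizer (J.D.Zh : Set (PSL2 K)) := zpowers_le.2
        (centralizer_le_normalizer _ (mem_centralizer_iff.2 fun z hz =>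
          mem_centralizer_singleton_iff.1 (J.D.Zh_le hz)))
      obtain ⟨z, hz, x, hx, he⟩ := (SolvBasic.mem_sup_iff_of_le_normalizer hsn).1 h
      have hxs : x * x = 1 := by
        obtain ⟨i, rfl⟩ := mem_zpowers_iff.1 hx
        rw [← zpow_add, ← two_mul, zpow_mul, zpow_two, J.D.s_sq, one_zpow]
      have hxz : x * z = z * x := by
        obtain ⟨i, rfl⟩ := mem_zpowers_iff.1 hx
        exact ((show Commute J.D.s z from (mem_centralizer_singleton_iff.1 (J.D.Zh_le hz)).symm).zpow_left i).eq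
      rw [he, mul_assoc, ← mul_assoc x, hxz, mul_assoc z x, hxs, mul_one]
      exact mul_mem hz hz
    · rw [Invol.order_two_of_sq h h'] at hro'
      exact absurd hro' (by decide)
  -- the element of the socle
  set γ := D.pH σ ⟨g, hgf⟩ with hγ
  have g1 : γ * D.tb σ * γ⁻¹ = D.lam σ ⟨D.s, D.fixed_s σ⟩ := by
    rw [hγ, ← map_inv, ← map_mul, ← map_mul]
    exact congrArg (D.pH σ) (Subtype.ext h1)
  have g2 : γ * D.lam σ ⟨D.s, D.fixed_s σ⟩ * γ⁻¹ = D.tb σ * D.lam σ ⟨D.s, D.fixed_s σ⟩ := by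
    rw [hγ, D.lam_apply, ← map_inv, ← map_mul, ← map_mul, ← map_mul]
    exact congrArg (D.pH σ) (Subtype.ext h2)
  have g3 : γ * D.lam σ rr = D.lam σ rr * γ := by
    rw [hγ, D.lam_apply, ← map_mul, ← map_mul]
    exact congrArg (D.pH σ) (Subtype.ext h3)
  set a := D.tb σ with ha
  set b := D.lam σ ⟨D.s, D.fixed_s σ⟩ with hb
  have hab : a * b = b * a := D.tb_comm_lam σ _
  have hγ3 : γ ^ 3 * a = a * γ ^ 3 ∧ γ ^ 3 * b = b * γ ^ 3 := by
    have c1 : γ * a = b * γ := mul_inv_eq_iff_eq_mul.1 g1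
    have c2 : γ * b = a * b * γ := mul_inv_eq_iff_eq_mul.1 g2
    have c3 : γ * (a * b) = a * γ := by
      rw [← mul_assoc, c1, mul_assoc b, c2, ← mul_assoc, ← mul_assoc, ← hab, mul_assoc a b b,
        show b * b = 1 by rw [hb, ← map_mul, ← map_one (D.lam σ)]; exact congrArg _ (Subtype.ext D.s_sq), mul_one]
    have e : ∀ x, γ ^ 3 * x = γ * (γ * (γ * x)) := fun x => by rw [pow_succ, pow_two, mul_assoc, mul_assoc]
    refine ⟨?_, ?_⟩
    · rw [e, c1, ← mul_assoc γ b, c2, mul_assoc (a * b) γ γ, ← mul_assoc γ (a * b), c3, mul_assoc a γ]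
      simp only [pow_succ, pow_zero, one_mul, mul_assoc]
    · rw [e, c2, ← mul_assoc γ (a * b), c3, mul_assoc a γ, ← mul_assoc γ a, c1, mul_assoc b γ]
      simp only [pow_succ, pow_zero, one_mul, mul_assoc]
  obtain ⟨j, hj⟩ : ∃ j, Nat.card D.Φ * Nat.card D.Φ = 3 * j + 1 := by
    refine ⟨Nat.card D.Φ * Nat.card D.Φ / 3, ?_⟩
    have h3n := M.three
    have : Nat.card D.Φ * Nat.card D.Φ % 3 = 1 := by
      rw [Nat.mul_mod]
      have : Nat.card D.Φ % 3 = 1 ∨ Nat.card D.Φ % 3 = 2 := by omega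
      rcases this with h | h <;> rw [h]
    omega
  let e : E := ⟨γ ^ (3 * j + 1), by
    rw [← hj, pow_mul]; exact hE.pow_mem (le_trans (by norm_num) M.qfix_pos) _⟩
  have he : ∀ x y, γ ^ 3 * y = y * γ ^ 3 → γ * x * γ⁻¹ = y →
      γ ^ (3 * j + 1) * x * (γ ^ (3 * j + 1))⁻¹ = y := by
    intro x y hy h
    rw [pow_succ, pow_mul]
    calc (γ ^ 3) ^ j * γ * x * ((γ ^ 3) ^ j * γ)⁻¹ = (γ ^ 3) ^ j * (γ * x * γ⁻¹) * ((γ ^ 3) ^ j)⁻¹ := by group
      _ = y := by rw [h, ((show Commute (γ ^ 3) y from hy).pow_left j).eq, mul_inv_cancel_right]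
  have e1 : e * J.τ * e⁻¹ = J.σ := by
    rw [hτ, hσs]
    exact Subtype.ext (he a b hγ3.2 g1)
  have e2 : e * J.σ * e⁻¹ = J.τ * J.σ := by
    rw [hτ, hσs]
    refine Subtype.ext (he b (a * b) ?_ g2)
    rw [← mul_assoc, hγ3.1, mul_assoc, hγ3.2, ← mul_assoc]
  have e3 : e * hE.lamE rr = hE.lamE rr * e :=
    Subtype.ext (((show Commute γ (D.lam σ rr) from g3).pow_left (3 * j + 1)).eq)
  -- against Janko–Thompson
  obtain ⟨y, u, hy, hu2, hu1, huτ, huσ, hinv, hyu⟩ := J.exists_isY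
  have hxτ : y⁻¹ * e * J.τ = J.τ * (y⁻¹ * e) := by
    calc y⁻¹ * e * J.τ = y⁻¹ * (e * J.τ * e⁻¹) * e := by group
      _ = y⁻¹ * (y * J.τ * y⁻¹) * e := by rw [e1, hy.tau]
      _ = _ := by group
  have hxσ : y⁻¹ * e * J.σ = J.σ * (y⁻¹ * e) := by
    calc y⁻¹ * e * J.σ = y⁻¹ * (e * J.σ * e⁻¹) * e := by group
      _ = y⁻¹ * (y * J.σ * y⁻¹) * e := by rw [e2, hy.sig]
      _ = _ := by group
  set R := hE.lamE rr with hR
  have hR1 : R ≠ 1 := fun h => by
    have h' := congrArg Subtype.val (hE.lamE_injective (h.trans (map_one _).symm))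
    have h'' : M.r = 1 := h'
    have := M.r_order
    rw [h'', orderOf_one] at this
    exact M.l_prime.ne_one this.symm
  rcases J.cent_E4 hxτ hxσ with h | h
  · refine hR1 (Setup.free_of_setup J hy hu2 hu1 huτ huσ hinv hyu R hrZ ?_)
    have c := J.T_comm h (J.Zg_le_T hrZ)
    calc y * R = y * (R * (y⁻¹ * e)) * e⁻¹ * y := by group
      _ = y * (y⁻¹ * e * R) * e⁻¹ * y := by rw [c]
      _ = e * R * e⁻¹ * y := by group
      _ = R * y := by rw [e3, mul_inv_cancel_right]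
  · have c := h R hrZ
    have hyR : y * R * y⁻¹ = R⁻¹ := by
      have c' : y⁻¹ * e * R⁻¹ * (y⁻¹ * e)⁻¹ = R := by
        calc y⁻¹ * e * R⁻¹ * (y⁻¹ * e)⁻¹ = (y⁻¹ * e * R * (y⁻¹ * e)⁻¹)⁻¹ := by group
          _ = R := by rw [c, inv_inv]
      calc y * R * y⁻¹ = y * (y⁻¹ * e * R⁻¹ * (y⁻¹ * e)⁻¹) * y⁻¹ := by rw [c']
        _ = e * R⁻¹ * e⁻¹ := by group
        _ = R⁻¹ := by rw [((show Commute e R from e3).inv_right).eq, mul_inv_cancel_right]
    refine J.Zg_inv_ne hrZ hR1 ?_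
    have hyR' : y * R⁻¹ * y⁻¹ = R := by
      calc y * R⁻¹ * y⁻¹ = (y * R * y⁻¹)⁻¹ := by group
        _ = R := by rw [hyR, inv_inv]
    calc R⁻¹ = y * (y * (y * R * y⁻¹) * y⁻¹) * y⁻¹ := by rw [hyR, hyR', hyR]
      _ = y ^ 3 * R * (y ^ 3)⁻¹ := by simp only [pow_succ, pow_zero, one_mul, mul_inv_rev, mul_assoc]
      _ = R := by rw [hy.cube]; group

end Cfsg.Agent.NoField
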