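import Cfsg.Agent.Lib.NoField.Facts
import Cfsg.Agent.Lib.NoField.CPhiField
import Cfsg.Agent.Lib.Classical.DicksonProper
import Cfsg.Agent.Lib.Walter8.Reduce
import Cfsg.Agent.Lib.Walter8.Quot

/-!
The centraliser of an involution inside that of a field automorphism.
-/

set_option autoImplicit false
set_option linter.style.haveILetI false
set_option linter.unusedSectionVars false

namespace Cfsg.Agent.NoField

open Subgroup Cfsg.Agent.AutPSL
open Cfsg.Agent.Walter8 (cen)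

universe u

variable {G : Type u} [Group G] [Finite G] {D : Data G}

namespace Data

theorem two_ne_zero (D : Data G) : (2 : D.F) ≠ 0 := Walter8.two_ne_zero_of_odd D.odd

theorem jΦ_comm (D : Data G) (σ τ : D.Φ) : D.jΦ σ * D.jΦ τ = D.jΦ τ * D.jΦ σ := by
  rw [← map_mul, ← map_mul]
  exact congrArg D.jΦ (Subtype.ext (ringAut_comm (σ : D.F ≃+* D.F) τ))

theorem odd_order (D : Data G) (σ : D.Φ) : Odd (orderOf (σ : D.F ≃+* D.F)) :=
  D.card_Φ_odd.of_dvd_nat ((Subgroup.orderOf_coe σ).symm ▸ orderOf_dvd_natCard σ)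

/-- Conjugation by a field automorphism on the decomposition. -/
theorem conj_jΦ (D : Data G) (σ τ : D.Φ) (l : PSL2 D.F) :
    D.jΦ σ * (D.jL l * D.jΦ τ) * (D.jΦ σ)⁻¹ = D.jL (semi 1 (σ : D.F ≃+* D.F) l) * D.jΦ τ := by
  rw [← D.jconj σ l]
  calc D.jΦ σ * (D.jL l * D.jΦ τ) * (D.jΦ σ)⁻¹
      = D.jΦ σ * D.jL l * (D.jΦ σ)⁻¹ * (D.jΦ σ * D.jΦ τ * (D.jΦ σ)⁻¹) := by group
    _ = _ := by rw [D.jΦ_comm σ τ, mul_inv_cancel_right]

theorem mem_cf_iff (D : Data G) (σ τ : D.Φ) (l : PSL2 D.F) :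
    D.jL l * D.jΦ τ ∈ D.Cf σ ↔ l ∈ fixed (σ : D.F ≃+* D.F) := by
  rw [Data.Cf, mem_centralizer_singleton_iff, mem_fixed]
  constructor
  · intro h
    have e : D.jΦ σ * (D.jL l * D.jΦ τ) * (D.jΦ σ)⁻¹ = D.jL l * D.jΦ τ := by
      rw [← h, mul_inv_cancel_right]
    rw [D.conj_jΦ] at e
    exact (D.prod_unique e).1
  · intro h
    have e := D.conj_jΦ σ τ l
    rw [h] at e
    exact (mul_inv_eq_iff_eq_mul.1 e).symm

theorem jL_mem_cf (D : Data G) {σ : D.Φ} {l : PSL2 D.F} (hl : l ∈ fixed (σ : D.F ≃+* D.F)) :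
    D.jL l ∈ D.Cf σ := by
  have h := (D.mem_cf_iff σ 1 l).2 hl
  rwa [map_one, mul_one] at h

theorem t_mem_cf (D : Data G) (σ : D.Φ) : D.t ∈ D.Cf σ :=
  mem_centralizer_singleton_iff.2 (D.t_jΦ σ)

theorem f_mem_cf (D : Data G) (σ τ : D.Φ) : D.jΦ τ ∈ D.Cf σ :=
  mem_centralizer_singleton_iff.2 (D.jΦ_comm τ σ)

theorem fixed_s (D : Data G) (σ : D.Φ) : D.s ∈ fixed (σ : D.F ≃+* D.F) := D.fix_s _
theorem fixed_i (D : Data G) (σ : D.Φ) : D.i ∈ fixed (σ : D.F ≃+* D.F) := D.fix_i _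
theorem fixed_y (D : Data G) (σ : D.Φ) : D.y ∈ fixed (σ : D.F ≃+* D.F) := D.fix_y _

/-- `C(t) ∩ C(f) = ⟨t⟩ × (L₁ Φ)`. -/
theorem exists_decomp (D : Data G) {σ : D.Φ} {g : G} (hgt : g ∈ cen D.t) (hgf : g ∈ D.Cf σ) :
    ∃ a : G, (a = 1 ∨ a = D.t) ∧ ∃ l ∈ fixed (σ : D.F ≃+* D.F), ∃ τ : D.Φ, g = a * (D.jL l * D.jΦ τ) := by
  rcases D.dec g hgt with h | h
  · obtain ⟨l, τ, rfl⟩ := D.prod g h
    exact ⟨1, Or.inl rfl, l, (D.mem_cf_iff σ τ l).1 hgf, τ, (one_mul _).symm⟩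
  · obtain ⟨l, τ, e⟩ := D.prod _ h
    have hm : D.t * g ∈ D.Cf σ := mul_mem (D.t_mem_cf σ) hgf
    rw [e] at hm
    exact ⟨D.t, Or.inr rfl, l, (D.mem_cf_iff σ τ l).1 hm, τ, by rw [← e, ← mul_assoc, D.t_sq, one_mul]⟩

/-- The order of the fixed field is odd, at least three, and `≡ q (mod 8)`. -/
theorem qfix_spec (D : Data G) (σ : D.Φ) :
    ∃ (K : Type) (_ : Field K) (_ : Fintype K), Fintype.card K = D.qfix σ ∧ Odd (Fintype.card K) ∧
      (Fintype.card K % 8 = 3 ∨ Fintype.card K % 8 = 5) ∧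
      Fintype.card D.F = Fintype.card K ^ orderOf σ ∧
      Nonempty (fixed (σ : D.F ≃+* D.F) ≃* PSL2 K) := by
  obtain ⟨K, i1, i2, hcard, hq, e⟩ := exists_psl_fixed D.two_ne_zero (D.odd_order σ)
  rw [Subgroup.orderOf_coe] at hq
  have ho : Odd (orderOf σ) := Subgroup.orderOf_coe σ ▸ D.odd_order σ
  have hm := mod_eight_of_pow hq ho D.odd
  have := D.q_mod
  refine ⟨K, i1, i2, hcard, Nat.odd_iff.2 (by omega), by omega, hq, e⟩

theorem two_mul_card_fixed (D : Data G) (σ : D.Φ) :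
    2 * Nat.card (fixed (σ : D.F ≃+* D.F)) = D.qfix σ * (D.qfix σ ^ 2 - 1) := by
  obtain ⟨K, _, _, hK, hodd, -, -, ⟨e⟩⟩ := D.qfix_spec σ
  rw [Nat.card_congr e.toEquiv, ← hK]
  exact Walter8.two_mul_card_psl hodd

/-- An odd subgroup of `C(t) ∩ C(f)` normalised by it lies in `⟨f⟩`. -/
theorem odd_le_zpowers (D : Data G) (σ : D.Φ) {O : Subgroup G} (hO : O ≤ cen D.t ⊓ D.Cf σ)
    (ho : ¬ 2 ∣ Nat.card O) (hn : cen D.t ⊓ D.Cf σ ≤ normalizer (O : Set G)) :
    O ≤ zpowers (D.jΦ σ) := by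
  set Fx := fixed (σ : D.F ≃+* D.F) with hFx
  have hX : ∀ x ∈ O, x ∈ D.X := fun x hx => by
    refine ClosedAbelian.mem_of_sq_mem ?_ (ClosedAbelian.odd_orderOf_of_mem ho hx)
    rcases D.dec x (hO hx).1 with h | h
    · exact mul_mem h h
    · have hc : x * D.t = D.t * x := mem_centralizer_singleton_iff.1 (hO hx).1
      have e : D.t * x * (D.t * x) = x * x := by
        rw [mul_assoc, ← mul_assoc x, hc, mul_assoc D.t x x, ← mul_assoc, D.t_sq, one_mul]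
      exact e ▸ mul_mem h h
  have hmem : ∀ l ∈ Fx, D.jL l ∈ cen D.t ⊓ D.Cf σ := fun l hl =>
    ⟨D.X_le (D.jL_mem l), D.jL_mem_cf hl⟩
  -- the part in `L` is trivial
  set N := (O.comap D.jL).subgroupOf Fx with hN
  haveI hNn : N.Normal := ⟨fun x hx l => by
    rw [hN, mem_subgroupOf, mem_comap] at hx ⊢
    rw [Subgroup.coe_mul, Subgroup.coe_mul, map_mul, map_mul, Subgroup.coe_inv, map_inv]
    exact (mem_normalizer_iff.1 (hn (hmem _ l.2)) _).1 hx⟩
  have hNo : ∀ x ∈ N, Odd (orderOf x) := fun x hx => by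
    have h := ClosedAbelian.odd_orderOf_of_mem ho (show D.jL (x : PSL2 D.F) ∈ O from hx)
    rwa [orderOf_injective _ D.jL_inj, Subgroup.orderOf_coe] at h
  have hNbot : N = ⊥ := by
    by_contra hne
    obtain ⟨K, _, _, hK, hodd, h8, hq, ⟨e⟩⟩ := D.qfix_spec σ
    have hs2 : (⟨D.s, D.fixed_s σ⟩ : Fx) * ⟨D.s, D.fixed_s σ⟩ = 1 := Subtype.ext D.s_sq
    by_cases h5 : 5 ≤ Fintype.card K
    · haveI : IsSimpleGroup (PSL2 K) := Matrix.ProjectiveSpecialLinearGroup.rank_two_simple (by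
        rw [Nat.card_eq_fintype_card]; omega)
      haveI : IsSimpleGroup Fx := e.isSimpleGroup
      have htop : N = ⊤ := hNn.eq_bot_or_eq_top.resolve_left hne
      have hd := hNo ⟨D.s, D.fixed_s σ⟩ (htop ▸ mem_top _)
      rw [orderOf_eq_prime (p := 2) (by rw [pow_two]; exact hs2)
        (fun h => D.s_ne (congrArg Subtype.val h))] at hd
      exact absurd hd (by decide)
    have h3 : D.qfix σ = 3 := by omega
    have hcard : Nat.card Fx = 12 := by
      have := D.two_mul_card_fixed σ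
      rw [h3] at this
      show Nat.card (fixed (σ : D.F ≃+* D.F)) = 12
      omega
    have hNo' : Odd (Nat.card N) := SEBrick.odd_card_of_orders fun x hx h2 => by
      have := hNo x hx
      rw [h2] at this
      exact absurd this (by decide)
    have hN3 : Nat.card N = 3 := by
      have hd : Nat.card N ∣ 3 * 4 := (card_subgroup_dvd_card N).trans hcard.dvd
      have hd' : Nat.card N ∣ 3 :=
        ((Nat.coprime_two_right.2 hNo').pow_right 2).dvd_of_dvd_mul_right hd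
      exact ((Nat.dvd_prime Nat.prime_three).1 hd').resolve_left fun h => hne (card_eq_one.1 h)
    have hy : (⟨D.y, D.fixed_y σ⟩ : Fx) ∈ N := by
      set yy : Fx := ⟨D.y, D.fixed_y σ⟩
      have h1 : (QuotientGroup.mk' N yy) ^ 4 = 1 := by
        have : Nat.card (↥Fx ⧸ N) = 4 := by
          have := N.card_eq_card_quotient_mul_card_subgroup
          rw [hN3, show Nat.card ↥Fx = 12 from hcard] at this
          refine Nat.eq_of_mul_eq_mul_right (by norm_num : 0 < 3) (this.symm.trans ?_)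
          norm_num
        rw [← this]
        exact pow_card_eq_one'
      have h2 : (QuotientGroup.mk' N yy) ^ 3 = 1 := by
        rw [← map_pow, show yy ^ 3 = 1 from Subtype.ext D.y_cube, map_one]
      rw [pow_succ, h2, one_mul] at h1
      exact (QuotientGroup.eq_one_iff yy).1 h1
    have hsi : (⟨D.s * D.i, mul_mem (D.fixed_s σ) (D.fixed_i σ)⟩ : Fx) ∈ N := by
      have h := mul_mem (hNn.conj_mem _ hy ⟨D.s, D.fixed_s σ⟩) (inv_mem hy)
      have e : (⟨D.s * D.i, mul_mem (D.fixed_s σ) (D.fixed_i σ)⟩ : Fx) =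
          (⟨D.s, D.fixed_s σ⟩ : Fx) * ⟨D.y, D.fixed_y σ⟩ * (⟨D.s, D.fixed_s σ⟩ : Fx)⁻¹ *
            (⟨D.y, D.fixed_y σ⟩ : Fx)⁻¹ := Subtype.ext (by
        show D.s * D.i = D.s * D.y * D.s⁻¹ * D.y⁻¹
        rw [← D.y_s, inv_eq_of_mul_eq_one_right D.s_sq]; group)
      rw [e]; exact h
    have h := hNo _ hsi
    rw [orderOf_eq_prime (p := 2) (by
      refine Subtype.ext ?_
      show (D.s * D.i) ^ 2 = 1
      rw [pow_two, mul_assoc, ← mul_assoc D.i, D.i_comm, mul_assoc D.s, D.i_sq, mul_one, D.s_sq])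
      (fun h => D.i_ne_s (by
        have h' : D.s * D.i = 1 := congrArg Subtype.val h
        rw [← mul_one D.s, ← h', ← mul_assoc, D.s_sq, one_mul]))] at h
    exact absurd h (by decide)
  intro x hx
  obtain ⟨l, τ, rfl⟩ := D.prod x (hX x hx)
  have hcent : ∀ z ∈ Fx, l * semi 1 (τ : D.F ≃+* D.F) z * l⁻¹ = z := by
    intro z hz
    set w := l * semi 1 (τ : D.F ≃+* D.F) z * l⁻¹
    have e : D.jL l * D.jΦ τ * D.jL z * (D.jL l * D.jΦ τ)⁻¹ = D.jL w := by
      rw [map_mul, map_mul, map_inv, ← D.jconj τ z]; group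
    have hwC : D.jL w ∈ D.Cf σ :=
      e ▸ mul_mem (mul_mem (hO hx).2 (D.jL_mem_cf hz)) (inv_mem (hO hx).2)
    have hwF : w ∈ Fx := by
      have h := (D.mem_cf_iff σ 1 w).1 (by rw [map_one, mul_one]; exact hwC)
      exact h
    have hwO : D.jL (w * z⁻¹) ∈ O := by
      rw [map_mul, map_inv, ← e, show D.jL l * D.jΦ τ * D.jL z * (D.jL l * D.jΦ τ)⁻¹ * (D.jL z)⁻¹ =
        D.jL l * D.jΦ τ * (D.jL z * (D.jL l * D.jΦ τ)⁻¹ * (D.jL z)⁻¹) by group]
      exact mul_mem hx ((mem_normalizer_iff.1 (hn (hmem z hz)) _).1 (inv_mem hx))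
    have h1 : (⟨w * z⁻¹, mul_mem hwF (inv_mem hz)⟩ : Fx) ∈ N := hwO
    rw [hNbot, mem_bot] at h1
    exact mul_inv_eq_one.1 (congrArg Subtype.val h1)
  obtain ⟨rfl, hfix⟩ := cent_fixed hcent
  obtain ⟨i, hi⟩ := mem_zpowers_iff.1 (mem_zpowers_of_fix hfix)
  rw [map_one, one_mul, show τ = σ ^ i from Subtype.ext (by rw [SubgroupClass.coe_zpow]; exact hi.symm),
    map_zpow]
  exact zpow_mem (mem_zpowers _) i

end Data

end Cfsg.Agent.NoField
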