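import Cfsg.Agent.Lib.NoField.CPhiLocal
import Cfsg.Agent.Lib.Transfer.CoprimeQuotient
import Cfsg.Agent.Lib.Solvable.Coprime
import Cfsg.Agent.Lib.Blocks.Center
import Mathlib.GroupTheory.Transfer
import Mathlib.GroupTheory.PGroup

/-!
`C(f) ⧸ ⟨f⟩` for a field automorphism `f`, and what the transfer into `Φ` says about its involutions.
-/

set_option autoImplicit false
set_option linter.style.haveILetI false
set_option linter.unusedSectionVars false

namespace Cfsg.Agent.NoField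

open Subgroup Cfsg.Agent.AutPSL
open Cfsg.Agent.Walter8 (cen)
open Cfsg.Agent.ClosedAbelian (core)

universe u

variable {G : Type u} [Group G] [Finite G]

namespace Data

/-- `⟨f⟩` inside `C(f)`. -/
abbrev fsub (D : Data G) (σ : D.Φ) : Subgroup (D.Cf σ) := (zpowers (D.jΦ σ)).subgroupOf (D.Cf σ)

instance fsub_normal (D : Data G) (σ : D.Φ) : (D.fsub σ).Normal := by
  refine ⟨fun x hx g => ?_⟩
  obtain ⟨i, hi⟩ := mem_zpowers_iff.1 (mem_subgroupOf.1 hx)
  have hc : Commute (g : G) (D.jΦ σ) := mem_centralizer_singleton_iff.1 g.2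
  have e : g * x * g⁻¹ = x := Subtype.ext (by
    show (g : G) * (x : G) * (g : G)⁻¹ = x
    rw [← hi, (hc.zpow_right i).eq, mul_inv_cancel_right])
  rw [e]; exact hx

/-- `C(f) ⧸ ⟨f⟩`. -/
abbrev Hbar (D : Data G) (σ : D.Φ) : Type u := ↥(D.Cf σ) ⧸ D.fsub σ

/-- The quotient map. -/
abbrev pH (D : Data G) (σ : D.Φ) : ↥(D.Cf σ) →* D.Hbar σ := QuotientGroup.mk' (D.fsub σ)

/-- `t` in `C(f)`. -/
abbrev tH (D : Data G) (σ : D.Φ) : D.Cf σ := ⟨D.t, D.t_mem_cf σ⟩

theorem pH_eq_one (D : Data G) (σ : D.Φ) {x : D.Cf σ} :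
    D.pH σ x = 1 ↔ (x : G) ∈ zpowers (D.jΦ σ) :=
  (QuotientGroup.eq_one_iff x).trans mem_subgroupOf

theorem pH_surj (D : Data G) (σ : D.Φ) : Function.Surjective (D.pH σ) := QuotientGroup.mk'_surjective _

theorem fsub_coprime (D : Data G) (σ : D.Φ) : (Nat.card (D.pH σ).ker).Coprime 2 := by
  rw [QuotientGroup.ker_mk', Nat.card_congr (subgroupOfEquivOfLe (zpowers_le.2 (D.f_mem_cf σ σ))).toEquiv,
    Nat.card_zpowers]
  exact Nat.coprime_two_right.2 (D.jΦ_odd σ)

theorem exists_four_noncyclic (D : Data G) : IsMulCommutative D.S ∧ ¬ IsCyclic D.S := by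
  refine ⟨⟨⟨fun x y => Subtype.ext (D.S_comm x.2 y.2)⟩⟩, fun hc => ?_⟩
  obtain ⟨g, hg⟩ := hc.exists_generator
  have h2 : Nat.card D.S ≤ 2 := by
    rw [← orderOf_eq_card_of_forall_mem_zpowers hg]
    exact orderOf_le_of_pow_eq_one (by norm_num) (Subtype.ext (by rw [pow_two]; exact D.S_sq g.2))
  rw [D.card_S] at h2
  omega

/-- An odd subgroup normalised by `C(f)` lies in `⟨f⟩`. -/
theorem odd_normal_le (D : Data G) (σ : D.Φ) {O : Subgroup G} (hO : O ≤ D.Cf σ) (ho : ¬ 2 ∣ Nat.card O)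
    (hn : D.Cf σ ≤ normalizer (O : Set G)) : O ≤ zpowers (D.jΦ σ) := by
  obtain ⟨hcomm, hcyc⟩ := D.exists_four_noncyclic
  haveI := hcomm
  have hcop : (Nat.card D.S).Coprime (Nat.card O) := by
    rw [D.card_S]
    exact ((Nat.prime_two.coprime_iff_not_dvd.2 ho).pow_left 3)
  rw [← CoprimeAct.generated_by_centralizers hcyc ((D.S_le_Cf σ).trans hn) hcop]
  refine iSup₂_le fun a ha => ?_
  obtain ⟨g, hg, hga⟩ := D.one_class_Cf σ (D.S_le_Cf σ ha.1) (D.t_mem_cf σ) (D.S_order ha.1 ha.2) D.t_order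
  set O' := (O ⊓ centralizer ({a} : Set G)).map (MulAut.conj g).toMonoidHom with hO'
  have hle : O' ≤ zpowers (D.jΦ σ) := by
    refine D.odd_le_zpowers σ ?_ ?_ ?_
    · rintro _ ⟨x, ⟨hx, hxa⟩, rfl⟩
      refine ⟨mem_centralizer_singleton_iff.2 ?_, (D.Cf σ).mul_mem ((D.Cf σ).mul_mem hg (hO hx)) ((D.Cf σ).inv_mem hg)⟩
      show g * x * g⁻¹ * D.t = D.t * (g * x * g⁻¹)
      rw [← hga]
      calc g * x * g⁻¹ * (g * a * g⁻¹) = g * (x * a) * g⁻¹ := by group
        _ = g * (a * x) * g⁻¹ := by rw [mem_centralizer_singleton_iff.1 hxa]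
        _ = _ := by group
    · intro h
      refine ho (h.trans ?_)
      rw [hO', card_map_of_injective (MulAut.conj g).injective]
      exact card_dvd_of_le inf_le_left
    · intro c hc
      refine SEBrick.mem_normalizer_of ?_
      rintro _ ⟨x, ⟨hx, hxa⟩, rfl⟩
      refine ⟨g⁻¹ * c * g * x * (g⁻¹ * c * g)⁻¹, ⟨?_, ?_⟩, ?_⟩
      · exact (mem_normalizer_iff.1 (hn ((D.Cf σ).mul_mem ((D.Cf σ).mul_mem ((D.Cf σ).inv_mem hg) hc.2) hg)) x).1 hx
      · have hca : g⁻¹ * c * g ∈ centralizer ({a} : Set G) := by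
          refine mem_centralizer_singleton_iff.2 ?_
          calc g⁻¹ * c * g * a = g⁻¹ * (c * (g * a * g⁻¹)) * g := by group
            _ = g⁻¹ * ((g * a * g⁻¹) * c) * g := by rw [hga, mem_centralizer_singleton_iff.1 hc.1]
            _ = _ := by group
        exact (centralizer ({a} : Set G)).mul_mem ((centralizer ({a} : Set G)).mul_mem hca hxa)
          ((centralizer ({a} : Set G)).inv_mem hca)
      · show g * (g⁻¹ * c * g * x * (g⁻¹ * c * g)⁻¹) * g⁻¹ = c * (g * x * g⁻¹) * c⁻¹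
        group
  intro x hx
  have h1 : g * x * g⁻¹ ∈ zpowers (D.jΦ σ) := hle ⟨x, hx, rfl⟩
  obtain ⟨i, hi⟩ := mem_zpowers_iff.1 h1
  have hc : Commute g (D.jΦ σ) := mem_centralizer_singleton_iff.1 hg
  refine mem_zpowers_iff.2 ⟨i, ?_⟩
  calc D.jΦ σ ^ i = g⁻¹ * (g * D.jΦ σ ^ i) := by group
    _ = g⁻¹ * (D.jΦ σ ^ i * g) := by rw [(hc.zpow_right i).eq]
    _ = x := by rw [hi]; group

/-- `C(f) ⧸ ⟨f⟩` has no odd normal subgroup. -/
theorem hbar_odd_normal (D : Data G) (σ : D.Φ) {N : Subgroup (D.Hbar σ)} (hN : N.Normal)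
    (ho : Odd (Nat.card N)) : N = ⊥ := by
  refine (eq_bot_iff_forall _).2 fun x hx => ?_
  obtain ⟨y, rfl⟩ := D.pH_surj σ x
  rw [D.pH_eq_one]
  have hm : (y : G) ∈ (N.comap (D.pH σ)).map (D.Cf σ).subtype := ⟨y, hx, rfl⟩
  refine D.odd_normal_le σ (map_subtype_le _) ?_ ?_ hm
  · rw [card_map_of_injective (D.Cf σ).subtype_injective]
    intro h
    have hcard : Nat.card (N.comap (D.pH σ)) = Nat.card (D.fsub σ) * Nat.card N := by
      have h1 := (N.comap (D.pH σ)).card_mul_index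
      rw [index_comap_of_surjective _ (D.pH_surj σ)] at h1
      have h2 := (D.fsub σ).card_eq_card_quotient_mul_card_subgroup
      rw [← N.card_mul_index] at h2
      have hi : N.index ≠ 0 := index_ne_zero_of_finite
      refine Nat.eq_of_mul_eq_mul_right (Nat.pos_of_ne_zero hi) ?_
      rw [h1, h2]; ring
    rw [hcard] at h
    have hf := D.fsub_coprime σ
    rw [QuotientGroup.ker_mk'] at hf
    rcases Nat.prime_two.dvd_mul.1 h with h' | h'
    · exact Nat.prime_two.coprime_iff_not_dvd.1 hf.symm h'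
    · exact (Nat.not_even_iff_odd.2 ho) (even_iff_two_dvd.2 h')
  · intro g hg
    haveI := hN
    have h := le_normalizer_map (H := N.comap (D.pH σ)) (D.Cf σ).subtype
    refine h ⟨⟨g, hg⟩, mem_normalizer_iff.2 fun w => ⟨fun hw => hN.comap _ |>.conj_mem w hw _, fun hw => ?_⟩, rfl⟩
    have h' := (hN.comap (D.pH σ)).conj_mem _ hw (⟨g, hg⟩ : D.Cf σ)⁻¹
    rwa [show (⟨g, hg⟩ : D.Cf σ)⁻¹ * (⟨g, hg⟩ * w * (⟨g, hg⟩ : D.Cf σ)⁻¹) * (⟨g, hg⟩ : D.Cf σ)⁻¹⁻¹ = w by group] at h'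

/-- The centraliser of the image of `t`. -/
theorem cen_tbar (D : Data G) (σ : D.Φ) :
    centralizer ({D.pH σ (D.tH σ)} : Set (D.Hbar σ)) =
      (centralizer ({D.tH σ} : Set (D.Cf σ))).map (D.pH σ) := by
  haveI : Fact (Nat.Prime 2) := ⟨Nat.prime_two⟩
  have hz : ∀ {X : Type u} [Group X] (a : X), centralizer ({a} : Set X) = centralizer (zpowers a : Set X) :=
    fun a => by rw [zpowers_eq_closure, centralizer_closure]
  rw [hz, hz, ← MonoidHom.map_zpowers]
  refine CoprimeQuotient.centralizer_map (D.pH σ) (D.pH_surj σ) (D.fsub_coprime σ) ?_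
  refine IsPGroup.of_card (n := 1) ?_
  rw [Nat.card_zpowers, pow_one, ← Subgroup.orderOf_coe]
  exact D.t_order

theorem t_order_bar (D : Data G) (σ : D.Φ) : orderOf (D.pH σ (D.tH σ)) = 2 := by
  refine Invol.order_two_of_sq ?_ fun h => ?_
  · rw [← map_mul, show D.tH σ * D.tH σ = 1 from Subtype.ext D.t_sq, map_one]
  · have h1 : Odd (orderOf D.t) :=
      (D.jΦ_odd σ).of_dvd_nat (orderOf_dvd_of_mem_zpowers ((D.pH_eq_one σ).1 h))
    rw [D.t_order] at h1
    exact absurd h1 (by decide)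

/-- An involution of the quotient lifts to one. -/
theorem exists_invol_lift (D : Data G) (σ : D.Φ) {x : D.Hbar σ} (hx : orderOf x = 2) :
    ∃ y : D.Cf σ, orderOf y = 2 ∧ D.pH σ y = x := by
  obtain ⟨z, rfl⟩ := D.pH_surj σ x
  obtain ⟨u, v, huv, hu, hv, hut, hvo⟩ := ClosedAbelian.exists_parts z
  have hv1 : D.pH σ v = 1 := by
    refine orderOf_eq_one_iff.1 (Nat.eq_one_of_dvd_coprimes (Nat.coprime_two_right.2 hvo)
      (orderOf_map_dvd _ v) ?_)
    obtain ⟨i, rfl⟩ := mem_zpowers_iff.1 hv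
    rw [map_zpow, ← hx]
    exact orderOf_dvd_of_mem_zpowers (zpow_mem (mem_zpowers _) i)
  have hpu : D.pH σ u = D.pH σ z := by rw [← huv, map_mul, hv1, mul_one]
  refine ⟨u, ?_, hpu⟩
  obtain ⟨k, hk⟩ := hut
  obtain ⟨j, -, hj⟩ := (Nat.dvd_prime_pow Nat.prime_two).1 (orderOf_dvd_of_pow_eq_one hk)
  have hu2 : u ^ 2 = 1 := by
    have h1 : D.pH σ (u ^ 2) = 1 := by rw [map_pow, hpu, ← hx, pow_orderOf_eq_one]
    refine ClosedAbelian.TwoEl.eq_one_of_odd ⟨k, by rw [← pow_mul, mul_comm, pow_mul, hk, one_pow]⟩ ?_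
    rw [← Subgroup.orderOf_coe]
    exact (D.jΦ_odd σ).of_dvd_nat (orderOf_dvd_of_mem_zpowers ((D.pH_eq_one σ).1 h1))
  refine orderOf_eq_prime hu2 fun h => ?_
  rw [h, map_one] at hpu
  rw [← hpu, orderOf_one] at hx
  omega

/-- The involutions of the quotient form one class. -/
theorem one_class_bar (D : Data G) (σ : D.Φ) {x : D.Hbar σ} (hx : orderOf x = 2) :
    ∃ g : D.Hbar σ, g * D.pH σ (D.tH σ) * g⁻¹ = x := by
  obtain ⟨y, hy, rfl⟩ := D.exists_invol_lift σ hx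
  obtain ⟨g, hg, e⟩ := D.one_class_Cf σ (D.t_mem_cf σ) y.2 D.t_order (by rw [Subgroup.orderOf_coe, hy])
  refine ⟨D.pH σ ⟨g, hg⟩, ?_⟩
  rw [← map_inv, ← map_mul, ← map_mul]
  exact congrArg (D.pH σ) (Subtype.ext e)

/-- The number of involutions of the quotient. -/
theorem index_tbar (D : Data G) (σ : D.Φ) :
    (centralizer ({D.pH σ (D.tH σ)} : Set (D.Hbar σ))).index =
      Nat.card {x : G // x ∈ D.Cf σ ∧ orderOf x = 2} := by
  haveI := Fintype.ofFinite (D.Cf σ)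
  rw [D.cen_tbar, index_map_eq _ (D.pH_surj σ) (fun x hx => ?_), ← Blocks.card_isConj_eq_index]
  · refine Nat.card_congr
      { toFun := fun x => ⟨(x.1 : G), x.1.2, ?_⟩
        invFun := fun x => ⟨⟨x.1, x.2.1⟩, ?_⟩
        left_inv := fun x => rfl
        right_inv := fun x => rfl }
    · obtain ⟨c, hc⟩ := isConj_iff.1 x.2
      rw [Subgroup.orderOf_coe, ← hc, Invol.order_conj, ← Subgroup.orderOf_coe]
      exact D.t_order
    · obtain ⟨g, hg, e⟩ := D.one_class_Cf σ (D.t_mem_cf σ) x.2.1 D.t_order x.2.2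
      exact isConj_iff.2 ⟨⟨g, hg⟩, Subtype.ext e⟩
  · rw [MonoidHom.mem_ker, D.pH_eq_one] at hx
    refine mem_centralizer_singleton_iff.2 (Subtype.ext ?_)
    obtain ⟨i, hi⟩ := mem_zpowers_iff.1 hx
    show (x : G) * D.t = D.t * x
    rw [← hi]
    exact ((show Commute (D.jΦ σ) D.t from (D.t_jΦ σ).symm).zpow_left i).eq

open Classical in
/-- The projection of `C(t)` on `Φ`. -/
theorem exists_proj (D : Data G) :
    ∃ χ : cen D.t →* D.Φ, ∀ (g : cen D.t) (l : PSL2 D.F) (τ : D.Φ),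
      ((g : G) = D.jL l * D.jΦ τ → χ g = τ) := by
  let a : cen D.t := ⟨D.t, mem_centralizer_singleton_iff.2 rfl⟩
  let Xc := D.X.subgroupOf (cen D.t)
  have hmem : ∀ g : cen D.t, (g : G) ∉ D.X → D.t * g ∈ D.X := fun g hg => (D.dec g g.2).resolve_left hg
  let val : cen D.t → D.Φ := fun g =>
    if h : (g : G) ∈ D.X then D.pr ⟨g, h⟩ else D.pr ⟨D.t * g, hmem g h⟩
  have hmul : ∀ g h : cen D.t, val (g * h) = val g * val h := by
    intro g h
    have hgt : (g : G) * D.t = D.t * g := mem_centralizer_singleton_iff.1 g.2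
    have hht : (h : G) * D.t = D.t * h := mem_centralizer_singleton_iff.1 h.2
    by_cases hg : (g : G) ∈ D.X <;> by_cases hh : (h : G) ∈ D.X
    · have hgh : ((g * h : cen D.t) : G) ∈ D.X := mul_mem hg hh
      simp only [val, dif_pos hg, dif_pos hh, dif_pos hgh, ← map_mul]
      exact congrArg D.pr rfl
    · have hgh : ((g * h : cen D.t) : G) ∉ D.X := fun e => hh ((mul_mem_cancel_left hg).1 e)
      simp only [val, dif_pos hg, dif_neg hh, dif_neg hgh, ← map_mul]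
      refine congrArg D.pr (Subtype.ext ?_)
      show D.t * ((g : G) * h) = g * (D.t * h)
      rw [← mul_assoc, ← hgt, mul_assoc]
    · have hgh : ((g * h : cen D.t) : G) ∉ D.X := fun e => hg ((mul_mem_cancel_right hh).1 e)
      simp only [val, dif_neg hg, dif_pos hh, dif_neg hgh, ← map_mul]
      exact congrArg D.pr (Subtype.ext (mul_assoc D.t (g : G) h).symm)
    · have e : ((g * h : cen D.t) : G) = D.t * g * (D.t * h) := by
        show (g : G) * h = _
        rw [show D.t * (g : G) = g * D.t from hgt.symm, mul_assoc (g : G), ← mul_assoc D.t D.t, D.t_sq,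
          one_mul]
      have hgh : ((g * h : cen D.t) : G) ∈ D.X := e ▸ mul_mem (hmem g hg) (hmem h hh)
      simp only [val, dif_neg hg, dif_neg hh, dif_pos hgh, ← map_mul]
      exact congrArg D.pr (Subtype.ext e)
  refine ⟨MonoidHom.mk' val hmul, fun g l τ hg => ?_⟩
  have hX : (g : G) ∈ D.X := hg ▸ mul_mem (D.jL_mem l) (D.jΦ_mem τ)
  show val g = τ
  simp only [val, dif_pos hX]
  exact D.pr_spec _ l τ hg

/-- Transfer into `Φ`: `p` divides the number of involutions of `C(f)`. -/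
theorem dvd_index (D : Data G) {p : ℕ} (hp : p.Prime) {σ : D.Φ} {v : ℕ} (hv : 0 < v)
    (hσ : orderOf σ = p ^ v) :
    p ∣ (centralizer ({D.pH σ (D.tH σ)} : Set (D.Hbar σ))).index := by
  classical
  haveI : Fact p.Prime := ⟨hp⟩
  haveI := D.simple
  letI : CommGroup D.Φ := { (inferInstance : Group D.Φ) with mul_comm := D.Φ_comm }
  haveI : (cen D.t).FiniteIndex := ⟨index_ne_zero_of_finite⟩
  haveI : Fintype (Quotient (MulAction.orbitRel (zpowers (D.jΦ σ)) (G ⧸ cen D.t))) := Fintype.ofFinite _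
  obtain ⟨χ, hχ⟩ := D.exists_proj
  have hV : MonoidHom.transfer χ (D.jΦ σ) = 1 := by
    rcases (inferInstance : (MonoidHom.transfer χ).ker.Normal).eq_bot_or_eq_top with h | h
    · exact absurd ⟨⟨fun x y => (MonoidHom.ker_eq_bot_iff _).1 h (by rw [map_mul, map_mul, mul_comm])⟩⟩ D.nc
    · exact MonoidHom.mem_ker.1 (h ▸ mem_top _)
  have hval : MonoidHom.transfer χ (D.jΦ σ) = σ ^ (cen D.t).index := by
    rw [MonoidHom.transfer_eq_prod_quotient_orbitRel_zpowers_quot, index_eq_sum_minimalPeriod (cen D.t) (D.jΦ σ),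
      ← Finset.prod_pow_eq_pow_sum]
    refine Finset.prod_congr rfl fun qq _ => ?_
    set x := qq.out.out with hx
    set m := Function.minimalPeriod (D.jΦ σ • ·) qq.out with hm
    have hmem : x⁻¹ * D.jΦ σ ^ m * x ∈ cen D.t :=
      QuotientGroup.out_conj_pow_minimalPeriod_mem (cen D.t) (D.jΦ σ) qq.out
    have hc := mem_centralizer_singleton_iff.1 hmem
    have ha : x * D.t * x⁻¹ ∈ D.Cf (σ ^ m) := by
      refine mem_centralizer_singleton_iff.2 ?_
      rw [map_pow]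
      calc x * D.t * x⁻¹ * D.jΦ σ ^ m = x * (D.t * (x⁻¹ * D.jΦ σ ^ m * x)) * x⁻¹ := by group
        _ = x * (x⁻¹ * D.jΦ σ ^ m * x * D.t) * x⁻¹ := by rw [hc]
        _ = _ := by group
    obtain ⟨h, hh, he⟩ := D.one_class_Cf (σ ^ m) (D.t_mem_cf (σ ^ m)) ha D.t_order
      (by rw [Invol.order_conj]; exact D.t_order)
    have hct : h⁻¹ * x ∈ cen D.t := mem_centralizer_singleton_iff.2 (by
      calc h⁻¹ * x * D.t = h⁻¹ * (x * D.t * x⁻¹) * x := by group
        _ = h⁻¹ * (h * D.t * h⁻¹) * x := by rw [he]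
        _ = _ := by group)
    have hf : D.jΦ (σ ^ m) ∈ cen D.t := D.X_le (D.jΦ_mem _)
    have e : (⟨x⁻¹ * D.jΦ σ ^ m * x, hmem⟩ : cen D.t) =
        (⟨h⁻¹ * x, hct⟩ : cen D.t)⁻¹ * ⟨D.jΦ (σ ^ m), hf⟩ * ⟨h⁻¹ * x, hct⟩ := by
      refine Subtype.ext ?_
      show x⁻¹ * D.jΦ σ ^ m * x = (h⁻¹ * x)⁻¹ * D.jΦ (σ ^ m) * (h⁻¹ * x)
      have hh' : h * D.jΦ (σ ^ m) = D.jΦ (σ ^ m) * h := mem_centralizer_singleton_iff.1 hh
      rw [← map_pow]
      calc x⁻¹ * D.jΦ (σ ^ m) * x = x⁻¹ * (D.jΦ (σ ^ m) * h) * h⁻¹ * x := by group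
        _ = x⁻¹ * (h * D.jΦ (σ ^ m)) * h⁻¹ * x := by rw [hh']
        _ = _ := by group
    rw [e, map_mul, map_mul, map_inv, hχ ⟨D.jΦ (σ ^ m), hf⟩ 1 (σ ^ m) (by rw [map_one, one_mul]),
      mul_comm (χ _)⁻¹, inv_mul_cancel_right]
  have hdvd : p ∣ (cen D.t).index := by
    have h := orderOf_dvd_of_pow_eq_one (hval.symm.trans hV)
    rw [hσ] at h
    exact (dvd_pow_self p hv.ne').trans h
  rw [D.index_tbar]
  -- `⟨f⟩` acting on the involutions of `G`
  let P := zpowers (D.jΦ σ)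
  let I := {x : G // orderOf x = 2}
  letI : MulAction P I :=
    { smul := fun g x => ⟨(g : G) * x.1 * (g : G)⁻¹, by rw [Invol.order_conj]; exact x.2⟩
      one_smul := fun x => Subtype.ext (by show (1 : G) * x.1 * (1 : G)⁻¹ = x.1; group)
      mul_smul := fun a b x => Subtype.ext (by
        show ((a : G) * b) * x.1 * ((a : G) * b)⁻¹ = a * (b * x.1 * (b : G)⁻¹) * (a : G)⁻¹
        group) }
  have hP : IsPGroup p P := IsPGroup.of_card (n := v) (by
    rw [Nat.card_zpowers, D.orderOf_jΦ, hσ])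
  haveI := Fintype.ofFinite G
  have hI : Nat.card I = (cen D.t).index := by
    rw [← Blocks.card_isConj_eq_index]
    exact Nat.card_congr (Equiv.subtypeEquivRight fun x => ⟨fun h => D.one_class _ _ D.t_order h, fun h => by
      obtain ⟨c, hc⟩ := isConj_iff.1 h
      rw [← hc, Invol.order_conj]; exact D.t_order⟩)
  have hfix : Nat.card (MulAction.fixedPoints P I) = Nat.card {x : G // x ∈ D.Cf σ ∧ orderOf x = 2} := by
    have hiff : ∀ x : I, x ∈ MulAction.fixedPoints P I ↔ x.1 ∈ D.Cf σ := by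
      intro x
      rw [MulAction.mem_fixedPoints, Data.Cf, mem_centralizer_singleton_iff]
      constructor
      · intro h
        have h' : D.jΦ σ * x.1 * (D.jΦ σ)⁻¹ = x.1 := congrArg Subtype.val (h ⟨_, mem_zpowers _⟩)
        exact (mul_inv_eq_iff_eq_mul.1 h').symm
      · rintro h ⟨g, hg⟩
        obtain ⟨j, rfl⟩ := mem_zpowers_iff.1 hg
        refine Subtype.ext ?_
        show D.jΦ σ ^ j * x.1 * (D.jΦ σ ^ j)⁻¹ = x.1
        rw [← ((show Commute x.1 (D.jΦ σ) from h).zpow_right j).eq, mul_inv_cancel_right]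
    exact Nat.card_congr ((Equiv.subtypeEquivRight hiff).trans
      { toFun := fun x => ⟨x.1.1, x.2, x.1.2⟩
        invFun := fun x => ⟨⟨x.1, x.2.2⟩, x.2.1⟩
        left_inv := fun _ => rfl
        right_inv := fun _ => rfl })
  have hmod := hP.card_modEq_card_fixedPoints I
  rw [hI, hfix] at hmod
  exact Nat.modEq_zero_iff_dvd.1 (hmod.symm.trans (Nat.modEq_zero_iff_dvd.2 hdvd))

end Data

end Cfsg.Agent.NoField
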