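import Cfsg.Agent.Lib.NoField.CPhiQuot
import Cfsg.Agent.Lib.Transfer.Basic

/-!
The socle of `C(f) ⧸ ⟨f⟩` when `C(f) ∩ L` is not solvable: a simple group containing all involutions.
-/

set_option autoImplicit false
set_option linter.style.haveILetI false
set_option linter.unusedSectionVars false

namespace Cfsg.Agent.NoField

open Subgroup Cfsg.Agent.AutPSL
open scoped commutatorElement
open Cfsg.Agent.Walter8 (cen)

universe u

variable {G : Type u} [Group G] [Finite G]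

namespace Data

/-- The image of `t` in `C(f) ⧸ ⟨f⟩`. -/
abbrev tb (D : Data G) (σ : D.Φ) : D.Hbar σ := D.pH σ (D.tH σ)

/-- `L ∩ C(f)` inside `C(f) ⧸ ⟨f⟩`. -/
def lam (D : Data G) (σ : D.Φ) : fixed (σ : D.F ≃+* D.F) →* D.Hbar σ :=
  (D.pH σ).comp ((D.jL.comp (fixed (σ : D.F ≃+* D.F)).subtype).codRestrict (D.Cf σ)
    fun l => D.jL_mem_cf l.2)

theorem lam_apply (D : Data G) (σ : D.Φ) (l : fixed (σ : D.F ≃+* D.F)) :
    D.lam σ l = D.pH σ ⟨D.jL l, D.jL_mem_cf l.2⟩ := rfl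

/-- The field automorphisms inside `C(f) ⧸ ⟨f⟩`. -/
def phib (D : Data G) (σ : D.Φ) : D.Φ →* D.Hbar σ :=
  (D.pH σ).comp (D.jΦ.codRestrict (D.Cf σ) fun τ => D.f_mem_cf σ τ)

theorem phib_apply (D : Data G) (σ τ : D.Φ) :
    D.phib σ τ = D.pH σ ⟨D.jΦ τ, D.f_mem_cf σ τ⟩ := rfl

theorem jL_mem_zpowers (D : Data G) (σ : D.Φ) {l : PSL2 D.F} (h : D.jL l ∈ zpowers (D.jΦ σ)) : l = 1 := by
  obtain ⟨k, hk⟩ := mem_zpowers_iff.1 h
  refine (D.prod_unique (l' := 1) (σ := 1) (σ' := σ ^ k) ?_).1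
  rw [map_one, map_one, mul_one, one_mul, map_zpow, hk]

theorem lam_injective (D : Data G) (σ : D.Φ) : Function.Injective (D.lam σ) := by
  refine (injective_iff_map_eq_one _).2 fun l hl => ?_
  rw [lam_apply, D.pH_eq_one] at hl
  exact Subtype.ext (D.jL_mem_zpowers σ hl)

theorem tb_comm_lam (D : Data G) (σ : D.Φ) (l : fixed (σ : D.F ≃+* D.F)) :
    D.tb σ * D.lam σ l = D.lam σ l * D.tb σ := by
  rw [lam_apply, ← map_mul, ← map_mul]
  exact congrArg (D.pH σ) (Subtype.ext (D.t_jL _))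

theorem lam_mem_cen (D : Data G) (σ : D.Φ) (l : fixed (σ : D.F ≃+* D.F)) :
    D.lam σ l ∈ cen (D.tb σ) := mem_centralizer_singleton_iff.2 (D.tb_comm_lam σ l).symm

theorem tb_sq (D : Data G) (σ : D.Φ) : D.tb σ * D.tb σ = 1 := by
  rw [← map_mul, show D.tH σ * D.tH σ = 1 from Subtype.ext D.t_sq, map_one]

theorem tb_ne (D : Data G) (σ : D.Φ) : D.tb σ ≠ 1 := Invol.ne_one (D.t_order_bar σ)

theorem tb_mul_lam_ne (D : Data G) (σ : D.Φ) (l : fixed (σ : D.F ≃+* D.F)) : D.tb σ * D.lam σ l ≠ 1 := by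
  intro h
  rw [lam_apply, ← map_mul, D.pH_eq_one] at h
  have h' : D.t * D.jL l ∈ D.X := zpowers_le.2 (D.jΦ_mem σ) h
  exact D.t_notMem ((mul_mem_cancel_right (D.jL_mem _)).1 h')

theorem pH_mem_split (D : Data G) {σ : D.Φ} {x : D.Hbar σ} (hx : x ∈ cen (D.tb σ)) :
    ∃ a : D.Hbar σ, (a = 1 ∨ a = D.tb σ) ∧
      ∃ (l : fixed (σ : D.F ≃+* D.F)) (τ : D.Φ), x = a * (D.lam σ l * D.phib σ τ) := by
  rw [Walter8.cen, D.cen_tbar] at hx
  obtain ⟨y, hy, rfl⟩ := hx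
  have hyt : (y : G) ∈ cen D.t :=
    mem_centralizer_singleton_iff.2 (congrArg Subtype.val (mem_centralizer_singleton_iff.1 hy))
  obtain ⟨a, ha, l, hl, τ, he⟩ := D.exists_decomp hyt y.2
  rcases ha with rfl | rfl
  · refine ⟨1, Or.inl rfl, ⟨l, hl⟩, τ, ?_⟩
    rw [one_mul, lam_apply, phib_apply, ← map_mul]
    exact congrArg (D.pH σ) (Subtype.ext (he.trans (one_mul _)))
  · refine ⟨_, Or.inr rfl, ⟨l, hl⟩, τ, ?_⟩
    rw [lam_apply, phib_apply, ← map_mul, ← map_mul]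
    exact congrArg (D.pH σ) (Subtype.ext he)

/-- Only `t` centralises `L ∩ C(f)` in the centraliser of `t`. -/
theorem cent_lam (D : Data G) {σ : D.Φ} {x : D.Hbar σ} (hx : x ∈ cen (D.tb σ))
    (h : ∀ z, x * D.lam σ z = D.lam σ z * x) : x = 1 ∨ x = D.tb σ := by
  obtain ⟨a, ha, l, τ, rfl⟩ := D.pH_mem_split hx
  have hac : ∀ z, a * D.lam σ z = D.lam σ z * a := by
    rcases ha with rfl | rfl
    · exact fun z => by rw [one_mul, mul_one]
    · exact D.tb_comm_lam σ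
  have hy : ∀ z : fixed (σ : D.F ≃+* D.F),
      (l : PSL2 D.F) * semi 1 (τ : D.F ≃+* D.F) (z : PSL2 D.F) * (l : PSL2 D.F)⁻¹ = z := by
    intro z
    have h1 : D.lam σ l * D.phib σ τ * D.lam σ z = D.lam σ z * (D.lam σ l * D.phib σ τ) :=
      mul_left_cancel (a := a) (by rw [← mul_assoc, h z, ← mul_assoc, ← hac z, mul_assoc])
    have h2 : D.lam σ l * D.phib σ τ * D.lam σ z * (D.lam σ l * D.phib σ τ)⁻¹ * (D.lam σ z)⁻¹ = 1 := by
      rw [h1]; group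
    simp only [lam_apply, phib_apply, ← map_mul, ← map_inv, D.pH_eq_one] at h2
    refine mul_inv_eq_one.1 (D.jL_mem_zpowers σ ?_)
    have e : D.jL ((l : PSL2 D.F) * semi 1 (τ : D.F ≃+* D.F) (z : PSL2 D.F) * (l : PSL2 D.F)⁻¹ *
        (z : PSL2 D.F)⁻¹) =
        D.jL l * D.jΦ τ * D.jL z * (D.jL l * D.jΦ τ)⁻¹ * (D.jL z)⁻¹ := by
      simp only [map_mul, map_inv, ← D.jconj τ]
      group
    rw [e]; exact h2
  obtain ⟨hl, hfix⟩ := cent_fixed fun z hz => hy ⟨z, hz⟩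
  obtain ⟨k, hk⟩ := mem_zpowers_iff.1 (mem_zpowers_of_fix hfix)
  have hτ : D.phib σ τ = 1 := by
    rw [phib_apply, D.pH_eq_one]
    exact mem_zpowers_iff.2 ⟨k, by
      rw [← map_zpow]
      exact congrArg D.jΦ (Subtype.ext ((SubgroupClass.coe_zpow σ k).trans hk))⟩
  rw [show l = 1 from Subtype.ext hl, map_one, hτ, mul_one, mul_one]
  exact ha

private theorem comm_reduce {M : Type*} [Group M] {a b y y' : M} (h1 : a * y = y * a) (h2 : a * y' = y' * a)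
    (h3 : b * y = y * b) (h4 : b * y' = y' * b) (h5 : a * b = b * a) :
    ⁅a * y, b * y'⁆ = ⁅y, y'⁆ := by
  have e1 : a * y * (b * y') = a * b * (y * y') := by
    rw [mul_assoc, ← mul_assoc y, ← h3, mul_assoc b, ← mul_assoc a]
  have e2 : b * y' * (a * y) = a * b * (y' * y) := by
    rw [mul_assoc, ← mul_assoc y', ← h2, mul_assoc a, ← mul_assoc b, ← h5]
  rw [commutatorElement_def, commutatorElement_def,
    show a * y * (b * y') * (a * y)⁻¹ * (b * y')⁻¹ = a * y * (b * y') * (b * y' * (a * y))⁻¹ by group, e1, e2]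
  have h6 : Commute (a * b) (y * y') :=
    ((show Commute a y from h1).mul_left h3).mul_right ((show Commute a y' from h2).mul_left h4)
  have h7 : Commute (a * b) (y' * y) :=
    ((show Commute a y' from h2).mul_left h4).mul_right ((show Commute a y from h1).mul_left h3)
  rw [mul_inv_rev, mul_assoc, ← mul_assoc (y * y'), ← mul_assoc (a * b),
    (h6.mul_right h7.inv_right).eq, mul_inv_cancel_right]
  group

/-- The derived group of the centraliser of `t` lies in `L ∩ C(f)`. -/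
theorem commutator_cen (D : Data G) {σ : D.Φ} {x x' : D.Hbar σ} (hx : x ∈ cen (D.tb σ))
    (hx' : x' ∈ cen (D.tb σ)) : ⁅x, x'⁆ ∈ (D.lam σ).range := by
  obtain ⟨a, ha, l, τ, rfl⟩ := D.pH_mem_split hx
  obtain ⟨a', ha', l', τ', rfl⟩ := D.pH_mem_split hx'
  have hc : ∀ b, (b = 1 ∨ b = D.tb σ) → ∀ l τ, b * (D.lam σ l * D.phib σ τ) = D.lam σ l * D.phib σ τ * b := by
    rintro b (rfl | rfl) l τ
    · rw [one_mul, mul_one]
    · rw [lam_apply, phib_apply, ← map_mul, ← map_mul, ← map_mul]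
      exact congrArg (D.pH σ) (Subtype.ext (D.X_comm (mul_mem (D.jL_mem _) (D.jΦ_mem τ))).symm)
  have hab : a * a' = a' * a := by rcases ha with rfl | rfl <;> rcases ha' with rfl | rfl <;> simp
  rw [comm_reduce (hc a ha l τ) (hc a ha l' τ') (hc a' ha' l τ) (hc a' ha' l' τ') hab]
  let A : D.X := ⟨D.jL l * D.jΦ τ, mul_mem (D.jL_mem _) (D.jΦ_mem τ)⟩
  let B : D.X := ⟨D.jL l' * D.jΦ τ', mul_mem (D.jL_mem _) (D.jΦ_mem τ')⟩
  have hpr : D.pr ⁅A, B⁆ = 1 := by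
    rw [map_commutatorElement, commutatorElement_eq_one_iff_mul_comm]
    exact D.Φ_comm _ _
  obtain ⟨m, hm⟩ := D.eq_jL_of_pr hpr
  let A' : D.Cf σ := ⟨D.jL l, D.jL_mem_cf l.2⟩ * ⟨D.jΦ τ, D.f_mem_cf σ τ⟩
  let B' : D.Cf σ := ⟨D.jL l', D.jL_mem_cf l'.2⟩ * ⟨D.jΦ τ', D.f_mem_cf σ τ'⟩
  have hco : ((⁅A', B'⁆ : D.Cf σ) : G) = D.jL m := hm
  have hmf : m ∈ fixed (σ : D.F ≃+* D.F) :=
    (D.mem_cf_iff σ 1 m).1 (by rw [map_one, mul_one, ← hco]; exact Subtype.coe_prop _)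
  refine ⟨⟨m, hmf⟩, ?_⟩
  rw [lam_apply, lam_apply, lam_apply, phib_apply, phib_apply, ← map_mul, ← map_mul,
    ← map_commutatorElement]
  exact congrArg (D.pH σ) (Subtype.ext hco.symm)

/-- `L ∩ C(f)` is simple unless the fixed field has three elements. -/
theorem fixed_simple (D : Data G) {σ : D.Φ} (h5 : 5 ≤ D.qfix σ) :
    IsSimpleGroup (fixed (σ : D.F ≃+* D.F)) := by
  obtain ⟨K, _, _, hK, -, -, -, ⟨e⟩⟩ := D.qfix_spec σ
  haveI : IsSimpleGroup (PSL2 K) := Matrix.ProjectiveSpecialLinearGroup.rank_two_simple (by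
    rw [Nat.card_eq_fintype_card]; omega)
  exact e.isSimpleGroup

theorem fixed_not_comm (D : Data G) (σ : D.Φ) :
    ⟨D.y, D.fixed_y σ⟩ * ⟨D.s, D.fixed_s σ⟩ ≠ (⟨D.s, D.fixed_s σ⟩ : fixed (σ : D.F ≃+* D.F)) *
      ⟨D.y, D.fixed_y σ⟩ := by
  intro h
  have h' : D.y * D.s = D.s * D.y := congrArg Subtype.val h
  exact D.i_ne_s (by rw [← D.y_s, h', mul_inv_cancel_right])

/-- A subgroup normalised by `L ∩ C(f)` containing `s` contains it. -/
theorem lam_range_le (D : Data G) {σ : D.Φ} (h5 : 5 ≤ D.qfix σ) {A : Subgroup (D.Hbar σ)}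
    (hn : ∀ l, ∀ x ∈ A, D.lam σ l * x * (D.lam σ l)⁻¹ ∈ A) (hs : D.lam σ ⟨D.s, D.fixed_s σ⟩ ∈ A) :
    (D.lam σ).range ≤ A := by
  haveI := D.fixed_simple h5
  have hN : (A.comap (D.lam σ)).Normal := ⟨fun x hx l => by
    rw [mem_comap, map_mul, map_mul, map_inv]; exact hn l _ hx⟩
  rcases hN.eq_bot_or_eq_top with h | h
  · have hs' : (⟨D.s, D.fixed_s σ⟩ : fixed (σ : D.F ≃+* D.F)) ∈ A.comap (D.lam σ) := hs
    rw [h, mem_bot] at hs'
    exact absurd (congrArg Subtype.val hs') D.s_ne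
  · rintro _ ⟨l, rfl⟩
    have : l ∈ A.comap (D.lam σ) := h ▸ mem_top l
    exact this

/-- The socle of `C(f) ⧸ ⟨f⟩`. -/
structure IsSoc (D : Data G) (σ : D.Φ) (E : Subgroup (D.Hbar σ)) : Prop where
  normal : E.Normal
  simple : IsSimpleGroup E
  invol : ∀ x : D.Hbar σ, orderOf x = 2 → x ∈ E
  lam_le : (D.lam σ).range ≤ E

/-- The socle exists. -/
theorem exists_soc (D : Data G) {σ : D.Φ} (h5 : 5 ≤ D.qfix σ) : ∃ E, D.IsSoc σ E := by
  classical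
  haveI : Fact (Nat.Prime 2) := ⟨Nat.prime_two⟩
  set ls := D.lam σ ⟨D.s, D.fixed_s σ⟩ with hls
  have hls1 : ls ≠ 1 := fun h =>
    D.s_ne (congrArg Subtype.val (D.lam_injective σ (h.trans (map_one _).symm)))
  have hls2 : orderOf ls = 2 := Invol.order_two_of_sq (by
    rw [hls, ← map_mul, ← map_one (D.lam σ)]; exact congrArg (D.lam σ) (Subtype.ext D.s_sq)) hls1
  have hts2 : orderOf (D.tb σ * ls) = 2 := Invol.order_two_of_sq (by
    rw [mul_assoc, ← mul_assoc ls, hls, ← D.tb_comm_lam σ, mul_assoc (D.tb σ) (D.lam σ _), ← map_mul,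
      show (⟨D.s, D.fixed_s σ⟩ * ⟨D.s, D.fixed_s σ⟩ : fixed (σ : D.F ≃+* D.F)) = 1 from Subtype.ext D.s_sq,
      map_one, mul_one, D.tb_sq σ]) (D.tb_mul_lam_ne σ _)
  -- a minimal normal subgroup
  have hex : ∃ n, ∃ E : Subgroup (D.Hbar σ), E.Normal ∧ E ≠ ⊥ ∧ Nat.card E = n :=
    ⟨_, ⊤, inferInstance, fun h => D.tb_ne σ (mem_bot.1 (h ▸ mem_top _)), rfl⟩
  obtain ⟨E, hEn, hE1, hEc⟩ := Nat.find_spec hex
  have hEmin : ∀ A : Subgroup (D.Hbar σ), A.Normal → A ≠ ⊥ → Nat.card E ≤ Nat.card A :=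
    fun A h1 h2 => hEc ▸ Nat.find_min' hex ⟨A, h1, h2, rfl⟩
  haveI := hEn
  have hexK : ∃ n, ∃ K : Subgroup (D.Hbar σ), K ≤ E ∧ K ≠ ⊥ ∧
      (∀ e ∈ E, ∀ x ∈ K, e * x * e⁻¹ ∈ K) ∧ Nat.card K = n :=
    ⟨_, E, le_rfl, hE1, fun e he x hx => mul_mem (mul_mem he hx) (inv_mem he), rfl⟩
  obtain ⟨K, hKE, hK1, hKn, hKc⟩ := Nat.find_spec hexK
  -- its minimality
  let P : Subgroup (D.Hbar σ) → Prop := fun A =>
    A ≤ E ∧ (∀ e ∈ E, ∀ x ∈ A, e * x * e⁻¹ ∈ A)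
  have hmin : ∀ A, P A → A ≠ ⊥ → Nat.card K ≤ Nat.card A :=
    fun A h1 h2 => hKc ▸ Nat.find_min' hexK ⟨A, h1.1, h2, h1.2, rfl⟩
  -- the conjugates
  let Kc : D.Hbar σ → Subgroup (D.Hbar σ) := fun g => K.map (MulAut.conj g).toMonoidHom
  have hKcP : ∀ g, P (Kc g) := by
    refine fun g => ⟨?_, ?_⟩
    · rintro _ ⟨x, hx, rfl⟩
      exact hEn.conj_mem x (hKE hx) g
    · rintro e he _ ⟨x, hx, rfl⟩
      refine ⟨g⁻¹ * e * g * x * (g⁻¹ * e * g)⁻¹, hKn _ ?_ x hx, ?_⟩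
      · have := hEn.conj_mem e he g⁻¹
        rwa [inv_inv] at this
      · show g * (g⁻¹ * e * g * x * (g⁻¹ * e * g)⁻¹) * g⁻¹ = e * (g * x * g⁻¹) * e⁻¹
        group
  have hKcard : ∀ g, Nat.card (Kc g) = Nat.card K := fun g =>
    card_map_of_injective (MulAut.conj g).injective
  have hmeet : ∀ g h, Kc g ⊓ Kc h ≠ ⊥ → Kc g = Kc h := by
    intro g h hne
    have hP : P (Kc g ⊓ Kc h) := ⟨inf_le_left.trans (hKcP g).1, fun e he x hx =>
      ⟨(hKcP g).2 e he x hx.1, (hKcP h).2 e he x hx.2⟩⟩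
    have hc := hmin _ hP hne
    rw [← eq_of_le_of_card_ge (inf_le_left : Kc g ⊓ Kc h ≤ Kc g) (by rw [hKcard]; exact hc),
      eq_of_le_of_card_ge (inf_le_right : Kc g ⊓ Kc h ≤ Kc h) (by rw [hKcard]; exact hc)]
  have hcomm : ∀ g h, Kc g ≠ Kc h → ∀ x ∈ Kc g, ∀ y ∈ Kc h, x * y = y * x := by
    intro g h hne x hx y hy
    have hb : Kc g ⊓ Kc h = ⊥ := not_not.1 fun h' => hne (hmeet g h h')
    have hm : x * y * x⁻¹ * y⁻¹ ∈ Kc g ⊓ Kc h := by
      refine ⟨?_, (Kc h).mul_mem ((hKcP h).2 x ((hKcP g).1 hx) y hy) ((Kc h).inv_mem hy)⟩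
      rw [show x * y * x⁻¹ * y⁻¹ = x * (y * x⁻¹ * y⁻¹) by group]
      exact (Kc g).mul_mem hx ((hKcP g).2 y ((hKcP h).1 hy) _ ((Kc g).inv_mem hx))
    rw [hb, mem_bot, mul_inv_eq_one, mul_inv_eq_iff_eq_mul] at hm
    exact hm
  -- an involution in `K`
  obtain ⟨x₀, hx₀, hx₀2⟩ : ∃ x ∈ K, orderOf x = 2 := by
    by_contra hno
    push Not at hno
    have hodd : Odd (Nat.card K) := SEBrick.odd_card_of_orders hno
    haveI hKnE : (K.subgroupOf E).Normal := ⟨fun x hx e => hKn e e.2 x hx⟩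
    let O := Cfsg.pPrimeCore 2 E
    haveI : O.Characteristic := PBasic.pPrimeCore_characteristic 2 E
    have hKO : K.subgroupOf E ≤ O := PBasic.le_pPrimeCore hKnE (by
      rw [Nat.card_congr (subgroupOfEquivOfLe hKE).toEquiv]; exact Nat.coprime_two_right.2 hodd)
    have hO : O.map E.subtype = ⊥ := D.hbar_odd_normal σ inferInstance (by
      rw [card_map_of_injective E.subtype_injective]
      exact Nat.coprime_two_right.1 (PBasic.pPrimeCore_coprime 2 E))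
    refine hK1 ((eq_bot_iff_forall _).2 fun x hx => ?_)
    have hm : x ∈ O.map E.subtype := ⟨⟨x, hKE hx⟩, hKO hx, rfl⟩
    rwa [hO, mem_bot] at hm
  have hin : ∀ x, orderOf x = 2 → ∃ g, x ∈ Kc g := by
    intro x hx
    obtain ⟨g, rfl⟩ := D.one_class_bar σ hx
    obtain ⟨h, hh⟩ := D.one_class_bar σ hx₀2
    refine ⟨g * h⁻¹, x₀, hx₀, ?_⟩
    show g * h⁻¹ * x₀ * (g * h⁻¹)⁻¹ = _
    rw [← hh]; group
  have hinE : ∀ x, orderOf x = 2 → x ∈ E := fun x hx => by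
    obtain ⟨g, hg⟩ := hin x hx; exact (hKcP g).1 hg
  have hlamE : (D.lam σ).range ≤ E :=
    D.lam_range_le h5 (fun l x hx => hEn.conj_mem x hx _) (hinE _ hls2)
  obtain ⟨g0, ht0⟩ := hin _ (D.t_order_bar σ)
  obtain ⟨g1, hs1⟩ := hin ls hls2
  obtain ⟨g2, hu2⟩ := hin _ hts2
  have hlamA : ∀ g, ls ∈ Kc g → (D.lam σ).range ≤ Kc g := fun g hg =>
    D.lam_range_le h5 (fun l x hx => (hKcP g).2 _ (hlamE ⟨l, rfl⟩) x hx) hg
  -- `t` and `L ∩ C(f)` lie in one conjugate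
  have h01 : Kc g0 = Kc g1 := by
    by_contra hne
    have h20 : Kc g2 ≠ Kc g1 := fun h => hne (hmeet g0 g1 fun hb => D.tb_ne σ (mem_bot.1 (hb ▸ ⟨ht0, by
      have hm : D.tb σ * ls * ls⁻¹ ∈ Kc g1 := mul_mem (h ▸ hu2) (inv_mem hs1)
      rwa [mul_inv_cancel_right] at hm⟩)))
    have hcent : ∀ y ∈ Kc g1, ls * y = y * ls := by
      intro y hy
      have h1 : Commute (D.tb σ) y := hcomm g0 g1 hne _ ht0 y hy
      have h2 : Commute (D.tb σ * ls) y := hcomm g2 g1 h20 _ hu2 y hy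
      rw [show ls = (D.tb σ)⁻¹ * (D.tb σ * ls) by group]
      exact (h1.inv_left.mul_left h2).eq
    have := hcent _ (hlamA g1 hs1 ⟨⟨D.y, D.fixed_y σ⟩, rfl⟩)
    rw [hls, ← map_mul, ← map_mul] at this
    exact D.fixed_not_comm σ (D.lam_injective σ this).symm
  have hlam0 := hlamA g0 (h01 ▸ hs1)
  -- so that it is normal
  have hnorm : ∀ g, Kc g = Kc g0 := by
    intro g
    by_contra hne
    refine hK1 ((eq_bot_iff_forall _).2 fun x hx => ?_)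
    have hb : Kc g ⊓ Kc g0 = ⊥ := not_not.1 fun h' => hne (hmeet g g0 h')
    have hm : g * x * g⁻¹ ∈ Kc g := ⟨x, hx, rfl⟩
    have hc := hcomm g g0 hne _ hm
    rcases D.cent_lam (mem_centralizer_singleton_iff.2 (hc _ ht0)) fun z => hc _ (hlam0 ⟨z, rfl⟩) with h | h
    · exact conj_eq_one_iff.1 h
    · exact absurd (mem_bot.1 (hb ▸ ⟨h ▸ hm, ht0⟩)) (D.tb_ne σ)
  have hK0n : (Kc g0).Normal := ⟨fun x hx g => by
    obtain ⟨w, hw, rfl⟩ := hx
    rw [← hnorm (g * g0)]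
    refine ⟨w, hw, ?_⟩
    show g * g0 * w * (g * g0)⁻¹ = g * (g0 * w * g0⁻¹) * g⁻¹
    group⟩
  have hcardE : Nat.card E = Nat.card K := by
    refine le_antisymm ?_ (card_le_of_le hKE)
    rw [← hKcard g0]
    exact hEmin _ hK0n fun h => D.tb_ne σ (mem_bot.1 (h ▸ ht0))
  refine ⟨E, hEn, ?_, hinE, hlamE⟩
  haveI : Nontrivial E := (nontrivial_iff_ne_bot E).2 hE1
  refine IsSimpleGroup.mk fun N hN => ?_
  by_cases hN1 : N = ⊥
  · exact Or.inl hN1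
  refine Or.inr (eq_top_of_card_eq N (le_antisymm (card_le_card_group N) ?_))
  rw [hcardE]
  refine (hmin (N.map E.subtype) ⟨map_subtype_le N, ?_⟩
    (by rwa [Ne, map_eq_bot_iff_of_injective _ E.subtype_injective])).trans_eq
    (card_map_of_injective E.subtype_injective)
  rintro e he _ ⟨x, hx, rfl⟩
  exact ⟨_, hN.conj_mem x hx ⟨e, he⟩, rfl⟩

end Data

end Cfsg.Agent.NoField
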