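import Cfsg.Agent.Lib.NoField.CPhiSimple
import Cfsg.Agent.Lib.Walter8.Main
import Cfsg.Agent.Lib.Walter8.Plane

/-!
The socle of `C(f) ⧸ ⟨f⟩`: the centraliser of `t` there is `2 × PSL₂(q₁)`, and its order.
-/

set_option autoImplicit false
set_option linter.style.haveILetI false
set_option linter.unusedSectionVars false

namespace Cfsg.Agent.NoField

open Subgroup Cfsg.Agent.AutPSL
open Cfsg.Agent.Walter8 (cen Eight LType)
open Cfsg.Agent.ClosedAbelian (core)
open Cfsg.Agent.JanThom (C2 c2 C2_cases c2_ne card_C2)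
open scoped commutatorElement

universe u

variable {G : Type u} [Group G] [Finite G]

namespace Data

/-- The image of `S` in `C(f) ⧸ ⟨f⟩`. -/
def Sbar (D : Data G) (σ : D.Φ) : Subgroup (D.Hbar σ) := (D.S.subgroupOf (D.Cf σ)).map (D.pH σ)

theorem mem_Sbar (D : Data G) (σ : D.Φ) {a : G} (ha : a ∈ D.S) :
    D.pH σ ⟨a, D.S_le_Cf σ ha⟩ ∈ D.Sbar σ :=
  ⟨⟨a, D.S_le_Cf σ ha⟩, (show (⟨a, D.S_le_Cf σ ha⟩ : D.Cf σ) ∈ D.S.subgroupOf (D.Cf σ) from ha), rfl⟩

theorem tb_mem_Sbar (D : Data G) (σ : D.Φ) : D.tb σ ∈ D.Sbar σ := D.mem_Sbar σ D.t_mem_S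

theorem lam_s_mem_Sbar (D : Data G) (σ : D.Φ) : D.lam σ ⟨D.s, D.fixed_s σ⟩ ∈ D.Sbar σ :=
  D.mem_Sbar σ D.s_mem_S

theorem lam_i_mem_Sbar (D : Data G) (σ : D.Φ) : D.lam σ ⟨D.i, D.fixed_i σ⟩ ∈ D.Sbar σ :=
  D.mem_Sbar σ D.i_mem_S

theorem Sbar_sq (D : Data G) (σ : D.Φ) {x : D.Hbar σ} (hx : x ∈ D.Sbar σ) : x * x = 1 := by
  obtain ⟨a, ha, rfl⟩ := hx
  rw [← map_mul, show a * a = 1 from Subtype.ext (D.S_sq (mem_subgroupOf.1 ha)), map_one]

theorem card_Sbar (D : Data G) (σ : D.Φ) : Nat.card (D.Sbar σ) = 8 := by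
  rw [← D.card_S, ← Nat.card_congr (subgroupOfEquivOfLe (D.S_le_Cf σ)).toEquiv]
  let f : D.S.subgroupOf (D.Cf σ) →* D.Sbar σ := (D.pH σ).subgroupMap _
  refine (Nat.card_eq_of_bijective f ⟨?_, (D.pH σ).subgroupMap_surjective _⟩).symm
  refine (injective_iff_map_eq_one f).2 fun a ha => ?_
  have h1 : (a : G) ∈ zpowers (D.jΦ σ) := (D.pH_eq_one σ).1 (congrArg Subtype.val ha)
  have h2 : Odd (orderOf (a : G)) := (D.jΦ_odd σ).of_dvd_nat (orderOf_dvd_of_mem_zpowers h1)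
  by_contra hne
  rw [D.S_order (mem_subgroupOf.1 a.2) fun h => hne (Subtype.ext (Subtype.ext h))] at h2
  exact absurd h2 (by decide)

theorem card_Hbar (D : Data G) (σ : D.Φ) : Nat.card (D.Hbar σ) * orderOf σ = Nat.card (D.Cf σ) := by
  rw [← D.orderOf_jΦ σ, ← Nat.card_zpowers,
    ← Nat.card_congr (subgroupOfEquivOfLe (zpowers_le.2 (D.f_mem_cf σ σ))).toEquiv]
  exact ((D.fsub σ).card_eq_card_quotient_mul_card_subgroup).symm

theorem not_sixteen_bar (D : Data G) (σ : D.Φ) : ¬ 16 ∣ Nat.card (D.Hbar σ) := fun h =>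
  D.sixteen (h.trans ((Dvd.intro _ (D.card_Hbar σ)).trans (card_subgroup_dvd_card _)))

namespace IsSoc

variable {D : Data G} {σ : D.Φ} {E : Subgroup (D.Hbar σ)}

/-- The image of `t`, in the socle. -/
def tE (hE : D.IsSoc σ E) : E := ⟨D.tb σ, hE.invol _ (D.t_order_bar σ)⟩

/-- `L ∩ C(f)`, in the socle. -/
def lamE (hE : D.IsSoc σ E) : fixed (σ : D.F ≃+* D.F) →* E :=
  (D.lam σ).codRestrict E fun l => hE.lam_le ⟨l, rfl⟩

theorem lamE_injective (hE : D.IsSoc σ E) : Function.Injective hE.lamE :=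
  fun _ _ h => D.lam_injective σ (congrArg Subtype.val h)

theorem tE_order (hE : D.IsSoc σ E) : orderOf hE.tE = 2 := by
  rw [← Subgroup.orderOf_coe]; exact D.t_order_bar σ

theorem lamE_mem_cen (hE : D.IsSoc σ E) (l : fixed (σ : D.F ≃+* D.F)) : hE.lamE l ∈ cen hE.tE :=
  mem_centralizer_singleton_iff.2 (Subtype.ext (D.tb_comm_lam σ l).symm)

theorem Sbar_le (hE : D.IsSoc σ E) : D.Sbar σ ≤ E := fun x hx => by
  by_cases h : x = 1
  · rw [h]; exact one_mem _
  · exact hE.invol x (Invol.order_two_of_sq (D.Sbar_sq σ hx) h)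

theorem lamE_not_comm (hE : D.IsSoc σ E) :
    hE.lamE ⟨D.y, D.fixed_y σ⟩ * hE.lamE ⟨D.s, D.fixed_s σ⟩ ≠
      hE.lamE ⟨D.s, D.fixed_s σ⟩ * hE.lamE ⟨D.y, D.fixed_y σ⟩ := by
  rw [← map_mul, ← map_mul]
  exact fun h => D.fixed_not_comm σ (hE.lamE_injective h)

theorem not_comm (hE : D.IsSoc σ E) : ¬ IsMulCommutative E := fun h =>
  hE.lamE_not_comm (h.is_comm.comm _ _)

/-- The socle is smaller than `G`. -/
theorem card_lt (_hE : D.IsSoc σ E) (hσ : σ ≠ 1) : Nat.card E < Nat.card G := by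
  refine (Nat.le_of_dvd Nat.card_pos (card_subgroup_dvd_card E)).trans_lt ?_
  refine Nat.lt_of_lt_of_le ?_ ((D.card_Hbar σ).trans_le (card_le_card_group (D.Cf σ)))
  refine lt_mul_of_one_lt_right Nat.card_pos ?_
  have h1 : orderOf σ ≠ 1 := fun h => hσ (orderOf_eq_one_iff.1 h)
  have h2 := orderOf_pos σ
  omega

/-- The socle satisfies the hypotheses of the order eight theorem. -/
theorem exists_sylow (hE : D.IsSoc σ E) (h5 : 5 ≤ D.qfix σ) :
    ∃ T : Sylow 2 E, (T : Subgroup E) = (D.Sbar σ).subgroupOf E ∧ Eight (T : Subgroup E) ∧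
      LType (T : Subgroup E) ∧ ∀ a ∈ (T : Subgroup E), a ≠ 1 → core (cen a) = ⊥ := by
  classical
  haveI : Fact (Nat.Prime 2) := ⟨Nat.prime_two⟩
  haveI := hE.simple
  haveI := D.fixed_simple h5
  have h16 : ¬ 16 ∣ Nat.card E := fun h => D.not_sixteen_bar σ (h.trans (card_subgroup_dvd_card E))
  have hc8 : Nat.card ((D.Sbar σ).subgroupOf E) = 8 := by
    rw [Nat.card_congr (subgroupOfEquivOfLe hE.Sbar_le).toEquiv, D.card_Sbar]
  have hf : (Nat.card E).factorization 2 = 3 := by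
    refine le_antisymm ?_ ((Nat.prime_two.pow_dvd_iff_le_factorization Nat.card_pos.ne').1
      (hc8 ▸ card_subgroup_dvd_card ((D.Sbar σ).subgroupOf E) : 8 ∣ Nat.card E))
    by_contra h
    exact h16 ((pow_dvd_pow 2 (by omega : 4 ≤ _)).trans (Nat.ordProj_dvd _ _))
  let T : Sylow 2 E := Sylow.ofCard ((D.Sbar σ).subgroupOf E) (by rw [hc8, hf]; norm_num)
  have hT : Nat.card (T : Subgroup E) = 8 := hc8
  have hsq : ∀ x ∈ (T : Subgroup E), x * x = 1 := fun x hx =>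
    Subtype.ext (D.Sbar_sq σ (mem_subgroupOf.1 hx))
  rcases Ord3640.eight_cases hE.not_comm T hT with ⟨⟨e⟩⟩ | ⟨hab, -, -, htr⟩
  · exfalso
    have h := congrArg e (Subtype.ext (hsq _ (e.symm (DihedralGroup.r 1)).2) :
      e.symm (DihedralGroup.r 1) * e.symm (DihedralGroup.r 1) = 1)
    rw [map_mul, e.apply_symm_apply, map_one] at h
    exact absurd h (by decide)
  have htT : hE.tE ∈ (T : Subgroup E) := mem_subgroupOf.2 (D.tb_mem_Sbar σ)
  have ht1 : hE.tE ≠ 1 := Invol.ne_one hE.tE_order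
  have hsT : hE.lamE ⟨D.s, D.fixed_s σ⟩ ∈ (T : Subgroup E) := mem_subgroupOf.2 (D.lam_s_mem_Sbar σ)
  have hiT : hE.lamE ⟨D.i, D.fixed_i σ⟩ ∈ (T : Subgroup E) := mem_subgroupOf.2 (D.lam_i_mem_Sbar σ)
  set ly := hE.lamE ⟨D.y, D.fixed_y σ⟩ with hly
  have hmt : ly * hE.tE = hE.tE * ly := mem_centralizer_singleton_iff.1 (hE.lamE_mem_cen _)
  have hys : ly * hE.lamE ⟨D.s, D.fixed_s σ⟩ * ly⁻¹ = hE.lamE ⟨D.i, D.fixed_i σ⟩ := by
    rw [hly, ← map_inv, ← map_mul, ← map_mul]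
    exact congrArg hE.lamE (Subtype.ext D.y_s)
  have hyN : ly ∈ normalizer ((T : Subgroup E) : Set E) := by
    refine SEBrick.mem_normalizer_of fun x hx => mem_subgroupOf.2 ?_
    obtain ⟨a, ha, hax⟩ := mem_subgroupOf.1 hx
    refine ⟨⟨D.jL D.y, D.jL_mem_cf (D.fixed_y σ)⟩ * a * ⟨D.jL D.y, D.jL_mem_cf (D.fixed_y σ)⟩⁻¹, ?_, ?_⟩
    · exact (mem_normalizer_iff.1 D.y_mem_normalizer _).1 ha
    · rw [map_mul, map_mul, map_inv, hax]; rfl
  have hyC : ly ∉ centralizer ((T : Subgroup E) : Set E) := fun h => by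
    have e := mem_centralizer_iff.1 h _ hsT
    rw [← e, mul_inv_cancel_right] at hys
    exact D.i_ne_s (congrArg Subtype.val (hE.lamE_injective hys)).symm
  have hmove : ∀ a ∈ (T : Subgroup E), a ≠ 1 →
      ∃ n ∈ normalizer ((T : Subgroup E) : Set E), n * hE.tE * n⁻¹ = a := fun a ha ha1 =>
    htr _ htT a ha ht1 ha1
  have hns : ∀ a ∈ (T : Subgroup E), a ≠ 1 → ¬ Group.IsSolvable (cen a) := by
    intro a ha ha1 hs
    obtain ⟨n, -, rfl⟩ := hmove a ha ha1
    let f : fixed (σ : D.F ≃+* D.F) →* cen (n * hE.tE * n⁻¹) :=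
      ((MulAut.conj n).toMonoidHom.comp hE.lamE).codRestrict _ fun l => by
        refine mem_centralizer_singleton_iff.2 ?_
        show n * hE.lamE l * n⁻¹ * (n * hE.tE * n⁻¹) = n * hE.tE * n⁻¹ * (n * hE.lamE l * n⁻¹)
        calc n * hE.lamE l * n⁻¹ * (n * hE.tE * n⁻¹) = n * (hE.lamE l * hE.tE) * n⁻¹ := by group
          _ = n * (hE.tE * hE.lamE l) * n⁻¹ := by
            rw [mem_centralizer_singleton_iff.1 (hE.lamE_mem_cen l)]
          _ = _ := by group
    have hf : Function.Injective f := fun x y h =>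
      hE.lamE_injective ((MulAut.conj n).injective (congrArg Subtype.val h))
    haveI := hs
    have hsol := Group.isSolvable_of_isSolvable_injective hf
    haveI := hsol
    have h1 := Group.IsSolvable.commutator_lt_top_of_nontrivial (fixed (σ : D.F ≃+* D.F))
    rcases (inferInstance : (commutator (fixed (σ : D.F ≃+* D.F))).Normal).eq_bot_or_eq_top with h2 | h2
    · refine D.fixed_not_comm σ ?_
      have := Subgroup.commutator_mem_commutator (Subgroup.mem_top (⟨D.y, D.fixed_y σ⟩ : fixed (σ : D.F ≃+* D.F)))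
        (Subgroup.mem_top (⟨D.s, D.fixed_s σ⟩ : fixed (σ : D.F ≃+* D.F)))
      rw [← _root_.commutator_def, h2, Subgroup.mem_bot] at this
      exact commutatorElement_eq_one_iff_mul_comm.1 this
    · exact h1.ne h2
  have hL := Walter8.lType_of_not_solvable T hT hsq hab hns
  have hE8 : Eight (T : Subgroup E) := by
    refine ⟨hT, hsq, h16, fun a ha ha1 b hb hb1 => htr a ha b hb ha1 hb1, fun a ha ha1 => ?_⟩
    obtain ⟨n, hn, rfl⟩ := hmove a ha ha1
    refine ⟨n * ly * n⁻¹, mul_mem (mul_mem hn hyN) (inv_mem hn), ?_, fun h => hyC ?_⟩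
    · calc n * ly * n⁻¹ * (n * hE.tE * n⁻¹) = n * (ly * hE.tE) * n⁻¹ := by group
        _ = n * (hE.tE * ly) * n⁻¹ := by rw [hmt]
        _ = _ := by group
    · refine mem_centralizer_iff.2 fun x hx => ?_
      have e := mem_centralizer_iff.1 h _ ((mem_normalizer_iff.1 hn x).1 hx)
      calc x * ly = n⁻¹ * (n * x * n⁻¹ * (n * ly * n⁻¹)) * n := by group
        _ = n⁻¹ * (n * ly * n⁻¹ * (n * x * n⁻¹)) * n := by rw [e]
        _ = _ := by group
  exact ⟨T, rfl, hE8, hL, Walter8.core_eq_bot hE.not_comm hE8 hL Walter8.theta SEMain.stmt⟩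

/-- The centraliser of `t` in the socle is `2 × PSL₂` of the fixed field. -/
theorem exists_iota (hE : D.IsSoc σ E) (h5 : 5 ≤ D.qfix σ) (hσ : σ ≠ 1) :
    ∃ (K : Type) (_ : Field K) (_ : Fintype K) (ek : fixed (σ : D.F ≃+* D.F) ≃* PSL2 K)
      (ι : C2 × PSL2 K →* E), Fintype.card K = D.qfix σ ∧ Odd (Fintype.card K) ∧
      (Fintype.card K % 8 = 3 ∨ Fintype.card K % 8 = 5) ∧ Function.Injective ι ∧ ι.range = cen hE.tE ∧
      ι (c2, 1) = hE.tE ∧ ∀ l, ι (1, ek l) = hE.lamE l := by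
  classical
  haveI := hE.simple
  haveI := D.fixed_simple h5
  obtain ⟨T, hTeq, hE8, hL, hcore⟩ := hE.exists_sylow h5
  have htT : hE.tE ∈ (T : Subgroup E) := hTeq ▸ mem_subgroupOf.2 (D.tb_mem_Sbar σ)
  obtain ⟨F', i1, i2, hodd', h3', ⟨e⟩⟩ :=
    D.smaller E (hE.card_lt hσ) T hE.not_comm hE8 hL hcore _ htT (Invol.ne_one hE.tE_order)
  haveI : IsSimpleGroup (PSL2 F') := Matrix.ProjectiveSpecialLinearGroup.rank_two_simple (by
    rw [Nat.card_eq_fintype_card]; omega)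
  haveI : Finite (PSL2 F') := inferInstance
  let lc : fixed (σ : D.F ≃+* D.F) →* cen hE.tE := hE.lamE.codRestrict _ hE.lamE_mem_cen
  let θ : fixed (σ : D.F ≃+* D.F) →* PSL2 F' := (MonoidHom.snd _ _).comp (e.toMonoidHom.comp lc)
  have hθ : Function.Injective θ := by
    rw [← MonoidHom.ker_eq_bot_iff]
    refine (inferInstance : θ.ker.Normal).eq_bot_or_eq_top.resolve_right fun h => ?_
    refine hE.lamE_not_comm (congrArg Subtype.val (e.injective (?_ : e (lc _ * lc _) = e (lc _ * lc _))))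
    have h1 : ∀ z, (e (lc z)).2 = 1 := fun z => MonoidHom.mem_ker.1 (h ▸ mem_top z : z ∈ θ.ker)
    rw [map_mul, map_mul]
    refine Prod.ext (mul_comm _ _) ?_
    rw [Prod.snd_mul, Prod.snd_mul, h1, h1]
  let ψ : PSL2 F' →* D.Hbar σ :=
    E.subtype.comp ((cen hE.tE).subtype.comp (e.symm.toMonoidHom.comp (MonoidHom.inr _ _)))
  have hψ : Function.Injective ψ := E.subtype_injective.comp
    ((cen hE.tE).subtype_injective.comp (e.symm.injective.comp fun a b h => congrArg Prod.snd h))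
  have hψC : ∀ a, ψ a ∈ cen (D.tb σ) := fun a =>
    mem_centralizer_singleton_iff.2 (congrArg Subtype.val (mem_centralizer_singleton_iff.1
      ((e.symm ((1 : Multiplicative (ZMod 2)), a)).2)))
  have hψr : ψ.range ≤ (D.lam σ).range := by
    have htop : commutator (PSL2 F') = ⊤ := by
      refine (inferInstance : (commutator (PSL2 F')).Normal).eq_bot_or_eq_top.resolve_left fun h => ?_
      refine D.fixed_not_comm σ (hθ ?_)
      rw [map_mul, map_mul, ← commutatorElement_eq_one_iff_mul_comm, ← Subgroup.mem_bot, ← h,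
        _root_.commutator_def]
      exact commutator_mem_commutator (mem_top _) (mem_top _)
    rw [MonoidHom.range_eq_map, ← htop, _root_.commutator_def, map_commutator, commutator_le]
    rintro _ ⟨a, -, rfl⟩ _ ⟨b, -, rfl⟩
    exact D.commutator_cen (hψC a) (hψC b)
  have hcardF : Nat.card (fixed (σ : D.F ≃+* D.F)) = Nat.card (PSL2 F') := by
    refine le_antisymm (Nat.card_le_card_of_injective θ hθ) ?_
    rw [Nat.card_congr (MonoidHom.ofInjective hψ).toEquiv,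
      Nat.card_congr (MonoidHom.ofInjective (D.lam_injective σ)).toEquiv]
    exact card_le_of_le hψr
  obtain ⟨K, k1, k2, hK, hKodd, hK8, -, ⟨ek⟩⟩ := D.qfix_spec σ
  let fa : C2 →* E :=
    { toFun := fun a => if a = 1 then 1 else hE.tE
      map_one' := if_pos rfl
      map_mul' := fun a b => by
        have h2 : hE.tE * hE.tE = 1 := Subtype.ext (D.tb_sq σ)
        rcases C2_cases a with rfl | rfl <;> rcases C2_cases b with rfl | rfl
        · simp
        · simp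
        · simp
        · rw [JanThom.c2_sq, if_pos rfl, if_neg c2_ne, h2] }
  let fb : PSL2 K →* E := hE.lamE.comp ek.symm.toMonoidHom
  have hcomm : ∀ a b, Commute (fa a) (fb b) := by
    intro a b
    rcases C2_cases a with rfl | rfl
    · rw [map_one]; exact Commute.one_left _
    · show (if c2 = 1 then 1 else hE.tE) * hE.lamE (ek.symm b) = hE.lamE (ek.symm b) * (if c2 = 1 then 1 else hE.tE)
      rw [if_neg c2_ne]
      exact (mem_centralizer_singleton_iff.1 (hE.lamE_mem_cen _)).symm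
  let ι := fa.noncommCoprod fb hcomm
  have hι : Function.Injective ι := by
    refine (injective_iff_map_eq_one _).2 fun x h => ?_
    obtain ⟨a, b⟩ := x
    have h' : fa a * fb b = 1 := h
    rcases C2_cases a with rfl | rfl
    · rw [map_one, one_mul] at h'
      have h'' : ek.symm b = 1 := hE.lamE_injective (h'.trans (map_one _).symm)
      rw [ek.symm.map_eq_one_iff] at h''
      rw [h'']; rfl
    · exfalso
      have h'' : (if c2 = 1 then 1 else hE.tE) * hE.lamE (ek.symm b) = 1 := h'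
      rw [if_neg c2_ne] at h''
      exact D.tb_mul_lam_ne σ _ (congrArg Subtype.val h'')
  have hle : ι.range ≤ cen hE.tE := by
    rintro _ ⟨⟨a, b⟩, rfl⟩
    show fa a * fb b ∈ _
    refine mul_mem ?_ (hE.lamE_mem_cen _)
    rcases C2_cases a with rfl | rfl
    · rw [map_one]; exact one_mem _
    · show (if c2 = 1 then 1 else hE.tE) ∈ _
      rw [if_neg c2_ne]
      exact mem_centralizer_singleton_iff.2 rfl
  refine ⟨K, k1, k2, ek, ι, hK, hKodd, hK8, hι, eq_of_le_of_card_ge hle (le_of_eq ?_), ?_, fun l => ?_⟩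
  · rw [Nat.card_congr e.toEquiv, Nat.card_congr (MonoidHom.ofInjective hι).toEquiv.symm, Nat.card_prod,
      Nat.card_prod, ← hcardF, Nat.card_congr ek.toEquiv]
  · show fa c2 * fb 1 = _
    rw [map_one, mul_one]
    show (if c2 = 1 then 1 else hE.tE) = hE.tE
    exact if_neg c2_ne
  · show fa 1 * fb (ek l) = _
    rw [map_one, one_mul]
    exact congrArg hE.lamE (ek.symm_apply_apply l)

/-- The involutions of the socle form one class. -/
theorem one_class (hE : D.IsSoc σ E) (h5 : 5 ≤ D.qfix σ) {x : E} (hx : orderOf x = 2) :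
    IsConj hE.tE x := by
  haveI : Fact (Nat.Prime 2) := ⟨Nat.prime_two⟩
  obtain ⟨T, hTeq, hE8, -, -⟩ := hE.exists_sylow h5
  obtain ⟨U, hU⟩ := (IsPGroup.of_card (p := 2) (n := 1)
    (by rw [Nat.card_zpowers, hx, pow_one] : Nat.card (zpowers x) = 2 ^ 1)).exists_le_sylow
  obtain ⟨g, hg⟩ := MulAction.exists_smul_eq E U T
  have hxT : g * x * g⁻¹ ∈ (T : Subgroup E) := by
    rw [← hg, Sylow.coe_subgroup_smul]
    exact ⟨x, hU (mem_zpowers x), rfl⟩
  obtain ⟨n, -, hn⟩ := hE8.trans _ (hTeq ▸ mem_subgroupOf.2 (D.tb_mem_Sbar σ) : hE.tE ∈ (T : Subgroup E))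
    (Invol.ne_one hE.tE_order) _ hxT (fun h => Invol.ne_one hx (conj_eq_one_iff.1 h))
  exact isConj_iff.2 ⟨g⁻¹ * n, by
    calc g⁻¹ * n * hE.tE * (g⁻¹ * n)⁻¹ = g⁻¹ * (n * hE.tE * n⁻¹) * g := by group
      _ = x := by rw [hn]; group⟩

/-- The number of involutions of `C(f) ⧸ ⟨f⟩` is computed in the socle. -/
theorem index_eq (hE : D.IsSoc σ E) (h5 : 5 ≤ D.qfix σ) :
    (cen (D.tb σ)).index = (cen hE.tE).index := by
  haveI := Fintype.ofFinite (D.Hbar σ)
  haveI := Fintype.ofFinite E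
  rw [← Blocks.card_isConj_eq_index, ← Blocks.card_isConj_eq_index]
  refine Nat.card_congr
    { toFun := fun x => ⟨⟨x.1, hE.invol _ ?_⟩, hE.one_class h5 ?_⟩
      invFun := fun x => ⟨x.1.1, ?_⟩
      left_inv := fun _ => rfl
      right_inv := fun _ => rfl }
  · obtain ⟨c, hc⟩ := isConj_iff.1 x.2
    rw [← hc, Invol.order_conj]; exact D.t_order_bar σ
  · obtain ⟨c, hc⟩ := isConj_iff.1 x.2
    rw [← Subgroup.orderOf_coe]
    show orderOf x.1 = 2
    rw [← hc, Invol.order_conj]; exact D.t_order_bar σ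
  · obtain ⟨c, hc⟩ := isConj_iff.1 x.2
    exact isConj_iff.2 ⟨c, congrArg Subtype.val hc⟩

/-- The number of involutions. -/
theorem index_val (hE : D.IsSoc σ E) (h5 : 5 ≤ D.qfix σ) (hσ : σ ≠ 1) :
    ((∃ m, 1 ≤ m ∧ D.qfix σ = 3 ^ (2 * m + 1)) ∧
        (cen (D.tb σ)).index = D.qfix σ ^ 2 * (D.qfix σ ^ 2 - D.qfix σ + 1)) ∨
      (D.qfix σ = 5 ∧ (cen (D.tb σ)).index = 1463) := by
  classical
  haveI := hE.simple
  haveI : Fact (Nat.Prime 2) := ⟨Nat.prime_two⟩
  obtain ⟨T, -, hE8, -, -⟩ := hE.exists_sylow h5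
  obtain ⟨K, k1, k2, ek, ι, hK, hKodd, -, hι, hr, -, -⟩ := hE.exists_iota h5 hσ
  have e : cen hE.tE ≃* Multiplicative (ZMod 2) × PSL2 K :=
    (MulEquiv.subgroupCongr hr.symm).trans (MonoidHom.ofInjective hι).symm
  have hab : ∀ P : Sylow 2 E, ∀ x y : P, x * y = y * x := fun P x y =>
    Subtype.ext (hE8.comm_of_two P.isPGroup' x.2 y.2)
  have hC : Nat.card (cen hE.tE) = D.qfix σ * (D.qfix σ ^ 2 - 1) := by
    rw [Nat.card_congr e.toEquiv, Nat.card_prod, card_C2, Walter8.two_mul_card_psl hKodd, hK]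
  have hEc := (cen hE.tE).card_mul_index
  rw [hC, ← hE.index_eq h5] at hEc
  rcases S0343.result hab (by omega : 3 ≤ Fintype.card K) hE.tE hE.tE_order ⟨e⟩ with
    ⟨m, hm, hq, hcard⟩ | ⟨hq, hJ⟩
  · refine Or.inl ⟨⟨m, hm, hK ▸ hq⟩, ?_⟩
    rw [hK] at hq
    rw [← hEc, ← hq] at hcard
    generalize hi : (cen (D.tb σ)).index = n at hcard
    generalize D.qfix σ = q at hcard h5
    have h1 : 1 ≤ q ^ 2 := Nat.one_le_pow _ _ (by omega)
    have h2 : q ≤ q ^ 2 := by nlinarith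
    have h25 : 5 ≤ q ^ 2 := by omega
    refine Nat.eq_of_mul_eq_mul_left (Nat.mul_pos (by omega : 0 < q) (by omega : 0 < q ^ 2 - 1)) (hcard.trans ?_)
    zify [h1, h2, (by omega : 1 ≤ q)]
    ring
  · have hq5 : D.qfix σ = 5 := by
      rcases hq with h | h
      · omega
      · omega
    refine Or.inr ⟨hq5, ?_⟩
    rw [hJ.2, hq5] at hEc
    omega

end IsSoc

end Data

end Cfsg.Agent.NoField
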