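import Cfsg.Agent.Lib.NoField.CPhiCases

/-!
The main case is all that is left by the cases, the case `p = 3` and the small fixed fields.
-/

set_option autoImplicit false
set_option linter.style.haveILetI false
set_option linter.unusedSectionVars false

namespace Cfsg.Agent.NoField

open Subgroup Cfsg.Agent.AutPSL
open Cfsg.Agent.Walter8 (cen)

universe u

variable {G : Type u} [Group G] [Finite G]

namespace Data

/-- A generator of the group of field automorphisms. -/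
theorem exists_gen (D : Data G) : ∃ σ : D.Φ, (∀ τ : D.Φ, τ ∈ zpowers σ) ∧ D.qfix σ = D.qbot := by
  haveI := finite_aut (F := D.F)
  obtain ⟨p, hchar⟩ := CharP.exists D.F
  obtain ⟨f, hp, hf⟩ := FiniteField.card D.F p
  haveI : Fact p.Prime := ⟨hp⟩
  obtain ⟨E⟩ := exists_ringAut_equiv (F := D.F) p f hf
  haveI : IsCyclic (D.F ≃+* D.F) := isCyclic_of_surjective E.symm.toMonoidHom E.symm.surjective
  haveI : IsCyclic D.Φ := inferInstance
  obtain ⟨σ, hσ⟩ := IsCyclic.exists_generator (α := D.Φ)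
  refine ⟨σ, hσ, Nat.card_congr (Equiv.subtypeEquivRight fun x => ⟨fun hx τ => ?_, fun h => h σ⟩)⟩
  have hle : zpowers (σ : D.F ≃+* D.F) ≤ MulAction.stabilizer (D.F ≃+* D.F) x :=
    zpowers_le.2 (MulAction.mem_stabilizer_iff.2 hx)
  obtain ⟨k, hk⟩ := mem_zpowers_iff.1 (hσ τ)
  exact MulAction.mem_stabilizer_iff.1 (hle ⟨k, by rw [← hk]; simp⟩)

theorem qbot_le (D : Data G) (σ : D.Φ) : D.qbot ≤ D.qfix σ :=
  Nat.card_le_card_of_injective (fun x => ⟨x.1, x.2 σ⟩)
    fun _ _ h => Subtype.ext (congrArg (fun z => z.1) h)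

theorem exists_isPart (D : Data G) {p : ℕ} (hp : p.Prime) (hpd : p ∣ Nat.card D.Φ) :
    ∃ σ : D.Φ, D.IsPart p σ := by
  obtain ⟨g, hg, -⟩ := D.exists_gen
  have ho : orderOf g = Nat.card D.Φ := orderOf_eq_card_of_forall_mem_zpowers hg
  refine ⟨g ^ (orderOf g / p ^ (Nat.card D.Φ).factorization p), hp, hpd, ?_⟩
  rw [orderOf_pow_orderOf_div (orderOf_pos g).ne']
  rw [ho]; exact Nat.ordProj_dvd _ _

/-- `q ≡ qfix σ` modulo the prime of a part. -/
theorem q_mod_part (D : Data G) {p : ℕ} {σ : D.Φ} {v : ℕ} (hp : p.Prime) (hσ : orderOf σ = p ^ v) :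
    (Fintype.card D.F : ZMod p) = (D.qfix σ : ZMod p) := by
  haveI : Fact p.Prime := ⟨hp⟩
  obtain ⟨K, _, _, hK, -, -, hq, -⟩ := D.qfix_spec σ
  rw [hq, hK, hσ, Nat.cast_pow, ZMod.pow_card_pow]

end Data

/-- `3 ^ n` modulo 8. -/
theorem three_pow_mod (n : ℕ) : 3 ^ n % 8 = 1 ∨ 3 ^ n % 8 = 3 := by
  induction n with
  | zero => simp
  | succ n ih => rw [pow_succ]; omega

/-- The main case. -/
theorem exists_main (D : Data G) (hP3 : P3Stmt D) (hS : SmallStmt D) : Nonempty (Main D) := by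
  have h11 : 11 ≤ D.qbot := by
    by_contra h
    exact hS (fun h3 => hP3 h3.1 h3.2) (by omega)
  have key : ∀ {p : ℕ} {σ : D.Φ}, D.IsPart p σ → 11 ≤ D.qfix σ ∧ ringChar D.F = 3 ∧ p ≠ 3 ∧
      p ∣ D.qfix σ ^ 2 - D.qfix σ + 1 := by
    intro p σ h
    have hge := h11.trans (D.qbot_le σ)
    rcases cases D p σ h with ⟨h3, hc⟩ | h' | ⟨h', -⟩ | ⟨h', -⟩
    · exact (hP3 (h3 ▸ h.2.1) hc).elim
    · exact h'
    · omega
    · omega
  have hc1 : Nat.card D.Φ ≠ 1 := fun h => D.nontrivial (card_eq_one.1 h)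
  obtain ⟨p, hp, hpd⟩ := Nat.exists_prime_and_dvd hc1
  obtain ⟨σ, hσ⟩ := D.exists_isPart hp hpd
  obtain ⟨hσ11, hc, hp3, hpdvd⟩ := key hσ
  have h3Φ : ¬ 3 ∣ Nat.card D.Φ := fun h => hP3 h hc
  haveI : CharP D.F 3 := ringChar.of_eq hc
  obtain ⟨f, h3p, hf⟩ := FiniteField.card D.F 3
  have hq3 : Fintype.card D.F % 8 = 3 := by
    have := three_pow_mod f; have := D.q_mod; rw [hf] at this ⊢; omega
  have hpow : ∀ τ : D.Φ, ∃ m, D.qfix τ = 3 ^ m := fun τ => by
    obtain ⟨K, _, _, hK, -, -, hq, -⟩ := D.qfix_spec τ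
    have hd : D.qfix τ ∣ 3 ^ (f : ℕ) := by
      rw [← hf, hq, hK]; exact dvd_pow_self _ (orderOf_pos τ).ne'
    obtain ⟨m, -, hm⟩ := (Nat.dvd_prime_pow Nat.prime_three).1 hd
    exact ⟨m, hm⟩
  have h27 : ∀ τ : D.Φ, 27 ≤ D.qfix τ := fun τ => by
    obtain ⟨m, hm⟩ := hpow τ
    have h := h11.trans (D.qbot_le τ)
    rw [hm] at h ⊢
    refine le_trans (le_of_eq (by norm_num : 27 = 3 ^ 3)) (Nat.pow_le_pow_right (by norm_num) ?_)
    by_contra hm3
    have : 3 ^ m ≤ 3 ^ 2 := Nat.pow_le_pow_right (by norm_num) (by omega)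
    omega
  obtain ⟨g, hg, hgbot⟩ := D.exists_gen
  have ho : orderOf g = Nat.card D.Φ := orderOf_eq_card_of_forall_mem_zpowers hg
  obtain ⟨K, _, _, hK, hKodd, -, hq, ⟨e⟩⟩ := D.qfix_spec g
  rw [hgbot] at hK
  rw [ho] at hq
  have hb8 : Fintype.card K % 8 = 3 := by
    rw [← mod_eight_of_pow hq D.card_Φ_odd D.odd]; exact hq3
  have h27b : 27 ≤ D.qbot := hgbot ▸ h27 g
  -- the prime `p`
  have hp2 : p ≠ 2 := fun h => by
    have := Nat.odd_iff.1 (D.card_Φ_odd.of_dvd_nat hpd); omega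
  haveI := Fact.mk hp
  have hFq := D.q_mod_part hp hσ.2.2
  have hcop : ¬ p ∣ Fintype.card D.F * (Fintype.card D.F ^ 2 - 1) := by
    intro h
    rcases hp.dvd_mul.1 h with h | h
    · rw [hf] at h
      exact hp3 ((Nat.prime_dvd_prime_iff_eq hp Nat.prime_three).1 (hp.dvd_of_dvd_pow h))
    · rw [← ZMod.natCast_eq_zero_iff, Nat.cast_sub (Nat.one_le_pow _ _ Fintype.card_pos)] at h
      rw [← ZMod.natCast_eq_zero_iff, Nat.cast_add,
        Nat.cast_sub (Nat.le_self_pow two_ne_zero _)] at hpdvd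
      push_cast at h hpdvd
      rw [hFq] at h
      have h2 : (D.qfix σ : ZMod p) = 2 := by linear_combination h - hpdvd
      rw [h2] at h
      have h3 : ((3 : ℕ) : ZMod p) = 0 := by push_cast; linear_combination h
      rw [ZMod.natCast_eq_zero_iff] at h3
      exact hp3 ((Nat.prime_dvd_prime_iff_eq hp Nat.prime_three).1 h3)
  -- the prime `l`
  obtain ⟨l, hl, hld⟩ := Nat.exists_prime_and_dvd (show (D.qbot + 1) / 4 ≠ 1 by omega)
  haveI := Fact.mk hl
  have hl2 : l ≠ 2 := fun h => by subst h; omega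
  have hlΦ : ¬ l ∣ Nat.card D.Φ := by
    intro hlΦ
    obtain ⟨τ, hτ⟩ := D.exists_isPart hl hlΦ
    obtain ⟨-, -, hl3, hldvd⟩ := key hτ
    have hb : (D.qbot : ZMod l) = -1 := by
      have h4 : l ∣ D.qbot + 1 := hld.trans ⟨4, by omega⟩
      rw [← ZMod.natCast_eq_zero_iff] at h4
      push_cast at h4
      linear_combination h4
    have hτq := D.q_mod_part hl hτ.2.2
    rw [hq, hK, Nat.cast_pow, hb, D.card_Φ_odd.neg_one_pow] at hτq
    rw [← ZMod.natCast_eq_zero_iff, Nat.cast_add,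
      Nat.cast_sub (Nat.le_self_pow two_ne_zero _)] at hldvd
    push_cast at hldvd
    rw [← hτq] at hldvd
    have h3 : ((3 : ℕ) : ZMod l) = 0 := by push_cast; linear_combination hldvd
    rw [ZMod.natCast_eq_zero_iff] at h3
    exact hl3 ((Nat.prime_dvd_prime_iff_eq hl Nat.prime_three).1 h3)
  -- the element `r`
  set sK : PSL2 K := e ⟨D.s, D.fixed_s g⟩ with hsK
  have hsK2 : sK * sK = 1 := by
    rw [hsK, ← map_mul, show (⟨D.s, D.fixed_s g⟩ * ⟨D.s, D.fixed_s g⟩ :
      fixed (g : D.F ≃+* D.F)) = 1 from Subtype.ext D.s_sq, map_one]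
  have hsK1 : sK ≠ 1 := fun h => D.s_ne
    (congrArg Subtype.val (e.injective (h.trans (map_one e).symm)))
  obtain ⟨E, hE⟩ : ∃ E : JanThom.LData (PSL2 K) (Fintype.card K : ℤ), E.s = sK := by
    have h := exists_lData_at (Or.inl hb8) (by omega) hsK2 hsK1
    rwa [if_pos hb8] at h
  have hh : l ∣ Nat.card E.Zh := by
    have h1 := E.h_eq
    rw [show ((Fintype.card K : ℤ) + 1).natAbs = Fintype.card K + 1 by omega] at h1
    rw [E.card_Zh, show E.h = (D.qbot + 1) / 4 by omega]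
    exact hld
  obtain ⟨z, hz⟩ := exists_prime_orderOf_dvd_card' l hh
  set r' : fixed (g : D.F ≃+* D.F) := e.symm (z : PSL2 K) with hr'
  set r : PSL2 D.F := (r' : PSL2 D.F) with hr
  have hro : orderOf r = l := by
    rw [hr, Subgroup.orderOf_coe, hr', MulEquiv.orderOf_eq, Subgroup.orderOf_coe, hz]
  have hrs : r * D.s = D.s * r := by
    have h1 := mem_centralizer_singleton_iff.1 (E.Zh_le z.2)
    rw [hE, hsK] at h1
    have h2 : r' * ⟨D.s, D.fixed_s g⟩ = ⟨D.s, D.fixed_s g⟩ * r' :=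
      e.injective (by rw [map_mul, map_mul, hr', MulEquiv.apply_symm_apply]; exact h1)
    exact congrArg Subtype.val h2
  have hrfix : ∀ τ : D.Φ, semi 1 (τ : D.F ≃+* D.F) r = r := by
    intro τ
    have hgc : D.jΦ g * D.jL r = D.jL r * D.jΦ g := D.jΦ_comm_jL g r r'.2
    obtain ⟨k, hk⟩ := mem_zpowers_iff.1 (hg τ)
    refine D.fix_of_comm ?_
    rw [← hk, map_zpow]
    exact ((show Commute (D.jΦ g) (D.jL r) from hgc).zpow_left k).eq
  obtain ⟨ld, hld'⟩ : ∃ ld : JanThom.LData (PSL2 D.F) (Fintype.card D.F : ℤ), ld.s = D.s := by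
    have h := exists_lData_at D.q_mod (by have := D.q_large; omega) D.s_sq D.s_ne
    rwa [if_pos hq3] at h
  have hrodd : Odd (orderOf r) := hro ▸ hl.odd_of_ne_two hl2
  have hrmem : r ∈ ld.Zh := by
    rcases ld.Cs_cases r (mem_centralizer_singleton_iff.2 (by rw [hld']; exact hrs)) with h | ⟨h, h1, -⟩
    · refine ClosedAbelian.mem_of_sq_mem ?_ hrodd
      have hn : zpowers ld.s ≤ normalizer (ld.Zh : Set (PSL2 D.F)) := zpowers_le.2
        (centralizer_le_normalizer _ (mem_centralizer_iff.2 fun z hz =>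
          mem_centralizer_singleton_iff.1 (ld.Zh_le hz)))
      rw [← SetLike.mem_coe, coe_mul_of_right_le_normalizer_left _ _ hn] at h
      obtain ⟨a, ha, b, hb, hab⟩ := Set.mem_mul.1 h
      rw [← hab]
      have hcomm : Commute a b := by
        obtain ⟨k, rfl⟩ := mem_zpowers_iff.1 hb
        exact (show Commute a ld.s from mem_centralizer_singleton_iff.1 (ld.Zh_le ha)).zpow_right k
      have hbb : b * b = 1 := by
        obtain ⟨k, rfl⟩ := mem_zpowers_iff.1 hb
        rw [← (Commute.refl ld.s).mul_zpow, ld.s_sq, _root_.one_zpow]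
      rw [hcomm.symm.mul_mul_mul_comm, hbb, mul_one]
      exact mul_mem ha ha
    · exfalso
      have h2 := Invol.order_two_of_sq h h1
      omega
  exact ⟨{
    p := p
    v := (Nat.card D.Φ).factorization p
    σ := σ
    l := l
    r := r
    ld := ld
    ld_s := hld'
    char3 := hc
    three := h3Φ
    qbot_large := h27b
    q_mod_three := hq3
    p_prime := hp
    p_five := by
      have h2 := hp.two_le
      have h4 : p ≠ 4 := fun h => by subst h; norm_num at hp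
      omega
    v_eq := rfl
    v_pos := hp.factorization_pos_of_dvd Nat.card_pos.ne' hpd
    σ_order := hσ.2.2
    p_dvd := hpdvd
    p_coprime := hcop
    qfix_large := h27 σ
    l_prime := hl
    r_order := hro
    r_mem := hrmem
    r_fix := hrfix
    l_coprime := hlΦ }⟩

end Cfsg.Agent.NoField
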