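import Cfsg.Agent.Lib.NoField.Sec
import Cfsg.Agent.Lib.Blocks.Misc
import Cfsg.Agent.Lib.Char.Degree
import Cfsg.Agent.Lib.Small.ClassCount

/-!
The values at the involution, the congruence of the degrees modulo eight, and the class product sums
of the columns of the section.
-/

set_option autoImplicit false
set_option linter.style.haveILetI false
set_option linter.unusedSectionVars false

namespace Cfsg.Agent.NoField

open Subgroup Cfsg Cfsg.Agent.Char Cfsg.Agent.Walter8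
open scoped ComplexConjugate Classical

universe u

variable {G : Type u} [Group G] [Fintype G] (D : Data G)

namespace Data

/-- The value at `t`. -/
noncomputable def tv (χ : IrrCharacter G) : ℤ :=
  (Blocks.char_involution χ D.t_order).choose

theorem tv_cast (χ : IrrCharacter G) : (D.tv χ : ℂ) = (χ : G → ℂ) D.t :=
  (Blocks.char_involution χ D.t_order).choose_spec.1.symm

/-- The degree. -/
noncomputable def dg (_D : Data G) (χ : IrrCharacter G) : ℤ := (charDegree (χ : G → ℂ) : ℤ)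

theorem dg_cast (χ : IrrCharacter G) : (D.dg χ : ℂ) = (χ : G → ℂ) 1 := by
  show (((charDegree (χ : G → ℂ) : ℕ) : ℤ) : ℂ) = _
  rw [Int.cast_natCast, ← Blocks.irr_one_eq_charDegree]

theorem dg_pos (χ : IrrCharacter G) : 0 < D.dg χ := Int.natCast_pos.2 (Blocks.charDegree_pos χ)

theorem value_S (χ : IrrCharacter G) {a : G} (ha : a ∈ D.S) (h1 : a ≠ 1) :
    (χ : G → ℂ) a = (χ : G → ℂ) D.t :=
  isClassFunction_iff.1 (IsCharacter.isClassFunction (IsIrrCharacter.isCharacter χ.2)) _ _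
    (D.one_class a D.t (D.S_order ha h1) D.t_order)

/-- Degrees are congruent to the values at `t` modulo eight. -/
theorem dg_mod_eight (χ : IrrCharacter G) : (8 : ℤ) ∣ D.dg χ - D.tv χ := by
  obtain ⟨n, hn⟩ := IsCharacter.exists_classInner_nat
    (IsCharacter.restrict (IsIrrCharacter.isCharacter χ.2) D.S) (isCharacter_one (G := D.S))
  have h : ∑ a : D.S, (χ : G → ℂ) a = 8 * (n : ℂ) := by
    rw [Cfsg.classInner, D.card_S, inv_mul_eq_iff_eq_mul₀ (by norm_num)] at hn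
    simpa using hn
  have hs : ∑ a : D.S, (χ : G → ℂ) a = (χ : G → ℂ) 1 + 7 * (χ : G → ℂ) D.t := by
    rw [← Finset.add_sum_erase _ _ (Finset.mem_univ (1 : D.S)), OneMemClass.coe_one,
      Finset.sum_congr rfl fun a ha => D.value_S χ a.2 fun e =>
        (Finset.mem_erase.1 ha).1 (Subtype.ext e),
      Finset.sum_const, Finset.card_erase_of_mem (Finset.mem_univ _), Finset.card_univ,
      ← Nat.card_eq_fintype_card, D.card_S, nsmul_eq_mul]
    norm_num
  rw [hs, ← D.dg_cast, ← D.tv_cast] at h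
  have h' : D.dg χ + 7 * D.tv χ = 8 * (n : ℤ) := by exact_mod_cast h
  omega

/-- Two involutions with product in the section invert an element with trivial field part. -/
theorem pr_eq_one_of_pair {x : D.X} (hx : Odd (orderOf x)) {a : G} (ha : IsConj D.t a)
    (hb : IsConj D.t (a⁻¹ * (D.t * x))) : D.pr x = 1 := by
  have hinv : ∀ {b : G}, IsConj D.t b → b * b = 1 := fun {b} hc => by
    obtain ⟨c, rfl⟩ := isConj_iff.1 hc
    rw [show c * D.t * c⁻¹ * (c * D.t * c⁻¹) = c * (D.t * D.t) * c⁻¹ by group, D.t_sq, mul_one,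
      mul_inv_cancel]
  have h2 := hinv ha
  have hai : a⁻¹ = a := inv_eq_of_mul_eq_one_right h2
  have e1 : a * (D.t * x) * a⁻¹ = (D.t * (x : G))⁻¹ := by
    have hb2 := hinv hb
    rw [hai] at hb2
    rw [hai]
    exact eq_inv_of_mul_eq_one_left (by rw [← hb2]; group)
  have e2 : a ∈ cen D.t := by
    have h := congrArg (· ^ orderOf x) e1
    simp only [conj_pow, inv_pow] at h
    rw [D.sec_pow' x hx dvd_rfl, D.t_inv] at h
    exact mem_centralizer_singleton_iff.2 (mul_inv_eq_iff_eq_mul.1 h)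
  set y := D.pX ⟨a, e2⟩
  have h3 : y * x * y⁻¹ = x⁻¹ := by
    have h := congrArg D.pX (show (⟨a, e2⟩ : cen D.t) * (D.tC * D.XC x) * ⟨a, e2⟩⁻¹ = (D.tC * D.XC x)⁻¹ from
      Subtype.ext e1)
    rwa [map_mul, map_mul, map_inv, map_inv, D.pX_t] at h
  have h5 := congrArg D.pr h3
  rw [map_mul, map_mul, map_inv, map_inv, D.Φ_comm (D.pr y), mul_inv_cancel_right] at h5
  have h6 : D.pr x ^ 2 = 1 := by rw [pow_two]; nth_rw 1 [h5]; exact inv_mul_cancel _
  obtain ⟨k, hk⟩ := D.card_Φ_odd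
  have h7 := pow_card_eq_one' (x := D.pr x)
  rwa [hk, pow_succ, pow_mul, h6, one_pow, one_mul] at h7

/-- The class product sums vanish off the identity coset. -/
theorem pair_value {x : D.X} (hx : Odd (orderOf x)) (h1 : D.pr x ≠ 1) :
    ∑ χ : IrrCharacter G, (D.tv χ : ℂ) ^ 2 / (D.dg χ : ℂ) * (χ : G → ℂ) (D.t * x) = 0 := by
  have h := ClassCount.pair_count D.t D.t (D.t * (x : G))
  haveI : IsEmpty {a : G // IsConj D.t a ∧ IsConj D.t (a⁻¹ * (D.t * x))} :=
    ⟨fun a => h1 (D.pr_eq_one_of_pair hx a.2.1 a.2.2)⟩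
  rw [Nat.card_of_isEmpty, Nat.cast_zero, zero_mul, zero_mul] at h
  have h' := congrArg conj ((mul_eq_zero.1 h.symm).resolve_left
    (Nat.cast_ne_zero.2 Nat.card_pos.ne'))
  rw [map_sum, map_zero] at h'
  rw [← h']
  refine Finset.sum_congr rfl fun χ _ => ?_
  rw [← D.tv_cast, ← D.dg_cast, map_div₀, map_mul, map_mul, map_intCast, map_intCast, Complex.conj_conj]
  ring

end Data

variable {D} {M : Main D} (XF : XFacts M)

/-- The class product sum of `b_μ` does not depend on `μ`. -/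
theorem XFacts.weight (μ : D.Φ →* ℂˣ) :
    ∑ χ, (XF.bc μ χ : ℚ) * ((D.tv χ : ℚ) ^ 2 / (D.dg χ : ℚ)) =
      ∑ χ, (XF.bc 1 χ : ℚ) * ((D.tv χ : ℚ) ^ 2 / (D.dg χ : ℚ)) := by
  have key : ∀ ν : D.Φ →* ℂˣ,
      (∑ χ, (XF.bc ν χ : ℂ) * ((D.tv χ : ℂ) ^ 2 / (D.dg χ : ℂ))) * (Nat.card D.X : ℂ) =
      ∑ x : D.X, if D.pr x = 1 then (D.fixN x : ℂ) *
        ∑ χ : IrrCharacter G, (D.tv χ : ℂ) ^ 2 / (D.dg χ : ℂ) * (χ : G → ℂ) (D.t * x) else 0 := by
    intro ν
    rw [Finset.sum_mul]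
    calc ∑ χ, (XF.bc ν χ : ℂ) * ((D.tv χ : ℂ) ^ 2 / (D.dg χ : ℂ)) * (Nat.card D.X : ℂ)
        = ∑ χ : IrrCharacter G, ∑ x : D.X, conj (D.tw ν x : ℂ) * (D.fixN x : ℂ) *
            ((D.tv χ : ℂ) ^ 2 / (D.dg χ : ℂ) * (χ : G → ℂ) (D.t * x)) := by
          refine Finset.sum_congr rfl fun χ _ => ?_
          rw [mul_right_comm, XF.bc_spec, Finset.sum_mul]
          exact Finset.sum_congr rfl fun x _ => by ring
      _ = _ := by
          rw [Finset.sum_comm]
          refine Finset.sum_congr rfl fun x _ => ?_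
          rw [← Finset.mul_sum]
          by_cases hπ : D.fixN x = 0
          · simp [hπ]
          have hx : Odd (orderOf x) := by_contra fun h => hπ (XF.fix_even x h)
          split_ifs with h1
          · simp [Data.tw, h1]
          · rw [D.pair_value hx h1, mul_zero]
  have h : ((∑ χ, (XF.bc μ χ : ℚ) * ((D.tv χ : ℚ) ^ 2 / (D.dg χ : ℚ)) : ℚ) : ℂ) =
      ((∑ χ, (XF.bc 1 χ : ℚ) * ((D.tv χ : ℚ) ^ 2 / (D.dg χ : ℚ)) : ℚ) : ℂ) := by
    push_cast
    exact mul_right_cancel₀ (Nat.cast_ne_zero.2 Nat.card_pos.ne') ((key μ).trans (key 1).symm)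
  exact_mod_cast h

theorem XFacts.deg_int (μ : D.Φ →* ℂˣ) :
    ∑ χ, XF.bc μ χ * D.dg χ = 0 ∧ ∑ χ, XF.ec μ χ * D.dg χ = 0 := by
  obtain ⟨h1, h2⟩ := XF.deg_sum μ
  simp only [← D.dg_cast] at h1 h2
  exact ⟨by exact_mod_cast h1, by exact_mod_cast h2⟩

end Cfsg.Agent.NoField
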