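import Cfsg.Agent.Lib.Walter8.Main
import Cfsg.Agent.Lib.Walter4.Rank4
import Cfsg.Agent.Lib.GoldGroups.ThreeReal
import Cfsg.Agent.Lib.GoldStruct.Main
import Cfsg.Agent.Lib.GoldCons.NoReal

/-!
The consequences of the elimination of the field automorphisms: the order 8 theorem (S0993), the list of
the simple groups with abelian Sylow 2-subgroups (S0506), and, with Goldschmidt's theorem for simple groups,
S2754, S2757, S2775, S4030, S4031.
-/

set_option autoImplicit false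
set_option linter.style.haveILetI false
set_option linter.unusedSectionVars false

namespace Cfsg.Agent.NoField

open Subgroup
open Cfsg.Agent.Walter8 (cen)

universe u

/-- Walter's theorem, in the form used by the naming of the Goldschmidt groups. -/
theorem walterGood : GoldGroups.WalterGood.{u} := fun G _ _ => Walter4.good G

/-- The groups of Ree–Janko type have centralisers `2 × PSL₂(q)`. -/
theorem rjNoField_of (hF : Walter8.NoFieldStmt.{u}) : GoldGroups.RJNoField.{u} := by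
  intro G _ _ h
  obtain ⟨hs, S, hE, hL, hcore⟩ := h
  haveI := hs
  obtain ⟨a, ha, ha1⟩ := hE.exists_out (T := {1}) (by rw [Set.ncard_singleton]; norm_num)
  have ha1 : a ≠ 1 := ha1
  have hnc : ¬ IsMulCommutative G := fun hc => by
    obtain ⟨y, -, -, hy⟩ := hE.moves a ha ha1
    exact hy (mem_centralizer_iff.2 fun z _ => hc.is_comm.comm z y)
  obtain ⟨F, i1, i2, -, h3, e⟩ := hF G (S : Subgroup G) hnc hE hL hcore a ha ha1
  exact ⟨a, hE.order_two ha ha1, F, i1, i2, h3, e⟩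

/-- The list of the simple groups with abelian Sylow 2-subgroups (S0506). -/
theorem abelianList_of (hF : Walter8.NoFieldStmt.{u}) : GoldCons.AbelianList.{u} := by
  intro G _ _ hs hna S hS
  haveI := hs
  haveI : Fact (Nat.Prime 2) := ⟨Nat.prime_two⟩
  have hab : ∀ P : Sylow 2 G, IsMulCommutative (P : Subgroup G) := fun P =>
    ⟨⟨fun a b => (S.equiv P).symm.injective (by rw [map_mul, map_mul, hS.is_comm.comm])⟩⟩
  rcases Walter4.good G hs hna hab with ⟨F, i1, i2, hq | ⟨n, hn, hq⟩, he⟩ | ⟨-, T, hE, hL, -⟩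
  · exact Or.inr (Or.inl ⟨F, i1, i2, hq.1, he⟩)
  · exact Or.inl ⟨n, hn, F, i1, i2, hq, he⟩
  obtain ⟨a, ha, ha1⟩ := hE.exists_out (T := {1}) (by rw [Set.ncard_singleton]; norm_num)
  have ha1 : a ≠ 1 := ha1
  obtain ⟨F, _, _, -, h3, e⟩ := Walter8.rjShape_of hF hna hE hL ha ha1
  rcases S0343.result (fun P => (hab P).is_comm.comm) h3.le a (hE.order_two ha ha1) e with
    ⟨m, hm, -, hcard⟩ | ⟨-, hJ⟩
  · exact Or.inr (Or.inr (Or.inl ⟨inferInstance, m, hm, hcard⟩))
  · exact Or.inr (Or.inr (Or.inr hJ))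

/-- S2754. -/
theorem S2754_of' (hF : Walter8.NoFieldStmt.{u}) (hC : GoldGroups.ClosedAbelianSimple.{u}) {G : Type u}
    [Group G] [Finite G] [IsSimpleGroup G] (hna : ¬ IsMulCommutative G) :
    ¬ Cfsg.Involves (Equiv.Perm (Fin 4)) G ↔ Cfsg.IsGoldschmidtGroup G :=
  GoldGroups.S2754_of hC walterGood (rjNoField_of hF) hna

/-- S2757. -/
theorem S2757_of' (hF : Walter8.NoFieldStmt.{u}) (hC : GoldGroups.ClosedAbelianSimple.{u}) {G : Type u}
    [Group G] [Finite G] (T : Sylow 3 G)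
    (h : ∀ x ∈ (T : Subgroup G), x ≠ 1 →
      ∀ g ∈ Subgroup.normalizer (Cfsg.centerThompsonAOf (T : Subgroup G) : Set G), g * x * g⁻¹ ≠ x⁻¹) :
    ¬ Cfsg.Involves (Equiv.Perm (Fin 3)) G ∧
      Cfsg.IsCompositionKGroupWith Cfsg.IsSuzukiOrPSL2OddPowerThree G :=
  GoldGroups.S2757_of hC walterGood (rjNoField_of hF) T h

/-- S4031. -/
theorem S4031_of' (hF : Walter8.NoFieldStmt.{u}) (hC : GoldGroups.ClosedAbelianSimple.{u}) {G : Type u}
    [Group G] [Finite G] [IsSimpleGroup G] (hna : ¬ IsMulCommutative G)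
    (hirr : ∀ x : G, (∀ r : ℕ, r.Prime → r ∣ orderOf x → r = 3) →
      Subgroup.normalizer ((Subgroup.zpowers x : Subgroup G) : Set G) ≤ Subgroup.centralizer {x}) :
    (∃ f : ℕ, 1 ≤ f ∧ Nonempty (G ≃* Matrix.ProjectiveSpecialLinearGroup (Fin 2) (GaloisField 3 (2 * f + 1)))) ∨
      Cfsg.IsSuzuki G :=
  GoldGroups.S4031_of hC walterGood (rjNoField_of hF) hna hirr

/-- S2775. -/
theorem S2775_of' (hF : Walter8.NoFieldStmt.{u}) (hC : GoldGroups.ClosedAbelianSimple.{u}) {G : Type u}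
    [Group G] [Finite G] (S : Sylow 2 G) (A : Subgroup G)
    (hA : IsMulCommutative ↥A) (hsc : Cfsg.IsStronglyClosed A (S : Subgroup G)) (K : Subgroup G)
    (hK : K = Subgroup.normalClosure (A : Set G)) (Q : Type u) [Group Q] (π : ↥K →* Q)
    (hπ : Function.Surjective π) (hker : π.ker = Cfsg.pPrimeCore 2 ↥K) :
    Cfsg.pCore 2 Q ⊔ commutator Q = ⊤ ∧ Cfsg.pCore 2 Q ≤ Subgroup.center Q ∧
      (∃ T : Sylow 2 Q, (A.subgroupOf K).map π ≤ (T : Subgroup Q) ∧
        (A.subgroupOf K).map π = Cfsg.pCore 2 Q ⊔ Cfsg.omegaOne 2 (T : Subgroup Q)) ∧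
      ∃ (ι : Type) (_ : Fintype ι) (L : ι → Type u) (_ : ∀ i, Group (L i)),
        (∀ i, IsSimpleGroup (L i) ∧ ¬ IsMulCommutative (L i) ∧ Cfsg.IsGoldschmidtGroup (L i)) ∧
          Nonempty (↥(commutator Q) ⧸ Subgroup.center ↥(commutator Q) ≃* ((i : ι) → L i)) :=
  GoldStruct.S2775_of hC walterGood (rjNoField_of hF) S A hA hsc K hK Q π hπ hker

end Cfsg.Agent.NoField
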