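import Cfsg.Agent.Lib.Blocks.Section

/-!
The elements of a coset of a normal `p'`-subgroup whose image generates the `p`-part: conjugates of the
coset of the centraliser.
-/

set_option autoImplicit false
set_option linter.style.haveILetI false
set_option linter.unusedSectionVars false

namespace Cfsg.Agent.NoField

open Subgroup Cfsg
open scoped Classical

universe u v

variable {K : Type u} [Group K] [Fintype K] {Φ : Type v} [Group Φ] [Finite Φ] {p n : ℕ}

theorem comm_of_zpowers_eq {f g u : K} (h : zpowers f = zpowers g) (hu : g * u = u * g) : f * u = u * f := by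
  obtain ⟨j, hj⟩ := mem_zpowers_iff.1 (h ▸ mem_zpowers f : f ∈ zpowers g)
  rw [← hj]
  exact ((show Commute g u from hu).zpow_left j).eq

/-- Summing a class function over a coset. -/
theorem coset_sum (hp : p.Prime) (π : K →* Φ) (hcomm : ∀ a b : Φ, a * b = b * a) (f : K)
    (hf : orderOf f = p ^ n) (hfπ : orderOf (π f) = p ^ n) (hΦ : (Nat.card Φ).factorization p = n)
    (hker : ∀ x, π x = 1 → ¬ p ∣ orderOf x) {k : ℕ} (hk : ¬ p ∣ k) (F : K → ℂ)
    (hF : ∀ x y : K, F (x * y * x⁻¹) = F y) :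
    (Nat.card (centralizer ({f} : Set K)) : ℂ) *
        ∑ y ∈ Finset.univ.filter (fun y : K => π y = π f ^ k), F y =
      (Nat.card K : ℂ) * ∑ u ∈ Finset.univ.filter (fun u : K => π u = 1 ∧ f * u = u * f), F (f ^ k * u) := by
  haveI := Fact.mk hp
  have hkcop : (p ^ n).Coprime k := (hp.coprime_iff_not_dvd.2 hk).pow_left n
  have hgen : zpowers f = zpowers (f ^ k) := by
    refine le_antisymm (zpowers_le.2 ?_) (zpowers_le.2 (pow_mem (mem_zpowers f) k))
    exact mem_zpowers_pow_iff.2 (by rw [hf]; exact hkcop.symm)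
  have hfk : orderOf (f ^ k) = p ^ n := by rw [← Nat.card_zpowers, ← hgen, Nat.card_zpowers, hf]
  have hcard : (Nat.card K).factorization p = n := by
    have h0 : Nat.card K ≠ 0 := Nat.card_pos.ne'
    refine le_antisymm ?_ ((hp.pow_dvd_iff_le_factorization h0).1 (hf ▸ orderOf_dvd_natCard f))
    have h := π.ker.card_mul_index
    rw [Subgroup.index_ker] at h
    rw [← h, Nat.factorization_mul Nat.card_pos.ne' Nat.card_pos.ne', Finsupp.add_apply]
    have hk0 : (Nat.card π.ker).factorization p = 0 := Nat.factorization_eq_zero_of_not_dvd fun hd => by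
      obtain ⟨x, hx⟩ := exists_prime_orderOf_dvd_card' p hd
      exact hker x x.2 (by rw [Subgroup.orderOf_coe, hx])
    rw [hk0, zero_add]
    exact ((Nat.factorization_le_iff_dvd Nat.card_pos.ne' Nat.card_pos.ne').2
      (card_subgroup_dvd_card π.range) p).trans hΦ.le
  let Sy : Sylow p K := Sylow.ofCard (zpowers f) (by rw [Nat.card_zpowers, hf, hcard])
  have hpu : ∀ u : K, π u = 1 → f * u = u * f → Cfsg.IsPPart p (f ^ k * u) (f ^ k) := fun u hu hc =>
    ⟨u, rfl, (show Commute f u from hc).pow_left k, ⟨n, hfk⟩, hker u hu⟩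
  have hπc : ∀ x y : K, π (x * y * x⁻¹) = π y := fun x y => by
    rw [map_mul, map_mul, map_inv, hcomm (π x), mul_inv_cancel_right]
  have hsurj : ∀ y : K, π y = π f ^ k → ∃ x u : K, (π u = 1 ∧ f * u = u * f) ∧ x * (f ^ k * u) * x⁻¹ = y := by
    intro y hy
    obtain ⟨yp, hyp⟩ := Blocks.exists_isPPart hp y
    obtain ⟨y', hmul, hc, ⟨a, ha⟩, hy'⟩ := hyp
    have h1 : π y' = 1 := by
      obtain ⟨b, -, hb⟩ := (Nat.dvd_prime_pow hp).1 (orderOf_dvd_of_pow_eq_one (x := π y')
        (n := p ^ (a + n)) (by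
          have e : π y' = (π yp)⁻¹ * π f ^ k := by rw [← hy, ← hmul, map_mul, inv_mul_cancel_left]
          rw [e, (show Commute (π yp)⁻¹ (π f ^ k) from hcomm _ _).mul_pow, inv_pow, ← map_pow,
            pow_add p a n, pow_mul, ← ha, pow_orderOf_eq_one, one_pow, map_one, inv_one, one_mul,
            mul_comm (orderOf yp), ← pow_mul, mul_comm k, pow_mul, pow_mul, ← hfπ, pow_orderOf_eq_one,
            one_pow, one_pow]))
      rcases Nat.eq_zero_or_pos b with rfl | hb0
      · rwa [pow_zero, orderOf_eq_one_iff] at hb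
      · exact absurd ((dvd_pow_self p hb0.ne').trans (hb ▸ orderOf_map_dvd π y')) hy'
    have hπp : π yp = π f ^ k := by rw [← hy, ← hmul, map_mul, h1, mul_one]
    obtain ⟨R, hR⟩ := (IsPGroup.of_card (n := a) (by rw [Nat.card_zpowers, ha]) :
      IsPGroup p (zpowers yp)).exists_le_sylow
    obtain ⟨c, hc'⟩ := MulAction.exists_smul_eq K R Sy
    obtain ⟨j, hj⟩ : ∃ j : ℤ, f ^ j = c * yp * c⁻¹ := by
      refine mem_zpowers_iff.1 ?_
      show c * yp * c⁻¹ ∈ (Sy : Subgroup K)
      rw [← hc', Sylow.coe_subgroup_smul]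
      exact ⟨yp, hR (mem_zpowers yp), rfl⟩
    have hjk : f ^ j = f ^ k := by
      have e : π f ^ j = π f ^ (k : ℤ) := by rw [zpow_natCast, ← map_zpow, hj, hπc, hπp]
      rw [← zpow_natCast f k]
      rw [zpow_eq_zpow_iff_modEq] at e ⊢
      rwa [hf, ← hfπ]
    refine ⟨c⁻¹, c * y' * c⁻¹, ⟨by rw [hπc, h1], comm_of_zpowers_eq hgen ?_⟩, ?_⟩
    · rw [← hjk, hj]
      calc c * yp * c⁻¹ * (c * y' * c⁻¹) = c * (yp * y') * c⁻¹ := by group
        _ = c * (y' * yp) * c⁻¹ := by rw [hc.eq]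
        _ = _ := by group
    · rw [← hjk, hj, ← hmul]; group
  have hfib : ∀ y ∈ Finset.univ.filter (fun y : K => π y = π f ^ k),
      ((Finset.univ ×ˢ Finset.univ.filter (fun u : K => π u = 1 ∧ f * u = u * f)).filter
        (fun q : K × K => q.1 * (f ^ k * q.2) * q.1⁻¹ = y)).card = Nat.card (centralizer ({f} : Set K)) := by
    intro y hy
    obtain ⟨x0, u0, ⟨hu0, hu0c⟩, he⟩ := hsurj y (Finset.mem_filter.1 hy).2
    rw [Nat.card_eq_fintype_card, ← Finset.card_univ]
    refine (Finset.card_bij (fun (c : centralizer ({f} : Set K)) _ =>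
      (x0 * (c : K), (c : K)⁻¹ * u0 * (c : K))) ?_ ?_ ?_).symm
    · intro c _
      have hcf : f * (c : K) = c * f := (mem_centralizer_singleton_iff.1 c.2).symm
      have hcfk : f ^ k * (c : K) = c * f ^ k := ((show Commute f (c : K) from hcf).pow_left k).eq
      refine Finset.mem_filter.2 ⟨Finset.mem_product.2 ⟨Finset.mem_univ _, Finset.mem_filter.2
        ⟨Finset.mem_univ _, ?_, ?_⟩⟩, ?_⟩
      · rw [map_mul, map_mul, map_inv, hu0, mul_one, inv_mul_cancel]
      · exact (((show Commute f (c : K) from hcf).inv_right.mul_right hu0c).mul_right hcf).eq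
      · rw [← he]
        calc x0 * (c : K) * (f ^ k * ((c : K)⁻¹ * u0 * c)) * (x0 * (c : K))⁻¹
            = x0 * ((c : K) * f ^ k) * (c : K)⁻¹ * u0 * x0⁻¹ := by group
          _ = x0 * (f ^ k * (c : K)) * (c : K)⁻¹ * u0 * x0⁻¹ := by rw [hcfk]
          _ = _ := by group
    · intro c _ d _ h
      exact Subtype.ext (mul_left_cancel (Prod.mk.inj h).1)
    · rintro ⟨x, u⟩ hq
      rw [Finset.mem_filter, Finset.mem_product, Finset.mem_filter] at hq
      obtain ⟨⟨-, -, hu, huc⟩, hxy⟩ := hq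
      have e := Blocks.isPPart_unique hp (Blocks.IsPPart.conj (hpu u hu huc) x)
        (hxy ▸ he ▸ Blocks.IsPPart.conj (hpu u0 hu0 hu0c) x0)
      have hcc : f ^ k * (x0⁻¹ * x) = x0⁻¹ * x * f ^ k := by
        calc f ^ k * (x0⁻¹ * x) = x0⁻¹ * (x0 * f ^ k * x0⁻¹) * x := by group
          _ = x0⁻¹ * (x * f ^ k * x⁻¹) * x := by rw [e]
          _ = x0⁻¹ * x * f ^ k := by group
      have hcm : x0⁻¹ * x ∈ centralizer ({f} : Set K) :=
        mem_centralizer_singleton_iff.2 (comm_of_zpowers_eq hgen hcc).symm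
      refine ⟨⟨_, hcm⟩, Finset.mem_univ _, Prod.ext (mul_inv_cancel_left x0 x) ?_⟩
      show (x0⁻¹ * x)⁻¹ * u0 * (x0⁻¹ * x) = u
      have h2 : f ^ k * u = x⁻¹ * (x0 * (f ^ k * u0) * x0⁻¹) * x := by
        rw [he, ← hxy]; group
      calc (x0⁻¹ * x)⁻¹ * u0 * (x0⁻¹ * x) = (f ^ k)⁻¹ * ((f ^ k * (x0⁻¹ * x)⁻¹) * u0 * (x0⁻¹ * x)) := by group
        _ = (f ^ k)⁻¹ * (((x0⁻¹ * x)⁻¹ * f ^ k) * u0 * (x0⁻¹ * x)) := by
          rw [((show Commute (f ^ k) (x0⁻¹ * x) from hcc).inv_right).eq]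
        _ = (f ^ k)⁻¹ * (x⁻¹ * (x0 * (f ^ k * u0) * x0⁻¹) * x) := by group
        _ = u := by rw [← h2, inv_mul_cancel_left]
  calc (Nat.card (centralizer ({f} : Set K)) : ℂ) *
        ∑ y ∈ Finset.univ.filter (fun y : K => π y = π f ^ k), F y
      = ∑ y ∈ Finset.univ.filter (fun y : K => π y = π f ^ k),
          ∑ _q ∈ (Finset.univ ×ˢ Finset.univ.filter (fun u : K => π u = 1 ∧ f * u = u * f)).filter
            (fun q : K × K => q.1 * (f ^ k * q.2) * q.1⁻¹ = y), F y := by
        rw [Finset.mul_sum]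
        refine Finset.sum_congr rfl fun y hy => ?_
        rw [Finset.sum_const, hfib y hy, nsmul_eq_mul]
    _ = ∑ q ∈ Finset.univ ×ˢ Finset.univ.filter (fun u : K => π u = 1 ∧ f * u = u * f),
          F (q.1 * (f ^ k * q.2) * q.1⁻¹) := by
        rw [← Finset.sum_fiberwise_of_maps_to (g := fun q : K × K => q.1 * (f ^ k * q.2) * q.1⁻¹)
          (t := Finset.univ.filter (fun y : K => π y = π f ^ k)) ?_]
        · refine Finset.sum_congr rfl fun y _ => Finset.sum_congr rfl fun q hq => ?_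
          rw [(Finset.mem_filter.1 hq).2]
        · intro q hq
          refine Finset.mem_filter.2 ⟨Finset.mem_univ _, ?_⟩
          rw [hπc, map_mul, (Finset.mem_filter.1 (Finset.mem_product.1 hq).2).2.1, mul_one, map_pow]
    _ = _ := by
        rw [Finset.sum_product]
        simp only [hF, Finset.sum_const, Finset.card_univ, nsmul_eq_mul, Nat.card_eq_fintype_card]

end Cfsg.Agent.NoField
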