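import Cfsg.Agent.Lib.Char.Monomial
import Cfsg.Agent.Lib.Char.DegreeCenter
import Cfsg.Agent.Lib.Char.GlaubermanMod
import Cfsg.Agent.Lib.RankOneSplit.NilParts
import Cfsg.Agent.Lib.Blocks.Degree
import Cfsg.Agent.Lib.Blocks.Quotient

/-!
A character vanishing where the `p`-part is outside a central `p`-subgroup `Z` of its kernel stays a
generalised character when multiplied by a linear character of `Z` at the `p`-part.
-/

set_option autoImplicit false
set_option linter.style.haveILetI false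
set_option linter.unusedSectionVars false

namespace Cfsg.Agent.NoField

open Subgroup Cfsg Cfsg.Agent.Char
open scoped ComplexConjugate Classical

universe u

variable {H : Type u} [Group H] [Fintype H] {p : ℕ}

/-- In a nilpotent group taking the part of order prime to `p` is a homomorphism. -/
theorem exists_prime_part (hp : p.Prime) {E : Type u} [Group E] [Finite E] (hE : Group.IsNilpotent E) :
    ∃ π : E →* E, ∀ x, Cfsg.IsPPart p x (x * (π x)⁻¹) ∧ ¬ p ∣ orderOf (π x) := by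
  haveI := Fact.mk hp
  have hU : Group.IsNilpotent (⊤ : Subgroup E) := Group.nilpotent_of_mulEquiv Subgroup.topEquiv.symm
  set P := RankOneSplit.pPart hU p
  set C := RankOneSplit.pCompl hU p
  have hcov : ∀ x : E, ∃ z, z ∈ C ∧ x * z⁻¹ ∈ P := fun x => by
    obtain ⟨y, hy, z, hz, rfl⟩ := RankOneSplit.parts_cover hU p (Subgroup.mem_top x)
    exact ⟨z, hz, by rwa [mul_inv_cancel_right]⟩
  choose f hfC hfP using hcov
  refine ⟨MonoidHom.mk' f fun a b => ?_, fun x => ⟨⟨f x, inv_mul_cancel_right _ _, ?_, ?_, ?_⟩, ?_⟩⟩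
  · refine (RankOneSplit.parts_unique hU p (hfP (a * b)) (mul_mem (hfP a) (hfP b)) (hfC (a * b))
      (mul_mem (hfC a) (hfC b)) ?_).2
    have hc := RankOneSplit.parts_commute hU p (hfP b) (hfC a)
    calc a * b * (f (a * b))⁻¹ * f (a * b) = a * (f a)⁻¹ * (f a * (b * (f b)⁻¹)) * f b := by group
      _ = a * (f a)⁻¹ * (b * (f b)⁻¹ * f a) * f b := by rw [hc.eq]
      _ = a * (f a)⁻¹ * (b * (f b)⁻¹) * (f a * f b) := by group
  · exact RankOneSplit.parts_commute hU p (hfP x) (hfC x)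
  · obtain ⟨-, k, hk⟩ := (RankOneSplit.mem_pPart hU p).1 (hfP x)
    obtain ⟨j, -, hj⟩ := (Nat.dvd_prime_pow hp).1 (orderOf_dvd_of_pow_eq_one hk)
    exact ⟨j, hj⟩
  · exact hp.coprime_iff_not_dvd.1 ((RankOneSplit.mem_pCompl hU p).1 (hfC x)).2.symm
  · exact hp.coprime_iff_not_dvd.1 ((RankOneSplit.mem_pCompl hU p).1 (hfC x)).2.symm

theorem isPPart_coe {A : Subgroup H} {x y : A} (h : Cfsg.IsPPart p x y) :
    Cfsg.IsPPart p (x : H) (y : H) := by
  obtain ⟨z, hz, hc, hk, hnd⟩ := h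
  exact ⟨z, congrArg Subtype.val hz, congrArg Subtype.val hc, by simpa [Subgroup.orderOf_coe] using hk,
    by rwa [Subgroup.orderOf_coe]⟩

/-- The twist by a character of the central part. -/
theorem twist_gen (hp : p.Prime) {η : H → ℂ} (hη : IsCharacter H η) (Z : Subgroup H)
    (hZc : Z ≤ Subgroup.center H) (hZp : IsPGroup p Z)
    (hker : ∀ z ∈ Z, ∀ x, η (z * x) = η x)
    (hvan : ∀ x xp, Cfsg.IsPPart p x xp → xp ∉ Z → η x = 0) (lam : Z →* ℂˣ) (θ : H → ℂ)
    (hθ : ∀ x xp, Cfsg.IsPPart p x xp → ∀ h : xp ∈ Z, θ x = (lam ⟨xp, h⟩ : ℂ) * η x)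
    (hθ0 : ∀ x xp, Cfsg.IsPPart p x xp → xp ∉ Z → θ x = 0) :
    IsGeneralizedCharacter H θ := by
  have hcls : IsClassFunction H θ := fun g c => by
    obtain ⟨gp, hg⟩ := Blocks.exists_isPPart hp g
    have hg' := Blocks.IsPPart.conj hg c
    by_cases h : gp ∈ Z
    · have e : c * gp * c⁻¹ = gp := by rw [Subgroup.mem_center_iff.1 (hZc h) c, mul_inv_cancel_right]
      rw [e] at hg'
      rw [hθ _ _ hg' h, hθ _ _ hg h, IsCharacter.isClassFunction hη]
    · rw [hθ0 _ _ hg h, hθ0 _ _ hg' fun h' => h ?_]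
      have e : gp = c⁻¹ * (c * gp * c⁻¹) * c := by group
      rw [e, Subgroup.mem_center_iff.1 (hZc h') c⁻¹, inv_mul_cancel_right]
      exact h'
  refine isGeneralizedCharacter_of_elementary hcls fun E q hq hE => ?_
  haveI : Fintype E := Fintype.ofFinite E
  obtain ⟨π, hπ⟩ := exists_prime_part hp (isNilpotent_of_elementary hq hE)
  set Z0 : Subgroup E := Z.subgroupOf E
  have hZ0c : Z0 ≤ Subgroup.center E := fun z hz => Subgroup.mem_center_iff.2 fun g =>
    Subtype.ext (Subgroup.mem_center_iff.1 (hZc (mem_subgroupOf.1 hz)) g)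
  refine isGeneralizedCharacter_of_classInner (fun g c => hcls g c) fun φ => ?_
  have hω' : ∀ z : Z0, ∃ c : ℂ, ∀ g, (φ : E → ℂ) ((z : E) * g) = c * (φ : E → ℂ) g := fun z => by
    obtain ⟨c, -, hc, -⟩ := IsIrrCharacter.exists_central_scalar φ.2 (hZ0c z.2)
    exact ⟨c, hc⟩
  choose ω hω using hω'
  have hψ : IsCharacter E (fun x => (φ : E → ℂ) (π x)) :=
    IsCharacter.comp (IsIrrCharacter.isCharacter φ.2) π
  obtain ⟨n, hn⟩ := IsGeneralizedCharacter.exists_classInner_int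
    (IsGeneralizedCharacter.of_isCharacter (IsCharacter.restrict hη E))
    (IsGeneralizedCharacter.of_isCharacter hψ)
  let ν : Z0 → ℂ := fun z => (lam ⟨((z : E) : H), mem_subgroupOf.1 z.2⟩ : ℂ) * conj (ω z)
  have hterm : ∀ x : E, θ x * conj ((φ : E → ℂ) x) =
      (if h : x * (π x)⁻¹ ∈ Z0 then ν ⟨_, h⟩ else 0) * (η x * conj ((φ : E → ℂ) (π x))) := fun x => by
    have hxp := isPPart_coe (hπ x).1
    by_cases h : x * (π x)⁻¹ ∈ Z0
    · rw [dif_pos h, hθ _ _ hxp (mem_subgroupOf.1 h)]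
      have e := hω ⟨_, h⟩ (π x)
      rw [inv_mul_cancel_right] at e
      rw [e, map_mul]
      ring
    · rw [dif_neg h, hθ0 _ _ hxp fun h' => h (mem_subgroupOf.2 h'), zero_mul, zero_mul]
  have hshift : ∀ (z : Z0) (x : E), π ((z : E) * x) = π x := fun z x => by
    suffices π (z : E) = 1 by rw [map_mul, this, one_mul]
    obtain ⟨k, hk⟩ := hZp ⟨((z : E) : H), mem_subgroupOf.1 z.2⟩
    have hk' : (z : E) ^ p ^ k = 1 := Subtype.ext (by simpa using congrArg Subtype.val hk)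
    obtain ⟨j, -, hj⟩ := (Nat.dvd_prime_pow hp).1 (orderOf_dvd_of_pow_eq_one
      (show π (z : E) ^ p ^ k = 1 by rw [← map_pow, hk', map_one]))
    rw [← orderOf_eq_one_iff, hj]
    rcases Nat.eq_zero_or_pos j with rfl | hjp
    · rw [pow_zero]
    · exact absurd (hj ▸ dvd_pow_self p hjp.ne') (hπ (z : E)).2
  have hνmul : ∀ z w : Z0, ν (z * w) = ν z * ν w := fun z w => by
    have e1 : ω (z * w) = ω z * ω w := by
      refine mul_right_cancel₀ (IsIrrCharacter.one_ne_zero φ.2) ?_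
      rw [← hω, mul_assoc, ← hω, ← hω, Subgroup.coe_mul, mul_assoc]
    simp only [ν, e1, map_mul]
    rw [show (⟨(((z * w : Z0) : E) : H), mem_subgroupOf.1 (z * w).2⟩ : Z) =
      ⟨((z : E) : H), mem_subgroupOf.1 z.2⟩ * ⟨((w : E) : H), mem_subgroupOf.1 w.2⟩ from rfl, map_mul,
      Units.val_mul]
    ring
  by_cases hν : ∀ z, ν z = 1
  · refine ⟨n, ?_⟩
    rw [← hn]
    unfold classInner
    congr 1
    refine Finset.sum_congr rfl fun x _ => ?_
    rw [hterm]
    by_cases h : x * (π x)⁻¹ ∈ Z0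
    · rw [dif_pos h, hν, one_mul]
    · show _ = η x * conj _
      rw [dif_neg h, zero_mul, hvan _ _ (isPPart_coe (hπ x).1) fun h' => h (mem_subgroupOf.2 h'), zero_mul]
  · push Not at hν
    obtain ⟨z0, hz0⟩ := hν
    refine ⟨0, ?_⟩
    unfold classInner
    rw [Int.cast_zero]
    refine mul_eq_zero_of_right _ ?_
    set T := ∑ x : E, θ x * conj ((φ : E → ℂ) x)
    have hT : ν z0 * T = T := by
      rw [Finset.mul_sum]
      refine Fintype.sum_equiv (Equiv.mulLeft (z0 : E)) _ _ fun x => ?_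
      rw [Equiv.coe_mulLeft, hterm, hterm, hshift, mul_assoc (z0 : E) x]
      by_cases h : x * (π x)⁻¹ ∈ Z0
      · rw [dif_pos h, dif_pos (mul_mem z0.2 h),
          show (⟨(z0 : E) * (x * (π x)⁻¹), mul_mem z0.2 h⟩ : Z0) = z0 * ⟨_, h⟩ from rfl, hνmul,
          Subgroup.coe_mul, hker _ (mem_subgroupOf.1 z0.2)]
        ring
      · rw [dif_neg h, dif_neg fun h' => h (by
          have := mul_mem (inv_mem z0.2) h'
          rwa [inv_mul_cancel_left] at this)]
        ring
    exact (mul_eq_zero.1 (show (ν z0 - 1) * T = 0 by rw [sub_mul, hT, one_mul, sub_self])).resolve_left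
      (sub_ne_zero.2 hz0)

theorem isPPart_map (hp : p.Prime) {K : Type u} [Group K] [Finite K] (f : H →* K) {x y : H}
    (h : Cfsg.IsPPart p x y) : Cfsg.IsPPart p (f x) (f y) := by
  obtain ⟨z, hz, hc, ⟨k, hk⟩, hnd⟩ := h
  obtain ⟨j, -, hj⟩ := (Nat.dvd_prime_pow hp).1 (hk ▸ orderOf_map_dvd f y)
  exact ⟨f z, by rw [← map_mul, hz], hc.map f, ⟨j, hj⟩, fun hd => hnd (hd.trans (orderOf_map_dvd f z))⟩

/-- A character of defect zero modulo a central subgroup in its kernel vanishes where the `p`-part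
is outside that subgroup. -/
theorem vanish_of_defect (hp : p.Prime) (η : IrrCharacter H) (Z : Subgroup H) [Z.Normal]
    (hker : ∀ z ∈ Z, (η : H → ℂ) z = (η : H → ℂ) 1)
    (hdeg : (charDegree (η : H → ℂ)).factorization p + (Nat.card Z).factorization p =
      (Nat.card H).factorization p)
    {x xp : H} (hx : Cfsg.IsPPart p x xp) (hxp : xp ∉ Z) : (η : H → ℂ) x = 0 := by
  haveI := Fact.mk hp
  obtain ⟨M, hM⟩ := GlaubermanMod.exists_isPModular p
  haveI := Blocks.IsPModular.isPrime hM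
  haveI : Fintype (H ⧸ Z) := Fintype.ofFinite _
  obtain ⟨η', hη'⟩ := (CharX.quotEquiv Z).surjective ⟨η, hker⟩
  have hval : ∀ g : H, (η' : H ⧸ Z → ℂ) (g : H ⧸ Z) = (η : H → ℂ) g := fun g =>
    congrFun (congrArg Subtype.val (congrArg Subtype.val hη')) g
  have hd : charDegree (η' : H ⧸ Z → ℂ) = charDegree (η : H → ℂ) := by
    show ⌊((η' : H ⧸ Z → ℂ) 1).re⌋₊ = ⌊((η : H → ℂ) 1).re⌋₊
    rw [← QuotientGroup.mk_one, hval]
  have hB : IsPBlock M ({η'} : Set (IrrCharacter (H ⧸ Z))) := by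
    rw [← Blocks.blockOf_eq_singleton hM η' ?_]
    · exact Blocks.isPBlock_blockOf η'
    · rw [hd]
      have h := congrArg (fun n => n.factorization p) (Subgroup.card_eq_card_quotient_mul_card_subgroup Z)
      simp only [Nat.factorization_mul Nat.card_pos.ne' Nat.card_pos.ne', Finsupp.coe_add, Pi.add_apply] at h
      omega
  have hz := Blocks.blockPair_eq_zero_of_pPart hM hB
    ((Blocks.isPPart_one_iff hp).2 (by simpa using hp.ne_one) : Cfsg.IsPPart p (1 : H ⧸ Z) 1)
    (isPPart_map hp (QuotientGroup.mk' Z) hx)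
    (fun hc => hxp ((QuotientGroup.eq_one_iff xp).1 (isConj_one_right.1 hc)))
  rw [Blocks.blockPair_eq_finsum, finsum_mem_singleton] at hz
  rw [← hval]
  exact (map_eq_zero (starRingEnd ℂ)).1 ((mul_eq_zero.1 hz).resolve_left (Blocks.irr_one_ne_zero η'))

end Cfsg.Agent.NoField
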