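import Cfsg.Agent.Lib.NoField.Facts
import Mathlib.GroupTheory.GroupAction.Basic

/-!
The action of `X` on the root groups: the projective line.
-/

set_option autoImplicit false
set_option linter.style.haveILetI false
set_option linter.unusedSectionVars false

namespace Cfsg.Agent.NoField

open Subgroup Cfsg.Agent.Walter8 Cfsg.Agent.AutPSL
open scoped Classical

universe u

/-- In a transitive action the translates fixing a point are as many as the group. -/
theorem sum_fix_translate {L : Type*} {Y : Type*} [Group L] [Fintype L] [MulAction L Y] [Fintype Y] [Nonempty Y]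
    [MulAction.IsPretransitive L Y] (g : Y → Y) :
    ∑ l : L, (Finset.univ.filter fun y : Y => l • g y = y).card = Nat.card L := by
  have hc : ∀ a b : Y, (Finset.univ.filter fun l : L => l • a = b).card =
      Nat.card (MulAction.stabilizer L a) := by
    intro a b
    obtain ⟨l₀, hl₀⟩ := MulAction.exists_smul_eq L a b
    rw [← Fintype.card_subtype, ← Nat.card_eq_fintype_card]
    refine Nat.card_congr ((Equiv.mulLeft l₀⁻¹).subtypeEquiv fun l => ?_)
    rw [MulAction.mem_stabilizer_iff, Equiv.coe_mulLeft, mul_smul, inv_smul_eq_iff, hl₀]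
  have hs : ∀ a : Y, Nat.card Y * Nat.card (MulAction.stabilizer L a) = Nat.card L := fun a => by
    rw [← MulAction.index_stabilizer_of_transitive L a, mul_comm, Subgroup.card_mul_index]
  simp only [Finset.card_filter]
  rw [Finset.sum_comm]
  simp only [← Finset.card_filter, hc]
  obtain ⟨a⟩ := ‹Nonempty Y›
  have e : ∀ y : Y, Nat.card (MulAction.stabilizer L (g y)) = Nat.card (MulAction.stabilizer L a) := fun y =>
    Nat.eq_of_mul_eq_mul_left Nat.card_pos ((hs (g y)).trans (hs a).symm)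
  rw [Finset.sum_congr rfl fun y _ => e y, Finset.sum_const, Finset.card_univ, smul_eq_mul,
    ← Nat.card_eq_fintype_card, hs]

variable {G : Type u} [Group G] [Finite G] {D : Data G}

namespace Data

variable (D : Data G)

theorem char_prime : (ringChar D.F).Prime := CharP.char_is_prime D.F (ringChar D.F)

instance fact_char : Fact (ringChar D.F).Prime := ⟨D.char_prime⟩

/-- The image of a root group of `L` under conjugation by an element of `X`. -/
theorem root_map_conj (l : PSL2 D.F) (σ : D.Φ) (K : Subgroup (PSL2 D.F)) :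
    (K.map D.jL).map (MulAut.conj (D.jL l * D.jΦ σ)).toMonoidHom =
      (K.map ((MulAut.conj l * semi 1 (σ : D.F ≃+* D.F)) : MulAut (PSL2 D.F)).toMonoidHom).map D.jL := by
  rw [Subgroup.map_map, Subgroup.map_map]
  congr 1
  refine MonoidHom.ext fun a => ?_
  show D.jL l * D.jΦ σ * D.jL a * (D.jL l * D.jΦ σ)⁻¹ = D.jL (l * semi 1 (σ : D.F ≃+* D.F) a * l⁻¹)
  rw [map_mul, map_mul, map_inv, ← D.jconj]
  group

theorem roots_conj {x : G} (hx : x ∈ D.X) {P : Subgroup G} (hP : P ∈ D.Roots) :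
    P.map (MulAut.conj x).toMonoidHom ∈ D.Roots := by
  obtain ⟨R, rfl⟩ := hP
  obtain ⟨l, σ, rfl⟩ := D.prod x hx
  refine ⟨R.mapSurjective (f := ((MulAut.conj l * semi 1 (σ : D.F ≃+* D.F)) : MulAut (PSL2 D.F)).toMonoidHom)
    (MulEquiv.surjective _), ?_⟩
  exact D.root_map_conj l σ R

/-- The points of the projective line. -/
abbrev Pts : Type u := {P : Subgroup G // P ∈ D.Roots}

instance : MulAction D.X D.Pts where
  smul x P := ⟨(P : Subgroup G).map (MulAut.conj (x : G)).toMonoidHom, D.roots_conj x.2 P.2⟩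
  one_smul P := Subtype.ext (by
    show (P : Subgroup G).map (MulAut.conj (1 : G)).toMonoidHom = P
    rw [map_one]; exact Subgroup.map_id _)
  mul_smul x y P := Subtype.ext (by
    show (P : Subgroup G).map (MulAut.conj ((x : G) * y)).toMonoidHom =
      ((P : Subgroup G).map (MulAut.conj (y : G)).toMonoidHom).map (MulAut.conj (x : G)).toMonoidHom
    rw [Subgroup.map_map, map_mul]; rfl)

theorem coe_smul_pts (x : D.X) (P : D.Pts) :
    ((x • P : D.Pts) : Subgroup G) = (P : Subgroup G).map (MulAut.conj (x : G)).toMonoidHom := rfl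

theorem fixN_eq (x : D.X) : D.fixN x = Nat.card (MulAction.fixedBy D.Pts x) := by
  refine Nat.card_congr (Equiv.trans (Equiv.subtypeSubtypeEquivSubtypeInter _ _).symm
    (Equiv.subtypeEquivRight fun P => ?_))
  rw [MulAction.mem_fixedBy, Subtype.ext_iff, coe_smul_pts]

/-- The point of a Sylow subgroup of `L`. -/
def pt (R : Sylow (ringChar D.F) (PSL2 D.F)) : D.Pts := ⟨(R : Subgroup (PSL2 D.F)).map D.jL, R, rfl⟩

theorem pt_injective : Function.Injective D.pt := fun _ _ h =>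
  Sylow.ext (Subgroup.map_injective D.jL_inj (congrArg Subtype.val h))

theorem pt_surjective : Function.Surjective D.pt := by
  rintro ⟨_, R, rfl⟩
  exact ⟨R, rfl⟩

theorem smul_jL_pt (l : PSL2 D.F) (R : Sylow (ringChar D.F) (PSL2 D.F)) :
    D.jLX l • D.pt R = D.pt (l • R) := Subtype.ext (by
  rw [coe_smul_pts]
  show ((R : Subgroup (PSL2 D.F)).map D.jL).map (MulAut.conj (D.jL l)).toMonoidHom =
    ((l • R : Sylow _ _) : Subgroup (PSL2 D.F)).map D.jL
  rw [Sylow.coe_subgroup_smul, Subgroup.pointwise_smul_def, Subgroup.map_map]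
  refine Eq.trans ?_ (Subgroup.map_map _ D.jL _).symm
  congr 1
  refine MonoidHom.ext fun a => ?_
  show D.jL l * D.jL a * (D.jL l)⁻¹ = D.jL (l * a * l⁻¹)
  rw [map_mul, map_mul, map_inv])

/-- An element of `L` fixing a point normalises its root group. -/
theorem fixes_iff (a : PSL2 D.F) (R : Sylow (ringChar D.F) (PSL2 D.F)) :
    ((R : Subgroup (PSL2 D.F)).map D.jL).map (MulAut.conj (D.jL a)).toMonoidHom =
      (R : Subgroup (PSL2 D.F)).map D.jL ↔ a ∈ normalizer ((R : Subgroup (PSL2 D.F)) : Set (PSL2 D.F)) := by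
  refine Iff.trans ?_ Sylow.smul_eq_iff_mem_normalizer
  rw [← D.pt_injective.eq_iff, ← D.smul_jL_pt, Subtype.ext_iff, coe_smul_pts]
  rfl

/-- Elements of a coset of `L`. -/
noncomputable def cosetEquiv (σ : D.Φ) : PSL2 D.F ≃ {x : D.X // D.pr x = σ} :=
  Equiv.ofBijective (fun l => ⟨D.jLX l * D.jΦX σ, by rw [map_mul, D.pr_jL, D.pr_jΦ, one_mul]⟩)
    ⟨fun _ _ h => (D.prod_unique (σ := σ) (σ' := σ)
      (congrArg (fun z : {x : D.X // D.pr x = σ} => ((z : D.X) : G)) h)).1, fun x => by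
      obtain ⟨l, hl⟩ := D.exists_prod x.1
      exact ⟨l, Subtype.ext (Subtype.ext (by rw [hl, x.2]; rfl))⟩⟩

theorem sum_coset [Fintype G] (σ : D.Φ) (f : D.X → ℂ) :
    ∑ x : D.X, (if D.pr x = σ then f x else 0) = ∑ l : PSL2 D.F, f (D.jLX l * D.jΦX σ) := by
  rw [← Finset.sum_filter, Finset.sum_subtype (p := fun x : D.X => D.pr x = σ) _ (fun x => by simp) f]
  exact ((D.cosetEquiv σ).sum_comp fun x => f x.1).symm

theorem card_X : Nat.card D.X = Nat.card D.Φ * Nat.card (PSL2 D.F) := by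
  haveI : Finite D.Φ := Finite.of_injective _ D.jΦ_inj
  haveI := Fintype.ofFinite D.Φ
  rw [← Nat.card_congr (Equiv.sigmaFiberEquiv (fun x : D.X => D.pr x)), Nat.card_sigma,
    Finset.sum_congr rfl fun σ _ => (Nat.card_congr (D.cosetEquiv σ)).symm, Finset.sum_const,
    Finset.card_univ, smul_eq_mul, Nat.card_eq_fintype_card (α := D.Φ)]

end Data

namespace Main

theorem ld_q : ((Fintype.card D.F : ℤ)).natAbs = Fintype.card D.F := Int.natAbs_natCast _

variable (M : Main D)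
include M

theorem ld_p : M.ld.p = ringChar D.F := by
  obtain ⟨n, hp, hc⟩ := FiniteField.card D.F (ringChar D.F)
  have h := M.ld.abs_Q
  rw [ld_q] at h
  have hd : ringChar D.F ∣ M.ld.p ^ M.ld.n :=
    (hc.symm.trans h) ▸ dvd_pow_self _ n.pos.ne'
  exact ((Nat.prime_dvd_prime_iff_eq hp M.ld.prime_p).1 (hp.dvd_of_dvd_pow hd)).symm

theorem q_eq : Fintype.card D.F = ringChar D.F ^ M.ld.n := by
  have h := M.ld.abs_Q
  rw [ld_q] at h
  exact h.trans (congrArg (· ^ M.ld.n) M.ld_p)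

theorem char_dvd_q : ringChar D.F ∣ Fintype.card D.F := by
  exact (dvd_pow_self (ringChar D.F) M.ld.n_odd.pos.ne').trans (dvd_of_eq M.q_eq.symm)

theorem card_L : 2 * Nat.card (PSL2 D.F) = Fintype.card D.F * (Fintype.card D.F ^ 2 - 1) := by
  have := M.ld.card_L
  rwa [ld_q] at this

theorem exists_base : ∃ R : Sylow (ringChar D.F) (PSL2 D.F), (R : Subgroup (PSL2 D.F)) = M.ld.U := by
  have hU : Nat.card M.ld.U = ringChar D.F ^ M.ld.n := (M.ld.card_U.trans ld_q).trans M.q_eq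
  have hp := D.char_prime
  have hfac : (Nat.card (PSL2 D.F)).factorization (ringChar D.F) = M.ld.n := by
    refine le_antisymm ?_ ((hp.pow_dvd_iff_le_factorization Nat.card_pos.ne').1
      (hU ▸ card_subgroup_dvd_card _))
    by_contra hlt
    have h1 : ringChar D.F ^ (M.ld.n + 1) ∣ 2 * Nat.card (PSL2 D.F) :=
      ((pow_dvd_pow _ (by omega)).trans (Nat.ordProj_dvd _ _)).trans (dvd_mul_left _ _)
    rw [M.card_L, pow_succ, ← M.q_eq] at h1
    have h2 := Nat.dvd_of_mul_dvd_mul_left Fintype.card_pos h1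
    have h3 : ringChar D.F ∣ Fintype.card D.F ^ 2 := dvd_pow M.char_dvd_q two_ne_zero
    have h4 : ringChar D.F ∣ 1 := by
      have h5 : 1 ≤ Fintype.card D.F ^ 2 := Nat.one_le_pow _ _ Fintype.card_pos
      have := Nat.dvd_sub h3 h2
      rwa [show Fintype.card D.F ^ 2 - (Fintype.card D.F ^ 2 - 1) = 1 by omega] at this
    exact hp.ne_one (Nat.dvd_one.1 h4)
  exact ⟨Sylow.ofCard M.ld.U (by rw [hU, hfac]), Sylow.coe_ofCard _ _⟩

theorem card_sylow : Nat.card (Sylow (ringChar D.F) (PSL2 D.F)) = Fintype.card D.F + 1 := by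
  obtain ⟨R, hR⟩ := M.exists_base
  have e : Nat.card (Sylow (ringChar D.F) (PSL2 D.F)) =
      (normalizer ((R : Subgroup (PSL2 D.F)) : Set (PSL2 D.F))).index := R.card_eq_index_normalizer
  rw [e, hR]
  have h1 := (normalizer (M.ld.U : Set (PSL2 D.F))).card_mul_index
  have h2 := M.ld.card_NU
  rw [ld_q] at h2
  have h3 := M.card_L
  have key : ∀ N I c q : ℕ, 2 ≤ q → N * I = c → 2 * N = q * (q - 1) → 2 * c = q * (q ^ 2 - 1) → I = q + 1 := by
    intro N I c q hq h1 h2 h3
    obtain ⟨q, rfl⟩ : ∃ r, q = r + 2 := ⟨q - 2, by omega⟩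
    rw [show q + 2 - 1 = q + 1 from rfl] at h2
    rw [show (q + 2) ^ 2 - 1 = (q + 1) * (q + 3) by rw [Nat.sub_eq_of_eq_add]; ring] at h3
    rw [← h1, ← mul_assoc, h2, ← mul_assoc] at h3
    exact Nat.eq_of_mul_eq_mul_left (by positivity) h3
  exact key _ _ _ _ (by have := D.three_lt; omega) h1 h2 h3

/-- Twice the order of the normaliser of a root group. -/
theorem card_normalizer (R : Sylow (ringChar D.F) (PSL2 D.F)) :
    2 * Nat.card (normalizer ((R : Subgroup (PSL2 D.F)) : Set (PSL2 D.F))) =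
      Fintype.card D.F * (Fintype.card D.F - 1) := by
  obtain ⟨R₀, hR₀⟩ := M.exists_base
  have h1 := (normalizer ((R : Subgroup (PSL2 D.F)) : Set (PSL2 D.F))).card_mul_index
  have h2 := (normalizer ((R₀ : Subgroup (PSL2 D.F)) : Set (PSL2 D.F))).card_mul_index
  have e : ∀ T : Sylow (ringChar D.F) (PSL2 D.F),
      (normalizer ((T : Subgroup (PSL2 D.F)) : Set (PSL2 D.F))).index = Nat.card (Sylow (ringChar D.F) (PSL2 D.F)) :=
    fun T => T.card_eq_index_normalizer.symm
  rw [e R] at h1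
  rw [e R₀, ← h1] at h2
  have h3 := M.ld.card_NU
  rw [ld_q, ← hR₀, Nat.eq_of_mul_eq_mul_right Nat.card_pos h2] at h3
  exact h3

/-- A root group meets the base one trivially. -/
theorem inf_base {R₀ R : Sylow (ringChar D.F) (PSL2 D.F)} (hR₀ : (R₀ : Subgroup (PSL2 D.F)) = M.ld.U)
    (hne : R ≠ R₀) : (R₀ : Subgroup (PSL2 D.F)) ⊓ R = ⊥ := by
  rw [eq_bot_iff]
  rintro z ⟨hz0, hzR⟩
  rw [mem_bot]
  by_contra hz
  refine hne (Sylow.ext ?_)
  obtain ⟨g, hg⟩ := MulAction.exists_smul_eq (PSL2 D.F) R₀ R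
  have hcomm : ∀ a ∈ (R : Subgroup (PSL2 D.F)), a * z = z * a := by
    intro a ha
    have hmem : ∀ b ∈ (R : Subgroup (PSL2 D.F)), g⁻¹ * b * g ∈ M.ld.U := fun b hb => by
      rw [← hg, Sylow.coe_subgroup_smul, Subgroup.mem_pointwise_smul_iff_inv_smul_mem, hR₀] at hb
      simpa [MulAut.smul_def] using hb
    replace ha := hmem a ha
    replace hzR := hmem z hzR
    calc a * z = g * ((g⁻¹ * a * g) * (g⁻¹ * z * g)) * g⁻¹ := by group
      _ = g * ((g⁻¹ * z * g) * (g⁻¹ * a * g)) * g⁻¹ := by rw [M.ld.U_comm _ ha _ hzR]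
      _ = z * a := by group
  have hle : (R : Subgroup (PSL2 D.F)) ≤ R₀ := fun a ha => by
    rw [hR₀]
    exact M.ld.cent_u z (hR₀ ▸ hz0) hz a (hcomm a ha)
  exact (R.is_maximal' R₀.2 hle).symm

theorem card_pts : Nat.card D.Pts = Fintype.card D.F + 1 :=
  (Nat.card_eq_of_bijective D.pt ⟨D.pt_injective, D.pt_surjective⟩).symm.trans M.card_sylow

theorem trans_pt (P Q : D.Pts) : ∃ l : PSL2 D.F, D.jLX l • P = Q := by
  obtain ⟨R, rfl⟩ := D.pt_surjective P
  obtain ⟨R', rfl⟩ := D.pt_surjective Q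
  obtain ⟨l, hl⟩ := MulAction.exists_smul_eq (PSL2 D.F) R R'
  exact ⟨l, by rw [D.smul_jL_pt, hl]⟩

theorem trans_pairs {P Q P' Q' : D.Pts} (h : P ≠ Q) (h' : P' ≠ Q') :
    ∃ l : PSL2 D.F, D.jLX l • P = P' ∧ D.jLX l • Q = Q' := by
  obtain ⟨R₀, hR₀⟩ := M.exists_base
  have key : ∀ R R' : Sylow (ringChar D.F) (PSL2 D.F), R ≠ R₀ → R' ≠ R₀ →
      ∃ u ∈ (R₀ : Subgroup (PSL2 D.F)), u • R = R' := by
    intro R R' hR hR'
    have hfix : ∀ u ∈ (R₀ : Subgroup (PSL2 D.F)), u • R₀ = R₀ := fun u hu =>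
      Sylow.smul_eq_iff_mem_normalizer.2 (le_normalizer hu)
    let f : ↥(R₀ : Subgroup (PSL2 D.F)) → {S : Sylow (ringChar D.F) (PSL2 D.F) // S ≠ R₀} :=
      fun u => ⟨(u : PSL2 D.F) • R, fun e => hR (by
        rw [← smul_left_cancel_iff (u : PSL2 D.F), e, hfix _ u.2])⟩
    have hinj : Function.Injective f := by
      intro u v huv
      have h1 : ((u⁻¹ * v : (R₀ : Subgroup (PSL2 D.F))) : PSL2 D.F) • R = R := by
        rw [Subgroup.coe_mul, Subgroup.coe_inv, mul_smul, ← (show (u : PSL2 D.F) • R = (v : PSL2 D.F) • R from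
          congrArg Subtype.val huv), inv_smul_smul]
      have h2 : ((u⁻¹ * v : (R₀ : Subgroup (PSL2 D.F))) : PSL2 D.F) ∈ (R₀ : Subgroup (PSL2 D.F)) ⊓ R := by
        rw [← R₀.2.inf_normalizer_sylow R]
        exact ⟨(u⁻¹ * v).2, Sylow.smul_eq_iff_mem_normalizer.1 h1⟩
      rw [M.inf_base hR₀ hR, mem_bot] at h2
      exact inv_mul_eq_one.1 (Subtype.ext h2)
    have hcard : Nat.card (R₀ : Subgroup (PSL2 D.F)) =
        Nat.card {S : Sylow (ringChar D.F) (PSL2 D.F) // S ≠ R₀} := by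
      have e1 : Nat.card (R₀ : Subgroup (PSL2 D.F)) = Fintype.card D.F := by
        rw [hR₀, M.ld.card_U, ld_q]
      rw [e1, Nat.card_eq_fintype_card, Fintype.card_subtype_compl, Fintype.card_subtype_eq]
      have := M.card_sylow
      rw [Nat.card_eq_fintype_card] at this
      omega
    obtain ⟨u, hu⟩ := ((Nat.bijective_iff_injective_and_card f).2 ⟨hinj, hcard⟩).2 ⟨R', hR'⟩
    exact ⟨u, u.2, congrArg Subtype.val hu⟩
  obtain ⟨a, ha⟩ := M.trans_pt P (D.pt R₀)
  obtain ⟨b, hb⟩ := M.trans_pt P' (D.pt R₀)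
  obtain ⟨R, hR⟩ := D.pt_surjective (D.jLX a • Q)
  obtain ⟨R', hR'⟩ := D.pt_surjective (D.jLX b • Q')
  have hne : R ≠ R₀ := fun e => h (smul_left_cancel (D.jLX a) (by rw [ha, ← hR, e]))
  have hne' : R' ≠ R₀ := fun e => h' (smul_left_cancel (D.jLX b) (by rw [hb, ← hR', e]))
  obtain ⟨u, hu, huR⟩ := key R R' hne hne'
  have hu0 : D.jLX u • D.pt R₀ = D.pt R₀ := by
    rw [D.smul_jL_pt, Sylow.smul_eq_iff_mem_normalizer.2 (le_normalizer hu)]
  refine ⟨b⁻¹ * u * a, ?_, ?_⟩
  · rw [map_mul, map_mul, map_inv, mul_smul, mul_smul, ha, hu0, ← hb, inv_smul_smul]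
  · rw [map_mul, map_mul, map_inv, mul_smul, mul_smul, ← hR, D.smul_jL_pt, huR, hR', inv_smul_smul]

theorem sum_fix [Fintype G] (σ : D.Φ) :
    ∑ x : D.X, (if D.pr x = σ then (D.fixN x : ℂ) else 0) = Nat.card (PSL2 D.F) ∧
    ∑ x : D.X, (if D.pr x = σ then (D.fixN x : ℂ) ^ 2 else 0) = 2 * Nat.card (PSL2 D.F) := by
  letI aP : MulAction (PSL2 D.F) D.Pts := MulAction.compHom D.Pts D.jLX
  let Y := {p : D.Pts × D.Pts // p.1 ≠ p.2}
  letI aY : MulAction (PSL2 D.F) Y :=
    { smul := fun l p => ⟨(l • p.1.1, l • p.1.2), fun e => p.2 (smul_left_cancel l e)⟩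
      one_smul := fun p => Subtype.ext (Prod.ext (one_smul (PSL2 D.F) _) (one_smul (PSL2 D.F) _))
      mul_smul := fun a b p => Subtype.ext (Prod.ext (mul_smul a b _) (mul_smul a b _)) }
  haveI : MulAction.IsPretransitive (PSL2 D.F) D.Pts := ⟨fun P Q => M.trans_pt P Q⟩
  haveI : MulAction.IsPretransitive (PSL2 D.F) Y := ⟨fun p p' => by
    obtain ⟨l, h1, h2⟩ := M.trans_pairs p.2 p'.2
    exact ⟨l, Subtype.ext (Prod.ext h1 h2)⟩⟩
  haveI : Nontrivial D.Pts := Finite.one_lt_card_iff_nontrivial.1 (by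
    rw [M.card_pts]; have := D.three_lt; omega)
  obtain ⟨P₀, Q₀, h₀⟩ := exists_pair_ne D.Pts
  haveI : Nonempty Y := ⟨⟨(P₀, Q₀), h₀⟩⟩
  let g : D.Pts → D.Pts := fun P => D.jΦX σ • P
  have hg : ∀ {P Q}, P ≠ Q → g P ≠ g Q := fun h e => h (smul_left_cancel _ e)
  have hF : ∀ l : PSL2 D.F, D.fixN (D.jLX l * D.jΦX σ : D.X) =
      (Finset.univ.filter fun P : D.Pts => l • g P = P).card := by
    intro l
    rw [D.fixN_eq, ← Fintype.card_subtype, ← Nat.card_eq_fintype_card]
    exact Nat.card_congr (Equiv.subtypeEquivRight fun P => by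
      rw [MulAction.mem_fixedBy, mul_smul]; rfl)
  have h1 := sum_fix_translate (L := PSL2 D.F) g
  have h2 := sum_fix_translate (L := PSL2 D.F) (Y := Y) fun p => ⟨(g p.1.1, g p.1.2), hg p.2⟩
  refine ⟨?_, ?_⟩
  · rw [D.sum_coset σ fun x => (D.fixN x : ℂ)]
    simp only [hF]
    rw [← Nat.cast_sum]
    refine congrArg Nat.cast ?_
    convert h1
  · rw [D.sum_coset σ fun x => (D.fixN x : ℂ) ^ 2]
    simp only [hF]
    have hsq : ∀ l : PSL2 D.F, (Finset.univ.filter fun P : D.Pts => l • g P = P).card ^ 2 =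
        (Finset.univ.filter fun P : D.Pts => l • g P = P).card +
          (Finset.univ.filter fun p : Y => l • (⟨(g p.1.1, g p.1.2), hg p.2⟩ : Y) = p).card := by
      intro l
      set s := Finset.univ.filter fun P : D.Pts => l • g P = P with hs
      have hoff : (Finset.univ.filter fun p : Y => l • (⟨(g p.1.1, g p.1.2), hg p.2⟩ : Y) = p).card =
          s.offDiag.card := by
        refine Finset.card_bij (fun p _ => p.1) (fun p hp => ?_) (fun _ _ _ _ h => Subtype.ext h)
          (fun p hp => ?_)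
        · have h := congrArg Subtype.val (Finset.mem_filter.1 hp).2
          simp only [hs, Finset.mem_offDiag, Finset.mem_filter, Finset.mem_univ, true_and]
          exact ⟨congrArg Prod.fst h, congrArg Prod.snd h, p.2⟩
        · simp only [hs, Finset.mem_offDiag, Finset.mem_filter, Finset.mem_univ, true_and] at hp
          exact ⟨⟨p, hp.2.2⟩, Finset.mem_filter.2 ⟨Finset.mem_univ _, Subtype.ext (Prod.ext hp.1 hp.2.1)⟩, rfl⟩
      rw [hoff, Finset.offDiag_card, pow_two]
      have := Nat.le_mul_self s.card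
      omega
    simp only [← Nat.cast_pow, hsq]
    rw [← Nat.cast_sum, Finset.sum_add_distrib, two_mul, ← Nat.cast_add]
    refine congrArg Nat.cast (congrArg₂ (· + ·) ?_ ?_)
    · convert h1
    · convert h2

/-- An involution of `L` fixes no point, so neither does an element of even order. -/
theorem fix_even (x : D.X) (hx : ¬ Odd (orderOf x)) : D.fixN x = 0 := by
  refine Nat.card_eq_zero.2 (Or.inl ⟨fun ⟨P, ⟨R, hR⟩, hP⟩ => ?_⟩)
  subst hR
  have he : 2 ∣ orderOf x := even_iff_two_dvd.1 (Nat.not_odd_iff_even.1 hx)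
  set m := orderOf x / 2 with hm
  set u := x ^ m with hu
  have ho : orderOf u = 2 := by
    rw [hu, hm]
    exact orderOf_pow_orderOf_div (orderOf_pos x).ne' he
  have hu1 : D.pr u = 1 := by
    refine orderOf_eq_one_iff.1 (Nat.eq_one_of_dvd_coprimes
      (Nat.coprime_two_right.2 (D.card_Φ_odd.of_dvd_nat (orderOf_dvd_natCard _))) dvd_rfl ?_)
    rw [← ho]; exact orderOf_map_dvd D.pr u
  obtain ⟨a, ha⟩ := D.eq_jL_of_pr hu1
  have hao : orderOf a = 2 := by
    rw [← orderOf_injective D.jL D.jL_inj a, ← ha, Subgroup.orderOf_coe, ho]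
  have hfix : (u : D.X) • D.pt R = D.pt R := by
    have h1 : x ∈ MulAction.stabilizer D.X (D.pt R) := MulAction.mem_stabilizer_iff.2 (Subtype.ext hP)
    exact MulAction.mem_stabilizer_iff.1 (pow_mem h1 m)
  have hN : a ∈ normalizer ((R : Subgroup (PSL2 D.F)) : Set (PSL2 D.F)) := by
    rw [← D.fixes_iff, ← ha]
    exact congrArg Subtype.val hfix
  have h2 := Subgroup.orderOf_dvd_natCard _ hN
  rw [hao] at h2
  obtain ⟨k, hk⟩ := h2
  have h3 := M.card_normalizer R
  rw [hk] at h3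
  obtain ⟨c, hc⟩ : ∃ c, Fintype.card D.F = 8 * c + 3 := ⟨Fintype.card D.F / 8, by
    have := M.q_mod_three; omega⟩
  rw [hc, show 8 * c + 3 - 1 = 8 * c + 2 from rfl] at h3
  have h4 : 2 * (2 * k) = 2 * ((8 * c + 3) * (4 * c + 1)) := by rw [h3]; ring
  have h5 := Nat.eq_of_mul_eq_mul_left two_pos h4
  have h6 : Odd ((8 * c + 3) * (4 * c + 1)) := Odd.mul ⟨4 * c + 1, by ring⟩ ⟨2 * c, by ring⟩
  rw [← h5] at h6
  exact Nat.not_even_iff_odd.2 h6 ⟨k, by ring⟩

theorem fix_torus (x : D.X) (hx : D.jL M.r ∈ zpowers (x : G)) : D.fixN x = 0 := by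
  refine Nat.card_eq_zero.2 (Or.inl ⟨fun ⟨P, ⟨R, hR⟩, hP⟩ => ?_⟩)
  subst hR
  obtain ⟨j, hj⟩ := mem_zpowers_iff.1 hx
  have hfix : (x ^ j : D.X) • D.pt R = D.pt R := by
    have h1 : x ∈ MulAction.stabilizer D.X (D.pt R) := MulAction.mem_stabilizer_iff.2 (Subtype.ext hP)
    exact MulAction.mem_stabilizer_iff.1 (zpow_mem h1 j)
  have hN : M.r ∈ normalizer ((R : Subgroup (PSL2 D.F)) : Set (PSL2 D.F)) := by
    rw [← D.fixes_iff, ← hj, ← Subgroup.coe_zpow]
    exact congrArg Subtype.val hfix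
  have h1 := Subgroup.orderOf_dvd_natCard _ hN
  rw [M.r_order] at h1
  have h3 := h1.trans (dvd_mul_left _ 2)
  rw [M.card_normalizer R] at h3
  have h2 := Subgroup.orderOf_dvd_natCard _ M.r_mem
  rw [M.r_order, M.ld.card_Zh] at h2
  have h4 := M.ld.h_eq
  have hh : (((Fintype.card D.F : ℤ) + 1)).natAbs = Fintype.card D.F + 1 := by omega
  rw [hh] at h4
  have h5 : M.l ∣ Fintype.card D.F + 1 := h4 ▸ h2.trans (dvd_mul_left _ 4)
  have hodd : Odd M.l := M.ld.h_odd'.of_dvd_nat h2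
  rcases M.l_prime.dvd_mul.1 h3 with h | h
  · exact M.l_prime.ne_one (Nat.dvd_one.1 (by simpa using Nat.dvd_sub h5 h))
  · have h6 := Nat.dvd_sub h5 h
    rw [show Fintype.card D.F + 1 - (Fintype.card D.F - 1) = 2 by have := D.three_lt; omega] at h6
    rw [(Nat.prime_dvd_prime_iff_eq M.l_prime Nat.prime_two).1 h6] at hodd
    exact Nat.not_odd_iff_even.2 even_two hodd

theorem fix_field (x : G) (k : ℕ) (hk : ¬ M.p ∣ k) (hc : x * D.jΦ M.σ = D.jΦ M.σ * x)
    (hx : ¬ M.p ∣ orderOf x) : D.fixN (D.jΦ M.σ ^ k * x) = D.fix1 M.σ x := by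
  set f := D.jΦ M.σ with hf
  have ho : orderOf f = M.p ^ M.v := by rw [hf, D.orderOf_jΦ, M.σ_order]
  have hcop : Nat.Coprime (orderOf f) k := by
    rw [ho]; exact Nat.Coprime.pow_left _ (M.p_prime.coprime_iff_not_dvd.2 hk)
  have hfx : Commute (f ^ k) x := (show Commute f x from hc.symm).pow_left k
  have hof : orderOf (f ^ k) = orderOf f := Nat.Coprime.orderOf_pow hcop
  have hcop2 : Nat.Coprime (orderOf (f ^ k)) (orderOf x) := by
    rw [hof, ho]; exact Nat.Coprime.pow_left _ (M.p_prime.coprime_iff_not_dvd.2 hx)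
  have hzf : f ∈ zpowers (f ^ k) := by
    obtain ⟨j, hj⟩ := exists_pow_eq_self_of_coprime hcop.symm
    have := pow_mem (mem_zpowers (f ^ k)) j
    rwa [hj] at this
  have hz1 : f ^ k ∈ zpowers (f ^ k * x) := by
    obtain ⟨j, hj⟩ := exists_pow_eq_self_of_coprime (x := f ^ k) hcop2.symm
    have e : f ^ k = (f ^ k * x) ^ (orderOf x * j) := by
      rw [hfx.mul_pow, pow_mul, pow_mul, pow_orderOf_eq_one, one_pow, mul_one, hj]
    have := pow_mem (mem_zpowers (f ^ k * x)) (orderOf x * j)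
    rwa [← e] at this
  refine Nat.card_congr (Equiv.subtypeEquivRight fun P => and_congr_right fun _ => ?_)
  let St : Subgroup G :=
    { carrier := {g | P.map (MulAut.conj g).toMonoidHom = P}
      one_mem' := by
        show P.map (MulAut.conj (1 : G)).toMonoidHom = P
        rw [map_one]; exact Subgroup.map_id _
      mul_mem' := fun {a b} ha hb => by
        show P.map (MulAut.conj (a * b)).toMonoidHom = P
        have : (P.map (MulAut.conj b).toMonoidHom).map (MulAut.conj a).toMonoidHom = P := by rw [hb]; exact ha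
        rw [Subgroup.map_map] at this
        rw [map_mul]; exact this
      inv_mem' := fun {a} ha => by
        show P.map (MulAut.conj a⁻¹).toMonoidHom = P
        have h := congrArg (fun K : Subgroup G => K.map (MulAut.conj a⁻¹).toMonoidHom) ha
        simp only [Subgroup.map_map] at h
        rw [← h]
        convert Subgroup.map_id P using 2
        exact MonoidHom.ext fun y => by simp [mul_assoc] }
  constructor
  · intro h
    have h1 : f ^ k ∈ St := zpowers_le.2 (show f ^ k * x ∈ St from h) hz1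
    have h2 : f ∈ St := zpowers_le.2 h1 hzf
    have h3 : x ∈ St := by
      have := mul_mem (inv_mem h1) (show f ^ k * x ∈ St from h)
      rwa [inv_mul_cancel_left] at this
    exact ⟨h2, h3⟩
  · rintro ⟨h1, h2⟩
    exact (mul_mem (pow_mem (show f ∈ St from h1) k) (show x ∈ St from h2) : f ^ k * x ∈ St)

end Main

end Cfsg.Agent.NoField
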