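import Cfsg.Agent.Lib.NoField.Pieces
import Cfsg.Agent.Lib.NoField.Twist
import Cfsg.Agent.Lib.NoField.Coset
import Cfsg.Agent.Lib.NoField.CPhiLocal
import Cfsg.Agent.Lib.NoField.XFactsRoots
import Cfsg.Agent.Lib.Blocks.Defect
import Cfsg.Agent.Lib.Char.RealPPrime

/-!
The generalised character `(λ(x_p) - 1) η(x)` of `C(f)`, its norm and the values of the induced
character.
-/

set_option autoImplicit false
set_option linter.style.haveILetI false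
set_option linter.unusedSectionVars false

namespace Cfsg.Agent.NoField

attribute [-instance] Cfsg.Agent.BrauerPairs.fintypeSubgroupBP

open Subgroup Cfsg Cfsg.Agent.Char Cfsg.Agent.AutPSL
open Cfsg.Agent.Walter8 (cen)
open scoped ComplexConjugate Classical

universe u

theorem delta_conj_mul_self {K : Type*} [Group K] [Finite K] (a : K →* ℂˣ) (x : K) :
    conj ((a x : ℂˣ) : ℂ) * (a x : ℂ) = 1 := by
  rw [RealPPrime.conj_unit, ← Units.val_mul, ← map_mul, inv_mul_cancel, map_one, Units.val_one]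

/-- Products of commuting elements of `p`-power order. -/
theorem delta_order_mul {K : Type*} [Group K] {p : ℕ} (hp : p.Prime) {a b : K} (h : Commute a b)
    (ha : ∃ k, orderOf a = p ^ k) (hb : ∃ k, orderOf b = p ^ k) : ∃ k, orderOf (a * b) = p ^ k := by
  obtain ⟨i, hi⟩ := ha
  obtain ⟨j, hj⟩ := hb
  have hd := h.orderOf_mul_dvd_mul_orderOf
  rw [hi, hj, ← pow_add] at hd
  obtain ⟨m, -, hm⟩ := (Nat.dvd_prime_pow hp).1 hd
  exact ⟨m, hm⟩

variable {G : Type u} [Group G] [Fintype G] {D : Data G} (M : Main D)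

/-- A linear character of `Φ` of order `p` at `σ`. -/
structure Lam where
  lp : D.Φ →* ℂˣ
  ne : lp M.σ ≠ 1
  pow : lp M.σ ^ M.p = 1

namespace Main

theorem exists_lp : Nonempty (Lam M) := by
  letI : CommGroup D.Φ := { (inferInstance : Group D.Φ) with mul_comm := D.Φ_comm }
  haveI : NeZero (Monoid.exponent D.Φ) := ⟨Monoid.exponent_ne_zero_of_finite⟩
  have hne : M.σ ^ M.p ^ (M.v - 1) ≠ 1 := pow_ne_one_of_lt_orderOf
    (pow_ne_zero _ M.p_prime.ne_zero) (by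
      rw [M.σ_order]
      exact Nat.pow_lt_pow_right M.p_prime.one_lt (by have := M.v_pos; omega))
  obtain ⟨φ, hφ⟩ := CommGroup.exists_apply_ne_one_of_hasEnoughRootsOfUnity D.Φ ℂ hne
  refine ⟨⟨φ ^ M.p ^ (M.v - 1), ?_, ?_⟩⟩
  · rw [MonoidHom.pow_apply, ← map_pow]; exact hφ
  · rw [MonoidHom.pow_apply, ← pow_mul, ← pow_succ, ← map_pow, Nat.sub_add_cancel M.v_pos, ← M.σ_order,
      pow_orderOf_eq_one, map_one]

theorem p_ndvd_L : ¬ M.p ∣ Nat.card (PSL2 D.F) := fun h =>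
  M.p_coprime (M.card_L ▸ h.trans (dvd_mul_left _ 2))

theorem ker_order (x : D.X) (hx : D.pr x = 1) : ¬ M.p ∣ orderOf x := fun h => by
  obtain ⟨l, hl⟩ := D.eq_jL_of_pr hx
  rw [← Subgroup.orderOf_coe, hl, orderOf_injective _ D.jL_inj] at h
  exact M.p_ndvd_L (h.trans (orderOf_dvd_natCard _))

/-- The field part keeps the order of a `p`-element. -/
theorem order_pr (x : D.X) (hx : ∃ n, orderOf x = M.p ^ n) : orderOf (D.pr x) = orderOf x := by
  obtain ⟨n, hn⟩ := hx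
  obtain ⟨j, hjn, hj⟩ := (Nat.dvd_prime_pow M.p_prime).1 (hn ▸ orderOf_map_dvd D.pr x)
  have h1 : D.pr (x ^ M.p ^ j) = 1 := by rw [map_pow, ← hj, pow_orderOf_eq_one]
  have h2 := M.ker_order _ h1
  rw [orderOf_pow x, hn, Nat.gcd_eq_right (pow_dvd_pow _ hjn), Nat.pow_div hjn M.p_prime.pos] at h2
  rw [hj, hn]
  rcases Nat.eq_zero_or_pos (n - j) with h0 | h0
  · rw [show j = n by omega]
  · exact absurd (dvd_pow_self _ h0.ne') h2

theorem fact_X : (Nat.card D.X).factorization M.p = M.v := by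
  rw [D.card_X, Nat.factorization_mul Nat.card_pos.ne' Nat.card_pos.ne', Finsupp.add_apply, M.v_eq,
    Nat.factorization_eq_zero_of_not_dvd M.p_ndvd_L, add_zero]

theorem t_two {a : G} (ha : a * a = 1) : ¬ M.p ∣ orderOf a := fun h => by
  have h2 := Nat.le_of_dvd two_pos (h.trans (orderOf_dvd_of_pow_eq_one (by rwa [pow_two] : a ^ 2 = 1)))
  have := M.p_five
  omega

/-- `Φ` inside `C(f)`. -/
def jH : D.Φ →* D.Cf M.σ := D.jΦ.codRestrict _ fun τ => D.f_mem_cf M.σ τ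

theorem coe_jH (τ : D.Φ) : (M.jH τ : G) = D.jΦ τ := rfl

theorem jH_inj : Function.Injective M.jH := fun _ _ h => D.jΦ_inj (congrArg Subtype.val h)

/-- The cyclic group generated by `f` inside its centraliser. -/
def Zf : Subgroup (D.Cf M.σ) := (zpowers M.σ).map M.jH

theorem jH_mem {τ : D.Φ} (h : τ ∈ zpowers M.σ) : M.jH τ ∈ M.Zf := mem_map_of_mem _ h

theorem Zf_cases {z : D.Cf M.σ} (hz : z ∈ M.Zf) : ∃ τ ∈ zpowers M.σ, M.jH τ = z := mem_map.1 hz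

theorem Zf_center : M.Zf ≤ Subgroup.center (D.Cf M.σ) := by
  rw [Zf, MonoidHom.map_zpowers, zpowers_le]
  exact Subgroup.mem_center_iff.2 fun h => Subtype.ext (mem_centralizer_singleton_iff.1 h.2)

theorem Zf_coe {z : D.Cf M.σ} (hz : z ∈ M.Zf) : (z : G) ∈ zpowers (D.jΦ M.σ) := by
  obtain ⟨τ, hτ, rfl⟩ := M.Zf_cases hz
  obtain ⟨j, rfl⟩ := mem_zpowers_iff.1 hτ
  exact mem_zpowers_iff.2 ⟨j, by rw [coe_jH, map_zpow]⟩

theorem card_Zf : Nat.card M.Zf = M.p ^ M.v := by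
  show Nat.card ((zpowers M.σ).map M.jH) = _
  rw [← Nat.card_congr ((zpowers M.σ).equivMapOfInjective M.jH M.jH_inj).toEquiv, Nat.card_zpowers,
    M.σ_order]

theorem Zf_pGroup : IsPGroup M.p M.Zf := IsPGroup.of_card M.card_Zf

theorem Zf_order {z : D.Cf M.σ} (hz : z ∈ M.Zf) : ∃ k, orderOf z = M.p ^ k := by
  obtain ⟨m, -, hm⟩ := (Nat.dvd_prime_pow M.p_prime).1 (M.card_Zf ▸ Subgroup.orderOf_dvd_natCard _ hz)
  exact ⟨m, hm⟩

theorem comm_of_gen {τ : D.Φ} (hτ : τ ∈ zpowers M.σ) (ho : orderOf τ = M.p ^ M.v) {x : G}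
    (h : D.jΦ τ * x = x * D.jΦ τ) : D.jΦ M.σ * x = x * D.jΦ M.σ := by
  have he : zpowers τ = zpowers M.σ := Subgroup.eq_of_le_of_card_ge (zpowers_le.2 hτ)
    (by rw [Nat.card_zpowers, Nat.card_zpowers, ho, M.σ_order])
  refine comm_of_zpowers_eq ?_ h
  rw [← MonoidHom.map_zpowers, ← MonoidHom.map_zpowers, he]

end Main

namespace Lam

variable {M} (Λ : Lam M) (E : EtaData M)

theorem order : orderOf (Λ.lp M.σ) = M.p :=
  haveI := Fact.mk M.p_prime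
  orderOf_eq_prime Λ.pow Λ.ne

theorem ne_pow {k : ℕ} (hk : ¬ M.p ∣ k) : Λ.lp (M.σ ^ k) ≠ 1 := by
  rw [map_pow]
  exact fun h => hk (Λ.order ▸ orderOf_dvd_of_pow_eq_one h)

theorem exists_pow {τ : D.Φ} (hτ : τ ∈ zpowers M.σ) (h : Λ.lp τ ≠ 1) :
    ∃ k : ℕ, ¬ M.p ∣ k ∧ τ = M.σ ^ k := by
  obtain ⟨k, rfl⟩ := Submonoid.mem_powers_iff _ _ |>.1 (mem_powers_iff_mem_zpowers.2 hτ)
  refine ⟨k, fun ⟨c, hc⟩ => h ?_, rfl⟩
  rw [map_pow, hc, pow_mul, Λ.pow, one_pow]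

theorem order_of_ne {τ : D.Φ} (hτ : τ ∈ zpowers M.σ) (h : Λ.lp τ ≠ 1) : orderOf τ = M.p ^ M.v := by
  obtain ⟨k, hk, rfl⟩ := Λ.exists_pow hτ h
  rw [Nat.Coprime.orderOf_pow, M.σ_order]
  rw [M.σ_order]
  exact (M.p_prime.coprime_iff_not_dvd.2 hk).pow_left _

theorem ne_of_order {τ : D.Φ} (hτ : τ ∈ zpowers M.σ) (ho : orderOf τ = M.p ^ M.v) : Λ.lp τ ≠ 1 := by
  have he : zpowers τ = zpowers M.σ := Subgroup.eq_of_le_of_card_ge (zpowers_le.2 hτ)
    (by rw [Nat.card_zpowers, Nat.card_zpowers, ho, M.σ_order])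
  obtain ⟨j, hj⟩ := mem_zpowers_iff.1 (he ▸ mem_zpowers M.σ : M.σ ∈ zpowers τ)
  exact fun h => Λ.ne (by rw [← hj, map_zpow, h, one_zpow])

/-- The character on `Zf`. -/
noncomputable def lamZ : M.Zf →* ℂˣ :=
  (Λ.lp.comp (zpowers M.σ).subtype).comp
    ((zpowers M.σ).equivMapOfInjective M.jH M.jH_inj).symm.toMonoidHom

theorem lamZ_apply {τ : D.Φ} (hτ : τ ∈ zpowers M.σ) : Λ.lamZ ⟨M.jH τ, M.jH_mem hτ⟩ = Λ.lp τ := by
  have e : ((zpowers M.σ).equivMapOfInjective M.jH M.jH_inj).symm ⟨M.jH τ, M.jH_mem hτ⟩ = ⟨τ, hτ⟩ :=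
    (MulEquiv.symm_apply_eq _).2 (Subtype.ext rfl)
  exact congrArg (fun z : zpowers M.σ => Λ.lp z) e

theorem eta_shift {z : D.Cf M.σ} (hz : z ∈ M.Zf) (x : D.Cf M.σ) :
    (E.η : D.Cf M.σ → ℂ) (z * x) = (E.η : D.Cf M.σ → ℂ) x := by
  obtain ⟨c, -, hc, h1⟩ := IsIrrCharacter.exists_central_scalar E.η.2 (M.Zf_center hz)
  rw [hc, h1.2 (E.ker z (M.Zf_coe hz)), one_mul]

theorem eta_out {h hp : D.Cf M.σ} (hh : Cfsg.IsPPart M.p h hp) (hn : hp ∉ M.Zf) :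
    (E.η : D.Cf M.σ → ℂ) h = 0 := by
  haveI : M.Zf.Normal := ⟨fun z hz g => by
    rw [Subgroup.mem_center_iff.1 (M.Zf_center hz) g, mul_inv_cancel_right]
    exact hz⟩
  refine vanish_of_defect M.p_prime E.η M.Zf (fun z hz => E.ker z (M.Zf_coe hz)) ?_ hh hn
  rw [M.card_Zf, M.p_prime.factorization_pow, Finsupp.single_eq_same]
  exact E.defect_zero

/-- The twist of `η` by `λ` at the `p`-part. -/
noncomputable def th (h : D.Cf M.σ) : ℂ :=
  if hz : (Blocks.exists_isPPart M.p_prime h).choose ∈ M.Zf then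
    (Λ.lamZ ⟨_, hz⟩ : ℂ) * (E.η : D.Cf M.σ → ℂ) h else 0

theorem th_eq {h hp : D.Cf M.σ} (hh : Cfsg.IsPPart M.p h hp) (hz : hp ∈ M.Zf) :
    Λ.th E h = (Λ.lamZ ⟨hp, hz⟩ : ℂ) * (E.η : D.Cf M.σ → ℂ) h := by
  obtain rfl := Blocks.isPPart_unique M.p_prime hh (Blocks.exists_isPPart M.p_prime h).choose_spec
  exact dif_pos hz

theorem th_out {h hp : D.Cf M.σ} (hh : Cfsg.IsPPart M.p h hp) (hz : hp ∉ M.Zf) : Λ.th E h = 0 := by
  obtain rfl := Blocks.isPPart_unique M.p_prime hh (Blocks.exists_isPPart M.p_prime h).choose_spec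
  exact dif_neg hz

/-- The difference. -/
noncomputable def gd : D.Cf M.σ → ℂ := fun h => Λ.th E h - (E.η : D.Cf M.σ → ℂ) h

theorem gd_gen : IsGeneralizedCharacter (D.Cf M.σ) (Λ.gd E) :=
  IsGeneralizedCharacter.sub
    (twist_gen M.p_prime (IsIrrCharacter.isCharacter E.η.2) M.Zf M.Zf_center M.Zf_pGroup
      (fun _ hz x => eta_shift E hz x) (fun _ _ hx hn => eta_out E hx hn) Λ.lamZ _
      (fun _ _ hx h => Λ.th_eq E hx h) fun _ _ hx h => Λ.th_out E hx h)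
    (IsGeneralizedCharacter.of_isCharacter (IsIrrCharacter.isCharacter E.η.2))

theorem gd_apply {h : D.Cf M.σ} {τ : D.Φ} (hh : Cfsg.IsPPart M.p h (M.jH τ)) (hτ : τ ∈ zpowers M.σ) :
    Λ.gd E h = ((Λ.lp τ : ℂ) - 1) * (E.η : D.Cf M.σ → ℂ) h := by
  rw [gd, Λ.th_eq E hh (M.jH_mem hτ), Λ.lamZ_apply hτ]
  ring

theorem gd_supp {h : D.Cf M.σ} (hne : Λ.gd E h ≠ 0) :
    ∃ τ ∈ zpowers M.σ, Λ.lp τ ≠ 1 ∧ Cfsg.IsPPart M.p h (M.jH τ) := by
  obtain ⟨hp, hh⟩ := Blocks.exists_isPPart M.p_prime h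
  by_cases hz : hp ∈ M.Zf
  · obtain ⟨τ, hτ, rfl⟩ := M.Zf_cases hz
    refine ⟨τ, hτ, fun h1 => hne ?_, hh⟩
    rw [Λ.gd_apply E hh hτ, h1, Units.val_one, sub_self, zero_mul]
  · exact absurd (by rw [gd, Λ.th_out E hh hz, eta_out E hh hz, sub_zero]) hne

/-- The multiplicities in the induced character. -/
noncomputable def co (χ : IrrCharacter G) : ℤ := icoef (Λ.gd_gen E) χ

/-- The values of the induced character. -/
noncomputable def val (y : G) : ℂ := ∑ χ, (Λ.co E χ : ℂ) * (χ : G → ℂ) y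

theorem val_conj (c y : G) : Λ.val E (c * y * c⁻¹) = Λ.val E y :=
  Finset.sum_congr rfl fun χ _ => by
    rw [IsCharacter.isClassFunction (IsIrrCharacter.isCharacter χ.2)]

theorem val_at {h : D.Cf M.σ} {τ : D.Φ} (hh : Cfsg.IsPPart M.p h (M.jH τ)) (hτ : τ ∈ zpowers M.σ)
    (hl : Λ.lp τ ≠ 1) : Λ.val E (h : G) = ((Λ.lp τ : ℂ) - 1) * (E.η : D.Cf M.σ → ℂ) h := by
  rw [← Λ.gd_apply E hh hτ, ← ev_coe (Λ.gd E) h]
  refine icoef_value_of_ti (Λ.gd_gen E) fun x hx => ?_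
  by_cases hm : x * (h : G) * x⁻¹ ∈ D.Cf M.σ
  · rw [show x * (h : G) * x⁻¹ = ((⟨_, hm⟩ : D.Cf M.σ) : G) from rfl, ev_coe] at hx
    obtain ⟨τ', -, -, hh'⟩ := Λ.gd_supp E hx
    have e := Blocks.isPPart_unique M.p_prime (Blocks.IsPPart.conj (isPPart_coe hh) x) (isPPart_coe hh')
    rw [M.coe_jH, M.coe_jH] at e
    obtain rfl := D.jΦ_conj e
    exact mem_centralizer_singleton_iff.2 (M.comm_of_gen hτ (Λ.order_of_ne hτ hl)
      (mul_inv_eq_iff_eq_mul.1 e).symm).symm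
  · exact absurd (ev_of_not_mem _ hm) hx

theorem pPart_mul {a x xp : G} (ha : a * a = 1) (hc : Commute a x) (hx : Cfsg.IsPPart M.p x xp) :
    Cfsg.IsPPart M.p (a * x) xp := by
  have hcp : Commute a xp := by
    obtain ⟨j, hj⟩ := mem_zpowers_iff.1 (Blocks.IsPPart.mem_zpowers M.p_prime hx)
    exact hj ▸ hc.zpow_right j
  obtain ⟨z, rfl, hcz, hk, hz⟩ := hx
  have haz : Commute a z := by
    have h := hcp.inv_right.mul_right hc
    rwa [inv_mul_cancel_left] at h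
  refine ⟨a * z, by rw [← mul_assoc, ← hcp.eq, mul_assoc], hcp.symm.mul_right hcz, hk, fun hd => ?_⟩
  rcases (Nat.Prime.dvd_mul M.p_prime).1 (hd.trans haz.orderOf_mul_dvd_mul_orderOf) with h | h
  · exact M.t_two ha h
  · exact hz h

/-- The induced character vanishes where the field part has no element of full `p`-order. -/
theorem val_zero {a : G} (ha : a * a = 1) (x : D.X) (hc : Commute a (x : G))
    (hn : ¬ M.p ^ M.v ∣ orderOf (D.pr x)) : Λ.val E (a * x) = 0 := by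
  refine icoef_value_zero (Λ.gd_gen E) fun g => ?_
  by_cases hm : g * (a * x) * g⁻¹ ∈ D.Cf M.σ
  · rw [show g * (a * x) * g⁻¹ = ((⟨_, hm⟩ : D.Cf M.σ) : G) from rfl, ev_coe]
    by_contra hne
    obtain ⟨τ, hτ, hl, hh⟩ := Λ.gd_supp E hne
    obtain ⟨xp, hxp⟩ := Blocks.exists_isPPart M.p_prime x
    have e := Blocks.isPPart_unique M.p_prime
      (Blocks.IsPPart.conj (pPart_mul ha hc (isPPart_coe hxp)) g) (isPPart_coe hh)
    have ho : orderOf xp = M.p ^ M.v := by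
      rw [← Subgroup.orderOf_coe, ← orderOf_injective (MulAut.conj g).toMonoidHom
        (MulAut.conj g).injective, show (MulAut.conj g).toMonoidHom (xp : G) = D.jΦ τ from e, D.orderOf_jΦ,
        Λ.order_of_ne hτ hl]
    refine hn ?_
    rw [← ho, ← M.order_pr xp ⟨_, ho⟩]
    obtain ⟨j, hj⟩ := mem_zpowers_iff.1 (Blocks.IsPPart.mem_zpowers M.p_prime hxp)
    rw [← hj, map_zpow]
    exact orderOf_dvd_of_mem_zpowers (zpow_mem (mem_zpowers _) j)
  · exact ev_of_not_mem _ hm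

theorem val_one : Λ.val E 1 = 0 := by
  have h := Λ.val_zero E (a := 1) (one_mul 1) 1 (Commute.one_left _) (fun hd => by
    rw [map_one, orderOf_one, Nat.dvd_one] at hd
    exact absurd hd (Nat.one_lt_pow M.v_pos.ne' M.p_prime.one_lt).ne')
  simpa using h

theorem th_shift {z : D.Cf M.σ} (hz : z ∈ M.Zf) (h : D.Cf M.σ) :
    Λ.th E (z * h) = (Λ.lamZ ⟨z, hz⟩ : ℂ) * Λ.th E h := by
  obtain ⟨hp, hh⟩ := Blocks.exists_isPPart M.p_prime h
  obtain ⟨y, hy, hc, hk, hyn⟩ := id hh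
  have hcomm : ∀ g, Commute z g := fun g => (Subgroup.mem_center_iff.1 (M.Zf_center hz) g).symm
  have hh' : Cfsg.IsPPart M.p (z * h) (z * hp) :=
    ⟨y, by rw [mul_assoc, hy], (hcomm y).mul_left hc,
      delta_order_mul M.p_prime (hcomm hp) (M.Zf_order hz) hk, hyn⟩
  by_cases h2 : hp ∈ M.Zf
  · rw [Λ.th_eq E hh' (mul_mem hz h2), Λ.th_eq E hh h2, eta_shift E hz,
      show (⟨z * hp, mul_mem hz h2⟩ : M.Zf) = ⟨z, hz⟩ * ⟨hp, h2⟩ from rfl, map_mul, Units.val_mul]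
    ring
  · rw [Λ.th_out E hh h2, mul_zero, Λ.th_out E hh' fun h3 => h2 ((mul_mem_cancel_left hz).1 h3)]

/-- The induced character has norm two. -/
theorem norm_two : ∑ χ, Λ.co E χ * Λ.co E χ = 2 := by
  have hH : (Nat.card (D.Cf M.σ) : ℂ) ≠ 0 := Nat.cast_ne_zero.2 Nat.card_pos.ne'
  have h := icoef_weight (Λ.gd_gen E) (fun χ => (Λ.co E χ : ℂ))
  have e1 : ∀ x : D.Cf M.σ,
      conj (Λ.gd E x) * Λ.val E (x : G) = conj (Λ.gd E x) * Λ.gd E x := fun x => by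
    by_cases h0 : Λ.gd E x = 0
    · rw [h0, map_zero, zero_mul, zero_mul]
    · obtain ⟨τ, hτ, hl, hh⟩ := Λ.gd_supp E h0
      rw [Λ.val_at E hh hτ hl, Λ.gd_apply E hh hτ]
  have hηη : ∑ x : D.Cf M.σ, conj ((E.η : D.Cf M.σ → ℂ) x) * (E.η : D.Cf M.σ → ℂ) x =
      (Nat.card (D.Cf M.σ) : ℂ) := by
    have h1 := classInner_self_irr E.η.2
    rw [Cfsg.classInner, inv_mul_eq_one₀ hH] at h1
    rw [h1]
    exact Finset.sum_congr rfl fun x _ => mul_comm _ _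
  have hθθ : ∀ x : D.Cf M.σ, conj (Λ.th E x) * Λ.th E x =
      conj ((E.η : D.Cf M.σ → ℂ) x) * (E.η : D.Cf M.σ → ℂ) x := fun x => by
    obtain ⟨xp, hx⟩ := Blocks.exists_isPPart M.p_prime x
    by_cases hz : xp ∈ M.Zf
    · rw [Λ.th_eq E hx hz, map_mul, mul_mul_mul_comm, delta_conj_mul_self, one_mul]
    · rw [Λ.th_out E hx hz, eta_out E hx hz]
  have hηθ : ∑ x : D.Cf M.σ, conj ((E.η : D.Cf M.σ → ℂ) x) * Λ.th E x = 0 := by
    set T := ∑ x : D.Cf M.σ, conj ((E.η : D.Cf M.σ → ℂ) x) * Λ.th E x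
    have hm := M.jH_mem (mem_zpowers M.σ)
    have hT : (Λ.lp M.σ : ℂ) * T = T := by
      rw [Finset.mul_sum]
      refine Fintype.sum_equiv (Equiv.mulLeft (M.jH M.σ)) _ _ fun x => ?_
      rw [Equiv.coe_mulLeft, Λ.th_shift E hm, eta_shift E hm, Λ.lamZ_apply (mem_zpowers M.σ)]
      ring
    refine (mul_eq_zero.1 (show ((Λ.lp M.σ : ℂ) - 1) * T = 0 by
      rw [sub_mul, hT, one_mul, sub_self])).resolve_left (sub_ne_zero.2 ?_)
    exact fun e => Λ.ne (Units.ext e)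
  have hθη : ∑ x : D.Cf M.σ, conj (Λ.th E x) * (E.η : D.Cf M.σ → ℂ) x = 0 := by
    have h1 := congrArg conj hηθ
    rw [map_sum, map_zero] at h1
    rw [← h1]
    exact Finset.sum_congr rfl fun x _ => by rw [map_mul, Complex.conj_conj, mul_comm]
  have e2 : (∑ χ, (Λ.co E χ : ℂ) * (Λ.co E χ : ℂ)) * (Nat.card (D.Cf M.σ) : ℂ) =
      2 * (Nat.card (D.Cf M.σ) : ℂ) := by
    refine h.trans ?_
    calc _ = ∑ x : D.Cf M.σ, (conj (Λ.th E x) * Λ.th E x - conj (Λ.th E x) * (E.η : D.Cf M.σ → ℂ) x -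
          conj ((E.η : D.Cf M.σ → ℂ) x) * Λ.th E x +
          conj ((E.η : D.Cf M.σ → ℂ) x) * (E.η : D.Cf M.σ → ℂ) x) :=
          Finset.sum_congr rfl fun x _ => by
            refine (e1 x).trans ?_
            rw [gd, map_sub]
            ring
      _ = _ := by
          rw [Finset.sum_add_distrib, Finset.sum_sub_distrib, Finset.sum_sub_distrib,
            Finset.sum_congr rfl fun x _ => hθθ x, hθη, hηθ, hηη]
          ring
  have e3 := mul_right_cancel₀ hH e2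
  exact_mod_cast e3

theorem deg_zero : ∑ χ, (Λ.co E χ : ℂ) * (χ : G → ℂ) 1 = 0 := Λ.val_one E

end Lam

end Cfsg.Agent.NoField
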