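import Cfsg.Agent.Lib.NoField.Facts
import Cfsg.Agent.Lib.NoField.CPhiQuot

/-!
The torus `⟨t, s⟩ × (Zh ⋊ Φ)` of the main case: coordinates, linear characters.
-/

set_option autoImplicit false
set_option linter.style.haveILetI false
set_option linter.unusedSectionVars false

namespace Cfsg.Agent.NoField

open Subgroup Cfsg.Agent.Walter8 Cfsg.Agent.AutPSL
open scoped Classical

universe u

variable {G : Type u} [Group G] [Finite G] {D : Data G} (M : Main D)

namespace Main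

/-- The element `r` of the torus, inside `G`. -/
abbrev R : G := D.jL M.r

theorem R_order : orderOf M.R = M.l := by
  rw [orderOf_injective _ D.jL_inj, M.r_order]

theorem h_odd : Odd M.ld.h := M.ld.h_odd'

theorem Zh_odd {z : PSL2 D.F} (hz : z ∈ M.ld.Zh) : Odd (orderOf z) :=
  M.h_odd.of_dvd_nat (M.ld.card_Zh ▸ Subgroup.orderOf_dvd_natCard _ hz)

theorem l_odd : Odd M.l := M.r_order ▸ M.Zh_odd M.r_mem

theorem r_ne : M.r ≠ 1 := fun h => M.l_prime.ne_one (by rw [← M.r_order, h, orderOf_one])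

theorem R_ne : M.R ≠ 1 := fun h => M.l_prime.ne_one (by rw [← M.R_order, h, orderOf_one])

theorem Zh_comm {a b : PSL2 D.F} (ha : a ∈ M.ld.Zh) (hb : b ∈ M.ld.Zh) : a * b = b * a := by
  haveI := M.ld.Zh_cyclic
  letI : CommGroup M.ld.Zh := IsCyclic.commGroup
  exact congrArg Subtype.val (mul_comm (⟨a, ha⟩ : M.ld.Zh) ⟨b, hb⟩)

theorem Zh_s {z : PSL2 D.F} (hz : z ∈ M.ld.Zh) : z * D.s = D.s * z :=
  M.ld_s ▸ mem_centralizer_singleton_iff.1 (M.ld.Zh_le hz)

theorem sup_split {a : PSL2 D.F} (ha : a ∈ M.ld.Zh ⊔ zpowers M.ld.s) :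
    ∃ z ∈ M.ld.Zh, ∃ y : Bool, a = z * (if y then D.s else 1) := by
  have hn : zpowers M.ld.s ≤ normalizer (M.ld.Zh : Set (PSL2 D.F)) := zpowers_le.2
    (centralizer_le_normalizer _ (mem_centralizer_iff.2 fun z hz =>
      mem_centralizer_singleton_iff.1 (M.ld.Zh_le hz)))
  obtain ⟨z, hz, x, hx, he⟩ := (SolvBasic.mem_sup_iff_of_le_normalizer hn).1 ha
  obtain ⟨j, rfl⟩ := mem_zpowers_iff.1 hx
  refine ⟨z, hz, ?_⟩
  rcases Int.even_or_odd' j with ⟨k, rfl | rfl⟩
  · exact ⟨false, by rw [he, _root_.zpow_mul, zpow_two, M.ld.s_sq, _root_.one_zpow]; rfl⟩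
  · exact ⟨true, by
      rw [he, zpow_add, _root_.zpow_mul, zpow_two, M.ld.s_sq, _root_.one_zpow, one_mul, zpow_one, M.ld_s]; rfl⟩

theorem mem_Zh_of_comm {a : PSL2 D.F} (hs : a * D.s = D.s * a) (ho : Odd (orderOf a)) : a ∈ M.ld.Zh := by
  rcases M.ld.Cs_cases a (mem_centralizer_singleton_iff.2 (M.ld_s.symm ▸ hs)) with h | ⟨h, h', -⟩
  · refine ClosedAbelian.mem_of_sq_mem ?_ ho
    obtain ⟨z, hz, y, rfl⟩ := M.sup_split h
    cases y
    · simp only [Bool.false_eq_true, if_false, mul_one]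
      exact mul_mem hz hz
    · simp only [if_true]
      rw [mul_assoc, ← mul_assoc D.s, ← M.Zh_s hz, mul_assoc z D.s, D.s_sq, mul_one]
      exact mul_mem hz hz
  · rw [Invol.order_two_of_sq h h'] at ho
    exact absurd ho (by decide)

theorem semi_mem_Zh (σ : D.Φ) {z : PSL2 D.F} (hz : z ∈ M.ld.Zh) :
    semi 1 (σ : D.F ≃+* D.F) z ∈ M.ld.Zh := by
  refine M.mem_Zh_of_comm ?_ ?_
  · have h := congrArg (semi 1 (σ : D.F ≃+* D.F)) (M.Zh_s hz)
    rwa [map_mul, map_mul, D.fix_s] at h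
  · rw [show orderOf (semi 1 (σ : D.F ≃+* D.F) z) = orderOf z from
      orderOf_injective (semi 1 (σ : D.F ≃+* D.F)).toMonoidHom (semi 1 (σ : D.F ≃+* D.F)).injective z]
    exact M.Zh_odd hz

/-- The field automorphism acting on the torus. -/
def act (σ : D.Φ) (z : M.ld.Zh) : M.ld.Zh := ⟨_, M.semi_mem_Zh σ z.2⟩

theorem coe_act (σ : D.Φ) (z : M.ld.Zh) :
    (M.act σ z : PSL2 D.F) = semi 1 (σ : D.F ≃+* D.F) (z : PSL2 D.F) := rfl

theorem i_inv {z : PSL2 D.F} (hz : z ∈ M.ld.Zh) : D.i * z * D.i⁻¹ = z⁻¹ := by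
  rcases M.ld.Cs_cases D.i (mem_centralizer_singleton_iff.2 (M.ld_s.symm ▸ D.i_comm)) with h | h
  · exfalso
    obtain ⟨w, hw, y, he⟩ := M.sup_split h
    have hw2 : w * w = 1 := by
      have h2 := D.i_sq
      rw [he] at h2
      cases y
      · simpa using h2
      · simp only [if_true] at h2
        rwa [mul_assoc, ← mul_assoc D.s, ← M.Zh_s hw, mul_assoc w D.s, D.s_sq, mul_one] at h2
    have hw1 : w = 1 := orderOf_eq_one_iff.1 (Nat.eq_one_of_dvd_coprimes
      (Nat.coprime_two_right.2 (M.Zh_odd hw)) dvd_rfl (orderOf_dvd_of_pow_eq_one (by rwa [pow_two])))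
    rw [hw1, one_mul] at he
    cases y
    · exact D.i_ne (by simpa using he)
    · exact D.i_ne_s (by simpa using he)
  · exact h.2.2 z hz

/-- An element of the torus `⟨t, s⟩ × (Zh ⋊ Φ)`. -/
def el (x y : Bool) (z : M.ld.Zh) (σ : D.Φ) : G := D.four x y * (D.jL (z : PSL2 D.F) * D.jΦ σ)

theorem four_eq (D : Data G) (x y : Bool) :
    D.four x y = (if x then D.t else 1) * D.jL (if y then D.s else 1) := by
  cases y <;> simp [Data.four]

theorem four_mem_S (D : Data G) (x y : Bool) : D.four x y ∈ D.S := by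
  unfold Data.four
  refine mul_mem ?_ ?_ <;> split_ifs
  exacts [D.t_mem_S, one_mem _, D.s_mem_S, one_mem _]

theorem four_mul (D : Data G) (x y x' y' : Bool) :
    D.four x y * D.four x' y' = D.four (x ^^ x') (y ^^ y') := by
  simp only [four_eq]
  have hc : Commute (D.jL (if y then D.s else 1)) (if x' then D.t else 1) := by
    split_ifs
    all_goals first | exact Commute.one_right _ | exact (D.t_jL _).symm
  have e1 : (if x then D.t else 1) * (if x' then D.t else 1) = if (x ^^ x') then D.t else 1 := by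
    cases x <;> cases x' <;> simp [D.t_sq]
  have e2 : D.jL (if y then D.s else 1) * D.jL (if y' then D.s else 1) =
      D.jL (if (y ^^ y') then D.s else 1) := by
    rw [← map_mul]
    cases y <;> cases y' <;> simp [D.s_sq]
  rw [mul_assoc, ← mul_assoc (D.jL _), hc.eq, mul_assoc, e2, ← mul_assoc, e1]

theorem four_sq (D : Data G) (x y : Bool) : D.four x y * D.four x y = 1 := D.S_sq (four_mem_S D x y)

theorem jL_four (x y : Bool) (z : M.ld.Zh) :
    D.jL (z : PSL2 D.F) * D.four x y = D.four x y * D.jL (z : PSL2 D.F) := by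
  have h1 : Commute (D.jL (z : PSL2 D.F)) (if x then D.t else 1) := by
    split_ifs
    exacts [(D.t_jL _).symm, Commute.one_right _]
  have h2 : Commute (D.jL (z : PSL2 D.F)) (if y then D.jL D.s else 1) := by
    split_ifs
    exacts [by show _ = _; rw [← map_mul, ← map_mul, M.Zh_s z.2], Commute.one_right _]
  exact (h1.mul_right h2).eq

theorem w_four (x y : Bool) (z : M.ld.Zh) (σ : D.Φ) :
    D.jL (z : PSL2 D.F) * D.jΦ σ * D.four x y = D.four x y * (D.jL (z : PSL2 D.F) * D.jΦ σ) := by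
  rw [mul_assoc, D.jΦ_comm_S σ (four_mem_S D x y), ← mul_assoc, M.jL_four, mul_assoc]

theorem el_mul (x y x' y' : Bool) (z z' : M.ld.Zh) (σ σ' : D.Φ) :
    M.el x y z σ * M.el x' y' z' σ' = M.el (x ^^ x') (y ^^ y') (z * M.act σ z') (σ * σ') := by
  unfold el
  rw [mul_assoc (D.four x y), ← mul_assoc (D.jL (z : PSL2 D.F) * D.jΦ σ) (D.four x' y'), M.w_four,
    mul_assoc (D.four x' y'), ← mul_assoc (D.four x y), four_mul]
  congr 1
  rw [Subgroup.coe_mul, coe_act, map_mul, map_mul, ← D.jconj σ]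
  group

theorem el_one : M.el false false 1 1 = 1 := by
  simp [el, Data.four]

theorem el_inj {x y x' y' : Bool} {z z' : M.ld.Zh} {σ σ' : D.Φ}
    (h : M.el x y z σ = M.el x' y' z' σ') : x = x' ∧ y = y' ∧ z = z' ∧ σ = σ' := by
  simp only [el, four_eq] at h
  have hX : ∀ (b : Bool) (a : PSL2 D.F) (τ : D.Φ), D.jL (if b then D.s else 1) * (D.jL a * D.jΦ τ) =
      D.jL ((if b then D.s else 1) * a) * D.jΦ τ := fun b a τ => by rw [map_mul, mul_assoc]
  rw [mul_assoc, hX, mul_assoc, hX] at h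
  have hm : ∀ (a : PSL2 D.F) (τ : D.Φ), D.jL a * D.jΦ τ ∈ D.X := fun a τ =>
    mul_mem (D.jL_mem a) (D.jΦ_mem τ)
  have hx : x = x' := by
    cases x <;> cases x' <;> simp only [if_true, if_false, Bool.false_eq_true, one_mul] at h
    · rfl
    · exact absurd ((mul_mem_cancel_right (hm _ _)).1 (h ▸ hm _ _)) D.t_notMem
    · exact absurd ((mul_mem_cancel_right (hm _ _)).1 (h.symm ▸ hm _ _)) D.t_notMem
    · rfl
  subst hx
  obtain ⟨hl, hσ⟩ := D.prod_unique (mul_left_cancel h)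
  have hs : ∀ a : M.ld.Zh, D.s ≠ (a : PSL2 D.F) := fun a ha => by
    have h2 := M.Zh_odd (ha ▸ a.2 : D.s ∈ M.ld.Zh)
    rw [Invol.order_two_of_sq D.s_sq D.s_ne] at h2
    exact absurd h2 (by decide)
  cases y <;> cases y' <;> simp only [if_true, if_false, Bool.false_eq_true, one_mul] at hl
  · exact ⟨rfl, rfl, Subtype.ext hl, hσ⟩
  · exact absurd (eq_mul_inv_of_mul_eq hl.symm) (hs (z * z'⁻¹))
  · exact absurd (eq_mul_inv_of_mul_eq hl) (hs (z' * z⁻¹))
  · exact ⟨rfl, rfl, Subtype.ext (mul_left_cancel hl), hσ⟩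

/-- The centraliser of `t`, `s` and `r`. -/
abbrev C0 : Subgroup G := cen D.t ⊓ cen (D.jL D.s) ⊓ cen M.R

theorem mem_C0 {g : G} :
    g ∈ M.C0 ↔ g * D.t = D.t * g ∧ g * D.jL D.s = D.jL D.s * g ∧ g * M.R = M.R * g := by
  simp only [C0, Subgroup.mem_inf, mem_centralizer_singleton_iff, and_assoc]

theorem el_mem (x y : Bool) (z : M.ld.Zh) (σ : D.Φ) : M.el x y z σ ∈ M.C0 := by
  refine mul_mem ?_ (mul_mem ?_ ?_) <;> refine M.mem_C0.2 ⟨?_, ?_, ?_⟩
  · exact D.S_comm (four_mem_S D x y) D.t_mem_S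
  · exact D.S_comm (four_mem_S D x y) D.s_mem_S
  · exact (M.jL_four x y ⟨M.r, M.r_mem⟩).symm
  · exact (D.t_jL _).symm
  · rw [← map_mul, ← map_mul, M.Zh_s z.2]
  · show _ = D.jL M.r * _
    rw [← map_mul, ← map_mul, M.Zh_comm z.2 M.r_mem]
  · exact (D.t_jΦ σ).symm
  · exact D.jΦ_comm_s σ
  · exact D.jΦ_comm_jL σ _ (M.r_fix σ)

/-- An element commuting with `t` and `r` lies in the torus. -/
theorem exists_el {g : G} (ht : g * D.t = D.t * g) (hR : g * M.R = M.R * g) :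
    ∃ x y z σ, g = M.el x y z σ := by
  obtain ⟨l, τ, h⟩ := D.exists_dec ht
  have hl : l * M.r = M.r * l := by
    refine D.jL_inj ?_
    rw [map_mul, map_mul]
    refine mul_right_cancel (b := D.jΦ τ) ?_
    rw [mul_assoc, ← D.jΦ_comm_jL τ M.r (M.r_fix τ), ← mul_assoc, mul_assoc (D.jL M.r)]
    rcases h with h | h
    · rw [← h]; exact hR
    · refine mul_left_cancel (a := D.t) ?_
      rw [← mul_assoc, ← h, hR, h, ← mul_assoc (D.jL M.r), ← D.t_jL M.r, mul_assoc]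
  obtain ⟨z, hz, y, he⟩ := M.sup_split (M.ld.cent_h M.r M.r_mem M.r_ne l hl)
  have hsz : D.jL l * D.jΦ τ = (if y then D.jL D.s else 1) * (D.jL z * D.jΦ τ) := by
    rw [he]
    cases y
    · simp
    · simp only [if_true]
      rw [M.Zh_s hz, map_mul, mul_assoc]
  rcases h with h | h
  · exact ⟨false, y, ⟨z, hz⟩, τ, by rw [h, hsz]; simp [el, Data.four]⟩
  · exact ⟨true, y, ⟨z, hz⟩, τ, by rw [h, hsz]; simp [el, Data.four, mul_assoc]⟩

theorem exists_el_of_mem {g : G} (hg : g ∈ M.C0) : ∃ x y z σ, g = M.el x y z σ :=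
  M.exists_el (M.mem_C0.1 hg).1 (M.mem_C0.1 hg).2.2

/-- Coordinates. -/
noncomputable def coord : Bool × Bool × M.ld.Zh × D.Φ ≃ M.C0 :=
  Equiv.ofBijective (fun p => ⟨M.el p.1 p.2.1 p.2.2.1 p.2.2.2, M.el_mem _ _ _ _⟩)
    ⟨fun p q h => by
      obtain ⟨h1, h2, h3, h4⟩ := M.el_inj (congrArg Subtype.val h)
      exact Prod.ext h1 (Prod.ext h2 (Prod.ext h3 h4)),
    fun c => by
      obtain ⟨x, y, z, σ, h⟩ := M.exists_el_of_mem c.2
      exact ⟨(x, y, z, σ), Subtype.ext h.symm⟩⟩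

theorem coe_coord (p : Bool × Bool × M.ld.Zh × D.Φ) :
    (M.coord p : G) = M.el p.1 p.2.1 p.2.2.1 p.2.2.2 := rfl

theorem coord_symm_el (x y : Bool) (z : M.ld.Zh) (σ : D.Φ) (h : M.el x y z σ ∈ M.C0) :
    M.coord.symm ⟨M.el x y z σ, h⟩ = (x, y, z, σ) := by
  rw [Equiv.symm_apply_eq]; rfl

/-- The linear characters of the torus: the sign at `s`, `μ` on `Φ`, an invariant `ν` on `Zh`. -/
noncomputable def lin (μ : D.Φ →* ℂˣ) (ν : M.ld.Zh →* ℂˣ) (hν : ∀ σ z, ν (M.act σ z) = ν z) :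
    M.C0 →* ℂˣ :=
  MonoidHom.mk' (fun c => (if (M.coord.symm c).2.1 then -1 else 1) * μ (M.coord.symm c).2.2.2 *
    ν (M.coord.symm c).2.2.1) fun c d => by
    obtain ⟨x, y, z, σ, h⟩ := M.exists_el_of_mem c.2
    obtain ⟨x', y', z', σ', h'⟩ := M.exists_el_of_mem d.2
    have hc : c = ⟨M.el x y z σ, M.el_mem _ _ _ _⟩ := Subtype.ext h
    have hd : d = ⟨M.el x' y' z' σ', M.el_mem _ _ _ _⟩ := Subtype.ext h'
    have hcd : c * d = ⟨M.el (x ^^ x') (y ^^ y') (z * M.act σ z') (σ * σ'), M.el_mem _ _ _ _⟩ := by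
      refine Subtype.ext ?_
      rw [Subgroup.coe_mul, h, h', M.el_mul]
    rw [hcd, hc, hd]
    simp only [coord_symm_el, map_mul, hν]
    cases y <;> cases y' <;> simp <;> ac_rfl

theorem lin_el (μ : D.Φ →* ℂˣ) (ν : M.ld.Zh →* ℂˣ) (hν : ∀ σ z, ν (M.act σ z) = ν z) (x y : Bool)
    (z : M.ld.Zh) (σ : D.Φ) :
    ((M.lin μ ν hν ⟨M.el x y z σ, M.el_mem x y z σ⟩ : ℂˣ) : ℂ) =
      (if y then -1 else 1) * (μ σ : ℂ) * (ν z : ℂ) := by
  simp only [lin, MonoidHom.mk'_apply, coord_symm_el]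
  cases y <;> simp

theorem card_C0 : Nat.card M.C0 = 4 * Nat.card M.ld.Zh * Nat.card D.Φ := by
  rw [← Nat.card_congr M.coord, Nat.card_prod, Nat.card_prod, Nat.card_prod,
    Nat.card_eq_fintype_card (α := Bool), Fintype.card_bool]
  ring

/-- An element of odd order has trivial four-group part. -/
theorem el_odd {x y : Bool} {z : M.ld.Zh} {σ : D.Φ} (h : Odd (orderOf (M.el x y z σ))) :
    x = false ∧ y = false := by
  have hw : ∀ n : ℕ, ∃ z' σ', (D.jL (z : PSL2 D.F) * D.jΦ σ) ^ n = M.el false false z' σ' := by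
    intro n
    induction n with
    | zero => exact ⟨1, 1, by rw [pow_zero, el_one]⟩
    | succ n ih =>
      obtain ⟨z', σ', e⟩ := ih
      refine ⟨_, _, (pow_succ _ n).trans ((congrArg₂ (· * ·) e ?_).trans (M.el_mul false false false false z' z σ' σ))⟩
      simp [el, Data.four]
  obtain ⟨k, hk⟩ := h
  obtain ⟨z', σ', e⟩ := hw (2 * k + 1)
  have h1 : M.el x y z σ ^ (2 * k + 1) = 1 := hk ▸ pow_orderOf_eq_one _
  have h2 : M.el x y z σ ^ (2 * k + 1) = M.el x y z' σ' := by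
    unfold el
    rw [(show Commute (D.four x y) (D.jL (z : PSL2 D.F) * D.jΦ σ) from (M.w_four x y z σ).symm).mul_pow, e,
      pow_succ, pow_mul, pow_two, four_sq, one_pow, one_mul]
    simp [el, Data.four]
  obtain ⟨hx, hy, -, -⟩ := M.el_inj (h2.symm.trans (h1.trans M.el_one.symm))
  exact ⟨hx, hy⟩

/-- An involution of the torus lies in `⟨t, s⟩`. -/
theorem el_sq {x y : Bool} {z : M.ld.Zh} {σ : D.Φ} (h : M.el x y z σ * M.el x y z σ = 1) :
    z = 1 ∧ σ = 1 := by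
  rw [M.el_mul, ← M.el_one] at h
  obtain ⟨-, -, hz, hσ⟩ := M.el_inj h
  have hσ1 : σ = 1 := orderOf_eq_one_iff.1 (Nat.eq_one_of_dvd_coprimes (Nat.coprime_two_right.2
    (D.card_Φ_odd.of_dvd_nat (orderOf_dvd_natCard σ))) dvd_rfl
    (orderOf_dvd_of_pow_eq_one (by rw [pow_two]; exact hσ)))
  subst hσ1
  refine ⟨?_, rfl⟩
  have hz' : (z : PSL2 D.F) * z = 1 := by
    have e : M.act 1 z = z := Subtype.ext (D.jL_inj (by rw [coe_act, ← D.jconj 1, map_one]; group))
    rw [e] at hz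
    exact congrArg Subtype.val hz
  exact Subtype.ext (orderOf_eq_one_iff.1 (Nat.eq_one_of_dvd_coprimes (Nat.coprime_two_right.2
    (M.Zh_odd z.2)) dvd_rfl (orderOf_dvd_of_pow_eq_one (by rwa [pow_two]))))

end Main

end Cfsg.Agent.NoField
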