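import Cfsg.Agent.Lib.NoField.DeltaTwist
import Cfsg.Agent.Lib.NoField.TorusBase

/-!
The sums of the induced character against the columns of the section and the torus coefficients, over
the twists with a given value at `σ`.
-/

set_option autoImplicit false
set_option linter.style.haveILetI false
set_option linter.unusedSectionVars false

namespace Cfsg.Agent.NoField

attribute [-instance] Cfsg.Agent.BrauerPairs.fintypeSubgroupBP

open Subgroup Cfsg Cfsg.Agent.Char Cfsg.Agent.AutPSL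
open Cfsg.Agent.Walter8 (cen)
open scoped ComplexConjugate Classical

universe u

variable {G : Type u} [Group G] [Fintype G] {D : Data G}

noncomputable instance instFintypeHomΦ (D : Data G) : Fintype (D.Φ →* ℂˣ) :=
  haveI : NeZero (Nat.card D.Φ) := ⟨Nat.card_pos.ne'⟩
  haveI : Finite (rootsOfUnity (Nat.card D.Φ) ℂ) := inferInstance
  haveI : Finite (D.Φ →* ℂˣ) := Finite.of_injective
    (fun (μ : D.Φ →* ℂˣ) (τ : D.Φ) => (⟨μ τ, (mem_rootsOfUnity _ _).2 (by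
      rw [← map_pow, pow_card_eq_one', map_one])⟩ : rootsOfUnity (Nat.card D.Φ) ℂ))
    fun _ _ h => MonoidHom.ext fun τ => congrArg Subtype.val (congrFun h τ)
  Fintype.ofFinite _

namespace Main

variable (M : Main D)

/-- The linear characters of `Φ` agreeing with `ε` at `σ`. -/
noncomputable def tset (ε : D.Φ →* ℂˣ) : Finset (D.Φ →* ℂˣ) :=
  Finset.univ.filter fun μ => μ M.σ = ε M.σ

theorem mem_tset {ε μ : D.Φ →* ℂˣ} : μ ∈ M.tset ε ↔ μ M.σ = ε M.σ := by simp [tset]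

theorem tset_card (ε : D.Φ →* ℂˣ) : (M.tset ε).card = (M.tset 1).card :=
  Finset.card_bij' (fun μ _ => μ / ε) (fun μ _ => μ * ε)
    (fun μ hμ => M.mem_tset.2 (by rw [MonoidHom.div_apply, M.mem_tset.1 hμ, div_self', MonoidHom.one_apply]))
    (fun μ hμ => M.mem_tset.2 (by rw [MonoidHom.mul_apply, M.mem_tset.1 hμ, MonoidHom.one_apply, one_mul]))
    (fun μ _ => div_mul_cancel μ ε) (fun μ _ => mul_div_cancel_right μ ε)

theorem tset_pos (ε : D.Φ →* ℂˣ) : 0 < (M.tset ε).card := Finset.card_pos.2 ⟨ε, M.mem_tset.2 rfl⟩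

theorem tset_sum (ε : D.Φ →* ℂˣ) (τ : D.Φ) :
    ∑ μ ∈ M.tset ε, conj ((μ τ : ℂˣ) : ℂ) =
      if τ ∈ zpowers M.σ then ((M.tset ε).card : ℂ) * conj ((ε τ : ℂˣ) : ℂ) else 0 := by
  split_ifs with h
  · obtain ⟨j, rfl⟩ := mem_zpowers_iff.1 h
    rw [Finset.sum_congr rfl fun μ hμ => by rw [map_zpow, M.mem_tset.1 hμ, ← map_zpow],
      Finset.sum_const, nsmul_eq_mul]
  · letI : CommGroup D.Φ := { (inferInstance : Group D.Φ) with mul_comm := D.Φ_comm }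
    haveI : NeZero (Monoid.exponent (D.Φ ⧸ zpowers M.σ)) := ⟨Monoid.exponent_ne_zero_of_finite⟩
    obtain ⟨φ, hφ⟩ := CommGroup.exists_apply_ne_one_of_hasEnoughRootsOfUnity (D.Φ ⧸ zpowers M.σ) ℂ
      (a := (τ : D.Φ ⧸ zpowers M.σ)) fun e => h ((QuotientGroup.eq_one_iff τ).1 e)
    set μ₀ : D.Φ →* ℂˣ := φ.comp (QuotientGroup.mk' _)
    have h0 : μ₀ M.σ = 1 := by
      show φ (M.σ : D.Φ ⧸ zpowers M.σ) = 1
      rw [(QuotientGroup.eq_one_iff M.σ).2 (mem_zpowers _), map_one]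
    set S := ∑ μ ∈ M.tset ε, conj ((μ τ : ℂˣ) : ℂ)
    have hS : S * conj ((μ₀ τ : ℂˣ) : ℂ) = S := by
      rw [Finset.sum_mul]
      refine Finset.sum_equiv (Equiv.mulRight μ₀) (fun μ => ?_) fun μ _ => ?_
      · rw [Equiv.coe_mulRight, M.mem_tset, M.mem_tset, MonoidHom.mul_apply, h0, mul_one]
      · rw [Equiv.coe_mulRight, MonoidHom.mul_apply, Units.val_mul, map_mul]
    refine (mul_eq_zero.1 (show S * (conj ((μ₀ τ : ℂˣ) : ℂ) - 1) = 0 by
      rw [mul_sub, hS, mul_one, sub_self])).resolve_right fun e => hφ (Units.ext ?_)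
    have e' := congrArg conj (sub_eq_zero.1 e)
    rw [Complex.conj_conj, map_one] at e'
    exact e'

end Main

namespace Lam

variable {M : Main D} (Λ : Lam M) (E : EtaData M)

/-- The weight of `ε` on the powers of `σ`. -/
noncomputable def Kt (ε : D.Φ →* ℂˣ) : ℂ :=
  ∑ τ : D.Φ, if τ ∈ zpowers M.σ then conj ((ε τ : ℂˣ) : ℂ) * ((Λ.lp τ : ℂ) - 1) else 0

theorem sum_lp : ∑ τ : D.Φ, (if τ ∈ zpowers M.σ then (Λ.lp τ : ℂ) else 0) = 0 := by
  set T := ∑ τ : D.Φ, (if τ ∈ zpowers M.σ then (Λ.lp τ : ℂ) else 0)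
  have hT : (Λ.lp M.σ : ℂ) * T = T := by
    rw [Finset.mul_sum]
    refine Fintype.sum_equiv (Equiv.mulLeft M.σ) _ _ fun τ => ?_
    simp only [Equiv.coe_mulLeft, mul_mem_cancel_left (mem_zpowers M.σ), map_mul, Units.val_mul, mul_ite,
      mul_zero]
  exact (mul_eq_zero.1 (show ((Λ.lp M.σ : ℂ) - 1) * T = 0 by
    rw [sub_mul, hT, one_mul, sub_self])).resolve_left (sub_ne_zero.2 fun e => Λ.ne (Units.ext e))

theorem card_zp : ∑ τ : D.Φ, (if τ ∈ zpowers M.σ then (1 : ℂ) else 0) = (M.p ^ M.v : ℕ) := by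
  rw [Finset.sum_boole, ← M.σ_order, ← Nat.card_zpowers, Nat.card_eq_fintype_card, Fintype.card_subtype]

theorem Kt_lp : Λ.Kt Λ.lp = (M.p ^ M.v : ℕ) := by
  have h1 := congrArg conj Λ.sum_lp
  rw [map_sum, map_zero] at h1
  calc Λ.Kt Λ.lp = ∑ τ : D.Φ, ((if τ ∈ zpowers M.σ then (1 : ℂ) else 0) -
        conj (if τ ∈ zpowers M.σ then (Λ.lp τ : ℂ) else 0)) := Finset.sum_congr rfl fun τ _ => by
          split_ifs
          · rw [mul_sub, delta_conj_mul_self, mul_one]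
          · rw [map_zero, sub_zero]
    _ = _ := by rw [Finset.sum_sub_distrib, h1, card_zp, sub_zero]

theorem Kt_one : Λ.Kt 1 = -((M.p ^ M.v : ℕ) : ℂ) := by
  calc Λ.Kt 1 = ∑ τ : D.Φ, ((if τ ∈ zpowers M.σ then (Λ.lp τ : ℂ) else 0) -
        (if τ ∈ zpowers M.σ then (1 : ℂ) else 0)) := Finset.sum_congr rfl fun τ _ => by
          split_ifs <;> simp
    _ = _ := by rw [Finset.sum_sub_distrib, Λ.sum_lp, card_zp, zero_sub]

/-- A sum over the twists against a function known on the powers of `σ`. -/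
theorem sum_tset (ε : D.Φ →* ℂˣ) (S : D.Φ → ℂ) (R : ℂ)
    (hS : ∀ τ ∈ zpowers M.σ, S τ = R * ((Λ.lp τ : ℂ) - 1)) :
    ∑ μ ∈ M.tset ε, ∑ τ : D.Φ, conj ((μ τ : ℂˣ) : ℂ) * S τ = ((M.tset ε).card : ℂ) * R * Λ.Kt ε := by
  rw [Finset.sum_comm, Kt, Finset.mul_sum]
  refine Finset.sum_congr rfl fun τ _ => ?_
  rw [← Finset.sum_mul, M.tset_sum]
  split_ifs with h
  · rw [hS τ h]; ring
  · simp

theorem lp_of_small {τ : D.Φ} (hτ : τ ∈ zpowers M.σ) (h : Λ.lp τ = 1) : ¬ M.p ^ M.v ∣ orderOf τ := by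
  intro hd
  refine Λ.ne_of_order hτ (Nat.dvd_antisymm ?_ hd) h
  rw [← M.σ_order, ← Nat.card_zpowers M.σ]
  exact Subgroup.orderOf_dvd_natCard _ hτ

/-! ### The section -/

theorem card_cen : Nat.card (centralizer ({D.jΦX M.σ} : Set D.X)) = M.card1 * Nat.card D.Φ := by
  rw [Main.card1, ← Nat.card_prod]
  symm
  refine Nat.card_eq_of_bijective
    (fun q => (⟨D.jLX q.1.1 * D.jΦX q.2, mem_centralizer_singleton_iff.2 (Subtype.ext
      (mem_centralizer_singleton_iff.1 ((D.mem_cf_iff M.σ q.2 q.1.1).2 (mem_fixed.2 q.1.2))))⟩ :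
      centralizer ({D.jΦX M.σ} : Set D.X))) ⟨fun a b h => ?_, fun c => ?_⟩
  · obtain ⟨h1, h2⟩ := D.prod_unique (congrArg (fun z : centralizer ({D.jΦX M.σ} : Set D.X) => ((z : D.X) : G)) h)
    exact Prod.ext (Subtype.ext h1) h2
  · obtain ⟨l, hl⟩ := D.exists_prod c.1
    have hc : ((c : D.X) : G) * D.jΦ M.σ = D.jΦ M.σ * (c : D.X) :=
      congrArg Subtype.val (mem_centralizer_singleton_iff.1 c.2)
    rw [hl] at hc
    exact ⟨(⟨l, mem_fixed.1 ((D.mem_cf_iff M.σ _ l).1 (mem_centralizer_singleton_iff.2 hc))⟩, D.pr c.1),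
      Subtype.ext (Subtype.ext hl.symm)⟩

/-- The sum over a fibre of the field part. -/
theorem sum_fibre (w : D.X → ℂ) (hw : ∀ x y : D.X, w (x * y * x⁻¹) = w y) (R : ℂ)
    (hR : ∀ k : ℕ, ¬ M.p ∣ k →
      ∑ g : {g : PSL2 D.F // semi 1 (M.σ : D.F ≃+* D.F) g = g},
        w (D.jΦX M.σ ^ k * D.jLX g) * ev (E.η : D.Cf M.σ → ℂ) (D.t * D.jL g) = R)
    {τ : D.Φ} (hτ : τ ∈ zpowers M.σ) :
    ((M.card1 : ℂ) * (Nat.card D.Φ : ℂ)) *
        ∑ x ∈ Finset.univ.filter (fun x : D.X => D.pr x = τ), w x * Λ.val E (D.t * x) =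
      (Nat.card D.X : ℂ) * ((Λ.lp τ : ℂ) - 1) * R := by
  by_cases hl : Λ.lp τ = 1
  · rw [Finset.sum_eq_zero fun x hx => ?_]
    · rw [hl, Units.val_one, sub_self]; ring
    rw [Λ.val_zero E D.t_sq x (show Commute _ _ from (D.X_comm x.2).symm) (by
      rw [(Finset.mem_filter.1 hx).2]; exact Λ.lp_of_small hτ hl), mul_zero]
  obtain ⟨k, hk, rfl⟩ := Λ.exists_pow hτ hl
  have hf : orderOf (D.jΦX M.σ) = M.p ^ M.v := by
    rw [← Subgroup.orderOf_coe]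
    exact (D.orderOf_jΦ M.σ).trans M.σ_order
  have h := coset_sum M.p_prime D.pr D.Φ_comm (D.jΦX M.σ) hf (by rw [D.pr_jΦ, M.σ_order]) M.v_eq
    M.ker_order hk (fun x => w x * Λ.val E (D.t * x)) fun x y => by
      show w (x * y * x⁻¹) * _ = w y * _
      have e : D.t * ((x * y * x⁻¹ : D.X) : G) = (x : G) * (D.t * y) * (x : G)⁻¹ := by
        rw [Subgroup.coe_mul, Subgroup.coe_mul, Subgroup.coe_inv, ← mul_assoc, ← mul_assoc,
          ← D.X_comm x.2, mul_assoc (x : G)]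
      rw [hw, e, Λ.val_conj]
  rw [D.pr_jΦ, card_cen, Nat.cast_mul] at h
  refine Eq.trans (Eq.trans ?_ h) ?_
  · congr!
  rw [mul_assoc]
  congr 1
  rw [← hR k hk, Finset.mul_sum]
  refine (Finset.sum_bij (fun g _ => D.jLX g.1) (fun g _ => ?_) (fun a _ b _ e => ?_) (fun u hu => ?_)
    fun g _ => ?_).symm
  · simp only [Finset.mem_filter]
    refine ⟨Finset.mem_univ _, D.pr_jL _, Subtype.ext ?_⟩
    exact D.jΦ_comm_jL M.σ _ g.2
  · exact Subtype.ext (D.jL_inj (congrArg Subtype.val e))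
  · simp only [Finset.mem_filter] at hu
    obtain ⟨-, hu1, hu2⟩ := hu
    obtain ⟨l, hlu⟩ := D.eq_jL_of_pr hu1
    have hcm : D.jΦ M.σ * (u : G) = (u : G) * D.jΦ M.σ := congrArg Subtype.val hu2
    rw [hlu] at hcm
    exact ⟨⟨l, D.fix_of_comm hcm⟩, Finset.mem_univ _, Subtype.ext hlu.symm⟩
  · have hgH : D.jL g.1 ∈ D.Cf M.σ := D.jL_mem_cf (mem_fixed.2 g.2)
    have hy : ¬ M.p ∣ orderOf (⟨D.t * D.jL g.1, mul_mem (D.t_mem_cf M.σ) hgH⟩ : D.Cf M.σ) := fun hd => by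
      rw [← Subgroup.orderOf_coe] at hd
      rcases (Nat.Prime.dvd_mul M.p_prime).1
        (hd.trans (show Commute D.t (D.jL g.1) from D.t_jL _).orderOf_mul_dvd_mul_orderOf) with h | h
      · exact M.t_two D.t_sq h
      · exact M.p_ndvd_L (h.trans ((orderOf_injective _ D.jL_inj g.1) ▸ orderOf_dvd_natCard _))
    have hv := Λ.val_shift E hτ hl _ hy
    rw [← ev_coe (E.η : D.Cf M.σ → ℂ)] at hv
    show _ = w (D.jΦX M.σ ^ k * D.jLX g.1) * Λ.val E (D.t * ((D.jΦX M.σ ^ k * D.jLX g.1 : D.X) : G))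
    have e : D.t * ((D.jΦX M.σ ^ k * D.jLX g.1 : D.X) : G) = D.jΦ (M.σ ^ k) * (D.t * D.jL g.1) := by
      rw [Subgroup.coe_mul, SubmonoidClass.coe_pow, ← mul_assoc (D.jΦ _), ← D.t_jΦ, mul_assoc D.t, map_pow]
      rfl
    rw [e, hv]
    ring

theorem odd_shift (k : ℕ) (g : {g : PSL2 D.F // semi 1 (M.σ : D.F ≃+* D.F) g = g}) :
    Odd (orderOf (D.jΦX M.σ ^ k * D.jLX g.1)) ↔ Odd (orderOf g.1) := by
  set a := D.jΦX M.σ ^ k
  set b := D.jLX g.1
  have hc : Commute a b := (show Commute (D.jΦX M.σ) b from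
    Subtype.ext (D.jΦ_comm_jL M.σ _ g.2)).pow_left k
  have ha : Odd (orderOf a) := by
    refine Odd.of_dvd_nat ?_ (orderOf_pow_dvd k)
    rw [← Subgroup.orderOf_coe]
    exact D.jΦ_odd M.σ
  have hb : orderOf b = orderOf g.1 := by
    rw [← Subgroup.orderOf_coe]; exact orderOf_injective _ D.jL_inj g.1
  rw [← hb]
  refine ⟨fun h => ?_, fun h => (ha.mul h).of_dvd_nat hc.orderOf_mul_dvd_mul_orderOf⟩
  have h2 := ((Commute.refl a).inv_left.mul_right hc.inv_left).orderOf_mul_dvd_mul_orderOf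
  rw [inv_mul_cancel_left, orderOf_inv] at h2
  exact (ha.mul h).of_dvd_nat h2

theorem fixN_class (XF : XFacts M) (x y : D.X) :
    (D.fixN ((x * y * x⁻¹ : D.X) : G) : ℂ) = D.fixN (y : G) := by
  rw [XF.steinberg, XF.steinberg, IsCharacter.isClassFunction (IsIrrCharacter.isCharacter (XF.ξ 1).2)]

theorem fixN_shift (XF : XFacts M) {k : ℕ} (hk : ¬ M.p ∣ k)
    (g : {g : PSL2 D.F // semi 1 (M.σ : D.F ≃+* D.F) g = g}) :
    D.fixN ((D.jΦX M.σ ^ k * D.jLX g.1 : D.X) : G) =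
      if Odd (orderOf g.1) then D.fix1 M.σ (D.jL g.1) else 0 := by
  split_ifs with ho
  · rw [Subgroup.coe_mul, SubmonoidClass.coe_pow]
    exact XF.fix_field (D.jL g.1) k hk (D.jΦ_comm_jL M.σ _ g.2).symm fun hd =>
      M.p_ndvd_L (hd.trans ((orderOf_injective _ D.jL_inj g.1) ▸ orderOf_dvd_natCard _))
  · exact XF.fix_even _ fun h => ho ((odd_shift k g).1 h)

theorem sum_odd (f : PSL2 D.F → ℂ) (hf : ∀ g, ¬ Odd (orderOf g) → f g = 0) :
    ∑ g : {g : PSL2 D.F // semi 1 (M.σ : D.F ≃+* D.F) g = g}, f g =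
      ∑ g : {g : PSL2 D.F // semi 1 (M.σ : D.F ≃+* D.F) g = g ∧ Odd (orderOf g)}, f g := by
  rw [← Finset.sum_subtype (Finset.univ.filter fun g : PSL2 D.F => semi 1 (M.σ : D.F ≃+* D.F) g = g)
      (fun x => by simp) f,
    ← Finset.sum_subtype
      (Finset.univ.filter fun g : PSL2 D.F => semi 1 (M.σ : D.F ≃+* D.F) g = g ∧ Odd (orderOf g))
      (fun x => by simp) f]
  refine (Finset.sum_subset (fun g hg => ?_) fun g hg hn => hf g fun ho => hn ?_).symm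
  · exact Finset.mem_filter.2 ⟨Finset.mem_univ _, (Finset.mem_filter.1 hg).2.1⟩
  · exact Finset.mem_filter.2 ⟨Finset.mem_univ _, (Finset.mem_filter.1 hg).2, ho⟩

theorem card1_ne : (M.card1 : ℂ) ≠ 0 := by
  haveI : Nonempty {g : PSL2 D.F // semi 1 (M.σ : D.F ≃+* D.F) g = g} := ⟨⟨1, map_one _⟩⟩
  exact Nat.cast_ne_zero.2 Nat.card_pos.ne'

/-- The sums against a column. -/
theorem sum_column (ε : D.Φ →* ℂˣ) (col : (D.Φ →* ℂˣ) → IrrCharacter G → ℤ) (w : D.X → ℂ)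
    (hcol : ∀ μ χ, (col μ χ : ℂ) * (Nat.card D.X : ℂ) =
      ∑ x : D.X, conj (D.tw μ x : ℂ) * w x * (χ : G → ℂ) (D.t * x))
    (hw : ∀ x y : D.X, w (x * y * x⁻¹) = w y)
    (hR : ∀ k : ℕ, ¬ M.p ∣ k →
      ∑ g : {g : PSL2 D.F // semi 1 (M.σ : D.F ≃+* D.F) g = g},
        w (D.jΦX M.σ ^ k * D.jLX g) * ev (E.η : D.Cf M.σ → ℂ) (D.t * D.jL g) = -(M.card1 : ℂ)) :
    (∑ μ ∈ M.tset ε, ∑ χ, (Λ.co E χ : ℂ) * (col μ χ : ℂ)) * (Nat.card D.Φ : ℂ) =
      -(((M.tset ε).card : ℂ) * Λ.Kt ε) := by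
  refine mul_right_cancel₀ (mul_ne_zero (Nat.cast_ne_zero.2 (Nat.card_pos (α := D.X)).ne') (card1_ne (M := M))) ?_
  have hS := fun τ (hτ : τ ∈ zpowers M.σ) => Λ.sum_fibre E w hw _ hR hτ
  set S : D.Φ → ℂ := fun τ => (M.card1 : ℂ) * (Nat.card D.Φ : ℂ) *
    ∑ x ∈ Finset.univ.filter (fun x : D.X => D.pr x = τ), w x * Λ.val E (D.t * x) with hSdef
  calc _ = ∑ μ ∈ M.tset ε, ∑ τ : D.Φ, conj ((μ τ : ℂˣ) : ℂ) * S τ := by
        simp only [Finset.sum_mul]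
        refine Finset.sum_congr rfl fun μ _ => ?_
        simp only [← Finset.sum_mul]
        rw [mul_assoc, mul_left_comm (Nat.card D.Φ : ℂ), ← mul_assoc, Λ.sum_col E _ _ (hcol μ),
          ← Finset.sum_fiberwise Finset.univ (fun x : D.X => D.pr x), Finset.sum_mul]
        refine Finset.sum_congr rfl fun τ _ => ?_
        simp only [hSdef, Finset.mul_sum, Finset.sum_mul]
        refine Finset.sum_congr rfl fun x hx => ?_
        show conj ((μ (D.pr x) : ℂˣ) : ℂ) * w x * _ * _ = _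
        rw [(Finset.mem_filter.1 hx).2]
        ring
    _ = ((M.tset ε).card : ℂ) * ((Nat.card D.X : ℂ) * -(M.card1 : ℂ)) * Λ.Kt ε :=
        Λ.sum_tset ε S _ fun τ hτ => by rw [hSdef]; beta_reduce; rw [hS τ hτ]; ring
    _ = _ := by ring

theorem sum_bc (XF : XFacts M) (ε : D.Φ →* ℂˣ) :
    (∑ μ ∈ M.tset ε, ∑ χ, (Λ.co E χ : ℂ) * (XF.bc μ χ : ℂ)) * (Nat.card D.Φ : ℂ) =
      -(((M.tset ε).card : ℂ) * Λ.Kt ε) := by
  refine Λ.sum_column E ε XF.bc (fun x => (D.fixN x : ℂ)) XF.bc_spec (fixN_class XF) fun k hk => ?_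
  rw [← E.sum_b]
  simp only [fixN_shift XF hk]
  rw [sum_odd (f := fun g => ((if Odd (orderOf g) then D.fix1 M.σ (D.jL g) else 0 : ℕ) : ℂ) *
    ev (E.η : D.Cf M.σ → ℂ) (D.t * D.jL g)) fun g hg => by simp [hg]]
  exact Finset.sum_congr rfl fun g _ => by rw [if_pos g.2.2]

theorem sum_ec (XF : XFacts M) (ε : D.Φ →* ℂˣ) :
    (∑ μ ∈ M.tset ε, ∑ χ, (Λ.co E χ : ℂ) * (XF.ec μ χ : ℂ)) * (Nat.card D.Φ : ℂ) =
      -(((M.tset ε).card : ℂ) * Λ.Kt ε) := by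
  refine Λ.sum_column E ε XF.ec (fun x => (if Odd (orderOf x) then 4 else 0) - 2 * (D.fixN x : ℂ))
    XF.ec_spec (fun x y => ?_) fun k hk => ?_
  · have e : orderOf (x * y * x⁻¹) = orderOf y :=
      orderOf_injective (MulAut.conj x).toMonoidHom (MulAut.conj x).injective y
    rw [fixN_class XF, e]
  · rw [← E.sum_e]
    simp only [fixN_shift XF hk, odd_shift]
    rw [sum_odd (f := fun g => ((if Odd (orderOf g) then (4 : ℂ) else 0) -
      2 * ((if Odd (orderOf g) then D.fix1 M.σ (D.jL g) else 0 : ℕ) : ℂ)) *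
        ev (E.η : D.Cf M.σ → ℂ) (D.t * D.jL g)) fun g hg => by simp [hg]]
    exact Finset.sum_congr rfl fun g _ => by rw [if_pos g.2.2, if_pos g.2.2]

end Lam

end Cfsg.Agent.NoField
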