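import Cfsg.Agent.Lib.NoField.DeltaSums

/-!
The sums of the induced character against the torus coefficients.
-/

set_option autoImplicit false
set_option linter.style.haveILetI false
set_option linter.unusedSectionVars false

namespace Cfsg.Agent.NoField

attribute [-instance] Cfsg.Agent.BrauerPairs.fintypeSubgroupBP

open Subgroup Cfsg Cfsg.Agent.Char Cfsg.Agent.AutPSL
open Cfsg.Agent.Walter8 (cen)
open scoped ComplexConjugate Classical

universe u

variable {G : Type u} [Group G] [Fintype G] {D : Data G}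

namespace Main

variable (M : Main D)

theorem act_one (τ : D.Φ) : M.act τ 1 = 1 := Subtype.ext (map_one _)

theorem el_one_z (τ : D.Φ) : M.el false false 1 τ = D.jΦ τ := by simp [el, Data.four]

/-- The field coordinate of the torus. -/
noncomputable def elPr : M.C0 →* D.Φ :=
  MonoidHom.mk' (fun c => (M.coord.symm c).2.2.2) fun c d => by
    obtain ⟨x, y, z, σ, h⟩ := M.exists_el_of_mem c.2
    obtain ⟨x', y', z', σ', h'⟩ := M.exists_el_of_mem d.2
    have hcd : c * d = ⟨M.el (x ^^ x') (y ^^ y') (z * M.act σ z') (σ * σ'), M.el_mem _ _ _ _⟩ :=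
      Subtype.ext (by rw [Subgroup.coe_mul, h, h', M.el_mul])
    rw [hcd, show c = ⟨_, M.el_mem x y z σ⟩ from Subtype.ext h,
      show d = ⟨_, M.el_mem x' y' z' σ'⟩ from Subtype.ext h', M.coord_symm_el, M.coord_symm_el, M.coord_symm_el]

theorem elPr_coord (p : Bool × Bool × M.ld.Zh × D.Φ) : M.elPr (M.coord p) = p.2.2.2 := by
  show (M.coord.symm (M.coord p)).2.2.2 = _
  rw [Equiv.symm_apply_apply]

/-- The element `f` in the torus. -/
noncomputable def fC : M.C0 := ⟨M.el false false 1 M.σ, M.el_mem _ _ _ _⟩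

theorem coe_fC : (M.fC : G) = D.jΦ M.σ := M.el_one_z M.σ

theorem fC_comm (p : Bool × Bool × M.ld.Zh × D.Φ) :
    M.fC * M.coord p = M.coord p * M.fC ↔ M.act M.σ p.2.2.1 = p.2.2.1 := by
  obtain ⟨x, y, z, τ⟩ := p
  rw [Subtype.ext_iff, Subgroup.coe_mul, Subgroup.coe_mul, M.coe_coord]
  show M.el false false 1 M.σ * M.el x y z τ = M.el x y z τ * M.el false false 1 M.σ ↔ _
  rw [M.el_mul, M.el_mul, M.act_one, mul_one, one_mul, Bool.false_xor, Bool.false_xor, Bool.xor_false,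
    Bool.xor_false, D.Φ_comm M.σ τ]
  exact ⟨fun h => (M.el_inj h).2.2.1, fun h => by rw [h]⟩

theorem card_cen_C0 : Nat.card (centralizer ({M.fC} : Set M.C0)) =
    4 * Nat.card {z : M.ld.Zh // semi 1 (M.σ : D.F ≃+* D.F) (z : PSL2 D.F) = z} * Nat.card D.Φ := by
  have hmem : ∀ p, M.coord p ∈ centralizer ({M.fC} : Set M.C0) ↔ M.act M.σ p.2.2.1 = p.2.2.1 := fun p => by
    rw [mem_centralizer_singleton_iff, eq_comm, M.fC_comm]
  calc Nat.card (centralizer ({M.fC} : Set M.C0))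
      = Nat.card (Bool × Bool × {z : M.ld.Zh // semi 1 (M.σ : D.F ≃+* D.F) (z : PSL2 D.F) = z} × D.Φ) := by
        symm
        refine Nat.card_eq_of_bijective (fun q => (⟨M.coord (q.1, q.2.1, q.2.2.1.1, q.2.2.2),
          (hmem _).2 (Subtype.ext q.2.2.1.2)⟩ : centralizer ({M.fC} : Set M.C0)))
          ⟨fun a b h => ?_, fun c => ?_⟩
        · obtain ⟨a1, a2, ⟨a3, ha⟩, a4⟩ := a
          obtain ⟨b1, b2, ⟨b3, hb⟩, b4⟩ := b
          have h' := M.coord.injective (congrArg Subtype.val h)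
          simp only [Prod.mk.injEq] at h'
          obtain ⟨rfl, rfl, rfl, rfl⟩ := h'
          rfl
        · obtain ⟨⟨x, y, z, τ⟩, hp⟩ := M.coord.surjective c.1
          have hz := (hmem (x, y, z, τ)).1 (hp ▸ c.2)
          exact ⟨(x, y, ⟨z, congrArg Subtype.val hz⟩, τ), Subtype.ext hp⟩
    _ = _ := by
        rw [Nat.card_prod, Nat.card_prod, Nat.card_prod, Nat.card_eq_fintype_card (α := Bool),
          Fintype.card_bool]
        ring

theorem elPr_ker (c : M.C0) (hc : M.elPr c = 1) : ¬ M.p ∣ orderOf c := fun hd => by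
  obtain ⟨⟨x, y, z, τ⟩, rfl⟩ := M.coord.surjective c
  rw [M.elPr_coord] at hc
  change τ = 1 at hc
  subst hc
  rw [← Subgroup.orderOf_coe, M.coe_coord] at hd
  rcases (Nat.Prime.dvd_mul M.p_prime).1 (hd.trans (show Commute (D.four x y) (D.jL (z : PSL2 D.F) * D.jΦ 1)
    from (M.w_four x y z 1).symm).orderOf_mul_dvd_mul_orderOf) with h | h
  · exact M.t_two (four_sq D x y) h
  · rw [map_one, mul_one] at h
    exact M.p_ndvd_L (h.trans ((orderOf_injective _ D.jL_inj (z : PSL2 D.F)) ▸ orderOf_dvd_natCard _))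

end Main

namespace Lam

variable {M : Main D} (Λ : Lam M) (E : EtaData M) {XF : XFacts M} (T : Torus XF)

/-- The function on the torus summed against the induced character. -/
noncomputable def Fa (p : Bool × Bool × M.ld.Zh × D.Φ) : ℂ :=
  (if p.2.1 then -1 else 1) * (1 - conj ((T.lam p.2.2.1 : ℂˣ) : ℂ)) *
    Λ.val E (M.el p.1 p.2.1 p.2.2.1 p.2.2.2)

theorem Fa_class (c d : M.C0) :
    Λ.Fa E T (M.coord.symm (c * d * c⁻¹)) = Λ.Fa E T (M.coord.symm d) := by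
  have hν : ∀ σ z, T.lam⁻¹ (M.act σ z) = T.lam⁻¹ z := fun σ z => by
    rw [MonoidHom.inv_apply, MonoidHom.inv_apply, T.lam_inv σ z (M.act σ z) (M.coe_act σ z).symm]
  have he : ∀ c : M.C0, Λ.Fa E T (M.coord.symm c) = (((M.lin 1 1 (fun _ _ => rfl) c : ℂˣ) : ℂ) -
      (M.lin 1 T.lam⁻¹ hν c : ℂ)) * Λ.val E (c : G) := fun c => by
    obtain ⟨⟨x, y, z, τ⟩, rfl⟩ := M.coord.surjective c
    rw [Equiv.symm_apply_apply, show M.coord (x, y, z, τ) = ⟨M.el x y z τ, M.el_mem x y z τ⟩ from rfl,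
      M.lin_el, M.lin_el]
    unfold Fa
    dsimp only
    rw [RealPPrime.conj_unit, map_inv, MonoidHom.inv_apply, MonoidHom.one_apply, MonoidHom.one_apply]
    push_cast
    ring
  have hlin : ∀ χ : M.C0 →* ℂˣ, χ (c * d * c⁻¹) = χ d := fun χ => by
    rw [map_mul, map_mul, map_inv, mul_comm (χ c), mul_inv_cancel_right]
  rw [he, he, hlin, hlin, Subgroup.coe_mul, Subgroup.coe_mul, Subgroup.coe_inv, Λ.val_conj]

/-- The sum over a fibre of the torus. -/
theorem sum_fibre_torus {τ : D.Φ} (hτ : τ ∈ zpowers M.σ) :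
    ∑ z : M.ld.Zh, ∑ x : Bool, ∑ y : Bool, Λ.Fa E T (x, y, z, τ) =
      4 * (Nat.card M.ld.Zh : ℂ) * ((Λ.lp τ : ℂ) - 1) := by
  by_cases hl : Λ.lp τ = 1
  · rw [hl, Units.val_one, sub_self, mul_zero]
    refine Finset.sum_eq_zero fun z _ => Finset.sum_eq_zero fun x _ => Finset.sum_eq_zero fun y _ => ?_
    have hX : D.jL (z : PSL2 D.F) * D.jΦ τ ∈ D.X := mul_mem (D.jL_mem _) (D.jΦ_mem _)
    have h := Λ.val_zero E (Main.four_sq D x y) ⟨_, hX⟩ (M.w_four x y z τ).symm (by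
      rw [D.pr_spec _ _ τ rfl]; exact Λ.lp_of_small hτ hl)
    show _ * Λ.val E (D.four x y * ((⟨_, hX⟩ : D.X) : G)) = 0
    rw [h, mul_zero]
  obtain ⟨k, hk, rfl⟩ := Λ.exists_pow hτ hl
  have hf : orderOf M.fC = M.p ^ M.v := by
    rw [← Subgroup.orderOf_coe, M.coe_fC, D.orderOf_jΦ, M.σ_order]
  have hfπ : M.elPr M.fC = M.σ := M.elPr_coord (false, false, 1, M.σ)
  have h := coset_sum M.p_prime M.elPr D.Φ_comm M.fC hf (by rw [hfπ, M.σ_order]) M.v_eq M.elPr_ker hk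
    (fun c => Λ.Fa E T (M.coord.symm c)) (Λ.Fa_class E T)
  rw [hfπ, M.card_cen_C0, M.card_C0] at h
  obtain ⟨z0, hz0, hz0'⟩ := T.lam_ne
  have htor := E.torus T.lam ⟨z0, hz0 M.σ, hz0'⟩
  have hk' : ∀ z : M.ld.Zh, semi 1 (M.σ : D.F ≃+* D.F) (z : PSL2 D.F) = z → ∀ x y : Bool,
      (M.fC ^ k * M.coord (x, y, z, 1) : M.C0) = M.coord (x, y, z, M.σ ^ k) := by
    intro z hz x y
    refine Subtype.ext ?_
    rw [Subgroup.coe_mul, SubmonoidClass.coe_pow, M.coe_fC, M.coe_coord, M.coe_coord, ← map_pow]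
    show D.jΦ (M.σ ^ k) * (D.four x y * (D.jL (z : PSL2 D.F) * D.jΦ 1)) = D.four x y * _
    have hc : Commute (D.jΦ (M.σ ^ k)) (D.jL (z : PSL2 D.F)) := by
      rw [map_pow]
      exact (show Commute (D.jΦ M.σ) _ from D.jΦ_comm_jL M.σ _ hz).pow_left k
    rw [map_one, mul_one, ← mul_assoc, D.jΦ_comm_S _ (Main.four_mem_S D x y), mul_assoc, hc.eq]
  have hsum : ∑ u ∈ Finset.univ.filter (fun u : M.C0 => M.elPr u = 1 ∧ M.fC * u = u * M.fC),
      Λ.Fa E T (M.coord.symm (M.fC ^ k * u)) = ((Λ.lp (M.σ ^ k) : ℂ) - 1) *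
        (4 * (Nat.card {z : M.ld.Zh // semi 1 (M.σ : D.F ≃+* D.F) (z : PSL2 D.F) = z} : ℂ)) := by
    rw [← htor, Finset.mul_sum]
    simp only [Finset.mul_sum, ← Finset.sum_product']
    refine (Finset.sum_bij (fun q _ => M.coord (q.2.1, q.2.2, q.1.1, 1)) (fun q _ => ?_)
      (fun a _ b _ e => ?_) (fun u hu => ?_) fun q _ => ?_).symm
    · simp only [Finset.mem_filter]
      exact ⟨Finset.mem_univ _, M.elPr_coord _, (M.fC_comm _).2 (Subtype.ext q.1.2)⟩
    · obtain ⟨⟨a1, ha⟩, a2, a3⟩ := a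
      obtain ⟨⟨b1, hb⟩, b2, b3⟩ := b
      have h' := M.coord.injective e
      simp only [Prod.mk.injEq] at h'
      obtain ⟨rfl, rfl, rfl, -⟩ := h'
      rfl
    · simp only [Finset.mem_filter] at hu
      obtain ⟨-, hu1, hu2⟩ := hu
      obtain ⟨⟨x, y, z, τ'⟩, rfl⟩ := M.coord.surjective u
      rw [M.elPr_coord] at hu1
      change τ' = 1 at hu1
      subst hu1
      exact ⟨(⟨z, congrArg Subtype.val ((M.fC_comm _).1 hu2)⟩, x, y), by simp, rfl⟩
    · obtain ⟨⟨z, hz⟩, x, y⟩ := q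
      dsimp only
      rw [hk' z hz, Equiv.symm_apply_apply]
      unfold Fa
      dsimp only
      have hgH : D.four x y * D.jL (z : PSL2 D.F) ∈ D.Cf M.σ :=
        mul_mem (D.S_le_Cf _ (Main.four_mem_S D x y)) (D.jL_mem_cf (mem_fixed.2 hz))
      have hy : ¬ M.p ∣ orderOf (⟨_, hgH⟩ : D.Cf M.σ) := fun hd => by
        rw [← Subgroup.orderOf_coe] at hd
        rcases (Nat.Prime.dvd_mul M.p_prime).1 (hd.trans
          (show Commute (D.four x y) (D.jL (z : PSL2 D.F)) from (M.jL_four x y z).symm).orderOf_mul_dvd_mul_orderOf)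
          with h | h
        · exact M.t_two (Main.four_sq D x y) h
        · exact M.p_ndvd_L (h.trans ((orderOf_injective _ D.jL_inj (z : PSL2 D.F)) ▸ orderOf_dvd_natCard _))
      have hv := Λ.val_shift E hτ hl _ hy
      rw [← ev_coe (E.η : D.Cf M.σ → ℂ)] at hv
      have e : M.el x y z (M.σ ^ k) = D.jΦ (M.σ ^ k) * (D.four x y * D.jL (z : PSL2 D.F)) := by
        have hc : Commute (D.jΦ (M.σ ^ k)) (D.jL (z : PSL2 D.F)) := by
          rw [map_pow]
          exact (show Commute (D.jΦ M.σ) _ from D.jΦ_comm_jL M.σ _ hz).pow_left k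
        unfold Main.el
        rw [← mul_assoc (D.jΦ (M.σ ^ k)), D.jΦ_comm_S _ (Main.four_mem_S D x y), mul_assoc, hc.eq]
      rw [e, hv]
      ring
  have hlhs : ∑ c ∈ Finset.univ.filter (fun c : M.C0 => M.elPr c = M.σ ^ k), Λ.Fa E T (M.coord.symm c) =
      ∑ z : M.ld.Zh, ∑ x : Bool, ∑ y : Bool, Λ.Fa E T (x, y, z, M.σ ^ k) := by
    rw [Finset.sum_filter, ← Equiv.sum_comp M.coord]
    simp only [M.elPr_coord, Equiv.symm_apply_apply, Fintype.sum_prod_type, Finset.sum_ite_eq',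
      Finset.mem_univ, if_true]
    conv_rhs => rw [Finset.sum_comm]
    refine Finset.sum_congr rfl fun x _ => ?_
    exact Finset.sum_comm
  have hh : ((4 * Nat.card {z : M.ld.Zh // semi 1 (M.σ : D.F ≃+* D.F) (z : PSL2 D.F) = z} *
      Nat.card D.Φ : ℕ) : ℂ) ≠ 0 := by
    haveI : Nonempty {z : M.ld.Zh // semi 1 (M.σ : D.F ≃+* D.F) (z : PSL2 D.F) = z} := ⟨⟨1, map_one _⟩⟩
    exact Nat.cast_ne_zero.2 (Nat.mul_pos (Nat.mul_pos (by norm_num) Nat.card_pos) Nat.card_pos).ne'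
  refine mul_left_cancel₀ hh ?_
  rw [← hlhs]
  refine Eq.trans (Eq.trans ?_ h) ?_
  · congr!
  refine Eq.trans (b := ((4 * Nat.card M.ld.Zh * Nat.card D.Φ : ℕ) : ℂ) * (((Λ.lp (M.σ ^ k) : ℂ) - 1) *
    (4 * (Nat.card {z : M.ld.Zh // semi 1 (M.σ : D.F ≃+* D.F) (z : PSL2 D.F) = z} : ℂ)))) ?_ ?_
  · rw [← hsum]
    congr!
  · push_cast
    ring

/-- The sums against the torus coefficients. -/
theorem sum_a (ε : D.Φ →* ℂˣ) :
    (∑ μ ∈ M.tset ε, ∑ χ, (Λ.co E χ : ℂ) * (T.a μ χ : ℂ)) * (Nat.card D.Φ : ℂ) =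
      ((M.tset ε).card : ℂ) * Λ.Kt ε := by
  refine mul_left_cancel₀ (mul_ne_zero (by norm_num : (4 : ℂ) ≠ 0)
    (Nat.cast_ne_zero.2 (Nat.card_pos (α := M.ld.Zh)).ne')) ?_
  calc _ = ∑ μ ∈ M.tset ε, ∑ χ, (Λ.co E χ : ℂ) *
        ((T.a μ χ : ℂ) * (4 * (Nat.card M.ld.Zh : ℂ) * (Nat.card D.Φ : ℂ))) := by
        simp only [Finset.sum_mul, Finset.mul_sum]
        exact Finset.sum_congr rfl fun μ _ => Finset.sum_congr rfl fun χ _ => by ring
    _ = ∑ μ ∈ M.tset ε, ∑ τ : D.Φ, conj ((μ τ : ℂˣ) : ℂ) *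
          ∑ z : M.ld.Zh, ∑ x : Bool, ∑ y : Bool, Λ.Fa E T (x, y, z, τ) := by
        refine Finset.sum_congr rfl fun μ _ => ?_
        have e : ∀ z x y τ, conj ((μ τ : ℂˣ) : ℂ) * Λ.Fa E T (x, y, z, τ) = ∑ χ : IrrCharacter G,
            (Λ.co E χ : ℂ) * ((if y then -1 else 1 : ℂ) * conj ((μ τ : ℂˣ) : ℂ) *
              (1 - conj ((T.lam z : ℂˣ) : ℂ)) *
              (χ : G → ℂ) (D.four x y * D.jL (z : PSL2 D.F) * D.jΦ τ)) := fun z x y τ => by
          unfold Fa Lam.val Main.el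
          dsimp only
          simp only [Finset.mul_sum, mul_assoc (D.four x y)]
          exact Finset.sum_congr rfl fun χ _ => by ring
        simp only [T.a_spec μ, Finset.mul_sum]
        rw [Finset.sum_comm]
        simp only [e]
        conv_rhs => rw [Finset.sum_comm]
        refine Finset.sum_congr rfl fun z _ => ?_
        rw [Finset.sum_comm]
        refine Finset.sum_congr rfl fun τ _ => ?_
        rw [Finset.sum_comm]
        refine Finset.sum_congr rfl fun x _ => ?_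
        exact Finset.sum_comm
    _ = ((M.tset ε).card : ℂ) * (4 * (Nat.card M.ld.Zh : ℂ)) * Λ.Kt ε :=
        Λ.sum_tset ε _ _ fun τ hτ => Λ.sum_fibre_torus E T hτ
    _ = _ := by ring

end Lam

end Cfsg.Agent.NoField
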