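import Cfsg.Agent.Lib.NoField.DeltaBase

/-!
The values of the induced character on `t X`, and its behaviour when `η` is twisted by a linear
character trivial at `σ`.
-/

set_option autoImplicit false
set_option linter.style.haveILetI false
set_option linter.unusedSectionVars false

namespace Cfsg.Agent.NoField

attribute [-instance] Cfsg.Agent.BrauerPairs.fintypeSubgroupBP

open Subgroup Cfsg Cfsg.Agent.Char Cfsg.Agent.AutPSL
open Cfsg.Agent.Walter8 (cen)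
open scoped ComplexConjugate Classical

universe u

variable {G : Type u} [Group G] [Fintype G] {D : Data G} {M : Main D}

theorem EtaData.exists_twist (E : EtaData M) (μ₀ : D.Φ →* ℂˣ) (h0 : μ₀ M.σ = 1) :
    ∃ E' : EtaData M, ∀ (x : D.X) (hm : D.t * (x : G) ∈ D.Cf M.σ),
      (E'.η : D.Cf M.σ → ℂ) ⟨_, hm⟩ = (μ₀ (D.pr x) : ℂ) * (E.η : D.Cf M.σ → ℂ) ⟨_, hm⟩ := by
  obtain ⟨c, hc⟩ := E.twist μ₀ h0
  set η' : IrrCharacter (D.Cf M.σ) :=
    ⟨fun h => (c h : ℂ) * (E.η : D.Cf M.σ → ℂ) h, ChiefRestrict.isIrr_mul_linear E.η.2 c⟩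
  have hv : ∀ h, (η' : D.Cf M.σ → ℂ) h = (c h : ℂ) * (E.η : D.Cf M.σ → ℂ) h := fun _ => rfl
  have hdeg : charDegree (η' : D.Cf M.σ → ℂ) = charDegree (E.η : D.Cf M.σ → ℂ) := by
    show ⌊((η' : D.Cf M.σ → ℂ) 1).re⌋₊ = ⌊((E.η : D.Cf M.σ → ℂ) 1).re⌋₊
    rw [hv, map_one, Units.val_one, one_mul]
  set K : Subgroup G := c.ker.map (D.Cf M.σ).subtype
  have htK : D.t ∈ K := ⟨⟨D.t, D.t_mem_cf M.σ⟩, (hc _).1 rfl, rfl⟩
  have hlK : ∀ l : PSL2 D.F, semi 1 (M.σ : D.F ≃+* D.F) l = l → D.jL l ∈ K := fun l hl =>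
    ⟨⟨D.jL l, D.jL_mem_cf (mem_fixed.2 hl)⟩, by
      rw [SetLike.mem_coe, MonoidHom.mem_ker, (hc _).2 (D.jL_mem l)]
      show μ₀ (D.pr (D.jLX l)) = 1
      rw [D.pr_jL, map_one], rfl⟩
  have hev : ∀ g ∈ K, ev (η' : D.Cf M.σ → ℂ) g = ev (E.η : D.Cf M.σ → ℂ) g := by
    rintro _ ⟨h, hh, rfl⟩
    rw [Subgroup.coe_subtype, ev_coe, ev_coe, hv, MonoidHom.mem_ker.1 hh, Units.val_one, one_mul]
  refine ⟨{
    η := η'
    ker := fun g hg => ?_
    defect_zero := ?_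
    twist := E.twist
    sum_b := ?_
    sum_e := ?_
    torus := fun lam hlam => ?_ }, fun x hm => ?_⟩
  · obtain ⟨j, hj⟩ := mem_zpowers_iff.1 hg
    have hgX : (g : G) ∈ D.X := hj ▸ zpow_mem (D.jΦ_mem M.σ) j
    have hg1 : c g = 1 := by
      rw [(hc g).2 hgX, show (⟨(g : G), hgX⟩ : D.X) = D.jΦX (M.σ ^ j) from
        Subtype.ext (by show (g : G) = D.jΦ (M.σ ^ j); rw [map_zpow, hj]), D.pr_jΦ, map_zpow, h0, one_zpow]
    rw [hv, hv, hg1, map_one, E.ker g hg]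
  · rw [hdeg]; exact E.defect_zero
  · rw [← E.sum_b]
    exact Finset.sum_congr rfl fun g _ => by rw [hev _ (mul_mem htK (hlK _ g.2.1))]
  · rw [← E.sum_e]
    exact Finset.sum_congr rfl fun g _ => by rw [hev _ (mul_mem htK (hlK _ g.2.1))]
  · rw [← E.torus lam hlam]
    refine Finset.sum_congr rfl fun z _ => Finset.sum_congr rfl fun a _ => Finset.sum_congr rfl fun b _ => ?_
    rw [hev _ (mul_mem ?_ (hlK _ z.2))]
    unfold Data.four
    refine mul_mem ?_ ?_ <;> split_ifs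
    exacts [htK, one_mem _, hlK _ (D.fix_s _), one_mem _]
  · rw [hv]
    congr 1
    have hx : (x : G) ∈ D.Cf M.σ := by
      have h := mul_mem (D.t_mem_cf M.σ) hm
      rwa [← mul_assoc, D.t_sq, one_mul] at h
    rw [show (⟨_, hm⟩ : D.Cf M.σ) = ⟨D.t, D.t_mem_cf M.σ⟩ * ⟨x, hx⟩ from rfl, map_mul, (hc _).1 rfl,
      one_mul, (hc _).2 x.2]

namespace Lam

variable (Λ : Lam M) (E : EtaData M)

/-- The value at the product of an element of `⟨f⟩` and an element of order prime to `p`. -/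
theorem val_shift {τ : D.Φ} (hτ : τ ∈ zpowers M.σ) (hl : Λ.lp τ ≠ 1) (y : D.Cf M.σ)
    (hy : ¬ M.p ∣ orderOf y) :
    Λ.val E (D.jΦ τ * y) = ((Λ.lp τ : ℂ) - 1) * (E.η : D.Cf M.σ → ℂ) y := by
  have hm := M.jH_mem hτ
  have hh : Cfsg.IsPPart M.p (M.jH τ * y) (M.jH τ) :=
    ⟨y, rfl, (Subgroup.mem_center_iff.1 (M.Zf_center hm) y).symm, M.Zf_order hm, hy⟩
  rw [← eta_shift E hm y, ← Λ.val_at E hh hτ hl, Subgroup.coe_mul, M.coe_jH]

/-- The values on `t X`. -/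
theorem val_cases (x : D.X) :
    (∀ E : EtaData M, Λ.val E (D.t * x) = 0) ∨
      ∃ (x₁ : D.X) (hm : D.t * (x₁ : G) ∈ D.Cf M.σ) (τ : D.Φ), D.pr x₁ = D.pr x ∧
        ∀ E : EtaData M, Λ.val E (D.t * x) =
          ((Λ.lp τ : ℂ) - 1) * (E.η : D.Cf M.σ → ℂ) ⟨_, hm⟩ := by
  by_cases hd : M.p ^ M.v ∣ orderOf (D.pr x)
  swap
  · exact Or.inl fun E => Λ.val_zero E D.t_sq x (show Commute _ _ from (D.X_comm x.2).symm) hd
  refine Or.inr ?_
  haveI := Fact.mk M.p_prime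
  obtain ⟨xp, hxp⟩ := Blocks.exists_isPPart M.p_prime x
  obtain ⟨z, hz, hcz, ⟨k, hk⟩, hzn⟩ := id hxp
  have ho : orderOf xp = M.p ^ M.v := by
    have h1 : orderOf (D.pr xp) = M.p ^ k := (M.order_pr xp ⟨k, hk⟩).trans hk
    have h2 : orderOf (D.pr x) ∣ M.p ^ k * orderOf (D.pr z) := by
      rw [← hz, map_mul, ← h1]
      exact Commute.orderOf_mul_dvd_mul_orderOf (D.Φ_comm _ _)
    have h3 : M.p ^ M.v ∣ M.p ^ k := (Nat.Coprime.pow_left M.v ((M.p_prime.coprime_iff_not_dvd).2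
      fun h => hzn (h.trans (orderOf_map_dvd D.pr z)))).dvd_of_dvd_mul_right (hd.trans h2)
    have h4 : k ≤ M.v := by
      rw [← M.v_eq]
      exact (M.p_prime.pow_dvd_iff_le_factorization Nat.card_pos.ne').1 (h1 ▸ orderOf_dvd_natCard _)
    rw [hk, show k = M.v from le_antisymm h4 ((Nat.pow_dvd_pow_iff_le_right M.p_prime.one_lt).1 h3)]
  have hf : orderOf (D.jΦX M.σ) = M.p ^ M.v := by
    rw [← Subgroup.orderOf_coe]
    exact (D.orderOf_jΦ M.σ).trans M.σ_order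
  let Sy : Sylow M.p D.X := Sylow.ofCard (zpowers (D.jΦX M.σ)) (by rw [Nat.card_zpowers, hf, M.fact_X])
  obtain ⟨R, hR⟩ := (IsPGroup.of_card (n := M.v) (by rw [Nat.card_zpowers, ho]) :
    IsPGroup M.p (zpowers xp)).exists_le_sylow
  obtain ⟨c, hc⟩ := MulAction.exists_smul_eq D.X R Sy
  have hmem : c * xp * c⁻¹ ∈ zpowers (D.jΦX M.σ) := by
    show c * xp * c⁻¹ ∈ (Sy : Subgroup D.X)
    rw [← hc, Sylow.coe_subgroup_smul]
    exact ⟨xp, hR (mem_zpowers xp), rfl⟩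
  obtain ⟨j, hj⟩ := mem_zpowers_iff.1 hmem
  rw [← map_zpow] at hj
  have hτo : orderOf (M.σ ^ j) = M.p ^ M.v := by
    have e : orderOf (c * xp * c⁻¹) = orderOf xp :=
      orderOf_injective (MulAut.conj c).toMonoidHom (MulAut.conj c).injective xp
    rw [← hj, ← Subgroup.orderOf_coe, ho] at e
    exact (D.orderOf_jΦ _).symm.trans e
  have hτ : M.σ ^ j ∈ zpowers M.σ := zpow_mem (mem_zpowers _) j
  have hp1 : Cfsg.IsPPart M.p ((c * x * c⁻¹ : D.X) : G) (D.jΦ (M.σ ^ j)) := by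
    have h := isPPart_coe (Blocks.IsPPart.conj hxp c)
    rw [← hj] at h
    exact h
  have htx : Commute D.t ((c * x * c⁻¹ : D.X) : G) := (D.X_comm (c * x * c⁻¹ : D.X).2).symm
  have hp2 := pPart_mul (M := M) D.t_sq htx hp1
  have hm : D.t * ((c * x * c⁻¹ : D.X) : G) ∈ D.Cf M.σ := by
    obtain ⟨i, hi⟩ := mem_zpowers_iff.1 (Blocks.IsPPart.mem_zpowers M.p_prime hp2)
    refine mem_centralizer_singleton_iff.2 (M.comm_of_gen hτ hτo ?_).symm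
    rw [← hi]
    exact ((Commute.refl _).zpow_left i).eq
  refine ⟨c * x * c⁻¹, hm, M.σ ^ j, by rw [map_mul, map_mul, map_inv, D.Φ_comm (D.pr c),
    mul_inv_cancel_right], fun E => ?_⟩
  have e : D.t * ((c * x * c⁻¹ : D.X) : G) = (c : G) * (D.t * x) * (c : G)⁻¹ := by
    rw [Subgroup.coe_mul, Subgroup.coe_mul, Subgroup.coe_inv, ← mul_assoc, ← mul_assoc,
      ← D.X_comm c.2, mul_assoc (c : G)]
  rw [← Λ.val_conj E (c : G), ← e]
  exact Λ.val_at E (h := ⟨_, hm⟩) (Blocks.IsPPart.of_coe (g := (⟨_, hm⟩ : D.Cf M.σ)) (x := M.jH (M.σ ^ j)) hp2)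
    hτ (Λ.ne_of_order hτ hτo)

/-- Sums of the induced character against a column of the section. -/
theorem sum_col (c : IrrCharacter G → ℤ) (w : D.X → ℂ)
    (hc : ∀ χ, (c χ : ℂ) * (Nat.card D.X : ℂ) = ∑ x : D.X, w x * (χ : G → ℂ) (D.t * x)) :
    (∑ χ, (Λ.co E χ : ℂ) * (c χ : ℂ)) * (Nat.card D.X : ℂ) = ∑ x : D.X, w x * Λ.val E (D.t * x) := by
  calc _ = ∑ χ : IrrCharacter G, ∑ x : D.X, w x * ((Λ.co E χ : ℂ) * (χ : G → ℂ) (D.t * x)) := by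
        rw [Finset.sum_mul]
        refine Finset.sum_congr rfl fun χ _ => ?_
        rw [mul_assoc, hc, Finset.mul_sum]
        exact Finset.sum_congr rfl fun x _ => by ring
    _ = _ := by
        rw [Finset.sum_comm]
        exact Finset.sum_congr rfl fun x _ => (Finset.mul_sum _ _ _).symm

/-- Twisting `η` moves the blocks. -/
theorem co_twist (XF : XFacts M) {E' : EtaData M} (μ₀ : D.Φ →* ℂˣ)
    (hE : ∀ (x : D.X) (hm : D.t * (x : G) ∈ D.Cf M.σ),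
      (E'.η : D.Cf M.σ → ℂ) ⟨_, hm⟩ = (μ₀ (D.pr x) : ℂ) * (E.η : D.Cf M.σ → ℂ) ⟨_, hm⟩)
    (ν : D.Φ →* ℂˣ) :
    ∑ χ, Λ.co E' χ * XF.bc ν χ = ∑ χ, Λ.co E χ * XF.bc (ν / μ₀) χ := by
  have h : ((∑ χ, Λ.co E' χ * XF.bc ν χ : ℤ) : ℂ) = ((∑ χ, Λ.co E χ * XF.bc (ν / μ₀) χ : ℤ) : ℂ) := by
    push_cast
    refine mul_right_cancel₀ (Nat.cast_ne_zero.2 (Nat.card_pos (α := D.X)).ne') ?_
    rw [Λ.sum_col E' _ _ (XF.bc_spec ν), Λ.sum_col E _ _ (XF.bc_spec (ν / μ₀))]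
    refine Finset.sum_congr rfl fun x _ => ?_
    have hv : Λ.val E' (D.t * x) = (μ₀ (D.pr x) : ℂ) * Λ.val E (D.t * x) := by
      rcases Λ.val_cases x with h | ⟨x₁, hm, τ, hpr, h⟩
      · rw [h, h, mul_zero]
      · rw [h, h, hE x₁ hm, hpr]
        ring
    have hconj : conj ((D.tw (ν / μ₀) x : ℂˣ) : ℂ) = conj ((D.tw ν x : ℂˣ) : ℂ) * (μ₀ (D.pr x) : ℂ) := by
      show conj (((ν / μ₀) (D.pr x) : ℂˣ) : ℂ) = conj ((ν (D.pr x) : ℂˣ) : ℂ) * _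
      rw [MonoidHom.div_apply, Units.val_div_eq_div_val, map_div₀,
        div_eq_iff ((map_ne_zero _).2 (Units.ne_zero _)), mul_assoc, mul_comm (μ₀ (D.pr x) : ℂ),
        delta_conj_mul_self, mul_one]
    rw [hconj, hv]
    ring
  exact_mod_cast h

end Lam

end Cfsg.Agent.NoField
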