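import Cfsg.Agent.Lib.JanThom.Cols
import Cfsg.Agent.Lib.NoField.XFactsRoots

/-!
The columns `b` and `e` of Janko–Thompson through the fixed points on the projective line, the points
being the Sylow subgroups of defining characteristic.
-/

set_option autoImplicit false
set_option linter.unusedSectionVars false
set_option linter.style.haveILetI false

namespace Cfsg.Agent.NoField.EtaX

open Cfsg Cfsg.Agent.Char Cfsg.Agent.JanThom
open scoped ComplexConjugate Classical

universe u v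

variable {L : Type v} [Group L]

/-- The number of Sylow `p`-subgroups fixed by `l`. -/
noncomputable def uFix (p : ℕ) (l : L) : ℕ := Nat.card {S : Sylow p L // l • S = S}

theorem mem_smul_sylow {p : ℕ} (R : Sylow p L) (g x : L) :
    x ∈ ((g • R : Sylow p L) : Subgroup L) ↔ g⁻¹ * x * g ∈ (R : Subgroup L) := by
  rw [Sylow.coe_subgroup_smul, Subgroup.mem_pointwise_smul_iff_inv_smul_mem]
  simp [MulAut.smul_def]

theorem uFix_equiv [Finite L] {L' : Type*} [Group L'] [Finite L'] {p : ℕ} [Fact p.Prime] (e : L ≃* L')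
    (l : L) : uFix p (e l) = uFix p l := by
  let F : Sylow p L → Sylow p L' := fun S => S.mapSurjective (f := e.toMonoidHom) e.surjective
  have hF : Function.Bijective F := by
    refine ⟨fun S S' h => Sylow.ext (Subgroup.map_injective (f := e.toMonoidHom) e.injective
      (congrArg (fun T : Sylow p L' => (T : Subgroup L')) h)),
      fun T => ⟨T.mapSurjective (f := e.symm.toMonoidHom) e.symm.surjective, Sylow.ext ?_⟩⟩
    show ((T : Subgroup L').map e.symm.toMonoidHom).map e.toMonoidHom = T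
    rw [Subgroup.map_map]
    exact (congrArg (fun f => Subgroup.map f (T : Subgroup L')) (MonoidHom.ext fun a =>
      e.apply_symm_apply a)).trans (Subgroup.map_id _)
  have heq : ∀ S, F (l • S) = e l • F S := fun S => Sylow.ext (by
    ext a
    show a ∈ ((l • S : Sylow p L) : Subgroup L).map e.toMonoidHom ↔ _
    rw [Subgroup.mem_map_equiv, mem_smul_sylow, mem_smul_sylow]
    show _ ↔ (e l)⁻¹ * a * e l ∈ (S : Subgroup L).map e.toMonoidHom
    rw [Subgroup.mem_map_equiv]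
    simp)
  refine (Nat.card_congr ((Equiv.ofBijective F hF).subtypeEquiv fun S => ?_)).symm
  show _ ↔ e l • F S = F S
  rw [← heq, hF.1.eq_iff]

theorem uFix_conj [Finite L] {p : ℕ} [Fact p.Prime] (g l : L) : uFix p (g * l * g⁻¹) = uFix p l :=
  uFix_equiv (MulAut.conj g) l

variable {Q : ℤ} [Fintype L] (D : LData L Q)

include D

theorem p_dvd_q : D.p ∣ Q.natAbs := D.abs_Q.symm ▸ dvd_pow_self D.p D.n_odd.pos.ne'

theorem card_LN : Nat.card L = 4 * D.h * D.k * Q.natAbs := by exact_mod_cast D.card_L'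

theorem exists_base : ∃ R : Sylow D.p L, (R : Subgroup L) = D.U := by
  haveI := Fact.mk D.prime_p
  have hq : 0 < Q.natAbs := by have := D.Q_large; omega
  have hidx : D.U.index = 4 * D.h * D.k := by
    have h := D.U.card_mul_index
    rw [D.card_U, card_LN D, mul_comm (4 * D.h * D.k)] at h
    exact Nat.eq_of_mul_eq_mul_left hq h
  have hpq := p_dvd_q D
  have hpo : Odd D.p := D.q_odd.of_dvd_nat hpq
  obtain ⟨-, c2', c3'⟩ := D.coprime_orders
  have hndvd : ¬ D.p ∣ D.U.index := by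
    rw [hidx]
    intro h
    rcases D.prime_p.dvd_mul.1 h with h | h
    · rcases D.prime_p.dvd_mul.1 h with h | h
      · have := (Nat.prime_dvd_prime_iff_eq D.prime_p Nat.prime_two).1
          (D.prime_p.dvd_of_dvd_pow (show D.p ∣ 2 ^ 2 from h))
        rw [this] at hpo
        exact absurd hpo (by decide)
      · exact D.prime_p.ne_one (Nat.eq_one_of_dvd_coprimes c2' h hpq)
    · exact D.prime_p.ne_one (Nat.eq_one_of_dvd_coprimes c3' h hpq)
  have hpg : IsPGroup D.p D.U := IsPGroup.of_card (n := D.n) (by rw [D.card_U, D.abs_Q])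
  exact ⟨hpg.toSylow hndvd, IsPGroup.toSylow_coe _ _⟩

theorem cent_root (R : Sylow D.p L) {z a : L} (hz : z ∈ (R : Subgroup L)) (hz1 : z ≠ 1)
    (h : a * z = z * a) : a ∈ (R : Subgroup L) := by
  haveI := Fact.mk D.prime_p
  obtain ⟨R₀, h0⟩ := exists_base D
  obtain ⟨g, rfl⟩ := MulAction.exists_smul_eq L R₀ R
  rw [mem_smul_sylow, h0] at hz ⊢
  refine D.cent_u _ hz (fun e => hz1 ?_) _ ?_
  · rw [show z = g * (g⁻¹ * z * g) * g⁻¹ by group, e]; group
  · calc g⁻¹ * a * g * (g⁻¹ * z * g) = g⁻¹ * (a * z) * g := by group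
      _ = g⁻¹ * (z * a) * g := by rw [h]
      _ = _ := by group

theorem comm_root (R : Sylow D.p L) {a b : L} (ha : a ∈ (R : Subgroup L)) (hb : b ∈ (R : Subgroup L)) :
    a * b = b * a := by
  haveI := Fact.mk D.prime_p
  obtain ⟨R₀, h0⟩ := exists_base D
  obtain ⟨g, rfl⟩ := MulAction.exists_smul_eq L R₀ R
  rw [mem_smul_sylow, h0] at ha hb
  calc a * b = g * ((g⁻¹ * a * g) * (g⁻¹ * b * g)) * g⁻¹ := by group
    _ = g * ((g⁻¹ * b * g) * (g⁻¹ * a * g)) * g⁻¹ := by rw [D.U_comm _ ha _ hb]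
    _ = b * a := by group

theorem eq_of_mem {R R' : Sylow D.p L} {z : L} (hz1 : z ≠ 1) (hz : z ∈ (R : Subgroup L))
    (hz' : z ∈ (R' : Subgroup L)) : R = R' := by
  have hle : (R' : Subgroup L) ≤ R := fun a ha => cent_root D R hz hz1 (comm_root D R' ha hz')
  exact Sylow.ext (R'.is_maximal' R.2 hle)

variable (hQ : 0 < Q)

include hQ

theorem arith_pos : 2 * D.k + 1 = Q.natAbs ∧ 4 * D.h = Q.natAbs + 1 := by
  have h1 := D.k_eq
  have h2 := D.h_eq
  constructor <;> omega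

theorem card_sylow_U : Nat.card (Sylow D.p L) = Q.natAbs + 1 := by
  haveI := Fact.mk D.prime_p
  obtain ⟨R₀, h0⟩ := exists_base D
  obtain ⟨hk, hh⟩ := arith_pos D hQ
  have he : Nat.card (Sylow D.p L) = (Subgroup.normalizer ((R₀ : Subgroup L) : Set L)).index :=
    R₀.card_eq_index_normalizer
  rw [he, h0]
  have h1 := (Subgroup.normalizer (D.U : Set L)).card_mul_index
  have h2 := D.card_NU
  rw [card_LN D] at h1
  have hN : Nat.card (Subgroup.normalizer (D.U : Set L)) = Q.natAbs * D.k := by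
    rw [show Q.natAbs - 1 = 2 * D.k by omega] at h2
    linarith
  rw [hN] at h1
  rw [← hh]
  exact Nat.eq_of_mul_eq_mul_left (Nat.mul_pos (by have := D.Q_large; omega) D.k_odd'.pos)
    (h1.trans (by ring))

theorem card_norm_root (R : Sylow D.p L) :
    Nat.card (Subgroup.normalizer ((R : Subgroup L) : Set L)) = Q.natAbs * D.k := by
  haveI := Fact.mk D.prime_p
  obtain ⟨hk, hh⟩ := arith_pos D hQ
  have h1 := (Subgroup.normalizer ((R : Subgroup L) : Set L)).card_mul_index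
  have he : Nat.card (Sylow D.p L) = (Subgroup.normalizer ((R : Subgroup L) : Set L)).index :=
    R.card_eq_index_normalizer
  rw [← he, card_sylow_U D hQ, card_LN D, ← hh] at h1
  exact Nat.eq_of_mul_eq_mul_right (by have := D.h_three'; omega) (h1.trans (by ring))

/-- An element fixing a point has odd order prime to `h`. -/
theorem order_of_fix {l : L} {R : Sylow D.p L} (h : l • R = R) :
    orderOf l ∣ Q.natAbs * D.k := by
  rw [← card_norm_root D hQ R]
  exact Subgroup.orderOf_dvd_natCard _ (Sylow.smul_eq_iff_mem_normalizer.1 h)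

theorem uFix_one : uFix D.p (1 : L) = Q.natAbs + 1 := by
  rw [← card_sylow_U D hQ]
  exact Nat.card_congr (Equiv.subtypeUnivEquiv fun S => one_smul _ S)

theorem uFix_even {l : L} (h : ¬ Odd (orderOf l)) : uFix D.p l = 0 :=
  Nat.card_eq_zero.2 (Or.inl ⟨fun ⟨_, hR⟩ =>
    h ((D.q_odd.mul D.k_odd').of_dvd_nat (order_of_fix D hQ hR))⟩)

theorem uFix_Zh {x : L} (hx : x ∈ D.Zh) (hx1 : x ≠ 1) : uFix D.p x = 0 :=
  Nat.card_eq_zero.2 (Or.inl ⟨fun ⟨_, hR⟩ => hx1 (orderOf_eq_one_iff.1 (Nat.eq_one_of_dvd_coprimes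
    (Nat.Coprime.mul_right D.coprime_orders.2.1 D.coprime_orders.1)
    (D.card_Zh ▸ Subgroup.orderOf_dvd_natCard _ hx) (order_of_fix D hQ hR)))⟩)

omit hQ in
theorem mem_of_fix {u : L} {R : Sylow D.p L} (hu : u ^ D.p = 1) (h : u • R = R) : u ∈ (R : Subgroup L) := by
  haveI := Fact.mk D.prime_p
  obtain ⟨j, -, hj⟩ := (Nat.dvd_prime_pow D.prime_p).1
    (show orderOf u ∣ D.p ^ 1 by rw [pow_one]; exact orderOf_dvd_of_pow_eq_one hu)
  have hp : IsPGroup D.p (Subgroup.zpowers u) := IsPGroup.of_card (n := j) (by rw [Nat.card_zpowers, hj])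
  have hm : u ∈ Subgroup.zpowers u ⊓ Subgroup.normalizer ((R : Subgroup L) : Set L) :=
    ⟨Subgroup.mem_zpowers u, Sylow.smul_eq_iff_mem_normalizer.1 h⟩
  have he : Subgroup.zpowers u ⊓ Subgroup.normalizer ((R : Subgroup L) : Set L) =
      Subgroup.zpowers u ⊓ (R : Subgroup L) := hp.inf_normalizer_sylow R
  rw [he] at hm
  exact hm.2

theorem uFix_U {x : L} (hx : x ∈ D.U) (hx1 : x ≠ 1) : uFix D.p x = 1 := by
  haveI := Fact.mk D.prime_p
  obtain ⟨R₀, h0⟩ := exists_base D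
  rw [← h0] at hx
  refine Nat.card_eq_one_iff_exists.2 ⟨⟨R₀, Sylow.smul_eq_iff_mem_normalizer.2 (Subgroup.le_normalizer hx)⟩,
    fun S => Subtype.ext (eq_of_mem D hx1 (mem_of_fix D ?_ S.2) hx)⟩
  exact D.U_exp x (h0 ▸ hx)

/-! ### The action on the points is doubly transitive -/

theorem exists_move_pt {R₀ R R' : Sylow D.p L} (hR : R ≠ R₀) (hR' : R' ≠ R₀) :
    ∃ u : L, u ∈ (R₀ : Subgroup L) ∧ u • R = R' := by
  haveI := Fact.mk D.prime_p
  have hfix : ∀ u : L, u ∈ (R₀ : Subgroup L) → u • R₀ = R₀ := fun u hu =>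
    Sylow.smul_eq_iff_mem_normalizer.2 (Subgroup.le_normalizer hu)
  let f : ↥(R₀ : Subgroup L) → {S : Sylow D.p L // S ≠ R₀} :=
    fun u => ⟨(u : L) • R, fun e => hR (by rw [← smul_left_cancel_iff (u : L), e, hfix _ u.2])⟩
  have hinj : Function.Injective f := by
    intro u v huv
    have h1 : ((u⁻¹ * v : (R₀ : Subgroup L)) : L) • R = R := by
      rw [Subgroup.coe_mul, Subgroup.coe_inv, mul_smul,
        ← (show (u : L) • R = (v : L) • R from congrArg Subtype.val huv), inv_smul_smul]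
    have h2 : ((u⁻¹ * v : (R₀ : Subgroup L)) : L) ∈ (R₀ : Subgroup L) ⊓ R := by
      have he : (R₀ : Subgroup L) ⊓ Subgroup.normalizer ((R : Subgroup L) : Set L) =
          (R₀ : Subgroup L) ⊓ (R : Subgroup L) := R₀.2.inf_normalizer_sylow R
      rw [← he]
      exact ⟨(u⁻¹ * v).2, Sylow.smul_eq_iff_mem_normalizer.1 h1⟩
    by_contra hne
    exact hR (eq_of_mem D (fun e => hne (inv_mul_eq_one.1 (Subtype.ext e))) h2.2 h2.1)
  have hcard : Nat.card (R₀ : Subgroup L) = Nat.card {S : Sylow D.p L // S ≠ R₀} := by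
    obtain ⟨R₁, h1⟩ := exists_base D
    rw [Sylow.card_eq_multiplicity R₀, ← Sylow.card_eq_multiplicity R₁, h1, D.card_U]
    haveI := Fintype.ofFinite (Sylow D.p L)
    rw [Nat.card_eq_fintype_card, Fintype.card_subtype_compl, Fintype.card_subtype_eq]
    have := card_sylow_U D hQ
    rw [Nat.card_eq_fintype_card] at this
    omega
  obtain ⟨u, hu⟩ := ((Nat.bijective_iff_injective_and_card f).2 ⟨hinj, hcard⟩).2 ⟨R', hR'⟩
  exact ⟨u, u.2, congrArg Subtype.val hu⟩

theorem sum_uFix : (∑ l : L, (uFix D.p l : ℂ)) = Nat.card L ∧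
    ∑ l : L, (uFix D.p l : ℂ) ^ 2 = 2 * Nat.card L := by
  haveI := Fact.mk D.prime_p
  haveI := Fintype.ofFinite (Sylow D.p L)
  let Y := {q : Sylow D.p L × Sylow D.p L // q.1 ≠ q.2}
  letI aY : MulAction L Y :=
    { smul := fun l q => ⟨(l • q.1.1, l • q.1.2), fun e => q.2 (smul_left_cancel l e)⟩
      one_smul := fun q => Subtype.ext (Prod.ext (one_smul L _) (one_smul L _))
      mul_smul := fun a b q => Subtype.ext (Prod.ext (mul_smul a b _) (mul_smul a b _)) }
  have hsm : ∀ (l : L) (q : Y), (l • q : Y).1 = (l • q.1.1, l • q.1.2) := fun _ _ => rfl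
  haveI : MulAction.IsPretransitive L Y := ⟨fun q q' => by
    obtain ⟨R₀, -⟩ := exists_base D
    obtain ⟨a, ha⟩ := MulAction.exists_smul_eq L q.1.1 R₀
    obtain ⟨b, hb⟩ := MulAction.exists_smul_eq L q'.1.1 R₀
    obtain ⟨u, hu, huR⟩ := exists_move_pt D hQ (R₀ := R₀) (R := a • q.1.2) (R' := b • q'.1.2)
      (fun e => q.2 (smul_left_cancel a (ha.trans e.symm)))
      (fun e => q'.2 (smul_left_cancel b (hb.trans e.symm)))
    refine ⟨b⁻¹ * u * a, Subtype.ext ?_⟩
    rw [hsm, mul_smul, mul_smul, mul_smul, mul_smul, ha, huR,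
      Sylow.smul_eq_iff_mem_normalizer.2 (Subgroup.le_normalizer hu), ← hb, inv_smul_smul, inv_smul_smul]⟩
  haveI : Nontrivial (Sylow D.p L) := Finite.one_lt_card_iff_nontrivial.1 (by
    rw [card_sylow_U D hQ]; have := D.Q_large; omega)
  obtain ⟨P₀, Q₀, h₀⟩ := exists_pair_ne (Sylow D.p L)
  haveI : Nonempty Y := ⟨⟨(P₀, Q₀), h₀⟩⟩
  have h1 := sum_fix_translate (L := L) (Y := Sylow D.p L) id
  have h2 := sum_fix_translate (L := L) (Y := Y) id
  have hF : ∀ l : L, uFix D.p l = (Finset.univ.filter fun S : Sylow D.p L => l • id S = S).card := fun l => by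
    rw [uFix, ← Fintype.card_subtype, ← Nat.card_eq_fintype_card]; rfl
  have hsq : ∀ l : L, uFix D.p l ^ 2 =
      uFix D.p l + (Finset.univ.filter fun q : Y => l • id q = q).card := by
    intro l
    rw [hF]
    set s := Finset.univ.filter fun S : Sylow D.p L => l • id S = S with hs
    have hoff : (Finset.univ.filter fun q : Y => l • id q = q).card = s.offDiag.card := by
      refine Finset.card_bij (fun q _ => q.1) (fun q hq => ?_) (fun _ _ _ _ h => Subtype.ext h)
        (fun q hq => ?_)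
      · have h := congrArg Subtype.val (Finset.mem_filter.1 hq).2
        rw [id, hsm] at h
        simp only [hs, Finset.mem_offDiag, Finset.mem_filter, Finset.mem_univ, true_and, id]
        exact ⟨congrArg Prod.fst h, congrArg Prod.snd h, q.2⟩
      · simp only [hs, Finset.mem_offDiag, Finset.mem_filter, Finset.mem_univ, true_and, id] at hq
        exact ⟨⟨q, hq.2.2⟩, Finset.mem_filter.2 ⟨Finset.mem_univ _,
          Subtype.ext ((hsm _ _).trans (Prod.ext hq.1 hq.2.1))⟩, rfl⟩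
    rw [hoff, Finset.offDiag_card, pow_two]
    have := Nat.le_mul_self s.card
    omega
  refine ⟨?_, ?_⟩
  · rw [← Nat.cast_sum]
    refine congrArg Nat.cast ?_
    simp only [hF]
    convert h1
  · simp only [← Nat.cast_pow, hsq]
    rw [← Nat.cast_sum, Finset.sum_add_distrib, Nat.cast_add, two_mul]
    refine congrArg₂ (· + ·) (congrArg Nat.cast ?_) (congrArg Nat.cast ?_)
    · simp only [hF]
      convert h1
    · convert h2

/-! ### The induced characters -/

omit hQ in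
/-- An induced character vanishes at elements of order prime to the subgroup. -/
theorem indLin_coprime {X : Subgroup L} (lam : X →* ℂˣ) {x : L} (hx1 : x ≠ 1)
    (hco : (Nat.card X).Coprime (orderOf x)) : indLin X lam x = 0 := by
  by_contra h
  obtain ⟨g, hg⟩ := indLin_supp h
  have hd := Subgroup.orderOf_dvd_natCard X hg
  have e : orderOf (g⁻¹ * x * g) = orderOf x := by
    simpa [MulAut.conj_apply] using (MulAut.conj g⁻¹).orderOf_eq x
  rw [e] at hd
  exact hx1 (orderOf_eq_one_iff.1 (Nat.eq_one_of_dvd_coprimes hco hd dvd_rfl))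

omit hQ in
theorem indLin_one_self {X : Subgroup L} (hX : TIAb X) {x : L} (hx : x ∈ X) (hx1 : x ≠ 1) :
    indLin X 1 x = (Nat.card X : ℂ)⁻¹ * Nat.card (Subgroup.normalizer (X : Set L)) := by
  haveI := Fintype.ofFinite (Subgroup.normalizer (X : Set L))
  rw [show x = ((⟨x, hx⟩ : X) : L) from rfl,
    indLin_apply_self hX 1 fun e => hx1 (congrArg Subtype.val e)]
  refine congrArg _ ?_
  rw [Finset.sum_congr rfl fun g _ => show (cjChar X g 1 ⟨x, hx⟩ : ℂ) = 1 from rfl, Finset.sum_const,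
    Finset.card_univ, nsmul_eq_mul, mul_one, Nat.card_eq_fintype_card]

omit hQ in
theorem indLin_at_one (X : Subgroup L) (lam : X →* ℂˣ) : indLin X lam 1 = X.index := by
  unfold indLin
  rw [indFun_one_apply, map_one, Units.val_one, mul_one]

theorem index_vals : D.Zk.index = 4 * D.h * Q.natAbs ∧ D.Zh.index = 4 * D.k * Q.natAbs ∧
    D.U.index = 4 * D.h * D.k := by
  refine ⟨?_, ?_, ?_⟩
  · refine Nat.eq_of_mul_eq_mul_left D.k_odd'.pos ?_
    have h := D.Zk.card_mul_index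
    rw [D.card_Zk, card_LN D] at h
    linarith
  · refine Nat.eq_of_mul_eq_mul_left D.h_odd'.pos ?_
    have h := D.Zh.card_mul_index
    rw [D.card_Zh, card_LN D] at h
    linarith
  · refine Nat.eq_of_mul_eq_mul_left (by have := D.Q_large; omega : 0 < Q.natAbs) ?_
    have h := D.U.card_mul_index
    rw [D.card_U, card_LN D] at h
    linarith

/-- The values on the three kinds of elements of odd order. -/
theorem vals_Zh {x : L} (hx : x ∈ D.Zh) (hx1 : x ≠ 1) :
    indLin D.Zk 1 x = 0 ∧ indLin D.Zh 1 x = 4 ∧ ∀ f : D.U →* ℂˣ, indLin D.U f x = 0 := by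
  obtain ⟨c1, c2', -⟩ := D.coprime_orders
  have hd : orderOf x ∣ D.h := D.card_Zh ▸ Subgroup.orderOf_dvd_natCard _ hx
  refine ⟨indLin_coprime D _ hx1 ?_, ?_, fun f => indLin_coprime D f hx1 ?_⟩
  · rw [D.card_Zk]; exact c1.symm.coprime_dvd_right hd
  · haveI := Fintype.ofFinite (Subgroup.normalizer (D.Zh : Set L))
    rw [indLin_one_self D D.tiab_Zh hx hx1, (D.norm_Zh_counts 1 1).1, D.card_Zh]
    have : (D.h : ℂ) ≠ 0 := Nat.cast_ne_zero.2 D.h_odd'.pos.ne'
    push_cast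
    field_simp
  · rw [D.card_U]; exact c2'.symm.coprime_dvd_right hd

theorem vals_Zk {x : L} (hx : x ∈ D.Zk) (hx1 : x ≠ 1) :
    indLin D.Zk 1 x = 2 ∧ indLin D.Zh 1 x = 0 ∧ ∀ f : D.U →* ℂˣ, indLin D.U f x = 0 := by
  obtain ⟨c1, -, c3⟩ := D.coprime_orders
  have hd : orderOf x ∣ D.k := D.card_Zk ▸ Subgroup.orderOf_dvd_natCard _ hx
  refine ⟨?_, indLin_coprime D _ hx1 ?_, fun f => indLin_coprime D f hx1 ?_⟩
  · haveI := Fintype.ofFinite (Subgroup.normalizer (D.Zk : Set L))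
    rw [indLin_one_self D D.tiab_Zk hx hx1, (D.norm_Zk_counts 1 1).1, D.card_Zk]
    have : (D.k : ℂ) ≠ 0 := Nat.cast_ne_zero.2 D.k_odd'.pos.ne'
    push_cast
    field_simp
  · rw [D.card_Zh]; exact c1.coprime_dvd_right hd
  · rw [D.card_U]; exact c3.symm.coprime_dvd_right hd

theorem vals_U {x : L} (hx : x ∈ D.U) (hx1 : x ≠ 1) :
    indLin D.Zk 1 x = 0 ∧ indLin D.Zh 1 x = 0 ∧ indLin D.U 1 x = D.k ∧
      indLin D.U D.psi x + indLin D.U D.psi' x = -1 := by
  obtain ⟨-, c2', c3⟩ := D.coprime_orders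
  obtain ⟨hk, -⟩ := arith_pos D hQ
  have hd : orderOf x ∣ Q.natAbs := D.card_U ▸ Subgroup.orderOf_dvd_natCard _ hx
  have hq0 : (Q.natAbs : ℂ) ≠ 0 := Nat.cast_ne_zero.2 (by have := D.Q_large; omega)
  haveI := Fintype.ofFinite (Subgroup.normalizer (D.U : Set L))
  haveI : Finite (D.U →* ℂˣ) :=
    Nat.finite_of_card_ne_zero (by rw [card_dual D.U D.U_comm]; exact Nat.card_pos.ne')
  haveI : Fintype (D.U →* ℂˣ) := Fintype.ofFinite _
  refine ⟨indLin_coprime D _ hx1 ?_, indLin_coprime D _ hx1 ?_, ?_, ?_⟩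
  · rw [D.card_Zk]; exact c3.coprime_dvd_right hd
  · rw [D.card_Zh]; exact c2'.coprime_dvd_right hd
  · obtain ⟨R₀, h0⟩ := exists_base D
    rw [indLin_one_self D D.tiab_U hx hx1, D.card_U,
      show Nat.card (Subgroup.normalizer (D.U : Set L)) = Q.natAbs * D.k by rw [← h0]; exact card_norm_root D hQ R₀]
    push_cast
    field_simp
  · set xx : D.U := ⟨x, hx⟩
    have hxx : xx ≠ 1 := fun e => hx1 (congrArg Subtype.val e)
    rw [show x = (xx : L) from rfl, indLin_apply_self D.tiab_U _ hxx, indLin_apply_self D.tiab_U _ hxx,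
      D.card_U, ← mul_add]
    obtain ⟨h1, h2, h3, h4⟩ := D.psi_spec
    have hne : ∀ (f : D.U →* ℂˣ) g, f ≠ 1 → cjChar D.U g f ≠ 1 := fun f g hf h => hf (by
      have := congrArg (cjChar D.U g⁻¹) h
      rw [← cjChar_mul, mul_inv_cancel, cjChar_one] at this
      rw [this]
      exact MonoidHom.ext fun x => rfl)
    have horb : ∀ f : D.U →* ℂˣ, f ≠ 1 →
        ∑ g : Subgroup.normalizer (D.U : Set L), (cjChar D.U g f xx : ℂ) =
          (Q.natAbs : ℂ) * ∑ m ∈ Finset.univ.image (fun g => cjChar D.U g f), (m xx : ℂ) := by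
      intro f hf
      rw [Finset.sum_comp (fun m : D.U →* ℂˣ => (m xx : ℂ)) (fun g => cjChar D.U g f), Finset.mul_sum]
      refine Finset.sum_congr rfl fun m hm => ?_
      obtain ⟨g₀, -, rfl⟩ := Finset.mem_image.1 hm
      rw [D.U_orbit_count hf g₀, nsmul_eq_mul]
    have hu : (Finset.univ.image fun g => cjChar D.U g D.psi) ∪
        (Finset.univ.image fun g => cjChar D.U g D.psi') = Finset.univ.erase 1 := by
      ext f
      simp only [Finset.mem_union, Finset.mem_image, Finset.mem_univ, true_and, Finset.mem_erase, and_true]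
      constructor
      · rintro (⟨g, rfl⟩ | ⟨g, rfl⟩)
        exacts [hne _ g h1, hne _ g h2]
      · intro hf
        obtain ⟨g, h | h⟩ := h4 f hf
        exacts [Or.inl ⟨g, h⟩, Or.inr ⟨g, h⟩]
    have hdisj : Disjoint (Finset.univ.image fun g => cjChar D.U g D.psi)
        (Finset.univ.image fun g => cjChar D.U g D.psi') := by
      rw [Finset.disjoint_left]
      intro y hy hy'
      obtain ⟨g, -, rfl⟩ := Finset.mem_image.1 hy
      obtain ⟨g', -, hg'⟩ := Finset.mem_image.1 hy'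
      refine h3 (g * g'⁻¹) ?_
      show cjChar D.U (g * g'⁻¹) D.psi = D.psi'
      rw [cjChar_mul, ← hg', ← cjChar_mul, mul_inv_cancel, cjChar_one]
    rw [horb _ h1, horb _ h2, ← mul_add, ← Finset.sum_union hdisj, hu,
      Finset.sum_erase_eq_sub (Finset.mem_univ _), sum_dual D.U D.U_comm xx, if_neg hxx]
    simp only [MonoidHom.one_apply, Units.val_one]
    field_simp
    ring

/-! ### The two class functions -/

omit hQ in
theorem indLin_class (X : Subgroup L) (lam : X →* ℂˣ) (g x : L) :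
    indLin X lam (g * x * g⁻¹) = indLin X lam x := isClassFunction_indFun X _ x g

/-- The kinds of elements other than the identity. -/
theorem kinds {l : L} (hl : l ≠ 1) :
    (¬ Odd (orderOf l)) ∨ ∃ g x : L, x ≠ 1 ∧ l = g * x * g⁻¹ ∧ (x ∈ D.Zh ∨ x ∈ D.Zk ∨ x ∈ D.U) := by
  by_cases ho : Odd (orderOf l)
  · obtain ⟨g, hg⟩ := D.odd_cases l ho
    refine Or.inr ⟨g⁻¹, g * l * g⁻¹, fun e => hl (conj_eq_one_iff.1 e), by group, hg⟩
  · exact Or.inl ho

omit hQ in
theorem indLin_even {l : L} (h : ¬ Odd (orderOf l)) :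
    indLin D.Zk 1 l = 0 ∧ indLin D.Zh 1 l = 0 ∧ ∀ f : D.U →* ℂˣ, indLin D.U f l = 0 :=
  ⟨not_not.1 fun e => h (indLin_odd D.odd_Zk e), not_not.1 fun e => h (indLin_odd D.odd_Zh e),
    fun _ => not_not.1 fun e => h (indLin_odd D.odd_U e)⟩

/-- An element meeting a conjugate of `Zk` fixes two points. -/
theorem uFix_Zk {x : L} (hx : x ∈ D.Zk) (hx1 : x ≠ 1) : uFix D.p x = 2 := by
  haveI := Fact.mk D.prime_p
  set κ : L → ℤ := fun l => if indLin D.Zk 1 l = 0 then 0 else 1
  have hpt : ∀ l ∈ Finset.univ.erase (1 : L), indLin D.Zk 1 l = 2 * (κ l : ℂ) ∧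
      (uFix D.p l : ℂ) = (κ l : ℂ) * uFix D.p l + indLin D.U 1 l / D.k ∧
      (uFix D.p l : ℂ) ^ 2 = (κ l : ℂ) * (uFix D.p l : ℂ) ^ 2 + indLin D.U 1 l / D.k := by
    intro l hl
    simp only [κ]
    rcases kinds D hQ (Finset.ne_of_mem_erase hl) with ho | ⟨g, z, hz1, rfl, hz | hz | hz⟩
    · obtain ⟨a, -, c⟩ := indLin_even D ho
      rw [a, c 1, if_pos rfl, uFix_even D hQ ho]
      simp
    · obtain ⟨a, -, c⟩ := vals_Zh D hQ hz hz1
      rw [indLin_class D, indLin_class D, uFix_conj, a, c 1, if_pos rfl, uFix_Zh D hQ hz hz1]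
      simp
    · obtain ⟨a, -, c⟩ := vals_Zk D hQ hz hz1
      rw [indLin_class D, indLin_class D, uFix_conj, a, c 1, if_neg two_ne_zero]
      simp
    · obtain ⟨a, -, c, -⟩ := vals_U D hQ hz hz1
      rw [indLin_class D, indLin_class D, uFix_conj, a, c, if_pos rfl, uFix_U D hQ hz hz1,
        div_self (Nat.cast_ne_zero.2 D.k_odd'.pos.ne')]
      simp
  have htot : ∀ X : Subgroup L, ∑ l, indLin X 1 l = (Nat.card L : ℂ) := fun X => by
    haveI := Fintype.ofFinite X
    have h := congrArg conj (sum_indLin_mul X (1 : X →* ℂˣ) (f := fun _ : L => (1 : ℂ)) fun _ _ => rfl)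
    simp only [mul_one, map_sum, Complex.conj_conj, MonoidHom.one_apply, Units.val_one, map_one, map_mul,
      map_natCast, Finset.sum_const, Finset.card_univ, nsmul_eq_mul] at h
    rw [h, ← Nat.card_eq_fintype_card, ← Nat.cast_mul, mul_comm, Subgroup.card_mul_index]
  obtain ⟨s1, s2⟩ := sum_uFix D hQ
  obtain ⟨iK, -, iU⟩ := index_vals D hQ
  obtain ⟨hk, hh⟩ := arith_pos D hQ
  set S := Finset.univ.erase (1 : L) with hS
  have er : ∀ f : L → ℂ, ∑ l ∈ S, f l = ∑ l, f l - f 1 := fun f =>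
    Finset.sum_erase_eq_sub (Finset.mem_univ _)
  have eK : 2 * ∑ l ∈ S, (κ l : ℂ) = (Nat.card L : ℂ) - (4 * D.h * Q.natAbs : ℕ) := by
    rw [Finset.mul_sum, ← Finset.sum_congr rfl fun l hl => (hpt l hl).1, er, htot, indLin_at_one D, iK]
  have eU : ∑ l ∈ S, indLin D.U 1 l = (Nat.card L : ℂ) - (4 * D.h * D.k : ℕ) := by
    rw [er, htot, indLin_at_one D, iU]
  have e1 : ∑ l ∈ S, (κ l : ℂ) * uFix D.p l + (∑ l ∈ S, indLin D.U 1 l) / D.k =
      (Nat.card L : ℂ) - ((Q.natAbs + 1 : ℕ) : ℂ) := by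
    rw [Finset.sum_div, ← Finset.sum_add_distrib, ← Finset.sum_congr rfl fun l hl => (hpt l hl).2.1,
      er, s1, uFix_one D hQ]
  have e2 : ∑ l ∈ S, (κ l : ℂ) * (uFix D.p l : ℂ) ^ 2 + (∑ l ∈ S, indLin D.U 1 l) / D.k =
      2 * (Nat.card L : ℂ) - ((Q.natAbs + 1 : ℕ) : ℂ) ^ 2 := by
    rw [Finset.sum_div, ← Finset.sum_add_distrib, ← Finset.sum_congr rfl fun l hl => (hpt l hl).2.2,
      er, s2, uFix_one D hQ]
  have hkc : (D.k : ℂ) ≠ 0 := Nat.cast_ne_zero.2 D.k_odd'.pos.ne'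
  have hhc : 4 * (D.h : ℂ) = (Q.natAbs : ℂ) + 1 := by exact_mod_cast hh
  rw [eU] at e1 e2
  rw [show (Nat.card L : ℂ) = 4 * (D.h : ℂ) * D.k * (Q.natAbs : ℂ) by exact_mod_cast card_LN D] at eK e1 e2
  push_cast at eK e1 e2
  have hdiv : (4 * (D.h : ℂ) * D.k * (Q.natAbs : ℂ) - 4 * D.h * D.k) / D.k =
      4 * (D.h : ℂ) * ((Q.natAbs : ℂ) - 1) := by field_simp
  rw [hdiv] at e1 e2
  have hzero : ((∑ l ∈ S, κ l * ((uFix D.p l : ℤ) - 2) ^ 2 : ℤ) : ℂ) = 0 := by
    push_cast
    rw [Finset.sum_congr rfl fun l _ => show (κ l : ℂ) * ((uFix D.p l : ℂ) - 2) ^ 2 =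
      (κ l : ℂ) * (uFix D.p l : ℂ) ^ 2 - 4 * ((κ l : ℂ) * uFix D.p l) + 4 * (κ l : ℂ) by ring,
      Finset.sum_add_distrib, Finset.sum_sub_distrib, ← Finset.mul_sum, ← Finset.mul_sum]
    linear_combination e2 - 4 * e1 + 2 * eK + ((Q.natAbs : ℂ) - 3) * hhc
  have h0 := (Finset.sum_eq_zero_iff_of_nonneg fun l _ => mul_nonneg
    (by simp only [κ]; split_ifs <;> norm_num) (sq_nonneg _)).1 (Int.cast_eq_zero.1 hzero) x
    (Finset.mem_erase.2 ⟨hx1, Finset.mem_univ _⟩)
  simp only [κ, (vals_Zk D hQ hx hx1).1, if_neg (two_ne_zero (α := ℂ)), one_mul] at h0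
  have := sub_eq_zero.1 (pow_eq_zero_iff two_ne_zero |>.1 h0)
  exact_mod_cast this

/-- The functions defining `b` and `e` are fixed point numbers on elements of odd order. -/
theorem fun_eq (l : L) :
    (indLin D.Zk 1 l - (indLin D.U D.psi l + indLin D.U D.psi' l) =
      if Odd (orderOf l) then (uFix D.p l : ℂ) else 0) ∧
    (indLin D.Zh 1 l - 2 * (indLin D.U D.psi l + indLin D.U D.psi' l) =
      if Odd (orderOf l) then 4 - 2 * (uFix D.p l : ℂ) else 0) := by
  haveI := Fact.mk D.prime_p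
  by_cases hl : l = 1
  · subst hl
    obtain ⟨iK, iH, iU⟩ := index_vals D hQ
    obtain ⟨hk, hh⟩ := arith_pos D hQ
    have ho : Odd (orderOf (1 : L)) := by rw [orderOf_one]; exact odd_one
    have hkc : 2 * (D.k : ℂ) + 1 = (Q.natAbs : ℂ) := by exact_mod_cast hk
    have hhc : 4 * (D.h : ℂ) = (Q.natAbs : ℂ) + 1 := by exact_mod_cast hh
    simp only [indLin_at_one D, iK, iH, iU, uFix_one D hQ, if_pos ho]
    push_cast
    constructor
    · linear_combination hhc - 4 * (D.h : ℂ) * hkc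
    · linear_combination -4 * (D.k : ℂ) * hhc - 2 * hkc
  rcases kinds D hQ hl with ho | ⟨g, z, hz1, rfl, hz⟩
  · obtain ⟨a, b, c⟩ := indLin_even D ho
    simp [a, b, c, if_neg ho]
  have hoz : Odd (orderOf (g * z * g⁻¹)) := by
    rw [show orderOf (g * z * g⁻¹) = orderOf z from (MulAut.conj g).orderOf_eq z]
    rcases hz with h | h | h
    exacts [D.odd_Zh.of_dvd_nat (Subgroup.orderOf_dvd_natCard _ h),
      D.odd_Zk.of_dvd_nat (Subgroup.orderOf_dvd_natCard _ h),
      D.odd_U.of_dvd_nat (Subgroup.orderOf_dvd_natCard _ h)]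
  simp only [if_pos hoz, indLin_class D, uFix_conj]
  rcases hz with h | h | h
  · obtain ⟨a, b, c⟩ := vals_Zh D hQ h hz1
    simp [a, b, c, uFix_Zh D hQ h hz1]
  · obtain ⟨a, b, c⟩ := vals_Zk D hQ h hz1
    simp [a, b, c, uFix_Zk D hQ h hz1]
    norm_num
  · obtain ⟨a, b, -, d⟩ := vals_U D hQ h hz1
    rw [a, b, d, uFix_U D hQ h hz1]
    constructor <;> norm_num

/-! ### The two columns -/

omit hQ in
theorem card_mul_z {G : Type u} [Group G] [Fintype G] (E : Setup G L Q) {X : Subgroup L}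
    (hX : Odd (Nat.card X)) (lam : X →* ℂˣ) (χ : IrrCharacter G) :
    ∑ l, conj (indLin X lam l) * (χ : G → ℂ) (E.ι (c2, l)) = (Nat.card L : ℂ) * (E.z hX lam χ : ℂ) := by
  haveI := Fintype.ofFinite X
  have hf : Cfsg.IsClassFunction L (fun l => (χ : G → ℂ) (E.ι (c2, l))) := fun b a => by
    show (χ : G → ℂ) (E.ι (c2, a * b * a⁻¹)) = (χ : G → ℂ) (E.ι (c2, b))
    have e : E.ι (c2, a * b * a⁻¹) = E.ι (1, a) * E.ι (c2, b) * (E.ι (1, a))⁻¹ := by
      rw [← map_inv, ← map_mul, ← map_mul]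
      refine congrArg E.ι (Prod.ext ?_ rfl)
      show c2 = 1 * c2 * 1⁻¹
      rw [one_mul, inv_one, mul_one]
    rw [e, IsCharacter.isClassFunction (IsIrrCharacter.isCharacter χ.2)]
  rw [sum_indLin_mul X lam hf, ← E.z_spec hX lam χ, ← Subgroup.card_mul_index X, Nat.cast_mul]
  ring

end Cfsg.Agent.NoField.EtaX

namespace Cfsg.Agent.NoField.EtaX

open Cfsg Cfsg.Agent.Char Cfsg.Agent.JanThom
open scoped ComplexConjugate Classical

universe u v

variable {G : Type u} [Group G] [Fintype G] {L : Type v} [Group L] [Fintype L] {Q : ℤ}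
  (E : Setup G L Q) (hQ : 0 < Q)

include hQ

/-- The column `b` by fixed points. -/
theorem sum_bc (χ : IrrCharacter G) :
    ∑ l ∈ Finset.univ.filter (fun l : L => Odd (orderOf l)),
      (uFix E.D.p l : ℂ) * (χ : G → ℂ) (E.ι (c2, l)) = (Nat.card L : ℂ) * (E.bc χ : ℂ) := by
  unfold Setup.bc Setup.rho Setup.zk Setup.zu
  push_cast
  simp only [mul_sub, mul_add, ← card_mul_z E.D E, ← Finset.sum_add_distrib, ← Finset.sum_sub_distrib]
  rw [Finset.sum_filter]
  refine Finset.sum_congr rfl fun l _ => ?_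
  rw [← add_mul, ← sub_mul, ← map_add, ← map_sub, (fun_eq E.D hQ l).1]
  split_ifs <;> simp

/-- The column `e` by fixed points. -/
theorem sum_ec (χ : IrrCharacter G) :
    ∑ l ∈ Finset.univ.filter (fun l : L => Odd (orderOf l)),
      (4 - 2 * (uFix E.D.p l : ℂ)) * (χ : G → ℂ) (E.ι (c2, l)) = (Nat.card L : ℂ) * (E.ec χ : ℂ) := by
  unfold Setup.ec Setup.rho Setup.zh Setup.zu
  push_cast
  simp only [mul_sub, mul_add, mul_left_comm _ (2 : ℂ), ← card_mul_z E.D E, Finset.mul_sum,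
    ← Finset.sum_add_distrib, ← Finset.sum_sub_distrib]
  rw [Finset.sum_filter]
  refine Finset.sum_congr rfl fun l _ => ?_
  have h := congrArg (fun c => conj c * (χ : G → ℂ) (E.ι (c2, l))) (fun_eq E.D hQ l).2
  simp only [map_sub, map_mul, map_add, map_ofNat] at h
  rw [apply_ite (starRingEnd ℂ), map_sub, map_mul, map_ofNat, map_ofNat, map_natCast, map_zero,
    ite_mul, zero_mul] at h
  rw [← h]
  ring

/-- The columns are unchanged by automorphisms of `L`. -/
theorem cols_of_auto (β : L ≃* L) {χ χ' : IrrCharacter G}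
    (h : ∀ l, (χ' : G → ℂ) (E.ι (c2, l)) = (χ : G → ℂ) (E.ι (c2, β l))) :
    E.bc χ' = E.bc χ ∧ E.ec χ' = E.ec χ := by
  haveI := Fact.mk E.D.prime_p
  have hmem : ∀ l, l ∈ Finset.univ.filter (fun l : L => Odd (orderOf l)) ↔
      β.toEquiv l ∈ Finset.univ.filter (fun l : L => Odd (orderOf l)) := fun l => by
    simp [MulEquiv.orderOf_eq]
  have hL : (Nat.card L : ℂ) ≠ 0 := Nat.cast_ne_zero.2 Nat.card_pos.ne'
  refine ⟨Int.cast_injective (α := ℂ) (mul_left_cancel₀ hL ?_),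
    Int.cast_injective (α := ℂ) (mul_left_cancel₀ hL ?_)⟩
  · rw [← sum_bc E hQ, ← sum_bc E hQ]
    refine Finset.sum_equiv β.toEquiv hmem fun l _ => ?_
    rw [h, ← uFix_equiv β l]; rfl
  · rw [← sum_ec E hQ, ← sum_ec E hQ]
    refine Finset.sum_equiv β.toEquiv hmem fun l _ => ?_
    rw [h, ← uFix_equiv β l]; rfl

end Cfsg.Agent.NoField.EtaX
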