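import Cfsg.Agent.Lib.NoField.CPhiSoc
import Cfsg.Agent.Lib.NoField.EtaProj
import Cfsg.Agent.Lib.JanThom.TorusFns

/-!
The fixed points of `L ∩ C(f)` on the projective line of `L`, and the torus coefficient of a row of the
socle of `C(f) ⧸ ⟨f⟩` read on `L`.
-/

set_option autoImplicit false
set_option linter.style.haveILetI false
set_option linter.unusedSectionVars false

namespace Cfsg.Agent.NoField

open Subgroup Cfsg Cfsg.Agent.Walter8 Cfsg.Agent.AutPSL
open Cfsg.Agent.JanThom (C2 c2 Setup LData V4 mu1)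
open scoped ComplexConjugate Classical

universe u

/-- An element lies in `Zh` iff it is of odd order and centralises `s`. -/
theorem mem_Zh_iff {L : Type*} [Group L] [Finite L] {Q : ℤ} (d : LData L Q) {l : L} :
    l ∈ d.Zh ↔ Odd (orderOf l) ∧ l * d.s = d.s * l := by
  refine ⟨fun h => ⟨(d.card_Zh.symm ▸ d.h_odd' : Odd (Nat.card d.Zh)).of_dvd_nat
    (Subgroup.orderOf_dvd_natCard _ h), d.Zh_s h⟩, fun ⟨ho, hc⟩ => ?_⟩
  rcases d.Cs_cases l (mem_centralizer_singleton_iff.2 hc) with h | ⟨h2, h1, -⟩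
  · obtain ⟨z, hz, x, hx, rfl⟩ := d.mem_sup_s h
    rcases hx with rfl | rfl
    · rwa [mul_one]
    exfalso
    obtain ⟨m, hm⟩ := ho
    have hc' : Commute z d.s := d.Zh_s hz
    have he : (z * d.s) ^ (orderOf (z * d.s)) = 1 := pow_orderOf_eq_one _
    rw [hc'.mul_pow, hm, pow_succ d.s, pow_mul d.s, pow_two, d.s_sq, one_pow, one_mul] at he
    have hs : d.s ∈ d.Zh := by
      rw [eq_inv_of_mul_eq_one_right he]
      exact inv_mem (pow_mem hz _)
    exact d.s_ne (orderOf_eq_one_iff.1 (Nat.eq_one_of_dvd_coprimes (Nat.coprime_two_left.2 d.h_odd')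
      (orderOf_dvd_of_pow_eq_one (by rw [pow_two, d.s_sq]))
      (d.card_Zh ▸ Subgroup.orderOf_dvd_natCard _ hs)))
  · exfalso
    rw [Invol.order_two_of_sq h2 h1] at ho
    exact Nat.not_odd_iff_even.2 even_two ho

variable {G : Type u} [Group G] [Finite G] {D : Data G}

namespace Main

variable (M : Main D)
include M

/-- Two root groups with a common non-trivial element are equal. -/
theorem root_unique {R R' : Sylow (ringChar D.F) (PSL2 D.F)} {z : PSL2 D.F} (hz1 : z ≠ 1)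
    (h : z ∈ (R : Subgroup (PSL2 D.F))) (h' : z ∈ (R' : Subgroup (PSL2 D.F))) : R = R' := by
  obtain ⟨R₀, hR₀⟩ := M.exists_base
  obtain ⟨g, hg⟩ := MulAction.exists_smul_eq (PSL2 D.F) R R₀
  by_contra hne
  have hmem : ∀ S : Sylow (ringChar D.F) (PSL2 D.F), z ∈ (S : Subgroup (PSL2 D.F)) →
      g * z * g⁻¹ ∈ ((g • S : Sylow _ _) : Subgroup (PSL2 D.F)) := fun S hS => by
    rw [Sylow.coe_subgroup_smul, Subgroup.mem_pointwise_smul_iff_inv_smul_mem]
    simpa [MulAut.smul_def, mul_assoc] using hS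
  have h1 := hmem R h
  rw [hg] at h1
  have h2 : g * z * g⁻¹ ∈ (R₀ : Subgroup (PSL2 D.F)) ⊓ ((g • R' : Sylow _ _) : Subgroup (PSL2 D.F)) :=
    ⟨h1, hmem R' h'⟩
  rw [M.inf_base hR₀ fun e => hne (smul_left_cancel g (hg.trans e.symm)), mem_bot] at h2
  exact hz1 (conj_eq_one_iff.1 h2)

/-- A root group invariant under `f` has a non-trivial fixed element. -/
theorem root_fixed {R : Sylow (ringChar D.F) (PSL2 D.F)}
    (hR : ∀ x ∈ (R : Subgroup (PSL2 D.F)), semi 1 (M.σ : D.F ≃+* D.F) x ∈ (R : Subgroup (PSL2 D.F))) :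
    ∃ z ∈ (R : Subgroup (PSL2 D.F)), z ≠ 1 ∧ semi 1 (M.σ : D.F ≃+* D.F) z = z := by
  haveI : Fact M.p.Prime := ⟨M.p_prime⟩
  let a : MulAut (PSL2 D.F) := semi 1 (M.σ : D.F ≃+* D.F)
  let g : {x : (R : Subgroup (PSL2 D.F)) // x ≠ 1} → {x : (R : Subgroup (PSL2 D.F)) // x ≠ 1} := fun x =>
    ⟨⟨a x.1, hR _ x.1.2⟩, fun e => x.2 (Subtype.ext (a.map_eq_one_iff.1 (congrArg Subtype.val e)))⟩
  let τ : Equiv.Perm {x : (R : Subgroup (PSL2 D.F)) // x ≠ 1} :=
    Equiv.ofBijective g (Finite.injective_iff_bijective.1 fun x y h =>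
      Subtype.ext (Subtype.ext (a.injective (congrArg (fun z => (z.1 : PSL2 D.F)) h))))
  have hτ : ∀ (k : ℕ) x, (((τ ^ k) x).1 : PSL2 D.F) = (a ^ k) (x.1 : PSL2 D.F) := by
    intro k
    induction k with
    | zero => intro x; rfl
    | succ k ih =>
      intro x
      rw [pow_succ' τ, pow_succ' a, Equiv.Perm.mul_apply, MulAut.mul_apply, ← ih x]
      rfl
  have hpow : τ ^ M.p ^ M.v = 1 := by
    refine Equiv.ext fun x => Subtype.ext (Subtype.ext ?_)
    rw [hτ, ← M.σ_order]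
    have e : a ^ orderOf M.σ = 1 := by
      rw [← Subgroup.orderOf_coe, ← orderOf_semi_one le_rfl, pow_orderOf_eq_one]
    rw [e]
    rfl
  have hcard : ¬ M.p ∣ Fintype.card {x : (R : Subgroup (PSL2 D.F)) // x ≠ 1} := by
    intro h
    refine M.p_coprime (dvd_mul_of_dvd_right ?_ _)
    obtain ⟨R₀, hR₀⟩ := M.exists_base
    have hRc : Fintype.card (R : Subgroup (PSL2 D.F)) = Fintype.card D.F := by
      rw [← Nat.card_eq_fintype_card, R.card_eq_multiplicity, ← R₀.card_eq_multiplicity, hR₀, M.ld.card_U,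
        ld_q]
    rw [Fintype.card_subtype_compl, Fintype.card_subtype_eq, hRc] at h
    refine h.trans ⟨Fintype.card D.F + 1, ?_⟩
    rw [mul_comm, ← Nat.sq_sub_sq, one_pow]
  obtain ⟨x, hx⟩ := Equiv.Perm.exists_fixed_point_of_prime hcard hpow
  exact ⟨x.1, x.1.2, fun e => x.2 (Subtype.ext e), congrArg (fun z => (z.1 : PSL2 D.F)) hx⟩

/-- The fixed points common to `f` and an element of `L ∩ C(f)` are the points of `L ∩ C(f)`. -/
theorem fix1_eq {L : Type*} [Group L] [Finite L] (ek : fixed (M.σ : D.F ≃+* D.F) ≃* L)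
    (hdvd : ringChar D.F ∣ Nat.card L) (g : fixed (M.σ : D.F ≃+* D.F)) :
    D.fix1 M.σ (D.jL g) = Nat.card {T : Sylow (ringChar D.F) L // ek g • T = T} := by
  haveI := D.fact_char
  let a : MulAut (PSL2 D.F) := semi 1 (M.σ : D.F ≃+* D.F)
  let e : L →* PSL2 D.F := (fixed (M.σ : D.F ≃+* D.F)).subtype.comp ek.symm.toMonoidHom
  have he : Function.Injective e := fun x y h => ek.symm.injective (Subtype.ext h)
  have hfix : ∀ x, a (e x) = e x := fun x => (ek.symm x).2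
  have heg : e (ek g) = (g : PSL2 D.F) := congrArg Subtype.val (ek.symm_apply_apply g)
  have hex : ∀ T : Sylow (ringChar D.F) L, ∃ R : Sylow (ringChar D.F) (PSL2 D.F),
      (T : Subgroup L).map e ≤ R := fun T => (T.2.map e).exists_le_sylow
  choose rt hrt using hex
  have hmax : ∀ (T : Sylow (ringChar D.F) L) (R : Sylow (ringChar D.F) (PSL2 D.F)),
      (T : Subgroup L).map e ≤ R → (R : Subgroup (PSL2 D.F)).comap e = T := fun T R h =>
    T.is_maximal' (R.2.comap_of_injective e he) (Subgroup.map_le_iff_le_comap.1 h)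
  have hne : ∀ T : Sylow (ringChar D.F) L, ∃ x ∈ (T : Subgroup L), e x ≠ 1 := fun T => by
    obtain ⟨⟨x, hx⟩, hx1⟩ := Subgroup.ne_bot_iff_exists_ne_one.1 (T.ne_bot_of_dvd_card hdvd)
    exact ⟨x, hx, fun h => hx1 (Subtype.ext (he (h.trans (map_one e).symm)))⟩
  have huniq : ∀ (T : Sylow (ringChar D.F) L) (R : Sylow (ringChar D.F) (PSL2 D.F)),
      (T : Subgroup L).map e ≤ R → R = rt T := fun T R h => by
    obtain ⟨x, hx, hx1⟩ := hne T
    exact M.root_unique hx1 (h ⟨x, hx, rfl⟩) (hrt T ⟨x, hx, rfl⟩)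
  -- the root group of a point is invariant under `f`
  have hinv : ∀ T : Sylow (ringChar D.F) L,
      ((rt T : Sylow _ _) : Subgroup (PSL2 D.F)).map a.toMonoidHom = rt T := fun T => by
    have h1 : (T : Subgroup L).map e ≤
        ((rt T).mapSurjective (f := a.toMonoidHom) a.surjective : Subgroup (PSL2 D.F)) := by
      rintro _ ⟨x, hx, rfl⟩
      exact ⟨e x, hrt T ⟨x, hx, rfl⟩, hfix x⟩
    exact congrArg Sylow.toSubgroup (huniq T _ h1)
  have hroot : ∀ R : Sylow (ringChar D.F) (PSL2 D.F),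
      ((R : Subgroup (PSL2 D.F)).map D.jL).map (MulAut.conj (D.jΦ M.σ)).toMonoidHom =
        ((R : Subgroup (PSL2 D.F)).map a.toMonoidHom).map D.jL := fun R => by
    have h := D.root_map_conj 1 M.σ (R : Subgroup (PSL2 D.F))
    rw [map_one, one_mul, map_one, one_mul] at h
    exact h
  have hequiv : ∀ (T : Sylow (ringChar D.F) L), ek g • T = T →
      (g : PSL2 D.F) • rt T = rt T := fun T hT => by
    refine huniq T _ ?_
    rintro _ ⟨x, hx0, rfl⟩
    have hx : x ∈ ((ek g • T : Sylow (ringChar D.F) L) : Subgroup L) := by rw [hT]; exact hx0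
    rw [Sylow.coe_subgroup_smul, Subgroup.mem_pointwise_smul_iff_inv_smul_mem] at hx
    have h1 := hrt T ⟨_, hx, rfl⟩
    show e x ∈ (((g : PSL2 D.F) • rt T : Sylow _ _) : Subgroup (PSL2 D.F))
    rw [Sylow.coe_subgroup_smul, Subgroup.mem_pointwise_smul_iff_inv_smul_mem]
    simpa [MulAut.smul_def, heg] using h1
  symm
  refine Nat.card_eq_of_bijective (fun T => ⟨((rt T.1 : Sylow _ _) : Subgroup (PSL2 D.F)).map D.jL,
    ⟨rt T.1, rfl⟩, by rw [hroot, hinv], (D.fixes_iff g (rt T.1)).2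
      (Sylow.smul_eq_iff_mem_normalizer.1 (hequiv T.1 T.2))⟩) ⟨?_, ?_⟩
  · rintro ⟨T, hT⟩ ⟨T', hT'⟩ h
    have h' : rt T = rt T' := Sylow.ext (Subgroup.map_injective D.jL_inj (congrArg Subtype.val h))
    refine Subtype.ext (Sylow.ext ?_)
    rw [← hmax T (rt T) (hrt T), h', hmax T' (rt T') (hrt T')]
  · rintro ⟨_, ⟨R, rfl⟩, hσ, hg⟩
    rw [hroot] at hσ
    have hRinv : ∀ x ∈ (R : Subgroup (PSL2 D.F)), a x ∈ (R : Subgroup (PSL2 D.F)) := fun x hx => by
      rw [← Subgroup.map_injective D.jL_inj hσ]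
      exact ⟨x, hx, rfl⟩
    obtain ⟨z, hzR, hz1, hzfix⟩ := M.root_fixed hRinv
    obtain ⟨T, hT⟩ := (R.2.comap_of_injective e he).exists_le_sylow
    have hez : e (ek ⟨z, hzfix⟩) = z := congrArg Subtype.val (ek.symm_apply_apply _)
    have hRT : R = rt T := M.root_unique hz1 hzR
      (hrt T ⟨ek ⟨z, hzfix⟩, hT (show e _ ∈ (R : Subgroup (PSL2 D.F)) by rw [hez]; exact hzR), hez⟩)
    refine ⟨⟨T, Sylow.ext ?_⟩, Subtype.ext (congrArg (fun S : Sylow (ringChar D.F) (PSL2 D.F) => (S : Subgroup (PSL2 D.F)).map D.jL) hRT.symm)⟩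
    have h2 := hmax T (rt T) (hrt T)
    refine ((T : Sylow (ringChar D.F) L).is_maximal' (ek g • T : Sylow (ringChar D.F) L).2 ?_)
    rw [← h2, ← hRT]
    intro x hx
    rw [Sylow.coe_subgroup_smul, Subgroup.mem_pointwise_smul_iff_inv_smul_mem]
    have hgR : (g : PSL2 D.F) • R = R := Sylow.smul_eq_iff_mem_normalizer.2 ((D.fixes_iff g R).1 hg)
    have hx' : e x ∈ (((g : PSL2 D.F) • R : Sylow _ _) : Subgroup (PSL2 D.F)) := by rw [hgR]; exact hx
    rw [Sylow.coe_subgroup_smul, Subgroup.mem_pointwise_smul_iff_inv_smul_mem] at hx'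
    simp only [← h2, ← hRT, Subgroup.mem_comap]
    simpa [MulAut.smul_def, heg] using hx'

/-- The characteristic of the local data of `L ∩ C(f)`. -/
theorem ld_char {L : Type*} [Group L] {Q : ℤ} (d : LData L Q) (hQ : Q.natAbs = D.qfix M.σ) :
    d.p = ringChar D.F := by
  obtain ⟨K, _, _, hK, -, -, hq, -⟩ := D.qfix_spec M.σ
  have h : d.p ∣ Fintype.card D.F := by
    rw [hq]
    refine dvd_trans ?_ (dvd_pow_self _ (orderOf_pos M.σ).ne')
    rw [hK, ← hQ, d.abs_Q]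
    exact dvd_pow_self _ d.n_odd.pos.ne'
  rw [M.q_eq] at h
  exact (Nat.prime_dvd_prime_iff_eq d.prime_p D.char_prime).1 (d.prime_p.dvd_of_dvd_pow h)

theorem ld_char_dvd {L : Type*} [Group L] {Q : ℤ} (d : LData L Q) (hQ : Q.natAbs = D.qfix M.σ) :
    ringChar D.F ∣ Nat.card L := by
  rw [← M.ld_char d hQ]
  refine dvd_trans ?_ (card_subgroup_dvd_card d.U)
  rw [d.card_U, d.abs_Q]
  exact dvd_pow_self _ d.n_odd.pos.ne'

/-- The sums `b` and `e` of a row, read on `L ∩ C(f)`. -/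
theorem sum_rows [Fintype G] {H : Type*} [Group H] [Fintype H] {L : Type*} [Group L] [Fintype L] {Q : ℤ}
    (J : Setup H L Q) (hQ : 0 < Q) (hq : Q.natAbs = D.qfix M.σ) (ek : fixed (M.σ : D.F ≃+* D.F) ≃* L)
    (A : IrrCharacter H) (hb : J.bc A = -1) (he : J.ec A = -1) (φ : G → ℂ)
    (hval : ∀ (a : Bool) (g : fixed (M.σ : D.F ≃+* D.F)), φ ((if a then D.t else 1) * D.jL g) =
      (A : H → ℂ) (J.ι (if a then c2 else 1, ek g))) :
    (∑ g : {g : PSL2 D.F // semi 1 (M.σ : D.F ≃+* D.F) g = g ∧ Odd (orderOf g)},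
        (D.fix1 M.σ (D.jL g) : ℂ) * φ (D.t * D.jL g) = -(M.card1 : ℂ)) ∧
      ∑ g : {g : PSL2 D.F // semi 1 (M.σ : D.F ≃+* D.F) g = g ∧ Odd (orderOf g)},
        (4 - 2 * (D.fix1 M.σ (D.jL g) : ℂ)) * φ (D.t * D.jL g) = -(M.card1 : ℂ) := by
  have hp := M.ld_char J.D hq
  have hcard : M.card1 = Nat.card L := Nat.card_congr ek.toEquiv
  let r : {g : PSL2 D.F // semi 1 (M.σ : D.F ≃+* D.F) g = g ∧ Odd (orderOf g)} ≃
      {l : L // Odd (orderOf l)} :=
    { toFun := fun g => ⟨ek ⟨g.1, g.2.1⟩, by rw [ek.orderOf_eq, ← Subgroup.orderOf_coe]; exact g.2.2⟩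
      invFun := fun l => ⟨(ek.symm l.1 : PSL2 D.F), (ek.symm l.1).2,
        by rw [Subgroup.orderOf_coe, ek.symm.orderOf_eq]; exact l.2⟩
      left_inv := fun g => Subtype.ext (by simp)
      right_inv := fun l => Subtype.ext (ek.apply_symm_apply l.1) }
  have hf : ∀ l : {l : L // Odd (orderOf l)}, D.fix1 M.σ (D.jL (r.symm l).1) = EtaX.uFix J.D.p l.1 := fun l => by
    rw [hp, show ((r.symm l).1 : PSL2 D.F) = ((ek.symm l.1 : fixed (M.σ : D.F ≃+* D.F)) : PSL2 D.F) from rfl,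
      M.fix1_eq ek (M.ld_char_dvd J.D hq), ek.apply_symm_apply]
    rfl
  have hv : ∀ l : {l : L // Odd (orderOf l)}, φ (D.t * D.jL (r.symm l).1) = (A : H → ℂ) (J.ι (c2, l.1)) :=
    fun l => by
      have h := hval true (ek.symm l.1)
      rwa [if_pos rfl, if_pos rfl, ek.apply_symm_apply] at h
  constructor
  · rw [← r.symm.sum_comp, Finset.sum_congr rfl fun l _ => by rw [hf, hv]]
    rw [← Finset.sum_subtype (p := fun l : L => Odd (orderOf l)) (Finset.univ.filter fun l => Odd (orderOf l))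
      (by simp) (fun l => (EtaX.uFix J.D.p l : ℂ) * (A : H → ℂ) (J.ι (c2, l))), EtaX.sum_bc J hQ A, hb, hcard]
    push_cast
    ring
  · rw [← r.symm.sum_comp, Finset.sum_congr rfl fun l _ => by rw [hf, hv]]
    rw [← Finset.sum_subtype (p := fun l : L => Odd (orderOf l)) (Finset.univ.filter fun l => Odd (orderOf l))
      (by simp) (fun l => (4 - 2 * (EtaX.uFix J.D.p l : ℂ)) * (A : H → ℂ) (J.ι (c2, l))),
      EtaX.sum_ec J hQ A, he, hcard]
    push_cast
    ring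

/-- The torus coefficient of a row, read on `L ∩ C(f)`. -/
theorem torus_row {H : Type*} [Group H] [Fintype H] {L : Type*} [Group L] [Fintype L] {Q : ℤ}
    (J : Setup H L Q) (ek : fixed (M.σ : D.F ≃+* D.F) ≃* L) (hs : J.D.s = ek ⟨D.s, D.fixed_s M.σ⟩)
    (A : IrrCharacter H) (hA : ∀ l : J.D.Zh →* ℂˣ, l ≠ 1 → J.ta mu1 l A = 1) (φ : G → ℂ)
    (hval : ∀ (a : Bool) (g : fixed (M.σ : D.F ≃+* D.F)), φ ((if a then D.t else 1) * D.jL g) =
      (A : H → ℂ) (J.ι (if a then c2 else 1, ek g)))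
    (lam : M.ld.Zh →* ℂˣ)
    (hlam : ∃ z : M.ld.Zh, semi 1 (M.σ : D.F ≃+* D.F) (z : PSL2 D.F) = z ∧ lam z ≠ 1) :
    ∑ z : {z : M.ld.Zh // semi 1 (M.σ : D.F ≃+* D.F) (z : PSL2 D.F) = z},
      ∑ a : Bool, ∑ b : Bool, (if b then -1 else 1 : ℂ) * (1 - conj ((lam z.1 : ℂˣ) : ℂ)) *
        φ (D.four a b * D.jL (z.1 : PSL2 D.F)) =
      4 * (Nat.card {z : M.ld.Zh // semi 1 (M.σ : D.F ≃+* D.F) (z : PSL2 D.F) = z} : ℂ) := by
  have hiff : ∀ x : fixed (M.σ : D.F ≃+* D.F), ek x ∈ J.D.Zh ↔ (x : PSL2 D.F) ∈ M.ld.Zh := fun x => by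
    rw [mem_Zh_iff J.D, mem_Zh_iff M.ld, ek.orderOf_eq, Subgroup.orderOf_coe, M.ld_s, hs]
    refine and_congr_right fun _ => ?_
    rw [← map_mul, ← map_mul, ek.injective.eq_iff, Subtype.ext_iff]
    rfl
  let ψ : J.D.Zh →* M.ld.Zh :=
    ((fixed (M.σ : D.F ≃+* D.F)).subtype.comp (ek.symm.toMonoidHom.comp J.D.Zh.subtype)).codRestrict M.ld.Zh
      fun x => (hiff _).1 (by simp)
  let eqv : J.D.Zh ≃ {z : M.ld.Zh // semi 1 (M.σ : D.F ≃+* D.F) (z : PSL2 D.F) = z} :=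
    { toFun := fun x => ⟨ψ x, (ek.symm x).2⟩
      invFun := fun z => ⟨ek ⟨(z.1 : PSL2 D.F), z.2⟩, (hiff _).2 z.1.2⟩
      left_inv := fun x => Subtype.ext (ek.apply_symm_apply x)
      right_inv := fun z => Subtype.ext (Subtype.ext (show
        ((ek.symm (ek ⟨(z.1 : PSL2 D.F), z.2⟩) : fixed (M.σ : D.F ≃+* D.F)) : PSL2 D.F) = _ by
          rw [ek.symm_apply_apply])) }
  have hne : lam.comp ψ ≠ 1 := fun h => by
    obtain ⟨z, hz, hz1⟩ := hlam
    refine hz1 ?_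
    have h' := DFunLike.congr_fun h (eqv.symm ⟨z, hz⟩)
    rwa [MonoidHom.comp_apply, show ψ (eqv.symm ⟨z, hz⟩) = z from
      congrArg Subtype.val (eqv.apply_symm_apply ⟨z, hz⟩), MonoidHom.one_apply] at h'
  have hspec := J.ta_spec mu1 (lam.comp ψ) A
  rw [hA _ hne, Int.cast_one, one_mul] at hspec
  rw [← Nat.card_congr eqv, J.D.card_Zh, hspec, JanThom.sum_V4]
  obtain ⟨m0, m1, m2, m3⟩ := JanThom.mu1_vals
  rw [m0, m1, m2, m3]
  simp only [Setup.fs, Finset.mul_sum, ← Finset.sum_add_distrib]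
  rw [← eqv.sum_comp]
  refine Finset.sum_congr rfl fun x _ => ?_
  set w : fixed (M.σ : D.F ≃+* D.F) := ek.symm (x : L) with hw
  set s₀ : fixed (M.σ : D.F ≃+* D.F) := ⟨D.s, D.fixed_s M.σ⟩ with hs₀
  have hval' : ∀ a b : Bool, φ (D.four a b * D.jL ((eqv x).1 : PSL2 D.F)) =
      (A : H → ℂ) (J.jT ((if a then c2 else 1, if b then c2 else 1), x)) := by
    intro a b
    have e : D.four a b * D.jL ((eqv x).1 : PSL2 D.F) = (if a then D.t else 1) *
        D.jL (((if b then s₀ else 1) * w : fixed (M.σ : D.F ≃+* D.F)) : PSL2 D.F) := by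
      cases b <;> simp [Data.four, hs₀, eqv, ψ, hw, mul_assoc]
    rw [e, hval, J.jT_apply]
    cases b <;> simp [hw, J.sH_one, J.sH_c2, hs]
  simp only [Fintype.sum_bool, hval']
  simp only [map_sub, map_one, MonoidHom.comp_apply, if_true, if_false,
    Bool.false_eq_true, eqv, Equiv.coe_fn_mk, Prod.mk_one_one]
  ring

end Main

end Cfsg.Agent.NoField
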