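import Cfsg.Agent.Lib.NoField.EtaExt
import Cfsg.Agent.Lib.NoField.EtaFix

/-!
The character of defect zero of the centraliser of a field automorphism, with its three sums.
-/

set_option autoImplicit false
set_option linter.style.haveILetI false
set_option linter.unusedSectionVars false

namespace Cfsg.Agent.NoField

open Subgroup Cfsg Cfsg.Agent.AutPSL
open Cfsg.Agent.Walter8 (cen)
open Cfsg.Agent.JanThom (C2 c2 c2_ne card_C2 dgi Setup)
open scoped Classical

universe u

variable {G : Type u} [Group G] [Fintype G] {D : Data G}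

/-- `p` does not divide the order of `L ∩ C(f)`. -/
theorem Main.not_dvd_fixed (M : Main D) : ¬ M.p ∣ D.qfix M.σ * (D.qfix M.σ ^ 2 - 1) := by
  obtain ⟨K, _, _, hK, -, -, hq, -⟩ := D.qfix_spec M.σ
  intro h
  refine M.p_coprime ?_
  rw [hq, hK]
  rcases M.p_prime.dvd_mul.1 h with h | h
  · exact Dvd.dvd.mul_right (h.trans (dvd_pow_self _ (orderOf_pos M.σ).ne')) _
  · refine Dvd.dvd.mul_left (h.trans ?_) _
    rw [← pow_mul, mul_comm, pow_mul]
    simpa using Nat.sub_dvd_pow_sub_pow (D.qfix M.σ ^ 2) 1 (orderOf M.σ)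

/-- `p` is prime to the index of `⟨σ⟩`. -/
theorem Main.not_dvd_index_zpowers (M : Main D) : ¬ M.p ∣ (zpowers M.σ).index := by
  intro h
  have h1 := (zpowers M.σ).card_mul_index
  rw [Nat.card_zpowers, M.σ_order] at h1
  have h2 := congrArg (fun n => n.factorization M.p) h1
  simp only [Nat.factorization_mul (pow_pos M.p_prime.pos _).ne' index_ne_zero_of_finite, Finsupp.add_apply,
    M.v_eq, M.p_prime.factorization_pow, Finsupp.single_eq_same] at h2
  have h3 := M.p_prime.factorization_pos_of_dvd index_ne_zero_of_finite h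
  omega

/-- The character of defect zero exists. -/
theorem eta (M : Main D) : EtaStmt M := by
  have h5 : 5 ≤ D.qfix M.σ := le_trans (by norm_num) M.qfix_pos
  obtain ⟨E, hE⟩ := D.exists_soc (σ := M.σ) h5
  haveI := hE.simple
  haveI := hE.normal
  letI := Fintype.ofFinite E
  obtain ⟨K, _, _, Q, ek, J, hK, hq, hτ, hs, hι⟩ := hE.exists_setup M.qfix_pos M.σ_ne
  obtain ⟨A, hQ, hdeg, hb, he, hA, huniq⟩ := J.exists_rowA
  obtain ⟨η, hker, hdegη, hres⟩ :=
    EtaX.exists_eta hE h5 (EtaX.invariant hE J hτ hι h5 hQ hb he huniq)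
  have hval : ∀ (a : Bool) (g : fixed (M.σ : D.F ≃+* D.F)),
      ev (η : D.Cf M.σ → ℂ) ((if a then D.t else 1) * D.jL g) =
        (A : E → ℂ) (J.ι (if a then c2 else 1, ek g)) := by
    intro a g
    have hm : (if a then D.t else 1) * D.jL (g : PSL2 D.F) ∈ D.Cf M.σ := by
      refine mul_mem ?_ (D.jL_mem_cf g.2)
      split_ifs
      · exact D.t_mem_cf _
      · exact one_mem _
    rw [ev, dif_pos hm]
    refine hres _ _ ?_
    cases a
    · rw [EtaX.iota_coe hE J hτ hι, D.lam_apply]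
      simp only [Bool.false_eq_true, if_false, if_true, one_mul]
    · rw [EtaX.iota_coe hE J hτ hι, D.lam_apply]
      simp only [if_true, if_neg c2_ne, ← map_mul]
      exact congrArg (D.pH M.σ) (Subtype.ext rfl)
  obtain ⟨hsb, hse⟩ := M.sum_rows J hQ hq ek A hb he (ev (η : D.Cf M.σ → ℂ)) hval
  refine ⟨{ η := η, ker := hker, defect_zero := ?_, twist := fun μ hμ => EtaX.exists_twist hE J hτ hι h5 μ hμ,
            sum_b := hsb, sum_e := hse,
            torus := fun lam hlam => by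
              convert M.torus_row J ek hs A hA (ev (η : D.Cf M.σ → ℂ)) hval lam hlam }⟩
  -- the degree
  set q₁ := D.qfix M.σ with hq₁
  have hQq : Q = (q₁ : ℤ) := by omega
  have h27 : 27 ≤ q₁ := M.qfix_large
  have hle : q₁ ≤ q₁ ^ 2 := Nat.le_self_pow (by norm_num) _
  have hd : charDegree (η : D.Cf M.σ → ℂ) = q₁ ^ 2 - q₁ + 1 := by
    rw [hdegη]
    have e : ((charDegree (A : E → ℂ) : ℕ) : ℤ) = (q₁ : ℤ) ^ 2 - q₁ + 1 := by rw [← hQq]; exact hdeg
    zify [hle]
    exact e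
  have hcard : Nat.card (cen hE.tE) = q₁ * (q₁ ^ 2 - 1) := by
    obtain ⟨K', k1, k2, ek', ι, hK', hKodd, -, hinj, hr, -, -⟩ := hE.exists_iota h5 M.σ_ne
    rw [← hr, Nat.card_congr (MonoidHom.ofInjective hinj).toEquiv.symm, Nat.card_prod, card_C2,
      Walter8.two_mul_card_psl hKodd, hK']
  have hindex : (cen (D.tb M.σ)).index = q₁ ^ 2 * (q₁ ^ 2 - q₁ + 1) := by
    rcases hE.index_val h5 M.σ_ne with h | h
    · exact h.2
    · exact absurd h.1 (by omega)
  rw [hd, ← D.card_Hbar M.σ, Nat.factorization_mul Nat.card_pos.ne' (orderOf_pos M.σ).ne', Finsupp.add_apply,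
    EtaX.hbar_factor hE h5 M.p_prime M.not_dvd_index_zpowers, hcard, hindex, M.σ_order,
    M.p_prime.factorization_pow, Finsupp.single_eq_same]
  have h1 : q₁ * (q₁ ^ 2 - 1) * (q₁ ^ 2 * (q₁ ^ 2 - q₁ + 1)) =
      q₁ * (q₁ ^ 2 - 1) * q₁ ^ 2 * (q₁ ^ 2 - q₁ + 1) := by ring
  have hnd : ¬ M.p ∣ q₁ * (q₁ ^ 2 - 1) * q₁ ^ 2 := fun h => by
    rcases M.p_prime.dvd_mul.1 h with h | h
    · exact M.not_dvd_fixed h
    · exact M.not_dvd_fixed (Dvd.dvd.mul_right (M.p_prime.dvd_of_dvd_pow h) _)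
  have hne : q₁ * (q₁ ^ 2 - 1) * q₁ ^ 2 ≠ 0 := fun h => hnd (h ▸ dvd_zero _)
  rw [h1, Nat.factorization_mul hne (by omega), Finsupp.add_apply,
    Nat.factorization_eq_zero_of_not_dvd hnd, zero_add]

end Cfsg.Agent.NoField
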