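import Cfsg.Agent.Lib.JanThom.Main
import Cfsg.Agent.Lib.JanThom.Fixed
import Cfsg.Agent.Lib.JanThom.TorusFns
import Cfsg.Agent.Lib.JanThom.RowsEight

/-!
The distinguished row of degree `Q² - Q + 1` in a simple group with involution centraliser
`Z₂ × PSL₂(Q)` of Ree order: it is the only non-principal row with `e b = 1`.
-/

set_option autoImplicit false
set_option linter.unusedSectionVars false
set_option linter.style.haveILetI false

namespace Cfsg.Agent.JanThom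

open Cfsg Cfsg.Agent.Char Cfsg.Agent.OddIndexReal
open scoped ComplexConjugate Classical

universe u v

variable {G : Type u} [Group G] {L : Type v} [Group L] {Q : ℤ} [Fintype G] [Fintype L]

namespace Setup

variable (E : Setup G L Q) [IsSimpleGroup G]

/-- The torus functions, with their coefficients named. -/
theorem exists_tfam_named {y u : G} (hy : E.IsY y) (hu2 : u * u = 1) (huτ : u * E.τ = E.τ * u)
    (huσ : u * E.σ = E.σ * u) (huinv : ∀ z ∈ E.Zg, u * z * u⁻¹ = z⁻¹)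
    (hfree : ∀ z ∈ E.Zg, y * z = z * y → z = 1) :
    ∃ T : E.TFam, T.a1 = E.ta mu1 := by
  let S : E.TorusSym := ⟨y, u, hy, hu2, huτ, huσ, huinv, hfree⟩
  obtain ⟨e0, e1, e2, e3⟩ := mu1_vals
  have m0 : ∀ a : V4, ((1 : V4 →* ℂˣ) a : ℂ) = 1 := fun a => by simp
  have s0 : ∑ a, ((1 : V4 →* ℂˣ) a : ℂ) = 4 := by simp only [sum_V4, m0]; norm_num
  have s1 : ∑ a, (mu1 a : ℂ) = 0 := by rw [sum_V4, e0, e1, e2, e3]; norm_num
  have hcast : ∀ (f f' : IrrCharacter G → ℤ) (n : ℤ), (((∑ χ, f χ * f' χ : ℤ) : ℂ) = (n : ℂ)) →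
      ∑ χ, f χ * f' χ = n := fun f f' n h => Int.cast_injective h
  have htau : ∀ μ l, ∑ χ, E.ta μ l χ * E.tv χ = 0 := fun μ l => by
    refine hcast _ _ _ ?_
    push_cast
    simp only [tv_cast]
    exact E.col_zero μ l (N := 2) (by rw [pow_two]; exact E.τ_sq)
      (Nat.coprime_two_left.2 E.D.h_odd')
  have hdeg : ∀ μ l, dsum (E.ta μ l) = 0 := fun μ l =>
    E.col_zero μ l (N := 1) (one_pow 1) (Nat.coprime_one_left _)
  have hgal : ∀ (j : ℕ), j % (2 * E.D.h) = 1 → ∀ x : E.TT, (E.jT x) ^ j = E.jT x := by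
    intro j hj x
    rw [← map_pow]
    refine congrArg E.jT ?_
    have h1 : x ^ (2 * E.D.h) = 1 := Prod.ext
      (by rw [Prod.pow_fst, pow_mul, pow_two, V4_sq, one_pow]; rfl)
      (by rw [Prod.pow_snd, mul_comm, pow_mul,
        (E.D.card_Zh ▸ pow_card_eq_one' : x.2 ^ E.D.h = 1), one_pow]; rfl)
    rw [← Nat.div_add_mod j (2 * E.D.h), hj, pow_succ, pow_mul, h1, one_pow, one_mul]
  have hconj : ∀ (χ : IrrCharacter G) (x : E.TT),
      (χ : G → ℂ) (E.jT x)⁻¹ = (χ : G → ℂ) (E.jT x) := by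
    rintro χ ⟨a, z⟩
    rw [← map_inv, Prod.inv_mk, show a⁻¹ = a from inv_eq_of_mul_eq_one_right (V4_sq a),
      ← S.u_conj, IsCharacter.isClassFunction (IsIrrCharacter.isCharacter χ.2)]
  have hval : ∀ χ : IrrCharacter G, (χ : G → ℂ) (E.jT (1, 1)) = (charDegree (χ : G → ℂ) : ℂ) ∧
      (χ : G → ℂ) (E.jT ((c2, 1), 1)) = (E.tv χ : ℂ) ∧
      (χ : G → ℂ) (E.jT ((1, c2), 1)) = (E.tv χ : ℂ) ∧
      (χ : G → ℂ) (E.jT ((c2, c2), 1)) = (E.tv χ : ℂ) := by
    intro χ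
    have hcl := IsCharacter.isClassFunction (IsIrrCharacter.isCharacter χ.2)
    refine ⟨?_, by rw [E.tv_cast, E.jT_tau], ?_, ?_⟩
    · obtain ⟨d, -, hd⟩ := IsIrrCharacter.exists_degree χ.2
      rw [Prod.mk_one_one, map_one, charDegree, hd]
      simp
    · rw [E.tv_cast, E.jT_sigma, ← hy.tau, hcl]
    · rw [E.tv_cast, E.jT_tau_sigma, ← hy.sig, hcl, ← hy.tau, hcl]
  refine ⟨{
    a0 := E.ta 1
    a1 := E.ta mu1
    sh := S.shift
    sh_one := MonoidHom.ext fun _ => rfl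
    h_mod := S.h_mod
    at_one := fun χ => ⟨E.tfam_at_one _ χ, E.tfam_at_one _ χ⟩
    inv := fun l χ => ⟨S.ta_inv _ l χ, S.ta_inv _ l χ⟩
    sh_a0 := S.ta0_shift
    principal := fun l hl => ?_
    norm := fun l hl => ⟨S.gram0 hl, hcast _ _ _ ?_⟩
    a1_a1 := fun l m hl hm h1 h2 => hcast _ _ _ ?_
    a0_a1 := S.gram01
    e0 := fun l hl => ⟨hcast _ _ _ ?_, hcast _ _ _ ?_⟩
    b0 := fun l => ⟨TorusSym.ta_bc _ l, TorusSym.ta_bc _ l⟩
    wsum0 := fun l hl => ?_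
    deg := fun l => ⟨hdeg _ l, hdeg _ l⟩
    tau := fun l => ⟨htau _ l, htau _ l⟩
    nu_sum := fun l hl => ⟨S.ta_nu _ hl, S.ta_nu _ hl⟩
    galois := fun j hj χ χ' h l => ?_
    «conj» := fun χ χ' h l => ?_
    gh_eq := S.gh_ta
    col := fun l g N hN hc => ⟨E.col_zero _ l hN hc, E.col_zero _ l hN hc⟩
    congr0 := fun χ => ?_
    congr1 := fun χ => ?_ }, rfl⟩
  · have p0 := E.ta_principal 1 hl
    have p1 := E.ta_principal mu1 hl
    rw [s0] at p0
    rw [s1] at p1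
    exact ⟨Int.cast_injective (α := ℂ) (by push_cast; linear_combination p0 / 4),
      Int.cast_injective (α := ℂ) (by push_cast; linear_combination p1 / 4)⟩
  · rw [S.gram1 hl hl, if_pos rfl, if_neg (dual_ne_inv E.D.odd_Zh hl)]
    norm_num
  · rw [S.gram1 hl hm, if_neg (Ne.symm h1), if_neg fun e => h2 (by rw [← e, inv_inv'])]
    norm_num
  · rw [S.ta_ec _ hl]; simp only [m0]; norm_num
  · rw [S.ta_ec _ hl, e1, e2, e3]; norm_num
  · have w0 := S.ta_wsum 1 hl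
    have w1 := S.ta_wsum mu1 hl
    rw [s0] at w0
    rw [s1, mul_zero] at w1
    exact ⟨by linear_combination w0,
      (mul_eq_zero.1 w1).resolve_right (Nat.cast_ne_zero.2 Nat.card_pos.ne')⟩
  · exact ⟨E.ta_congr _ l fun x => by rw [h, hgal j hj],
      E.ta_congr _ l fun x => by rw [h, hgal j hj]⟩
  · exact ⟨E.ta_congr _ l fun x => by rw [h, hconj],
      E.ta_congr _ l fun x => by rw [h, hconj]⟩
  · obtain ⟨m, hm⟩ := E.congr_gen 1 χ
    obtain ⟨v0, v1, v2, v3⟩ := hval χ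
    rw [sum_V4, v0, v1, v2, v3] at hm
    simp only [m0] at hm
    refine ⟨m, Int.cast_injective (α := ℂ) ?_⟩
    push_cast at hm ⊢
    linear_combination -hm
  · obtain ⟨m, hm⟩ := E.congr_gen mu1 χ
    obtain ⟨v0, v1, v2, v3⟩ := hval χ
    rw [sum_V4, v0, v1, v2, v3, e0, e1, e2, e3] at hm
    refine ⟨m, Int.cast_injective (α := ℂ) ?_⟩
    push_cast at hm ⊢
    linear_combination -hm

/-- The row `A`. -/
theorem exists_rowA : ∃ A : IrrCharacter G, 0 < Q ∧ dgi A = Q ^ 2 - Q + 1 ∧ E.bc A = -1 ∧ E.ec A = -1 ∧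
    (∀ l, l ≠ 1 → E.ta mu1 l A = 1) ∧
    ∀ χ, χ ≠ principal G → E.ec χ * E.bc χ = 1 → χ = A := by
  haveI := E.finite_L
  obtain ⟨y, u, hy, hu2, hu1, huτ, huσ, huinv, hyu⟩ := E.exists_isY
  obtain ⟨T, hT⟩ := E.exists_tfam_named hy hu2 huτ huσ huinv
    (free_of_setup E hy hu2 hu1 huτ huσ huinv hyu)
  rcases E.rowCols.shape with ⟨⟨F₀⟩⟩ | ⟨⟨F₀⟩⟩
  swap
  · exact (four_false T F₀).elim
  obtain ⟨F, h | h⟩ := eight_kinds T F₀
  swap
  · exact (optionII_case T F h).elim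
  obtain ⟨l, hl, -⟩ := T.exists_third 1 1
  obtain ⟨hA, hB, hC, hD, hE⟩ := F.units
  have ht := eight_tv F fun l hl => gh_of_coord T F (Or.inl h) hl
  obtain ⟨hsum, hS, hb, he⟩ := eight_cols F ht
  have r1 := (F.three (T.norm l hl).2 (T.principal l hl).2 (fun χ => (T.gal_inv l χ).2)
    (T.e0 l hl).2 (T.b0 l).2).1
  have r0 := (F.seven (T.norm l hl).1 (T.principal l hl).1 (fun χ => (T.gal_inv l χ).1)
    (T.e0 l hl).1 (T.b0 l).1).1
  obtain ⟨p1, w1⟩ := eight_single F ht (fun χ => (T.gal_inv l χ).2) (h l hl).1 r1 (T.deg l).2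
    (T.tau l).2 rfl rfl rfl
  obtain ⟨-, w0⟩ := eight_single F ht (fun χ => (T.gal_inv l χ).1) (h l hl).2 r0 (T.deg l).1
    (T.tau l).1 rfl rfl rfl
  rw [T.a1_wq hl, (T.principal l hl).2] at w1
  rw [(T.principal l hl).2] at p1
  rw [T.a0_wq hl, (T.principal l hl).1] at w0
  push_cast at p1 w1 w0
  have nA : (E.sg F.A : ℚ) ≠ 0 := Int.cast_ne_zero.2 (sg_ne _ hA)
  have nC : (E.sg F.C : ℚ) ≠ 0 := Int.cast_ne_zero.2 (sg_ne _ hC)
  have hCA : -E.sg F.C = Q * E.sg F.A := by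
    have p2 : (-(E.sg F.C : ℚ) - E.sg F.A) ≠ 0 := fun e => p1 (by linear_combination e)
    have w2 : -1 / (E.sg F.A : ℚ) - (Q : ℚ) ^ 2 / (E.sg F.C : ℚ) -
        ((Q : ℚ) - 1) ^ 2 / (-(E.sg F.C : ℚ) - E.sg F.A) = 0 := by
      rw [w1]; ring
    field_simp at w2
    have h2 : ((E.sg F.C : ℚ) + (Q : ℚ) * E.sg F.A) ^ 2 = 0 := by linear_combination w2
    have h3 : E.sg F.C + Q * E.sg F.A = 0 := by exact_mod_cast pow_eq_zero_iff two_ne_zero |>.1 h2
    linarith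
  have hbig := T.Q_large'
  have hBsum : (E.sg F.B : ℚ) + 2 * E.sg F.D + 2 * E.sg F.E + 1 =
      -(E.sg F.C : ℚ) - E.sg F.A := by
    have e1 : ((1 + E.sg F.A + -E.sg F.B + -E.sg F.C : ℤ) : ℚ) = 0 := by rw [hsum]; norm_num
    have e2 : ((-E.sg F.D + -E.sg F.E : ℤ) : ℚ) = ((1 + E.sg F.A : ℤ) : ℚ) := by rw [hS]
    push_cast at e1 e2
    linear_combination -e1 - 2 * e2
  obtain ⟨hAv, -, -, hQpos, -⟩ := optionI E.D.Q_mod (by omega) (sg_ne _ hA)
    (neg_ne_zero.2 (sg_ne _ hB)) (neg_ne_zero.2 (sg_ne _ hC)) (neg_ne_zero.2 (sg_ne _ hD))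
    (neg_ne_zero.2 (sg_ne _ hE)) hsum hS hCA hb he (K := E.Kq) (by
      rw [w0]; push_cast
      rw [← hBsum]
      simp only [div_neg]
      ring)
  change (E.ec F.A = 1 ∨ E.ec F.A = -1) at hA
  have hd := dgi_pos F.A
  have hR : 0 < Q ^ 2 - Q + 1 := by nlinarith
  have heA : E.ec F.A = -1 := hA.resolve_left fun e => by
    rw [sg, e, one_mul] at hAv; linarith
  rw [sg, heA, neg_one_mul, neg_inj] at hAv
  have hbA : E.bc F.A = E.ec F.A := by
    have := (Cols.Eight.unit_b F.eb_A (Or.inl rfl)).2; rw [one_mul] at this; exact this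
  refine ⟨F.A, hQpos, hAv, hbA.trans heA, heA, fun m hm => ?_, fun χ hχ h1 => ?_⟩
  · rw [← hT, (F.coord_eq (h m hm).1).1]
    show (-1 : ℤ) * E.ec F.A = 1
    rw [heA]; norm_num
  · have hmem : χ ∈ E.rowCols.bS := E.rowCols.mem_bS.2 fun e : E.bc χ = 0 => by
      rw [e, mul_zero] at h1; exact zero_ne_one h1
    rw [F.bS_eq] at hmem
    simp only [Finset.mem_insert, Finset.mem_singleton] at hmem
    have eB : E.ec F.B * E.bc F.B = -1 := F.eb_B
    have eC : E.ec F.C * E.bc F.C = -1 := F.eb_C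
    rcases hmem with e | e | e | e
    · exact absurd e hχ
    · exact e
    · rw [e, eB] at h1; norm_num at h1
    · rw [e, eC] at h1; norm_num at h1

end Setup

end Cfsg.Agent.JanThom
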