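import Cfsg.Agent.Lib.NoField.CPhiFree
import Cfsg.Agent.Lib.NoField.Choose
import Cfsg.Agent.Lib.NoField.EtaRow
import Cfsg.Agent.Lib.NoField.EtaProj
import Cfsg.Agent.Lib.Char.ExtensionChar

/-!
The row of degree `q₁² - q₁ + 1` of the socle of `C(f) ⧸ ⟨f⟩` extends to `C(f)`, trivially on `⟨f⟩`,
with defect zero in the quotient; the linear characters of `Φ` that kill `f` extend to `C(f)`.
-/

set_option autoImplicit false
set_option linter.style.haveILetI false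
set_option linter.unusedSectionVars false

namespace Cfsg.Agent.NoField.EtaX

open Subgroup Cfsg.Agent.AutPSL Cfsg.Agent.NoField
open Cfsg.Agent.Char (principal)
open Cfsg.Agent.Walter8 (cen)
open Cfsg.Agent.JanThom (C2 c2 C2_cases Setup dgi)
open scoped Classical

universe u

variable {G : Type u} [Group G] [Finite G] {D : Data G} {σ : D.Φ} {E : Subgroup (D.Hbar σ)}

/-- `C(f) ⧸ ⟨f⟩` is the socle times the field automorphisms. -/
theorem hbar_split (hE : D.IsSoc σ E) (h5 : 5 ≤ D.qfix σ) (x : D.Hbar σ) :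
    ∃ e ∈ E, ∃ τ : D.Φ, x = e * D.phib σ τ := by
  have hx2 : orderOf (x * D.tb σ * x⁻¹) = 2 := by rw [Invol.order_conj]; exact D.t_order_bar σ
  obtain ⟨c, hc⟩ := isConj_iff.1
    (hE.one_class h5 (x := ⟨_, hE.invol _ hx2⟩) (by rw [← Subgroup.orderOf_coe]; exact hx2))
  have hc' : (c : D.Hbar σ) * D.tb σ * (c : D.Hbar σ)⁻¹ = x * D.tb σ * x⁻¹ := congrArg Subtype.val hc
  have hm : (c : D.Hbar σ)⁻¹ * x ∈ cen (D.tb σ) := mem_centralizer_singleton_iff.2 (by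
    calc (c : D.Hbar σ)⁻¹ * x * D.tb σ = (c : D.Hbar σ)⁻¹ * (x * D.tb σ * x⁻¹) * x := by group
      _ = (c : D.Hbar σ)⁻¹ * ((c : D.Hbar σ) * D.tb σ * (c : D.Hbar σ)⁻¹) * x := by rw [hc']
      _ = _ := by group)
  obtain ⟨a, ha, l, τ, he⟩ := D.pH_mem_split hm
  have haE : a ∈ E := by
    rcases ha with rfl | rfl
    · exact one_mem _
    · exact hE.invol _ (D.t_order_bar σ)
  refine ⟨(c : D.Hbar σ) * a * D.lam σ l, mul_mem (mul_mem c.2 haE) (hE.lam_le ⟨l, rfl⟩), τ, ?_⟩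
  rw [mul_assoc, mul_assoc, ← he, mul_inv_cancel_left]

variable (hE : D.IsSoc σ E) {K : Type} [Field K] [Fintype K] {Q : ℤ}
  {ek : fixed (σ : D.F ≃+* D.F) ≃* PSL2 K} (J : Setup E (PSL2 K) Q)
  (hτ : J.τ = hE.tE) (hι : ∀ l, J.ι (1, ek l) = hE.lamE l)

include hτ hι

/-- The values of `ι`. -/
theorem iota_coe (a : C2) (l : fixed (σ : D.F ≃+* D.F)) :
    ((J.ι (a, ek l) : E) : D.Hbar σ) = (if a = 1 then 1 else D.tb σ) * D.lam σ l := by
  rcases C2_cases a with rfl | rfl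
  · rw [if_pos rfl, one_mul, hι]; rfl
  · rw [if_neg JanThom.c2_ne, show ((c2, ek l) : C2 × PSL2 K) = (c2, 1) * (1, ek l) by simp, map_mul, hι,
      show J.ι (c2, 1) = hE.tE from hτ]
    rfl

/-- Only `⟨σ⟩` falls into the socle. -/
theorem phib_mem {τ : D.Φ} (h : D.phib σ τ ∈ E) : τ ∈ zpowers σ := by
  have hc : (⟨_, h⟩ : E) * J.τ = J.τ * ⟨_, h⟩ := by
    rw [hτ]
    refine Subtype.ext ?_
    show D.phib σ τ * D.tb σ = D.tb σ * D.phib σ τ
    rw [D.phib_apply, ← map_mul, ← map_mul]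
    exact congrArg (D.pH σ) (Subtype.ext (D.t_jΦ τ).symm)
  obtain ⟨⟨a, b⟩, hab⟩ := J.cent _ hc
  obtain ⟨l, rfl⟩ := ek.surjective b
  have e : (if a = 1 then 1 else D.tb σ) * D.lam σ l = D.phib σ τ := by
    rw [← iota_coe hE J hτ hι, hab]
  rcases C2_cases a with rfl | rfl
  · rw [if_pos rfl, one_mul, D.lam_apply, D.phib_apply] at e
    have h1 := (D.pH_eq_one σ (x := (⟨D.jΦ τ, D.f_mem_cf σ τ⟩ : D.Cf σ)⁻¹ *
      ⟨D.jL l, D.jL_mem_cf l.2⟩)).1 (by rw [map_mul, map_inv, e, inv_mul_cancel])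
    obtain ⟨k, hk⟩ := mem_zpowers_iff.1 h1
    have hk' : D.jΦ σ ^ k = (D.jΦ τ)⁻¹ * D.jL (l : PSL2 D.F) := hk
    have h2 : D.jL (l : PSL2 D.F) * D.jΦ 1 = D.jL 1 * D.jΦ (τ * σ ^ k) := by
      rw [map_one, map_one, mul_one, one_mul, map_mul, map_zpow, hk', mul_inv_cancel_left]
    exact mem_zpowers_iff.2 ⟨-k, by
      rw [zpow_neg, inv_eq_iff_mul_eq_one, D.Φ_comm, ← (D.prod_unique h2).2]⟩
  · rw [if_neg JanThom.c2_ne, D.lam_apply, D.phib_apply, ← map_mul] at e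
    have h1 := (D.pH_eq_one σ (x := (⟨D.jΦ τ, D.f_mem_cf σ τ⟩ : D.Cf σ)⁻¹ *
      (D.tH σ * ⟨D.jL l, D.jL_mem_cf l.2⟩))).1 (by rw [map_mul, map_inv, e, inv_mul_cancel])
    have h2 : (D.jΦ τ)⁻¹ * (D.t * D.jL (l : PSL2 D.F)) ∈ D.X := zpowers_le.2 (D.jΦ_mem σ) h1
    rw [mul_mem_cancel_left (inv_mem (D.jΦ_mem τ)), mul_mem_cancel_right (D.jL_mem _)] at h2
    exact absurd h2 D.t_notMem

/-- The row is fixed by `C(f)`. -/
theorem invariant [Fintype E] (h5 : 5 ≤ D.qfix σ) (hQ : 0 < Q) {A : IrrCharacter E} (hb : J.bc A = -1)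
    (he : J.ec A = -1) (huniq : ∀ χ, χ ≠ principal E → J.ec χ * J.bc χ = 1 → χ = A)
    (x : D.Hbar σ) (n : E) :
    (A : E → ℂ) ⟨x * n * x⁻¹, hE.normal.conj_mem (n : D.Hbar σ) n.2 x⟩ = (A : E → ℂ) n := by
  haveI := hE.normal
  haveI := hE.simple
  have hφ : ∀ τ : D.Φ, ∀ n : E,
      (A : E → ℂ) (MulAut.conjNormal (D.phib σ τ) n) = (A : E → ℂ) n := by
    intro τ
    let α : E ≃* E := MulAut.conjNormal (D.phib σ τ)
    let B : IrrCharacter E :=
      ⟨fun n => (A : E → ℂ) (α n), Cfsg.Agent.Char.IsIrrCharacter.comp A.2 α.toMonoidHom α.surjective⟩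
    have hmem : ∀ l : fixed (σ : D.F ≃+* D.F),
        semi 1 (τ : D.F ≃+* D.F) (l : PSL2 D.F) ∈ fixed (σ : D.F ≃+* D.F) := fun l => by
      refine (D.mem_cf_iff σ 1 _).1 ?_
      rw [map_one, mul_one, ← D.jconj]
      exact mul_mem (mul_mem (D.f_mem_cf σ τ) (D.jL_mem_cf l.2)) (inv_mem (D.f_mem_cf σ τ))
    let r : fixed (σ : D.F ≃+* D.F) →* fixed (σ : D.F ≃+* D.F) :=
      ((semi 1 (τ : D.F ≃+* D.F)).toMonoidHom.comp (fixed (σ : D.F ≃+* D.F)).subtype).codRestrict _ hmem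
    have hr : Function.Bijective r := Finite.injective_iff_bijective.1 fun a b h => Subtype.ext
      ((semi 1 (τ : D.F ≃+* D.F)).injective (congrArg Subtype.val h))
    let β : PSL2 K ≃* PSL2 K := ek.symm.trans ((MulEquiv.ofBijective r hr).trans ek)
    have hval : ∀ l, (B : E → ℂ) (J.ι (c2, l)) = (A : E → ℂ) (J.ι (c2, β l)) := by
      intro l
      obtain ⟨m, rfl⟩ := ek.surjective l
      show (A : E → ℂ) (α (J.ι (c2, ek m))) = (A : E → ℂ) (J.ι (c2, ek (r (ek.symm (ek m)))))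
      rw [ek.symm_apply_apply]
      refine congrArg (A : E → ℂ) (Subtype.ext ?_)
      rw [iota_coe hE J hτ hι, if_neg JanThom.c2_ne, MulAut.conjNormal_apply, iota_coe hE J hτ hι,
        if_neg JanThom.c2_ne, D.lam_apply, D.lam_apply, D.phib_apply, ← map_inv, ← map_mul, ← map_mul,
        ← map_mul, ← map_mul]
      refine congrArg (D.pH σ) (Subtype.ext ?_)
      show D.jΦ τ * (D.t * D.jL (m : PSL2 D.F)) * (D.jΦ τ)⁻¹ =
        D.t * D.jL (semi 1 (τ : D.F ≃+* D.F) (m : PSL2 D.F))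
      rw [← D.jconj, ← mul_assoc (D.jΦ τ), ← D.t_jΦ]
      group
    obtain ⟨cb, ce⟩ := cols_of_auto J hQ β hval
    have hBp : B ≠ principal E := by
      intro h
      have hA : A = principal E := Subtype.ext (funext fun m => by
        have := congrFun (congrArg Subtype.val h) (α.symm m)
        simpa [B, principal] using this)
      have := J.cols_principal.2.1
      rw [← hA, hb] at this
      norm_num at this
    have hBA : B = A := huniq B hBp (by rw [cb, ce, hb, he]; norm_num)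
    exact fun n => congrFun (congrArg Subtype.val hBA) n
  obtain ⟨e, hee, τ, rfl⟩ := hbar_split hE h5 x
  have : (⟨e * D.phib σ τ * n * (e * D.phib σ τ)⁻¹, hE.normal.conj_mem (n : D.Hbar σ) n.2 _⟩ : E) =
      ⟨e, hee⟩ * MulAut.conjNormal (D.phib σ τ) n * (⟨e, hee⟩ : E)⁻¹ := Subtype.ext (by
    show _ = e * (D.phib σ τ * (n : D.Hbar σ) * (D.phib σ τ)⁻¹) * e⁻¹
    group)
  rw [this, Cfsg.Agent.Char.IsCharacter.isClassFunction (Cfsg.Agent.Char.IsIrrCharacter.isCharacter A.2), hφ]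

omit hτ hι in
include hE in
/-- `Φ` onto the quotient by the socle. -/
theorem quot_surj [E.Normal] (h5 : 5 ≤ D.qfix σ) :
    Function.Surjective ((QuotientGroup.mk' E).comp (D.phib σ)) := by
  intro q
  obtain ⟨x, rfl⟩ := QuotientGroup.mk'_surjective E q
  obtain ⟨e, he, τ, rfl⟩ := hbar_split hE h5 x
  refine ⟨τ, ?_⟩
  rw [map_mul (QuotientGroup.mk' E) e, (QuotientGroup.eq_one_iff e).2 he |> fun h => show QuotientGroup.mk' E e = 1 from h,
    one_mul]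
  rfl

omit hτ hι in
include hE in
/-- The row extends to `C(f)`. -/
theorem exists_eta [Fintype E] (h5 : 5 ≤ D.qfix σ) {A : IrrCharacter E}
    (hinv : ∀ (x : D.Hbar σ) (n : E),
      (A : E → ℂ) ⟨x * n * x⁻¹, hE.normal.conj_mem (n : D.Hbar σ) n.2 x⟩ = (A : E → ℂ) n) :
    ∃ η : IrrCharacter (D.Cf σ),
      (∀ g : D.Cf σ, (g : G) ∈ zpowers (D.jΦ σ) → (η : D.Cf σ → ℂ) g = (η : D.Cf σ → ℂ) 1) ∧
      charDegree (η : D.Cf σ → ℂ) = charDegree (A : E → ℂ) ∧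
      ∀ (g : D.Cf σ) (n : E), D.pH σ g = (n : D.Hbar σ) → (η : D.Cf σ → ℂ) g = (A : E → ℂ) n := by
  haveI := hE.normal
  obtain ⟨γ, hγ⟩ := D.exists_gen
  haveI : IsCyclic D.Φ := ⟨⟨γ, hγ.1⟩⟩
  have hcyc : IsCyclic (D.Hbar σ ⧸ E) := isCyclic_of_surjective _ (quot_surj hE h5)
  obtain ⟨d, ρ, hρ, hρc, -, hi⟩ := Cfsg.Agent.CharExtend.exists_setup A.2 hinv
  obtain ⟨ψ, hψ⟩ := Cfsg.Agent.CharExtend.exists_extension_of_cyclic ρ hi hcyc
  obtain ⟨hψirr, hψres⟩ := Cfsg.Agent.CharExtend.exists_char_of_rep hψ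
  refine ⟨⟨fun g => ψ.character (D.pH σ g),
    Cfsg.Agent.Char.IsIrrCharacter.comp hψirr (D.pH σ) (D.pH_surj σ)⟩, fun g hg => ?_, ?_,
    fun g n hgn => ?_⟩
  · show ψ.character (D.pH σ g) = ψ.character (D.pH σ 1)
    rw [(D.pH_eq_one σ).2 hg, map_one]
  · unfold charDegree
    show ⌊(ψ.character (D.pH σ 1)).re⌋₊ = _
    rw [map_one, ← hρc, ← hψres]
    rfl
  · show ψ.character (D.pH σ g) = _
    rw [hgn, hψres, hρc]

/-- Linear characters of `Φ` killing `σ`, on `C(f)`. -/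
theorem exists_twist (h5 : 5 ≤ D.qfix σ) (μ : D.Φ →* ℂˣ) (hμ : μ σ = 1) :
    ∃ c : D.Cf σ →* ℂˣ,
      ∀ g : D.Cf σ, ((g : G) = D.t → c g = 1) ∧ ∀ hg : (g : G) ∈ D.X, c g = μ (D.pr ⟨g, hg⟩) := by
  haveI := hE.normal
  set Ψ := (QuotientGroup.mk' E).comp (D.phib σ) with hΨ
  have hker : Ψ.ker ≤ μ.ker := by
    intro τ hτ'
    obtain ⟨k, rfl⟩ := mem_zpowers_iff.1 (phib_mem hE J hτ hι ((QuotientGroup.eq_one_iff _).1 hτ'))
    rw [MonoidHom.mem_ker, map_zpow, hμ, one_zpow]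
  let ν := Ψ.liftOfSurjective (quot_surj hE h5) ⟨μ, hker⟩
  have hν : ∀ τ, ν (Ψ τ) = μ τ := fun τ => Ψ.liftOfRightInverse_comp_apply _ _ ⟨μ, hker⟩ τ
  refine ⟨(ν.comp (QuotientGroup.mk' E)).comp (D.pH σ), fun g => ⟨fun hg => ?_, fun hg => ?_⟩⟩
  · show ν (QuotientGroup.mk' E (D.pH σ g)) = 1
    rw [show g = D.tH σ from Subtype.ext hg,
      show QuotientGroup.mk' E (D.pH σ (D.tH σ)) = 1 from
        (QuotientGroup.eq_one_iff _).2 (hE.invol _ (D.t_order_bar σ)), map_one]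
  · obtain ⟨l, τ, he⟩ := D.prod g hg
    have hl : l ∈ fixed (σ : D.F ≃+* D.F) := (D.mem_cf_iff σ τ l).1 (he ▸ g.2)
    have hpH : D.pH σ g = D.lam σ ⟨l, hl⟩ * D.phib σ τ := by
      rw [D.lam_apply, D.phib_apply, ← map_mul]
      exact congrArg (D.pH σ) (Subtype.ext he)
    show ν (QuotientGroup.mk' E (D.pH σ g)) = _
    rw [hpH, map_mul (QuotientGroup.mk' E),
      show QuotientGroup.mk' E (D.lam σ ⟨l, hl⟩) = 1 from
        (QuotientGroup.eq_one_iff _).2 (hE.lam_le ⟨_, rfl⟩), one_mul, D.pr_spec ⟨g, hg⟩ l τ he]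
    exact hν τ

omit hτ hι in
include hE in
/-- The `p`-part of `|C(f) ⧸ ⟨f⟩|`. -/
theorem hbar_factor (h5 : 5 ≤ D.qfix σ) {p : ℕ} (hp : p.Prime)
    (hσ : ¬ p ∣ (zpowers σ).index) :
    (Nat.card (D.Hbar σ)).factorization p =
      (Nat.card (cen hE.tE) * (cen (D.tb σ)).index).factorization p := by
  haveI := hE.normal
  have hdvd : E.index ∣ (zpowers σ).index := by
    rw [show E.index = Nat.card (D.Hbar σ ⧸ E) from rfl,
      ← Nat.card_congr (QuotientGroup.quotientKerEquivOfSurjective _ (quot_surj hE h5)).toEquiv]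
    refine index_dvd_of_le (zpowers_le.2 ?_)
    rw [MonoidHom.mem_ker, MonoidHom.comp_apply,
      show D.phib σ σ = 1 from (D.pH_eq_one σ).2 (mem_zpowers _), map_one]
  rw [hE.index_eq h5, (cen hE.tE).card_mul_index, ← E.card_mul_index,
    Nat.factorization_mul Nat.card_pos.ne' index_ne_zero_of_finite, Finsupp.add_apply,
    Nat.factorization_eq_zero_of_not_dvd fun h => hσ (h.trans hdvd), add_zero]

end Cfsg.Agent.NoField.EtaX
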