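import Cfsg.Agent.Lib.JanThom.PSL2Data
import Cfsg.Agent.Lib.JanThom.Setup

/-!
Transport of the local data of `PSL₂(q)` along an isomorphism.
-/

set_option autoImplicit false
set_option linter.unusedSectionVars false

namespace Cfsg.Agent.NoField

open Subgroup Cfsg.Agent.JanThom

universe u v

variable {L : Type u} [Group L] {L' : Type v} [Group L'] {Q : ℤ}

theorem map_centralizer_eq (e : L ≃* L') (a : L) :
    centralizer ({e a} : Set L') = (centralizer ({a} : Set L)).map e.toMonoidHom := by
  ext x
  rw [mem_map_equiv, mem_centralizer_singleton_iff, mem_centralizer_singleton_iff, ← e.injective.eq_iff,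
    map_mul, map_mul, MulEquiv.apply_symm_apply]

theorem mem_normalizer_map_equiv (e : L ≃* L') {K : Subgroup L} {x : L'} :
    x ∈ normalizer ((K.map e.toMonoidHom : Subgroup L') : Set L') ↔
      e.symm x ∈ normalizer (K : Set L) := by
  simp only [mem_normalizer_iff, mem_map_equiv]
  refine ⟨fun h k => ?_, fun h k => ?_⟩
  · simpa using h (e k)
  · simpa [map_mul] using h (e.symm k)

/-- The elements inverting `z`, transported. -/
theorem card_inverting_map (e : L ≃* L') (z : L') :
    Nat.card {a : L' // a * a = 1 ∧ a ≠ 1 ∧ a * z * a⁻¹ = z⁻¹} =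
      Nat.card {a : L // a * a = 1 ∧ a ≠ 1 ∧ a * e.symm z * a⁻¹ = (e.symm z)⁻¹} :=
  Nat.card_congr (e.symm.toEquiv.subtypeEquiv fun a => by
    simp only [MulEquiv.toEquiv_eq_coe, EquivLike.coe_coe, ← map_mul, ← map_inv, ne_eq,
      EmbeddingLike.map_eq_one_iff, EmbeddingLike.apply_eq_iff_eq])

/-- The data transported along an isomorphism. -/
def mapLData (e : L ≃* L') (D : LData L Q) : LData L' Q where
  p := D.p
  n := D.n
  k := D.k
  h := D.h
  s := e D.s
  Zh := D.Zh.map e.toMonoidHom
  Zk := D.Zk.map e.toMonoidHom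
  U := D.U.map e.toMonoidHom
  prime_p := D.prime_p
  n_odd := D.n_odd
  abs_Q := D.abs_Q
  Q_mod := D.Q_mod
  Q_large := D.Q_large
  k_eq := D.k_eq
  h_eq := D.h_eq
  card_L := by rw [Nat.card_congr e.symm.toEquiv]; exact D.card_L
  s_ne h := D.s_ne (e.injective (h.trans (map_one e).symm))
  s_sq := by rw [← map_mul, D.s_sq, map_one]
  invol a h1 h2 := by
    have h := D.invol (e.symm a) (by rw [← map_mul, h1, map_one])
      (fun h => h2 (by rw [← e.apply_symm_apply a, h, map_one]))
    have h' := e.toMonoidHom.map_isConj h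
    simpa using h'
  card_Cs := by
    rw [map_centralizer_eq, card_map_of_injective (f := e.toMonoidHom) e.injective, D.card_Cs]
  card_Zh := (card_map_of_injective (f := e.toMonoidHom) e.injective).trans D.card_Zh
  card_Zk := (card_map_of_injective (f := e.toMonoidHom) e.injective).trans D.card_Zk
  card_U := (card_map_of_injective (f := e.toMonoidHom) e.injective).trans D.card_U
  Zh_cyclic := by
    haveI := D.Zh_cyclic
    exact isCyclic_of_surjective _ (D.Zh.equivMapOfInjective e.toMonoidHom e.injective).surjective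
  Zk_cyclic := by
    haveI := D.Zk_cyclic
    exact isCyclic_of_surjective _ (D.Zk.equivMapOfInjective e.toMonoidHom e.injective).surjective
  U_comm a ha b hb := by
    rw [mem_map_equiv] at ha hb
    exact e.symm.injective (by rw [map_mul, map_mul, D.U_comm _ ha _ hb])
  U_exp a ha := by
    rw [mem_map_equiv] at ha
    exact e.symm.injective (by rw [map_pow, map_one]; exact D.U_exp _ ha)
  Zh_le := by rw [map_centralizer_eq]; exact map_mono D.Zh_le
  Cs_cases a ha := by
    rw [map_centralizer_eq, mem_map_equiv] at ha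
    rcases D.Cs_cases _ ha with h | ⟨h1, h2, h3⟩
    · left
      have : D.Zh.map e.toMonoidHom ⊔ zpowers (e D.s) = (D.Zh ⊔ zpowers D.s).map e.toMonoidHom := by
        rw [Subgroup.map_sup, MonoidHom.map_zpowers]; rfl
      rwa [this, mem_map_equiv]
    · refine Or.inr ⟨e.symm.injective (by rw [map_mul, h1, map_one]), fun h => h2 (by rw [h, map_one]),
        fun z hz => e.symm.injective ?_⟩
      rw [map_mul, map_mul, map_inv, map_inv]
      exact h3 _ (mem_map_equiv.1 hz)
  cent_h z hz hz1 g hg := by
    have : D.Zh.map e.toMonoidHom ⊔ zpowers (e D.s) = (D.Zh ⊔ zpowers D.s).map e.toMonoidHom := by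
      rw [Subgroup.map_sup, MonoidHom.map_zpowers]; rfl
    rw [this, mem_map_equiv]
    exact D.cent_h _ (mem_map_equiv.1 hz) (fun h => hz1 (e.symm.injective (h.trans (map_one _).symm))) _
      (by rw [← map_mul, hg, map_mul])
  cent_k z hz hz1 g hg := mem_map_equiv.2 (D.cent_k _ (mem_map_equiv.1 hz)
    (fun h => hz1 (e.symm.injective (h.trans (map_one _).symm))) _ (by rw [← map_mul, hg, map_mul]))
  cent_u z hz hz1 g hg := mem_map_equiv.2 (D.cent_u _ (mem_map_equiv.1 hz)
    (fun h => hz1 (e.symm.injective (h.trans (map_one _).symm))) _ (by rw [← map_mul, hg, map_mul]))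
  ti_h z hz hz1 g hg := by
    rw [map_centralizer_eq, mem_map_equiv]
    refine D.ti_h _ (mem_map_equiv.1 hz) (fun h => hz1 (e.symm.injective (h.trans (map_one _).symm))) _ ?_
    rw [← map_mul, ← map_inv, ← map_mul]
    exact mem_map_equiv.1 hg
  ti_k z hz hz1 g hg := by
    rcases D.ti_k _ (mem_map_equiv.1 hz) (fun h => hz1 (e.symm.injective (h.trans (map_one _).symm)))
      (e.symm g) (by rw [← map_mul, ← map_inv, ← map_mul]; exact mem_map_equiv.1 hg) with h | h
    · exact Or.inl (mem_map_equiv.2 h)
    · refine Or.inr fun x hx => e.symm.injective ?_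
      rw [map_mul, map_mul, map_inv, map_inv]
      exact h _ (mem_map_equiv.1 hx)
  ti_u z hz hz1 g hg := by
    rw [mem_normalizer_map_equiv]
    refine D.ti_u _ (mem_map_equiv.1 hz) (fun h => hz1 (e.symm.injective (h.trans (map_one _).symm))) _ ?_
    rw [← map_mul, ← map_inv, ← map_mul]
    exact mem_map_equiv.1 hg
  inv_h z hz hz1 := by
    rw [card_inverting_map e]
    exact D.inv_h _ (mem_map_equiv.1 hz) fun h => hz1 (e.symm.injective (h.trans (map_one _).symm))
  inv_k z hz hz1 := by
    rw [card_inverting_map e]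
    exact D.inv_k _ (mem_map_equiv.1 hz) fun h => hz1 (e.symm.injective (h.trans (map_one _).symm))
  inv_u z hz hz1 := by
    rw [card_inverting_map e]
    exact D.inv_u _ (mem_map_equiv.1 hz) fun h => hz1 (e.symm.injective (h.trans (map_one _).symm))
  card_NU := by
    refine Eq.trans (congrArg (2 * ·) ?_) D.card_NU
    exact Nat.card_congr (e.symm.toEquiv.subtypeEquiv fun x => mem_normalizer_map_equiv e)
  exists_alt := by
    obtain ⟨i, y, h1, h2, h3, h4, h5, h6, h7⟩ := D.exists_alt
    refine ⟨e i, e y, by rw [← map_mul, h1, map_one], fun h => h2 (e.injective (h.trans (map_one e).symm)),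
      fun h => h3 (e.injective h), by rw [← map_mul, ← map_mul, h4], by rw [← map_pow, h5, map_one],
      by rw [← map_inv, ← map_mul, ← map_mul, h6], by rw [← map_inv, ← map_mul, ← map_mul, ← map_mul, h7]⟩
  odd_cases l hl := by
    obtain ⟨g, hg⟩ := D.odd_cases (e.symm l) (by rwa [MulEquiv.orderOf_eq])
    refine ⟨e g, ?_⟩
    simp only [mem_map_equiv, map_mul, map_inv, MulEquiv.symm_apply_apply]
    exact hg

@[simp] theorem mapLData_s (e : L ≃* L') (D : LData L Q) : (mapLData e D).s = e D.s := rfl

/-- The data at a given involution. -/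
theorem exists_lData_at {F : Type v} [Field F] [Fintype F]
    (h8 : Fintype.card F % 8 = 3 ∨ Fintype.card F % 8 = 5) (h11 : 11 ≤ Fintype.card F)
    {s : Matrix.ProjectiveSpecialLinearGroup (Fin 2) F} (hs : s * s = 1) (hs1 : s ≠ 1) :
    ∃ D : LData (Matrix.ProjectiveSpecialLinearGroup (Fin 2) F)
        (if Fintype.card F % 8 = 3 then (Fintype.card F : ℤ) else -(Fintype.card F : ℤ)), D.s = s := by
  obtain ⟨D⟩ := exists_lData (F := F) h8 h11
  obtain ⟨c, hc⟩ := isConj_iff.1 (D.invol s hs hs1)
  exact ⟨mapLData (MulAut.conj c) D, hc⟩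

end Cfsg.Agent.NoField
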