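import Cfsg.Agent.Lib.NoField.Base
import Cfsg.Agent.Lib.NoField.Transport
import Cfsg.Agent.Lib.AutPSL.Centralizer
import Cfsg.Agent.Lib.Classical.PSL2Involutions
import Cfsg.Agent.Lib.GW.FieldPart
import Cfsg.Agent.Lib.SEBrick.Basic
import Mathlib.GroupTheory.Transfer

/-!
First facts on the data: the Sylow subgroup `S = ⟨t⟩ × ⟨s, i⟩`, its centraliser `S × Φ`, its normaliser,
and the involutions of the centraliser of a field automorphism.
-/

set_option autoImplicit false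
set_option linter.style.haveILetI false
set_option linter.unusedSectionVars false

namespace Cfsg.Agent.NoField

open Subgroup Cfsg.Agent.Walter8 Cfsg.Agent.AutPSL
open Cfsg.Agent.ClosedAbelian (core)

universe u

variable {G : Type u} [Group G] [Finite G] (D : Data G)

namespace Data

/-- `L` inside `X`. -/
def jLX : PSL2 D.F →* D.X := D.jL.codRestrict D.X D.jL_mem

/-- `Φ` inside `X`. -/
def jΦX : D.Φ →* D.X := D.jΦ.codRestrict D.X D.jΦ_mem

theorem pr_jL (l : PSL2 D.F) : D.pr (D.jLX l) = 1 :=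
  D.pr_spec _ l 1 (by rw [map_one, mul_one]; rfl)

theorem pr_jΦ (σ : D.Φ) : D.pr (D.jΦX σ) = σ :=
  D.pr_spec _ 1 σ (by rw [map_one, one_mul]; rfl)

/-- Decomposition in `X`. -/
theorem exists_prod (x : D.X) : ∃ l : PSL2 D.F, (x : G) = D.jL l * D.jΦ (D.pr x) := by
  obtain ⟨l, σ, h⟩ := D.prod x x.2
  exact ⟨l, by rw [D.pr_spec x l σ h]; exact h⟩

theorem prod_unique {l l' : PSL2 D.F} {σ σ' : D.Φ} (h : D.jL l * D.jΦ σ = D.jL l' * D.jΦ σ') :
    l = l' ∧ σ = σ' := by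
  have hm : D.jL l * D.jΦ σ ∈ D.X := mul_mem (D.jL_mem _) (D.jΦ_mem _)
  have e : σ = σ' := (D.pr_spec ⟨_, hm⟩ l σ rfl).symm.trans (D.pr_spec ⟨_, hm⟩ l' σ' h)
  exact ⟨D.jL_inj (mul_right_cancel (e ▸ h)), e⟩

theorem eq_jL_of_pr {x : D.X} (h : D.pr x = 1) : ∃ l : PSL2 D.F, (x : G) = D.jL l := by
  obtain ⟨l, hl⟩ := D.exists_prod x
  exact ⟨l, by rw [hl, h, map_one, mul_one]⟩

theorem t_inv : D.t⁻¹ = D.t := inv_eq_of_mul_eq_one_right D.t_sq

theorem t_order : orderOf D.t = 2 := Invol.order_two_of_sq D.t_sq D.t_ne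

theorem X_comm {x : G} (hx : x ∈ D.X) : x * D.t = D.t * x :=
  mem_centralizer_singleton_iff.1 (D.X_le hx)

theorem t_jL (l : PSL2 D.F) : D.t * D.jL l = D.jL l * D.t := (D.X_comm (D.jL_mem l)).symm

theorem t_jΦ (σ : D.Φ) : D.t * D.jΦ σ = D.jΦ σ * D.t := (D.X_comm (D.jΦ_mem σ)).symm

/-- Decomposition in the centraliser of `t`. -/
theorem exists_dec {g : G} (hg : g * D.t = D.t * g) :
    ∃ (l : PSL2 D.F) (σ : D.Φ), g = D.jL l * D.jΦ σ ∨ g = D.t * (D.jL l * D.jΦ σ) := by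
  rcases D.dec g (mem_centralizer_singleton_iff.2 hg) with h | h
  · obtain ⟨l, σ, e⟩ := D.prod g h
    exact ⟨l, σ, Or.inl e⟩
  · obtain ⟨l, σ, e⟩ := D.prod _ h
    exact ⟨l, σ, Or.inr (by rw [← e, ← mul_assoc, D.t_sq, one_mul])⟩

theorem jΦ_comm_jL (σ : D.Φ) (l : PSL2 D.F) (h : semi 1 (σ : D.F ≃+* D.F) l = l) :
    D.jΦ σ * D.jL l = D.jL l * D.jΦ σ := by
  rw [← mul_inv_eq_iff_eq_mul, D.jconj, h]

theorem fix_of_comm {σ : D.Φ} {l : PSL2 D.F} (h : D.jΦ σ * D.jL l = D.jL l * D.jΦ σ) :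
    semi 1 (σ : D.F ≃+* D.F) l = l :=
  D.jL_inj (by rw [← D.jconj]; exact mul_inv_eq_iff_eq_mul.2 h)

theorem jΦ_comm_s (σ : D.Φ) : D.jΦ σ * D.jL D.s = D.jL D.s * D.jΦ σ := D.jΦ_comm_jL σ _ (D.fix_s _)

theorem jΦ_comm_i (σ : D.Φ) : D.jΦ σ * D.jL D.i = D.jL D.i * D.jΦ σ := D.jΦ_comm_jL σ _ (D.fix_i _)

theorem jΦ_comm_y (σ : D.Φ) : D.jΦ σ * D.jL D.y = D.jL D.y * D.jΦ σ := D.jΦ_comm_jL σ _ (D.fix_y _)

theorem Φ_comm (σ τ : D.Φ) : σ * τ = τ * σ := Subtype.ext (ringAut_comm _ _)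

theorem orderOf_jΦ (σ : D.Φ) : orderOf (D.jΦ σ) = orderOf σ := orderOf_injective _ D.jΦ_inj σ

theorem jΦ_odd (σ : D.Φ) : Odd (orderOf (D.jΦ σ)) := by
  rw [D.orderOf_jΦ]
  exact D.card_Φ_odd.of_dvd_nat (orderOf_dvd_natCard σ)

/-- The field is not a prime field. -/
theorem q_large : 27 ≤ Fintype.card D.F := by
  haveI : Nontrivial D.Φ := (Subgroup.nontrivial_iff_ne_bot _).2 D.nontrivial
  obtain ⟨σ, hσ⟩ := exists_ne (1 : D.Φ)
  obtain ⟨K, -, hc⟩ := exists_fixed_field (σ : D.F ≃+* D.F)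
  have ho : Odd (orderOf (σ : D.F ≃+* D.F)) := by
    rw [Subgroup.orderOf_coe]; exact D.card_Φ_odd.of_dvd_nat (orderOf_dvd_natCard σ)
  have h3 : 3 ≤ orderOf (σ : D.F ≃+* D.F) := by
    have h1 : orderOf (σ : D.F ≃+* D.F) ≠ 1 := fun h => hσ (Subtype.ext (orderOf_eq_one_iff.1 h))
    obtain ⟨k, hk⟩ := ho
    omega
  have hK1 : 1 < Nat.card K := Finite.one_lt_card
  have hKodd : Odd (Nat.card K) := by
    have h := D.odd
    rw [hc] at h
    exact (Nat.odd_pow_iff (by omega)).1 h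
  have hK3 : 3 ≤ Nat.card K := by
    obtain ⟨k, hk⟩ := hKodd
    omega
  rw [hc]
  calc 27 = 3 ^ 3 := rfl
    _ ≤ Nat.card K ^ 3 := Nat.pow_le_pow_left hK3 3
    _ ≤ _ := Nat.pow_le_pow_right (by omega) h3

theorem exists_ld : ∃ (Q : ℤ) (E : JanThom.LData (PSL2 D.F) Q), E.s = D.s := by
  obtain ⟨E, hE⟩ := exists_lData_at D.q_mod (by have := D.q_large; omega) D.s_sq D.s_ne
  exact ⟨_, E, hE⟩

/-- `⟨s, i⟩` is its own centraliser in `L`. -/
theorem cen_four {l : PSL2 D.F} (hls : l * D.s = D.s * l) (hli : l * D.i = D.i * l) :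
    l = 1 ∨ l = D.s ∨ l = D.i ∨ l = D.s * D.i := by
  obtain ⟨Q, E, hE⟩ := D.exists_ld
  have hsZ : ∀ z ∈ E.Zh, z * D.s = D.s * z := fun z hz =>
    hE ▸ mem_centralizer_singleton_iff.1 (E.Zh_le hz)
  have hodd : ∀ z ∈ E.Zh, Odd (orderOf z) := fun z hz => by
    refine E.h_odd'.of_dvd_nat ?_
    rw [← E.card_Zh]
    exact Subgroup.orderOf_dvd_natCard _ hz
  have hone : ∀ z ∈ E.Zh, z⁻¹ = z → z = 1 := fun z hz h => by
    have h2 : z ^ 2 = 1 := by rw [pow_two]; nth_rw 1 [← h]; exact inv_mul_cancel z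
    exact orderOf_eq_one_iff.1 (Nat.eq_one_of_dvd_coprimes (Nat.coprime_two_right.2 (hodd z hz)) dvd_rfl
      (orderOf_dvd_of_pow_eq_one h2))
  have hsplit : ∀ a ∈ E.Zh ⊔ zpowers E.s, ∃ z ∈ E.Zh, a = z ∨ a = z * D.s := by
    intro a ha
    have hn : zpowers E.s ≤ normalizer (E.Zh : Set (PSL2 D.F)) := by
      rw [zpowers_le]
      exact centralizer_le_normalizer _ (mem_centralizer_iff.2 fun z hz => hE ▸ hsZ z hz)
    rw [← SetLike.mem_coe, coe_mul_of_right_le_normalizer_left _ _ hn] at ha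
    obtain ⟨z, hz, x, hx, rfl⟩ := Set.mem_mul.1 ha
    refine ⟨z, hz, ?_⟩
    obtain ⟨j, rfl⟩ := mem_zpowers_iff.1 hx
    rcases Int.even_or_odd' j with ⟨k, rfl | rfl⟩
    · exact Or.inl (by rw [_root_.zpow_mul, zpow_two, E.s_sq, _root_.one_zpow, mul_one])
    · exact Or.inr (by rw [zpow_add, _root_.zpow_mul, zpow_two, E.s_sq, _root_.one_zpow, one_mul, zpow_one, hE])
  have hcs : ∀ a, a * D.s = D.s * a → a ∈ centralizer ({E.s} : Set (PSL2 D.F)) := fun a ha =>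
    mem_centralizer_singleton_iff.2 (hE ▸ ha)
  have hi : ∀ z ∈ E.Zh, D.i * z * D.i⁻¹ = z⁻¹ := by
    rcases E.Cs_cases D.i (hcs _ D.i_comm) with h | h
    · obtain ⟨z, hz, h | h⟩ := hsplit _ h
      · exact absurd (h.trans (hone z hz (by rw [← h]; exact inv_eq_of_mul_eq_one_right D.i_sq))) D.i_ne
      · have h' : z = D.i * D.s := by rw [h, mul_assoc, D.s_sq, mul_one]
        have : z = 1 := hone z hz (inv_eq_of_mul_eq_one_right (by
          rw [h', mul_assoc, ← mul_assoc D.s, ← D.i_comm, mul_assoc, D.s_sq, mul_one, D.i_sq]))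
        exact absurd (by rw [h, this, one_mul]) D.i_ne_s
    · exact h.2.2
  have hii : D.i⁻¹ = D.i := inv_eq_of_mul_eq_one_right D.i_sq
  have hkill : ∀ z ∈ E.Zh, ∀ x, x * D.i = D.i * x → z * x * D.i = D.i * (z * x) → z = 1 := by
    intro z hz x hx h
    have h2 : z * D.i = D.i * z := mul_right_cancel (b := x)
      (by rw [mul_assoc D.i, ← h, mul_assoc, mul_assoc, hx])
    have h1 := hi z hz
    rw [← h2, mul_inv_cancel_right] at h1
    exact hone z hz h1.symm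
  rcases E.Cs_cases l (hcs _ hls) with h | ⟨-, -, hinv⟩
  · obtain ⟨z, hz, h | h⟩ := hsplit _ h
    · exact Or.inl (h.trans (hkill z hz 1 (by rw [one_mul, mul_one]) (by rw [mul_one, ← h]; exact hli)))
    · exact Or.inr (Or.inl (by rw [h, hkill z hz D.s D.i_comm.symm (h ▸ hli), one_mul]))
  · obtain ⟨z0, hz0, hz1⟩ : ∃ z ∈ E.Zh, z ≠ 1 := by
      by_contra hno
      push Not at hno
      have h3 := E.h_three'
      rw [← E.card_Zh, (eq_bot_iff_forall _).2 hno, card_bot] at h3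
      omega
    have hc : l * D.i * z0 = z0 * (l * D.i) := by
      rw [← mul_inv_eq_iff_eq_mul]
      calc l * D.i * z0 * (l * D.i)⁻¹ = l * (D.i * z0 * D.i⁻¹) * l⁻¹ := by group
        _ = l * z0⁻¹ * l⁻¹ := by rw [hi z0 hz0]
        _ = (l * z0 * l⁻¹)⁻¹ := by group
        _ = z0 := by rw [hinv z0 hz0, inv_inv]
    obtain ⟨z, hz, h | h⟩ := hsplit _ (E.cent_h z0 hz0 hz1 _ hc)
    · have hl : l = z * D.i := by rw [← h, mul_assoc, D.i_sq, mul_one]
      exact Or.inr (Or.inr (Or.inl (by rw [hl, hkill z hz D.i rfl (hl ▸ hli), one_mul])))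
    · have hl : l = z * (D.s * D.i) := by rw [← mul_assoc, ← h, mul_assoc, D.i_sq, mul_one]
      have hsi : D.s * D.i * D.i = D.i * (D.s * D.i) := by rw [← mul_assoc D.i, D.i_comm]
      exact Or.inr (Or.inr (Or.inr (by rw [hl, hkill z hz _ hsi (hl ▸ hli), one_mul])))

/-! ### The Sylow subgroup -/

theorem gens_comm : ∀ a ∈ ({D.t, D.jL D.s, D.jL D.i} : Set G), ∀ b ∈ ({D.t, D.jL D.s, D.jL D.i} : Set G),
    a * b = b * a := by
  have h : D.jL D.s * D.jL D.i = D.jL D.i * D.jL D.s := by rw [← map_mul, ← map_mul, D.i_comm]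
  rintro a (rfl | rfl | rfl) b (rfl | rfl | rfl)
  exacts [rfl, D.t_jL _, D.t_jL _, (D.t_jL _).symm, rfl, h, (D.t_jL _).symm, h.symm, rfl]

theorem S_comm {a b : G} (ha : a ∈ D.S) (hb : b ∈ D.S) : a * b = b * a := by
  have h1 : D.S ≤ centralizer ({D.t, D.jL D.s, D.jL D.i} : Set G) := (closure_le _).2 fun x hx =>
    mem_centralizer_iff.2 fun y hy => D.gens_comm y hy x hx
  have h2 : D.S ≤ centralizer (D.S : Set G) := (closure_le _).2 fun x hx =>
    mem_centralizer_iff.2 fun y hy => (mem_centralizer_iff.1 (h1 hy) x hx).symm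
  exact (mem_centralizer_iff.1 (h2 ha) b hb).symm

theorem S_sq {a : G} (ha : a ∈ D.S) : a * a = 1 := by
  induction ha using closure_induction with
  | mem x hx =>
    rcases hx with rfl | rfl | rfl
    exacts [D.t_sq, by rw [← map_mul, D.s_sq, map_one], by rw [← map_mul, D.i_sq, map_one]]
  | one => rw [one_mul]
  | mul x y hx hy h1 h2 =>
    rw [mul_assoc, ← mul_assoc y x y, ← D.S_comm hx hy, mul_assoc x y y, h2, mul_one, h1]
  | inv x _ h => rw [← mul_inv_rev, h, inv_one]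

theorem t_mem_S : D.t ∈ D.S := subset_closure (Or.inl rfl)

theorem s_mem_S : D.jL D.s ∈ D.S := subset_closure (Or.inr (Or.inl rfl))

theorem i_mem_S : D.jL D.i ∈ D.S := subset_closure (Or.inr (Or.inr rfl))

/-- Every element of `S` is `v` or `t * v` with `v ∈ ⟨s, i⟩`. -/
theorem mem_S {a : G} (ha : a ∈ D.S) : ∃ l : PSL2 D.F, (l = 1 ∨ l = D.s ∨ l = D.i ∨ l = D.s * D.i) ∧
    (a = D.jL l ∨ a = D.t * D.jL l) := by
  have hc : a * D.t = D.t * a := D.S_comm ha D.t_mem_S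
  obtain ⟨l, σ, h⟩ := D.exists_dec hc
  have hx : D.jL l * D.jΦ σ ∈ D.S := by
    rcases h with h | h
    · exact h ▸ ha
    · have := mul_mem D.t_mem_S ha
      rwa [h, ← mul_assoc, D.t_sq, one_mul] at this
  have hσ : σ = 1 := by
    have h2 := D.S_sq hx
    have hc1 : (⟨_, mul_mem (D.jL_mem l) (D.jΦ_mem σ)⟩ : D.X) * ⟨_, mul_mem (D.jL_mem l) (D.jΦ_mem σ)⟩ = 1 :=
      Subtype.ext h2
    have h3 := congrArg D.pr hc1
    rw [map_mul, map_one, D.pr_spec _ l σ rfl] at h3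
    exact orderOf_eq_one_iff.1 (Nat.eq_one_of_dvd_coprimes (Nat.coprime_two_right.2
      (D.card_Φ_odd.of_dvd_nat (orderOf_dvd_natCard σ))) dvd_rfl (orderOf_dvd_of_pow_eq_one (by rwa [pow_two])))
  subst hσ
  simp only [map_one, mul_one] at h hx
  refine ⟨l, D.cen_four ?_ ?_, h⟩
  · exact D.jL_inj (by rw [map_mul, map_mul]; exact D.S_comm hx D.s_mem_S)
  · exact D.jL_inj (by rw [map_mul, map_mul]; exact D.S_comm hx D.i_mem_S)

theorem jΦ_comm_S (σ : D.Φ) {a : G} (ha : a ∈ D.S) : D.jΦ σ * a = a * D.jΦ σ := by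
  have h : D.S ≤ centralizer ({D.jΦ σ} : Set G) := (closure_le _).2 fun x hx => by
    refine mem_centralizer_singleton_iff.2 ?_
    rcases hx with rfl | rfl | rfl
    exacts [D.t_jΦ σ, (D.jΦ_comm_s σ).symm, (D.jΦ_comm_i σ).symm]
  exact (mem_centralizer_singleton_iff.1 (h ha)).symm

theorem S_le_Cf (σ : D.Φ) : D.S ≤ D.Cf σ := fun _ ha =>
  mem_centralizer_singleton_iff.2 (D.jΦ_comm_S σ ha).symm

/-- The centraliser of `S`. -/
theorem cen_S {g : G} (hg : ∀ a ∈ D.S, g * a = a * g) : ∃ a ∈ D.S, ∃ σ : D.Φ, g = a * D.jΦ σ := by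
  obtain ⟨l, σ, h⟩ := D.exists_dec (hg _ D.t_mem_S)
  have hl : ∀ v : PSL2 D.F, D.jL v ∈ D.S → semi 1 (σ : D.F ≃+* D.F) v = v → l * v = v * l := by
    intro v hv hfix
    refine D.jL_inj ?_
    rw [map_mul, map_mul]
    refine mul_right_cancel (b := D.jΦ σ) ?_
    rw [mul_assoc, ← D.jΦ_comm_jL σ v hfix, ← mul_assoc, mul_assoc (D.jL v)]
    rcases h with h | h
    · rw [← h]; exact hg _ hv
    · refine mul_left_cancel (a := D.t) ?_
      rw [← mul_assoc, ← h, hg _ hv, h, ← mul_assoc (D.jL v), ← D.t_jL v, mul_assoc]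
  have hv := D.cen_four (hl _ D.s_mem_S (D.fix_s _)) (hl _ D.i_mem_S (D.fix_i _))
  have hlS : D.jL l ∈ D.S := by
    rcases hv with rfl | rfl | rfl | rfl
    · rw [map_one]; exact one_mem _
    · exact D.s_mem_S
    · exact D.i_mem_S
    · rw [map_mul]; exact mul_mem D.s_mem_S D.i_mem_S
  rcases h with h | h
  · exact ⟨_, hlS, σ, h⟩
  · exact ⟨_, mul_mem D.t_mem_S hlS, σ, by rw [h, mul_assoc]⟩

theorem card_S : Nat.card D.S = 8 := by
  classical
  have hne : ∀ v : PSL2 D.F, D.t ≠ D.jL v := fun v h => D.t_notMem (h ▸ D.jL_mem v)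
  have hVset : ∀ v : PSL2 D.F, (v = 1 ∨ v = D.s ∨ v = D.i ∨ v = D.s * D.i) → D.jL v ∈ D.S := by
    rintro v (rfl | rfl | rfl | rfl)
    exacts [by rw [map_one]; exact one_mem _, D.s_mem_S, D.i_mem_S,
      by rw [map_mul]; exact mul_mem D.s_mem_S D.i_mem_S]
  let V : Finset (PSL2 D.F) := {1, D.s, D.i, D.s * D.i}
  have hV : ∀ v, v ∈ V ↔ (v = 1 ∨ v = D.s ∨ v = D.i ∨ v = D.s * D.i) := fun v => by simp [V]
  have hV4 : V.card = 4 := by
    have h1 : D.s ≠ D.s * D.i := fun h => D.i_ne (mul_eq_left.1 h.symm)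
    have h2 : D.i ≠ D.s * D.i := fun h => D.s_ne (mul_eq_right.1 h.symm)
    have h3 : (1 : PSL2 D.F) ≠ D.s * D.i := fun h => D.i_ne_s (by
      rw [← inv_eq_of_mul_eq_one_right h.symm, inv_eq_of_mul_eq_one_right D.s_sq])
    simp [V, Finset.card_insert_of_notMem, Ne.symm D.s_ne, Ne.symm D.i_ne, h3, Ne.symm D.i_ne_s, h1, h2]
  let f : Bool × V → D.S := fun p => ⟨(if p.1 then D.t else 1) * D.jL p.2, mul_mem
    (by split_ifs; exacts [D.t_mem_S, one_mem _]) (hVset _ ((hV _).1 p.2.2))⟩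
  have hf : Function.Bijective f := by
    constructor
    · rintro ⟨a, v⟩ ⟨b, w⟩ h
      have h' : (if a then D.t else 1) * D.jL v = (if b then D.t else 1) * D.jL w := congrArg Subtype.val h
      cases a <;> cases b <;> simp only [if_true, one_mul, Bool.false_eq_true, if_false] at h'
      · exact Prod.ext rfl (Subtype.ext (D.jL_inj h'))
      · exact absurd (by rw [map_mul, map_inv, h', mul_inv_cancel_right]) (hne ((v : PSL2 D.F) * (w : PSL2 D.F)⁻¹))
      · exact absurd (by rw [map_mul, map_inv, ← h', mul_inv_cancel_right]) (hne ((w : PSL2 D.F) * (v : PSL2 D.F)⁻¹))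
      · exact Prod.ext rfl (Subtype.ext (D.jL_inj (mul_left_cancel h')))
    · rintro ⟨a, ha⟩
      obtain ⟨l, hl, h | h⟩ := D.mem_S ha
      · exact ⟨(false, ⟨l, (hV l).2 hl⟩), Subtype.ext (by simp [f, h])⟩
      · exact ⟨(true, ⟨l, (hV l).2 hl⟩), Subtype.ext (by simp [f, h])⟩
  rw [← Nat.card_eq_of_bijective f hf, Nat.card_prod, Nat.card_eq_fintype_card (α := Bool), Fintype.card_bool,
    Nat.card_eq_fintype_card, Fintype.card_coe, hV4]

theorem S_isPGroup : IsPGroup 2 D.S := IsPGroup.of_card (n := 3) (by rw [D.card_S]; norm_num)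

theorem fact_two (D : Data G) : Nat.card G ≠ 0 ∧ (Nat.card G).factorization 2 = 3 := by
  refine ⟨Nat.card_pos.ne', le_antisymm ?_ ?_⟩
  · by_contra h
    exact D.sixteen ((pow_dvd_pow 2 (by omega : 4 ≤ _)).trans (Nat.ordProj_dvd _ _))
  · exact (Nat.prime_two.pow_dvd_iff_le_factorization Nat.card_pos.ne').1 D.eight

/-- `S` as a Sylow subgroup. -/
noncomputable def Syl : Sylow 2 G :=
  haveI : Fact (Nat.Prime 2) := ⟨Nat.prime_two⟩
  Sylow.ofCard D.S (by rw [D.card_S, D.fact_two.2]; norm_num)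

theorem Syl_coe : (D.Syl : Subgroup G) = D.S := rfl

/-- A 2-subgroup of a subgroup containing `S` has a conjugate in `S`. -/
theorem exists_conj_S {H : Subgroup G} (hSH : D.S ≤ H) {P : Subgroup G} (hP : IsPGroup 2 P) (hPH : P ≤ H) :
    ∃ g ∈ H, ∀ x ∈ P, g * x * g⁻¹ ∈ D.S := by
  haveI : Fact (Nat.Prime 2) := ⟨Nat.prime_two⟩
  obtain ⟨R, hR⟩ := (hP.comap_subtype (K := H)).exists_le_sylow
  have hSp : IsPGroup 2 (D.S.subgroupOf H) := D.S_isPGroup.comap_subtype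
  obtain ⟨R', hR'⟩ := hSp.exists_le_sylow
  have hR'eq : D.S.subgroupOf H = (R' : Subgroup H) := by
    refine eq_of_le_of_card_ge hR' ?_
    rw [Nat.card_congr (subgroupOfEquivOfLe hSH).toEquiv, D.card_S]
    obtain ⟨k, hk⟩ := IsPGroup.iff_card.1 R'.isPGroup'
    rw [hk]
    refine (Nat.pow_le_pow_right (by norm_num) (?_ : k ≤ 3)).trans (by norm_num)
    by_contra h
    refine D.sixteen (dvd_trans ?_ (card_subgroup_dvd_card H))
    refine dvd_trans ?_ (card_subgroup_dvd_card (R' : Subgroup H))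
    rw [hk]
    exact pow_dvd_pow 2 (by omega : 4 ≤ k)
  obtain ⟨g, hg⟩ := MulAction.exists_smul_eq H R R'
  refine ⟨g, g.2, fun x hx => ?_⟩
  have h : g * ⟨x, hPH hx⟩ * g⁻¹ ∈ D.S.subgroupOf H := by
    rw [hR'eq, ← hg, Sylow.coe_subgroup_smul]
    exact Subgroup.smul_mem_pointwise_smul _ (MulAut.conj g) _ (hR (mem_subgroupOf.2 hx))
  exact h

theorem S_order {a : G} (ha : a ∈ D.S) (h1 : a ≠ 1) : orderOf a = 2 := Invol.order_two_of_sq (D.S_sq ha) h1

/-- The normaliser of `S` is transitive on its involutions. -/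
theorem trans {a b : G} (ha : a ∈ D.S) (ha1 : a ≠ 1) (hb : b ∈ D.S) (hb1 : b ≠ 1) :
    ∃ g ∈ normalizer (D.S : Set G), g * a * g⁻¹ = b := by
  haveI : Fact (Nat.Prime 2) := ⟨Nat.prime_two⟩
  haveI : IsMulCommutative (D.Syl : Subgroup G) := ⟨⟨fun x y => Subtype.ext (D.S_comm x.2 y.2)⟩⟩
  obtain ⟨c, hc⟩ := isConj_iff.1 (D.one_class a b (D.S_order ha ha1) (D.S_order hb hb1))
  obtain ⟨n, hn, hn'⟩ := Sylow.conj_eq_normalizer_conj_of_mem D.Syl a c⁻¹ ha (by
    rw [inv_inv, hc]; exact hb)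
  exact ⟨n⁻¹, inv_mem hn, by rw [inv_inv, ← hn', inv_inv, hc]⟩

theorem mem_normalizer_S {g : G} (h : ∀ a ∈ D.S, g * a * g⁻¹ ∈ D.S) : g ∈ normalizer (D.S : Set G) :=
  SEBrick.mem_normalizer_of h

theorem y_mem_normalizer : D.jL D.y ∈ normalizer (D.S : Set G) := by
  refine D.mem_normalizer_S fun a ha => ?_
  suffices h : D.S ≤ D.S.comap (MulAut.conj (D.jL D.y)).toMonoidHom from h ha
  refine (closure_le _).2 fun x hx => ?_
  show D.jL D.y * x * (D.jL D.y)⁻¹ ∈ D.S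
  rcases hx with rfl | rfl | rfl
  · rw [← D.t_jL, mul_inv_cancel_right]; exact D.t_mem_S
  · rw [← map_inv, ← map_mul, ← map_mul, D.y_s]; exact D.i_mem_S
  · rw [← map_inv, ← map_mul, ← map_mul, D.y_i, map_mul]; exact mul_mem D.s_mem_S D.i_mem_S

/-- `N(S)` centralises the field automorphisms. -/
theorem normalizer_comm {g : G} (hg : g ∈ normalizer (D.S : Set G)) (σ : D.Φ) :
    g * D.jΦ σ = D.jΦ σ * g := by
  classical
  set N := normalizer (D.S : Set G)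
  let K : Subgroup N := (centralizer (Set.range D.jΦ)).subgroupOf N
  have hK : ∀ n : N, n ∈ K ↔ ∀ τ : D.Φ, (n : G) * D.jΦ τ = D.jΦ τ * n := fun n => by
    simp only [K, mem_subgroupOf, mem_centralizer_iff, Set.forall_mem_range]
    exact forall_congr' fun τ => eq_comm
  suffices h : K = ⊤ from (hK ⟨g, hg⟩).1 (h ▸ mem_top _) σ
  have hconj : ∀ (n : N) (τ : D.Φ), ∃ τ' : D.Φ, (n : G) * D.jΦ τ * (n : G)⁻¹ = D.jΦ τ' := by
    intro n τ
    obtain ⟨a, ha, τ', h⟩ := D.cen_S (g := (n : G) * D.jΦ τ * (n : G)⁻¹) fun b hb => by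
      have hb' : (n : G)⁻¹ * b * n ∈ D.S := by
        have := (mem_normalizer_iff.1 (inv_mem n.2) b).1 hb
        rwa [inv_inv] at this
      calc (n : G) * D.jΦ τ * (n : G)⁻¹ * b
          = n * (D.jΦ τ * ((n : G)⁻¹ * b * n)) * (n : G)⁻¹ := by group
        _ = n * (((n : G)⁻¹ * b * n) * D.jΦ τ) * (n : G)⁻¹ := by rw [D.jΦ_comm_S τ hb']
        _ = _ := by group
    refine ⟨τ', ?_⟩
    have ha1 : a = 1 := by
      have ho : Odd (orderOf (a * D.jΦ τ')) := by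
        rw [← h, Invol.order_conj]; exact D.jΦ_odd τ
      obtain ⟨k, hk⟩ := ho.mul (D.jΦ_odd τ')
      have e : (a * D.jΦ τ') ^ (orderOf (a * D.jΦ τ') * orderOf (D.jΦ τ')) = 1 := by
        rw [pow_mul, pow_orderOf_eq_one, one_pow]
      rw [(show Commute a (D.jΦ τ') from (D.jΦ_comm_S τ' ha).symm).mul_pow,
        pow_mul' (D.jΦ τ'), pow_orderOf_eq_one, one_pow, mul_one, hk, pow_succ, pow_mul, pow_two,
        D.S_sq ha, one_pow, one_mul] at e
      exact e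
    rw [h, ha1, one_mul]
  haveI hKn : K.Normal := by
    refine ⟨fun k hk n => (hK _).2 fun τ => ?_⟩
    obtain ⟨τ', h⟩ := hconj n⁻¹ τ
    simp only [Subgroup.coe_inv, inv_inv] at h
    simp only [Subgroup.coe_mul, Subgroup.coe_inv]
    have hk' := (hK k).1 hk τ'
    rw [← h] at hk'
    calc (n : G) * k * (n : G)⁻¹ * D.jΦ τ = n * (k * ((n : G)⁻¹ * D.jΦ τ * n)) * (n : G)⁻¹ := by group
      _ = n * ((n : G)⁻¹ * D.jΦ τ * n * k) * (n : G)⁻¹ := by rw [hk']
      _ = _ := by group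
  -- the stabiliser of `t`
  let T : Subgroup N := (centralizer ({D.t} : Set G)).subgroupOf N
  have hTK : T ≤ K := fun n hn => (hK n).2 fun τ => by
    obtain ⟨τ', hτ⟩ := hconj n τ
    have hnt : (n : G) * D.t = D.t * n := mem_centralizer_singleton_iff.1 (mem_subgroupOf.1 hn)
    obtain ⟨l, ρ, h⟩ := D.exists_dec hnt
    let x : D.X := ⟨D.jL l * D.jΦ ρ, mul_mem (D.jL_mem l) (D.jΦ_mem ρ)⟩
    have hx : (x : G) * D.jΦ τ * (x : G)⁻¹ = D.jΦ τ' := by
      rcases h with h | h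
      · rw [← hτ, h]
      · have hz : (x : G) * D.jΦ τ * (x : G)⁻¹ ∈ D.X :=
          mul_mem (mul_mem x.2 (D.jΦ_mem τ)) (inv_mem x.2)
        calc (x : G) * D.jΦ τ * (x : G)⁻¹
            = D.t * ((x : G) * D.jΦ τ * (x : G)⁻¹) * D.t⁻¹ := by rw [← D.X_comm hz, mul_inv_cancel_right]
          _ = (n : G) * D.jΦ τ * (n : G)⁻¹ := by
              have hn_eq : (n : G) = D.t * (x : G) := h
              rw [hn_eq]; group
          _ = _ := hτ
    have hX : x * D.jΦX τ * x⁻¹ = D.jΦX τ' := Subtype.ext hx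
    have hp := congrArg D.pr hX
    rw [map_mul, map_mul, map_inv, D.pr_jΦ, D.pr_jΦ, D.Φ_comm (D.pr x), mul_inv_cancel_right] at hp
    rw [← mul_inv_eq_iff_eq_mul, hτ, hp]
  have hT7 : T.index = 7 := by
    let Ne : N → {a : D.S // a ≠ 1} := fun n => ⟨⟨(n : G) * D.t * (n : G)⁻¹,
      (mem_normalizer_iff.1 n.2 _).1 D.t_mem_S⟩, fun h => D.t_ne (conj_eq_one_iff.1 (congrArg Subtype.val h))⟩
    let f : N ⧸ T → {a : D.S // a ≠ 1} := Quotient.lift Ne fun a b hab => by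
      have h : ((a⁻¹ * b : N) : G) * D.t = D.t * ((a⁻¹ * b : N) : G) :=
        mem_centralizer_singleton_iff.1 (mem_subgroupOf.1 (QuotientGroup.leftRel_apply.1 hab))
      simp only [Subgroup.coe_mul, Subgroup.coe_inv] at h
      refine Subtype.ext (Subtype.ext ?_)
      show (a : G) * D.t * (a : G)⁻¹ = (b : G) * D.t * (b : G)⁻¹
      calc (a : G) * D.t * (a : G)⁻¹ = a * (D.t * ((a : G)⁻¹ * b)) * (b : G)⁻¹ := by group
        _ = a * ((a : G)⁻¹ * b * D.t) * (b : G)⁻¹ := by rw [h]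
        _ = _ := by group
    have hf : Function.Bijective f := by
      constructor
      · intro a b
        induction a using QuotientGroup.induction_on with
        | _ a =>
          induction b using QuotientGroup.induction_on with
          | _ b =>
            intro h
            have h' : (a : G) * D.t * (a : G)⁻¹ = (b : G) * D.t * (b : G)⁻¹ :=
              congrArg (fun z : {a : D.S // a ≠ 1} => ((z : D.S) : G)) h
            refine QuotientGroup.eq.2 (mem_subgroupOf.2 (mem_centralizer_singleton_iff.2 ?_))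
            simp only [Subgroup.coe_mul, Subgroup.coe_inv]
            calc (a : G)⁻¹ * b * D.t = (a : G)⁻¹ * ((b : G) * D.t * (b : G)⁻¹) * b := by group
              _ = (a : G)⁻¹ * ((a : G) * D.t * (a : G)⁻¹) * b := by rw [h']
              _ = _ := by group
      · rintro ⟨⟨a, ha⟩, ha1⟩
        obtain ⟨n, hn, hn'⟩ := D.trans D.t_mem_S D.t_ne ha fun h => ha1 (Subtype.ext h)
        exact ⟨QuotientGroup.mk ⟨n, hn⟩, Subtype.ext (Subtype.ext hn')⟩
    rw [index, Nat.card_eq_of_bijective f hf]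
    haveI := Fintype.ofFinite D.S
    rw [Nat.card_eq_fintype_card, Fintype.card_subtype_compl, Fintype.card_subtype_eq,
      ← Nat.card_eq_fintype_card, D.card_S]
  rcases (Nat.dvd_prime (by norm_num : Nat.Prime 7)).1 (hT7 ▸ index_dvd_of_le hTK) with h | h
  · exact index_eq_one.1 h
  · exfalso
    have hKT : T = K := le_antisymm hTK <| by
      intro k hk
      have h1 := relIndex_mul_index hTK
      rw [hT7, h] at h1
      have h2 : T.relIndex K = 1 := by omega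
      exact relIndex_eq_one.1 h2 hk
    haveI : T.Normal := hKT ▸ hKn
    let yN : N := ⟨D.jL D.y, D.y_mem_normalizer⟩
    have hyT : yN ∈ T := mem_subgroupOf.2 (mem_centralizer_singleton_iff.2 (D.t_jL D.y).symm)
    obtain ⟨n, hn, hn'⟩ := D.trans D.t_mem_S D.t_ne D.s_mem_S
      fun h => D.s_ne (D.jL_inj (h.trans (map_one D.jL).symm))
    have h3 : (((⟨n, hn⟩ : N)⁻¹ * yN * (⟨n, hn⟩ : N)⁻¹⁻¹ : N) : G) * D.t = D.t * _ :=
      mem_centralizer_singleton_iff.1 (mem_subgroupOf.1 (Subgroup.Normal.conj_mem ‹T.Normal› _ hyT _))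
    simp only [Subgroup.coe_mul, Subgroup.coe_inv, inv_inv] at h3
    have h4 : D.jL D.y * D.jL D.s = D.jL D.s * D.jL D.y := by
      rw [← hn']
      calc D.jL D.y * (n * D.t * n⁻¹) = n * (n⁻¹ * D.jL D.y * n * D.t) * n⁻¹ := by group
        _ = n * (D.t * (n⁻¹ * D.jL D.y * n)) * n⁻¹ := by rw [h3]
        _ = _ := by group
    rw [← map_mul, ← map_mul] at h4
    exact D.i_ne_s (by rw [← D.y_s, D.jL_inj h4, mul_inv_cancel_right])

/-- `N(S)` lies in the centraliser of every field automorphism. -/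
theorem normalizer_le_Cf (σ : D.Φ) : normalizer (D.S : Set G) ≤ D.Cf σ := fun _ hg =>
  mem_centralizer_singleton_iff.2 (D.normalizer_comm hg σ)

/-- The involutions of `C(σ)` form one class there. -/
theorem one_class_Cf (σ : D.Φ) {a b : G} (ha : a ∈ D.Cf σ) (hb : b ∈ D.Cf σ) (ha2 : orderOf a = 2)
    (hb2 : orderOf b = 2) : ∃ g ∈ D.Cf σ, g * a * g⁻¹ = b := by
  have hz : ∀ x : G, orderOf x = 2 → IsPGroup 2 (zpowers x) := fun x hx =>
    IsPGroup.of_card (n := 1) (by rw [Nat.card_zpowers, hx, pow_one])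
  obtain ⟨g, hg, hg'⟩ := D.exists_conj_S (D.S_le_Cf σ) (hz a ha2) (zpowers_le.2 ha)
  obtain ⟨h, hh, hh'⟩ := D.exists_conj_S (D.S_le_Cf σ) (hz b hb2) (zpowers_le.2 hb)
  have h1 := hg' a (mem_zpowers a)
  have h2 := hh' b (mem_zpowers b)
  obtain ⟨n, hn, hn'⟩ := D.trans h1 (fun e => Invol.ne_one ha2 (conj_eq_one_iff.1 e)) h2
    (fun e => Invol.ne_one hb2 (conj_eq_one_iff.1 e))
  refine ⟨h⁻¹ * n * g, mul_mem (mul_mem (inv_mem hh) (D.normalizer_le_Cf σ hn)) hg, ?_⟩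
  calc h⁻¹ * n * g * a * (h⁻¹ * n * g)⁻¹ = h⁻¹ * (n * (g * a * g⁻¹) * n⁻¹) * h := by group
    _ = h⁻¹ * (h * b * h⁻¹) * h := by rw [hn']
    _ = b := by group

/-- The field automorphisms are pairwise non-conjugate. -/
theorem jΦ_conj {σ σ' : D.Φ} {g : G} (h : g * D.jΦ σ * g⁻¹ = D.jΦ σ') : σ = σ' := by
  have hP : IsPGroup 2 (D.S.map (MulAut.conj g).toMonoidHom) := D.S_isPGroup.map _
  obtain ⟨c, hc, hc'⟩ := D.exists_conj_S (D.S_le_Cf σ') hP (by
    rintro _ ⟨a, ha, rfl⟩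
    refine mem_centralizer_singleton_iff.2 ?_
    show g * a * g⁻¹ * D.jΦ σ' = D.jΦ σ' * (g * a * g⁻¹)
    rw [← h]
    calc g * a * g⁻¹ * (g * D.jΦ σ * g⁻¹) = g * (a * D.jΦ σ) * g⁻¹ := by group
      _ = g * (D.jΦ σ * a) * g⁻¹ := by rw [D.jΦ_comm_S σ ha]
      _ = _ := by group)
  have hN : c * g ∈ normalizer (D.S : Set G) := D.mem_normalizer_S fun a ha => by
    have h1 := hc' _ ⟨a, ha, rfl⟩
    have e : c * g * a * (c * g)⁻¹ = c * (g * a * g⁻¹) * c⁻¹ := by group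
    rw [e]; exact h1
  have h1 := D.normalizer_comm hN σ
  have h2 : c * D.jΦ σ' = D.jΦ σ' * c := mem_centralizer_singleton_iff.1 hc
  refine D.jΦ_inj ?_
  calc D.jΦ σ = c * g * D.jΦ σ * (c * g)⁻¹ := by rw [h1, mul_inv_cancel_right]
    _ = c * (g * D.jΦ σ * g⁻¹) * c⁻¹ := by group
    _ = D.jΦ σ' := by rw [h, h2, mul_inv_cancel_right]

end Data

end Cfsg.Agent.NoField
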