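import Cfsg.Agent.Lib.NoField.Base
import Cfsg.Agent.Lib.Char.LocalTI
import Cfsg.Agent.Lib.Char.Galois

/-!
Multiplicities of the irreducible characters in a generalised character induced from a subgroup, the
values of that induced character and sums against it.
-/

set_option autoImplicit false
set_option linter.style.haveILetI false
set_option linter.unusedSectionVars false

namespace Cfsg.Agent.NoField

open Cfsg Cfsg.Agent.Char
open scoped ComplexConjugate Classical

universe u

variable {G : Type u} [Group G] [Fintype G] {H : Subgroup G} {f : H → ℂ}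

theorem exists_icoef (hf : IsGeneralizedCharacter H f) (χ : IrrCharacter G) :
    ∃ n : ℤ, (n : ℂ) * (Nat.card H : ℂ) = ∑ h : H, conj (f h) * (χ : G → ℂ) h := by
  obtain ⟨n, hn⟩ := IsGeneralizedCharacter.exists_classInner_int
    (IsGeneralizedCharacter.of_isCharacter (IsCharacter.comp (IsIrrCharacter.isCharacter χ.2) H.subtype)) hf
  refine ⟨n, ?_⟩
  rw [← hn, Cfsg.classInner, Nat.card_eq_fintype_card]
  field_simp
  exact Finset.sum_congr rfl fun x _ => mul_comm _ _

/-- The multiplicity of `χ` in the generalised character induced by `f`. -/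
noncomputable def icoef (hf : IsGeneralizedCharacter H f) (χ : IrrCharacter G) : ℤ :=
  Classical.choose (exists_icoef hf χ)

theorem icoef_spec (hf : IsGeneralizedCharacter H f) (χ : IrrCharacter G) :
    (icoef hf χ : ℂ) * (Nat.card H : ℂ) = ∑ h : H, conj (f h) * (χ : G → ℂ) h :=
  Classical.choose_spec (exists_icoef hf χ)

theorem ev_coe (f : H → ℂ) (h : H) : ev f (h : G) = f h := by
  rw [ev, dif_pos h.2]

theorem ev_of_not_mem (f : H → ℂ) {g : G} (hg : g ∉ H) : ev f g = 0 := by
  rw [ev, dif_neg hg]

/-- The values of the induced character. -/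
theorem icoef_value (hf : IsGeneralizedCharacter H f) (y : G) :
    (∑ χ, (icoef hf χ : ℂ) * (χ : G → ℂ) y) * (Nat.card H : ℂ) = ∑ g : G, ev f (g * y * g⁻¹) := by
  have hint : ∀ χ : IrrCharacter G, (icoef hf χ : ℂ) * (Nat.card H : ℂ) =
      ∑ h : H, f h * conj ((χ : G → ℂ) h) := fun χ => by
    have h1 := congrArg conj (icoef_spec hf χ)
    rw [map_mul, map_intCast, map_natCast, map_sum] at h1
    rw [h1]
    exact Finset.sum_congr rfl fun h _ => by rw [map_mul, Complex.conj_conj]
  calc (∑ χ, (icoef hf χ : ℂ) * (χ : G → ℂ) y) * (Nat.card H : ℂ)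
      = ∑ χ : IrrCharacter G, ∑ h : H, f h * ((χ : G → ℂ) y * conj ((χ : G → ℂ) h)) := by
        rw [Finset.sum_mul]
        refine Finset.sum_congr rfl fun χ _ => ?_
        rw [mul_right_comm, hint, Finset.sum_mul]
        exact Finset.sum_congr rfl fun h _ => by ring
    _ = ∑ h : H, f h * ((Finset.univ.filter fun x : G => x * (h : G) * x⁻¹ = y).card : ℂ) := by
        rw [Finset.sum_comm]
        refine Finset.sum_congr rfl fun h _ => ?_
        rw [← Finset.mul_sum, column_orth_count]
    _ = ∑ x : G, ∑ h : H, (if x * (h : G) * x⁻¹ = y then f h else 0) := by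
        rw [Finset.sum_comm]
        refine Finset.sum_congr rfl fun h _ => ?_
        rw [Finset.sum_ite, Finset.sum_const_zero, add_zero, Finset.sum_const, nsmul_eq_mul, mul_comm]
    _ = ∑ x : G, ev f (x⁻¹ * y * x) := by
        refine Finset.sum_congr rfl fun x _ => ?_
        have e : ∀ z : G, x * z * x⁻¹ = y ↔ z = x⁻¹ * y * x := fun z =>
          ⟨fun h => by rw [← h]; group, fun h => by rw [h]; group⟩
        by_cases hm : x⁻¹ * y * x ∈ H
        · rw [Finset.sum_eq_single (⟨_, hm⟩ : H)
            (fun h _ hne => if_neg fun h' => hne (Subtype.ext ((e _).1 h')))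
            (fun h => absurd (Finset.mem_univ _) h), if_pos ((e _).2 rfl), ev, dif_pos hm]
        · rw [Finset.sum_eq_zero fun h _ => if_neg fun h' => hm (by rw [← (e _).1 h']; exact h.2),
            ev_of_not_mem f hm]
    _ = _ := Fintype.sum_equiv (Equiv.inv G) _ _ fun x => by simp

/-- Orthogonality against another family of multiplicities. -/
theorem icoef_weight (hf : IsGeneralizedCharacter H f) (wt : IrrCharacter G → ℂ) :
    (∑ χ, (icoef hf χ : ℂ) * wt χ) * (Nat.card H : ℂ) =
      ∑ h : H, conj (f h) * ∑ χ, wt χ * (χ : G → ℂ) h := by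
  calc (∑ χ, (icoef hf χ : ℂ) * wt χ) * (Nat.card H : ℂ)
      = ∑ χ : IrrCharacter G, ∑ h : H, conj (f h) * (wt χ * (χ : G → ℂ) h) := by
        rw [Finset.sum_mul]
        refine Finset.sum_congr rfl fun χ _ => ?_
        rw [mul_right_comm, icoef_spec, Finset.sum_mul]
        exact Finset.sum_congr rfl fun h _ => by ring
    _ = _ := by
        rw [Finset.sum_comm]
        exact Finset.sum_congr rfl fun h _ => (Finset.mul_sum _ _ _).symm

/-- Class functions are constant on the conjugates inside `H`. -/
theorem ev_conj (hf : IsGeneralizedCharacter H f) {x : G} (hx : x ∈ H) (y : G) :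
    ev f (x * y * x⁻¹) = ev f y := by
  by_cases hy : y ∈ H
  · rw [show x * y * x⁻¹ = ((⟨x, hx⟩ * ⟨y, hy⟩ * ⟨x, hx⟩⁻¹ : H) : G) from rfl, ev_coe,
      IsGeneralizedCharacter.isClassFunction hf]
    exact (ev_coe f ⟨y, hy⟩).symm
  · rw [ev_of_not_mem f hy, ev_of_not_mem]
    intro h
    refine hy ?_
    have := mul_mem (mul_mem (inv_mem hx) h) hx
    rwa [show x⁻¹ * (x * y * x⁻¹) * x = y by group] at this

/-- The value at an element all whose conjugates in the support are conjugates in `H`. -/
theorem icoef_value_of_ti (hf : IsGeneralizedCharacter H f) {y : G}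
    (hti : ∀ g : G, ev f (g * y * g⁻¹) ≠ 0 → g ∈ H) :
    ∑ χ, (icoef hf χ : ℂ) * (χ : G → ℂ) y = ev f y := by
  refine mul_right_cancel₀ (Nat.cast_ne_zero.2 (Nat.card_pos (α := H)).ne') ?_
  rw [icoef_value, Nat.card_eq_fintype_card]
  calc ∑ g : G, ev f (g * y * g⁻¹) = ∑ g ∈ Finset.univ.filter (· ∈ H), ev f (g * y * g⁻¹) :=
        (Finset.sum_subset (Finset.subset_univ _) fun g _ hg => by
          by_contra h
          exact hg (Finset.mem_filter.2 ⟨Finset.mem_univ _, hti g h⟩)).symm
    _ = ∑ g ∈ Finset.univ.filter (· ∈ H), ev f y :=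
        Finset.sum_congr rfl fun g hg => ev_conj hf (Finset.mem_filter.1 hg).2 y
    _ = _ := by
        rw [Finset.sum_const, nsmul_eq_mul, Fintype.card_subtype, mul_comm]

/-- The induced character vanishes away from the conjugates of the support. -/
theorem icoef_value_zero (hf : IsGeneralizedCharacter H f) {y : G}
    (h0 : ∀ g : G, ev f (g * y * g⁻¹) = 0) :
    ∑ χ, (icoef hf χ : ℂ) * (χ : G → ℂ) y = 0 := by
  refine mul_right_cancel₀ (Nat.cast_ne_zero.2 (Nat.card_pos (α := H)).ne') ?_
  rw [icoef_value, zero_mul]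
  exact Finset.sum_eq_zero fun g _ => h0 g

end Cfsg.Agent.NoField
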