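import Cfsg.Agent.Lib.NoField.Pieces
import Cfsg.Agent.Lib.Blocks.SecondMain
import Cfsg.Agent.Lib.Blocks.FirstMain
import Cfsg.Agent.Lib.Classical.CharTools
import Cfsg.Agent.S4726
import Mathlib.GroupTheory.FiniteAbelian.Duality
import Mathlib.RingTheory.RootsOfUnity.AlgebraicallyClosed

/-!
The 2-blocks of full defect of `C(t)` and of `G`, and the rows of the section of `t`
(`tools/walter/NOFIELD_helper19.md`, LocalBlocks).
-/

set_option autoImplicit false
set_option linter.style.haveILetI false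
set_option linter.unusedSectionVars false

namespace Cfsg.Agent.NoField

open Subgroup Cfsg Cfsg.Agent.Char Cfsg.Agent.Walter8
open scoped ComplexConjugate Classical

universe u v

attribute [-instance] BrauerPairs.fintypeSubgroupBP

variable {G : Type u} [Group G] [Fintype G] {D : Data G}

namespace Data

variable (D)

theorem pX_surjective : Function.Surjective D.pX := fun x => ⟨D.XC x, D.pX_X x⟩

theorem eq_of_pX {a b : cen D.t} (hp : D.pX a = D.pX b) (hs : D.sgnC a = D.sgnC b) : a = b := by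
  rcases D.cases_C a with ⟨x, rfl⟩ | ⟨x, rfl⟩ <;> rcases D.cases_C b with ⟨y, rfl⟩ | ⟨y, rfl⟩
  · rw [D.pX_X, D.pX_X] at hp; rw [hp]
  · rw [D.sgnC_X, D.sgnC_t] at hs; norm_num at hs
  · rw [D.sgnC_X, D.sgnC_t] at hs; norm_num at hs
  · rw [D.pX_t, D.pX_t] at hp; rw [hp]

theorem comm_iff_pX (a b : cen D.t) : a * b = b * a ↔ D.pX a * D.pX b = D.pX b * D.pX a := by
  refine ⟨fun h => by rw [← map_mul, h, map_mul], fun h => D.eq_of_pX (by rw [map_mul, h, map_mul]) ?_⟩
  rw [← D.sgnHom_coe, ← D.sgnHom_coe, map_mul, map_mul, mul_comm]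

theorem index_cen_pX (g : cen D.t) :
    (centralizer ({g} : Set (cen D.t))).index = (centralizer ({D.pX g} : Set D.X)).index := by
  rw [← index_comap_of_surjective _ (f := D.pX) D.pX_surjective]
  congr 1
  ext c
  rw [mem_centralizer_singleton_iff, mem_comap, mem_centralizer_singleton_iff]
  exact D.comm_iff_pX c g

/-- A character of `X`, read on the centraliser. -/
noncomputable def liftX (φ : IrrCharacter D.X) : IrrCharacter (cen D.t) :=
  ⟨fun g => (φ : D.X → ℂ) (D.pX g), IsIrrCharacter.comp φ.2 D.pX D.pX_surjective⟩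

theorem centralChar_lift (φ : IrrCharacter D.X) (g : cen D.t) :
    centralChar (D.liftX φ : cen D.t → ℂ) g = centralChar (φ : D.X → ℂ) (D.pX g) := by
  simp [centralChar, liftX, D.index_cen_pX]

theorem centralChar_res (ψ : cen D.t → ℂ) (x : D.X) :
    centralChar ψ (D.XC x) = centralChar (fun y : D.X => ψ (D.XC y)) x := by
  simp [centralChar, D.index_cen_pX, D.pX_X]

/-- Irreducible characters of the centraliser restrict irreducibly. -/
theorem irr_res (ψ : IrrCharacter (cen D.t)) :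
    IsIrrCharacter D.X (fun x : D.X => (ψ : cen D.t → ℂ) (D.XC x)) := by
  refine IsCharacter.isIrr_of_norm_one (IsCharacter.comp (IsIrrCharacter.isCharacter ψ.2) D.XC) ?_
  have hz : D.tC ∈ center (cen D.t) := mem_center_iff.2 fun g => D.tC_comm g
  have hψ1 : (ψ : cen D.t → ℂ) 1 ≠ 0 := IsIrrCharacter.one_ne_zero ψ.2
  set c := (ψ : cen D.t → ℂ) D.tC / (ψ : cen D.t → ℂ) 1 with hc
  have hmul : ∀ g, (ψ : cen D.t → ℂ) (D.tC * g) = c * (ψ : cen D.t → ℂ) g :=
    CharTools.irr_central_mul ψ.2 hz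
  have hc2 : c * c = 1 := by
    have h := hmul D.tC
    rw [D.tC_sq] at h
    rw [hc] at h ⊢
    field_simp at h ⊢
    linear_combination -h
  have hcc : c * conj c = 1 := by
    rcases mul_self_eq_one_iff.1 hc2 with e | e <;> simp [e]
  have h : (Nat.card (cen D.t) : ℂ)⁻¹ *
      ∑ g : cen D.t, (ψ : cen D.t → ℂ) g * conj ((ψ : cen D.t → ℂ) g) = 1 := by
    have h0 := classInner_self_irr ψ.2
    rw [Cfsg.classInner] at h0
    convert h0
  have h' := D.sum_C fun g => (ψ : cen D.t → ℂ) g * conj ((ψ : cen D.t → ℂ) g)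
  rw [D.card_C, h'] at h
  have e : ∀ x : D.X, (ψ : cen D.t → ℂ) (D.tC * D.XC x) * conj ((ψ : cen D.t → ℂ) (D.tC * D.XC x)) =
      (ψ : cen D.t → ℂ) (D.XC x) * conj ((ψ : cen D.t → ℂ) (D.XC x)) := fun x => by
    rw [hmul, map_mul]
    linear_combination ((ψ : cen D.t → ℂ) (D.XC x) * conj ((ψ : cen D.t → ℂ) (D.XC x))) * hcc
  rw [Finset.sum_congr rfl fun x _ => e x, Nat.cast_mul, Nat.cast_two, mul_inv] at h
  rw [Cfsg.classInner]
  linear_combination h

/-- The Sylow subgroup inside the centraliser. -/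
noncomputable def SylC : Sylow 2 (cen D.t) :=
  D.Syl.subtype fun a ha => mem_centralizer_singleton_iff.2 (D.S_comm ha D.t_mem_S)

theorem SylC_map : (D.SylC : Subgroup (cen D.t)).map (cen D.t).subtype = D.S :=
  map_subgroupOf_eq_of_le (H := D.S) fun a ha => mem_centralizer_singleton_iff.2 (D.S_comm ha D.t_mem_S)

theorem card_SylC : Nat.card (D.SylC : Subgroup (cen D.t)) = 8 := by
  rw [← Subgroup.card_map_of_injective (f := (cen D.t).subtype) (cen D.t).subtype_injective, D.SylC_map,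
    D.card_S]

/-- The odd classes of the normaliser of the Sylow subgroup centralising it. -/
theorem card_classes {H : Type v} [Group H] [Finite H] (f : H →* G) (hf : Function.Injective f)
    (P : Sylow 2 H) (hP : (P : Subgroup H).map f = D.S) (hΦ : ∀ σ, D.jΦ σ ∈ f.range) :
    Nat.card {C : ConjClasses (normalizer ((P : Subgroup H) : Set H)) //
      ∀ n : normalizer ((P : Subgroup H) : Set H), ConjClasses.mk n = C →
        ¬ 2 ∣ orderOf n ∧ (n : H) ∈ centralizer ((P : Subgroup H) : Set H)} = Nat.card D.Φ := by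
  choose h hh using hΦ
  have hodd : ∀ σ, ¬ 2 ∣ orderOf (h σ) := fun σ hd => by
    rw [← orderOf_injective f hf, hh] at hd
    exact Nat.not_even_iff_odd.2 (D.jΦ_odd σ) (even_iff_two_dvd.2 hd)
  have hmemS : ∀ a ∈ (P : Subgroup H), f a ∈ D.S := fun a ha => hP ▸ ⟨a, ha, rfl⟩
  have hcen : ∀ σ, h σ ∈ centralizer ((P : Subgroup H) : Set H) := fun σ =>
    mem_centralizer_iff.2 fun a ha => hf (by
      rw [map_mul, map_mul, hh]; exact (D.jΦ_comm_S σ (hmemS a ha)).symm)
  have hN : ∀ σ, h σ ∈ normalizer ((P : Subgroup H) : Set H) := fun σ =>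
    centralizer_le_normalizer _ (hcen σ)
  have hnS : ∀ n : normalizer ((P : Subgroup H) : Set H), f n ∈ normalizer (D.S : Set G) := fun n =>
    D.mem_normalizer_S fun a ha => by
      rw [← hP] at ha
      obtain ⟨b, hb, rfl⟩ := ha
      rw [← map_mul, ← map_inv, ← map_mul]
      exact hmemS _ ((mem_normalizer_iff.1 n.2 b).1 hb)
  have hconst : ∀ σ (n : normalizer ((P : Subgroup H) : Set H)),
      ConjClasses.mk n = ConjClasses.mk (⟨h σ, hN σ⟩ : normalizer ((P : Subgroup H) : Set H)) →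
        (n : H) = h σ := fun σ n hn => by
    obtain ⟨c, hc⟩ := isConj_iff.1 (ConjClasses.mk_eq_mk_iff_isConj.1 hn).symm
    rw [← hc]
    refine hf ?_
    simp only [Subgroup.coe_mul, Subgroup.coe_inv, map_mul, map_inv, hh]
    rw [D.normalizer_comm (hnS c) σ, mul_inv_cancel_right]
  refine (Nat.card_eq_of_bijective (fun σ => (⟨ConjClasses.mk ⟨h σ, hN σ⟩, fun n hn => by
    rw [← Subgroup.orderOf_coe, hconst σ n hn]; exact ⟨hodd σ, hcen σ⟩⟩ :
      {C : ConjClasses (normalizer ((P : Subgroup H) : Set H)) //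
        ∀ n : normalizer ((P : Subgroup H) : Set H), ConjClasses.mk n = C →
          ¬ 2 ∣ orderOf n ∧ (n : H) ∈ centralizer ((P : Subgroup H) : Set H)})) ⟨?_, ?_⟩).symm
  · intro σ τ hst
    have e := hconst τ ⟨h σ, hN σ⟩ (congrArg Subtype.val hst)
    exact D.jΦ_inj (by rw [← hh, ← hh]; exact congrArg f e)
  · rintro ⟨C, hC⟩
    obtain ⟨n, rfl⟩ := ConjClasses.mk_surjective C
    obtain ⟨ho, hc⟩ := hC n rfl
    obtain ⟨a, ha, σ, he⟩ := D.cen_S (g := f n) fun b hb => by
      rw [← hP] at hb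
      obtain ⟨b, hb, rfl⟩ := hb
      rw [← map_mul, ← map_mul, mem_centralizer_iff.1 hc b hb]
    refine ⟨σ, Subtype.ext ?_⟩
    show ConjClasses.mk _ = ConjClasses.mk n
    congr 1
    refine Subtype.ext (hf ?_)
    have ha1 : a = 1 := by
      rw [← Subgroup.orderOf_coe, ← orderOf_injective f hf, he, ← even_iff_two_dvd,
        Nat.not_even_iff_odd] at ho
      obtain ⟨k, hk⟩ := ho.mul (D.jΦ_odd σ)
      have e : (a * D.jΦ σ) ^ (orderOf (a * D.jΦ σ) * orderOf (D.jΦ σ)) = 1 := by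
        rw [pow_mul, pow_orderOf_eq_one, one_pow]
      rw [(show Commute a (D.jΦ σ) from (D.jΦ_comm_S σ ha).symm).mul_pow, pow_mul' (D.jΦ σ),
        pow_orderOf_eq_one, one_pow, mul_one, hk, pow_succ, pow_mul, pow_two, D.S_sq ha, one_pow,
        one_mul] at e
      exact e
    rw [he, ha1, one_mul]
    exact hh σ

end Data

/-- A block whose defect groups have the order of a Sylow subgroup has it as a defect group. -/
theorem defect_sylow {H : Type u} [Group H] [Fintype H] {I : Ideal AlgInt} [I.IsPrime]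
    {B : Set (IrrCharacter H)} {E : Subgroup H} (hE : IsDefectGroup 2 I B E) (P : Sylow 2 H)
    (hc : Nat.card (P : Subgroup H) ≤ Nat.card E) : IsDefectGroup 2 I B (P : Subgroup H) := by
  haveI : Fact (Nat.Prime 2) := ⟨Nat.prime_two⟩
  obtain ⟨R, hR⟩ := (Blocks.isPGroup_defectGroup hE).exists_le_sylow
  obtain ⟨g, hg⟩ := MulAction.exists_smul_eq H R P
  have hcard : Nat.card (R : Subgroup H) = Nat.card (P : Subgroup H) := by
    rw [R.card_eq_multiplicity, P.card_eq_multiplicity]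
  have hER : E = (R : Subgroup H) := eq_of_le_of_card_ge hR (hcard.le.trans hc)
  have h := Blocks.IsDefectGroup.map_conj (p := 2) hE g
  rw [hER] at h
  rwa [← hg, Sylow.coe_subgroup_smul]

variable {M : Main D} (XF : XFacts M)

/-- The block of the centraliser over a twist. -/
noncomputable def XFacts.cblock (μ : D.Φ →* ℂˣ) : Set (IrrCharacter (cen D.t)) :=
  blockOf XF.I (D.liftX (XF.tch μ 0) : cen D.t → ℂ)

theorem XFacts.tw_integral (μ : D.Φ →* ℂˣ) (x : D.X) : MemLocalRing XF.I (D.tw μ x : ℂ) := by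
  haveI : XF.I.IsPrime := Blocks.IsPModular.isPrime XF.modular
  refine Blocks.mem_locRing_of_isIntegral (IsIntegral.of_pow (Nat.card_pos (α := D.X)) ?_)
  rw [← Units.val_pow_eq_pow_val, ← map_pow, pow_card_eq_one', map_one, Units.val_one]
  exact isIntegral_one

theorem XFacts.cblock_isPBlock (μ : D.Φ →* ℂˣ) : IsPBlock XF.I (XF.cblock μ) :=
  ⟨D.liftX (XF.tch μ 0), rfl⟩

theorem centralChar_tw_mul (l : D.X →* ℂˣ) (φ : D.X → ℂ) (x : D.X) :
    centralChar (fun y => (l y : ℂ) * φ y) x = (l x : ℂ) * centralChar φ x := by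
  simp [centralChar, mul_div_assoc]
  ring

theorem XFacts.lift_mem (μ : D.Φ →* ℂˣ) (j : Fin 4) : D.liftX (XF.tch μ j) ∈ XF.cblock μ := by
  haveI : XF.I.IsPrime := Blocks.IsPModular.isPrime XF.modular
  intro g
  rw [D.centralChar_lift, D.centralChar_lift]
  show MemLocalIdeal XF.I (centralChar (fun y => (D.tw μ y : ℂ) * (XF.ξ 0 : D.X → ℂ) y) _ -
    centralChar (fun y => (D.tw μ y : ℂ) * (XF.ξ j : D.X → ℂ) y) _)
  rw [centralChar_tw_mul, centralChar_tw_mul, ← mul_sub, XF.ξ_zero]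
  refine Blocks.MemLocalIdeal.mul_left (XF.tw_integral μ _) ?_
  have hj : XF.ξ j ∈ principalBlock XF.I D.X := by rw [XF.block]; exact ⟨j, rfl⟩
  exact hj _

/-- The members of the blocks over the twists. -/
theorem XFacts.exists_res {μ : D.Φ →* ℂˣ} {ψ : IrrCharacter (cen D.t)} (hψ : ψ ∈ XF.cblock μ) :
    ∃ j, ∀ x : D.X, (ψ : cen D.t → ℂ) (D.XC x) = (XF.tch μ j : D.X → ℂ) x := by
  haveI : XF.I.IsPrime := Blocks.IsPModular.isPrime XF.modular
  let φ : IrrCharacter D.X :=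
    ⟨fun x => (D.tw μ⁻¹ x : ℂ) * (ψ : cen D.t → ℂ) (D.XC x), ChiefRestrict.isIrr_mul_linear (D.irr_res ψ) _⟩
  have hinv : ∀ x : D.X, (D.tw μ x : ℂ) * (D.tw μ⁻¹ x : ℂ) = 1 := fun x => by
    rw [← Units.val_mul, show D.tw μ x * D.tw μ⁻¹ x = 1 from mul_inv_cancel _, Units.val_one]
  have hφ : φ ∈ principalBlock XF.I D.X := fun x => by
    show MemLocalIdeal XF.I (centralChar (fun _ => (1 : ℂ)) x -
      centralChar (fun y => (D.tw μ⁻¹ y : ℂ) * (ψ : cen D.t → ℂ) (D.XC y)) x)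
    have h := hψ (D.XC x)
    rw [D.centralChar_lift, D.pX_X, D.centralChar_res] at h
    have h0 : centralChar (XF.tch μ 0 : D.X → ℂ) x =
        (D.tw μ x : ℂ) * centralChar (fun _ : D.X => (1 : ℂ)) x := by
      rw [← XF.ξ_zero]; exact centralChar_tw_mul _ _ x
    rw [h0] at h
    have h' := Blocks.MemLocalIdeal.mul_left (XF.tw_integral μ⁻¹ x) h
    rw [centralChar_tw_mul]
    convert h' using 1
    linear_combination -(centralChar (fun _ : D.X => (1 : ℂ)) x) * hinv x
  rw [XF.block] at hφ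
  obtain ⟨j, hj⟩ := hφ
  refine ⟨j, fun x => ?_⟩
  have e : (XF.ξ j : D.X → ℂ) x = (D.tw μ⁻¹ x : ℂ) * (ψ : cen D.t → ℂ) (D.XC x) := by rw [hj]
  show _ = (D.tw μ x : ℂ) * (XF.ξ j : D.X → ℂ) x
  rw [e, ← mul_assoc, hinv, one_mul]

theorem XFacts.cblock_inj {μ ν : D.Φ →* ℂˣ} (h : XF.cblock μ = XF.cblock ν) : μ = ν := by
  obtain ⟨j, hj⟩ := XF.exists_res (h.symm ▸ XF.lift_mem ν 0)
  refine ((XF.tch_inj (i := 0) (j := j) (Subtype.ext (funext fun x => ?_))).1).symm
  rw [← hj x]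
  show _ = (XF.tch ν 0 : D.X → ℂ) (D.pX (D.XC x))
  rw [D.pX_X]

theorem XFacts.cblock_full (μ : D.Φ →* ℂˣ) :
    IsDefectGroup 2 XF.I (XF.cblock μ) (D.SylC : Subgroup (cen D.t)) := by
  haveI : Fact (Nat.Prime 2) := ⟨Nat.prime_two⟩
  haveI : XF.I.IsPrime := Blocks.IsPModular.isPrime XF.modular
  obtain ⟨E, hE⟩ := Blocks.exists_isDefectGroup (p := 2) (XF.cblock_isPBlock μ)
  refine defect_sylow hE D.SylC (le_of_eq ?_)
  rw [Blocks.card_defectGroup XF.modular (XF.cblock_isPBlock μ) hE, blockDefect, D.SylC.card_eq_multiplicity]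
  have h0 : charDegree (D.liftX (XF.tch μ 0) : cen D.t → ℂ) = 1 := by
    simp [charDegree, Data.liftX, XFacts.tch, XF.ξ_zero]
  have : sInf ((fun χ : IrrCharacter (cen D.t) => (charDegree (χ : cen D.t → ℂ)).factorization 2) ''
      XF.cblock μ) = 0 := by
    refine Nat.sInf_eq_zero.2 (Or.inl ⟨_, XF.lift_mem μ 0, ?_⟩)
    simp [h0]
  rw [this, Nat.sub_zero]

/-- The blocks of full defect of the centraliser are the twisted ones. -/
theorem XFacts.cblock_surj {b : Set (IrrCharacter (cen D.t))} (hb : IsPBlock XF.I b)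
    (hd : IsDefectGroup 2 XF.I b (D.SylC : Subgroup (cen D.t))) : ∃ μ, XF.cblock μ = b := by
  haveI : Fact (Nat.Prime 2) := ⟨Nat.prime_two⟩
  haveI : XF.I.IsPrime := Blocks.IsPModular.isPrime XF.modular
  letI : CommGroup D.Φ := { (inferInstance : Group D.Φ) with mul_comm := D.Φ_comm }
  let T := {b : Set (IrrCharacter (cen D.t)) //
    IsPBlock XF.I b ∧ IsDefectGroup 2 XF.I b (D.SylC : Subgroup (cen D.t))}
  let f : (D.Φ →* ℂˣ) → T := fun μ => ⟨XF.cblock μ, XF.cblock_isPBlock μ, XF.cblock_full μ⟩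
  have hf : Function.Bijective f := by
    refine (Nat.bijective_iff_injective_and_card f).2
      ⟨fun μ ν h => XF.cblock_inj (congrArg Subtype.val h), ?_⟩
    rw [Blocks.card_blocks_sylow_defect XF.modular D.SylC,
      D.card_classes (cen D.t).subtype (cen D.t).subtype_injective D.SylC D.SylC_map
        (fun σ => ⟨⟨D.jΦ σ, mem_centralizer_singleton_iff.2 (D.t_jΦ σ).symm⟩, rfl⟩)]
    exact CommGroup.card_monoidHom_of_hasEnoughRootsOfUnity D.Φ ℂ
  obtain ⟨μ, hμ⟩ := hf.2 ⟨b, hb, hd⟩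
  exact ⟨μ, congrArg Subtype.val hμ⟩

theorem XFacts.induced_exists (μ : D.Φ →* ℂˣ) :
    ∃ B, IsInducedBlock XF.I (cen D.t) (XF.cblock μ) B ∧ IsDefectGroup 2 XF.I B D.S := by
  haveI : Fact (Nat.Prime 2) := ⟨Nat.prime_two⟩
  haveI : XF.I.IsPrime := Blocks.IsPModular.isPrime XF.modular
  obtain ⟨B, hB⟩ := Blocks.inducedBlockDefined_centralizer XF.modular (x := D.t)
    ⟨1, by rw [D.t_order, pow_one]⟩ (C := cen D.t) rfl (XF.cblock_isPBlock μ)
  obtain ⟨E, hE, hle⟩ := Blocks.defectGroup_le_of_induced XF.modular hB (XF.cblock_full μ)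
  rw [D.SylC_map] at hle
  exact ⟨B, hB, defect_sylow hE D.Syl (card_le_of_le hle)⟩

/-- A block inducing a block of full defect has full defect. -/
theorem XFacts.inducing_full {b : Set (IrrCharacter (cen D.t))} {B : Set (IrrCharacter G)}
    (hB : IsDefectGroup 2 XF.I B D.S) (h : IsInducedBlock XF.I (cen D.t) b B) : ∃ μ, XF.cblock μ = b := by
  haveI : Fact (Nat.Prime 2) := ⟨Nat.prime_two⟩
  haveI : XF.I.IsPrime := Blocks.IsPModular.isPrime XF.modular
  obtain ⟨E, hE⟩ := Blocks.exists_isDefectGroup (p := 2) h.1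
  haveI : (zpowers D.tC).Normal := ⟨fun a ha g => by
    obtain ⟨k, rfl⟩ := ha
    rw [(show Commute g D.tC from D.tC_comm g).zpow_right k |>.eq, mul_inv_cancel_right]
    exact zpow_mem (mem_zpowers _) k⟩
  have htp : IsPGroup 2 (zpowers D.tC) := IsPGroup.of_card (n := 1) (by
    rw [Nat.card_zpowers, pow_one]
    exact Invol.order_two_of_sq D.tC_sq fun e => D.t_ne (congrArg Subtype.val e))
  have htE : D.tC ∈ E :=
    Blocks.le_defectGroup_of_normal XF.modular h.1 hE (zpowers D.tC) htp (mem_zpowers _)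
  have hC : centralizer ((E.map (cen D.t).subtype : Subgroup G) : Set G) ≤ cen D.t := fun g hg =>
    mem_centralizer_singleton_iff.2 (mem_centralizer_iff.1 hg D.t ⟨D.tC, htE, rfl⟩).symm
  have hcom : IsMulCommutative D.S := ⟨⟨fun a b => Subtype.ext (D.S_comm a.2 b.2)⟩⟩
  have hD := ((S4726.result 2 XF.I XF.modular (cen D.t) b h.1 E hE hC).2 B h).2 D.S hB hcom
  refine XF.cblock_surj h.1 (defect_sylow hE D.SylC (le_of_eq ?_))
  rw [D.card_SylC, ← Subgroup.card_map_of_injective (f := (cen D.t).subtype) (cen D.t).subtype_injective,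
    Blocks.card_defectGroup XF.modular h.2.1 hD, ← Blocks.card_defectGroup XF.modular h.2.1 hB,
    D.card_S]

/-- The block induced by a twisted block is induced by no other block. -/
theorem XFacts.inducing_unique {μ : D.Φ →* ℂˣ} {B : Set (IrrCharacter G)}
    (h : IsInducedBlock XF.I (cen D.t) (XF.cblock μ) B) {b : Set (IrrCharacter (cen D.t))}
    (hb : IsInducedBlock XF.I (cen D.t) b B) : b = XF.cblock μ := by
  haveI : Fact (Nat.Prime 2) := ⟨Nat.prime_two⟩
  haveI : XF.I.IsPrime := Blocks.IsPModular.isPrime XF.modular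
  letI : CommGroup D.Φ := { (inferInstance : Group D.Φ) with mul_comm := D.Φ_comm }
  choose F hF hFd using XF.induced_exists
  let T := {B : Set (IrrCharacter G) // IsPBlock XF.I B ∧ IsDefectGroup 2 XF.I B (D.Syl : Subgroup G)}
  let f : (D.Φ →* ℂˣ) → T := fun ν => ⟨F ν, (hF ν).2.1, hFd ν⟩
  have hf : Function.Bijective f := by
    refine (Nat.bijective_iff_surjective_and_card f).2 ⟨?_, ?_⟩
    · rintro ⟨B', hB', hd'⟩
      obtain ⟨b', hb'⟩ := (Blocks.exists_inducing_iff XF.modular (P := zpowers D.t) (H := cen D.t)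
        (IsPGroup.of_card (n := 1) (by rw [Nat.card_zpowers, D.t_order, pow_one]))
        (zpowers_le.2 (mem_centralizer_singleton_iff.2 rfl))
        (Blocks.centralizer_zpowers_eq D.t).le
        ((Blocks.centralizer_zpowers_eq D.t).ge.trans (centralizer_le_normalizer _)) hB' hd').2
        ⟨1, by
          rintro _ ⟨a, ha, rfl⟩
          have hat : a ∈ D.S := (zpowers_le.2 D.t_mem_S) ha
          simpa [Data.Syl_coe] using hat⟩
      obtain ⟨ν, rfl⟩ := XF.inducing_full hd' hb'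
      exact ⟨ν, Subtype.ext (Blocks.isInducedBlock_unique (hF ν) hb')⟩
    · rw [Blocks.card_blocks_sylow_defect XF.modular D.Syl,
        D.card_classes (MonoidHom.id G) Function.injective_id D.Syl (map_id _) (fun σ => ⟨_, rfl⟩)]
      exact CommGroup.card_monoidHom_of_hasEnoughRootsOfUnity D.Φ ℂ
  obtain rfl : F μ = B := Blocks.isInducedBlock_unique (hF μ) h
  obtain ⟨ν, rfl⟩ := XF.inducing_full (hFd μ) hb
  have : ν = μ := hf.1 (Subtype.ext (Blocks.isInducedBlock_unique (hF ν) hb))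
  rw [this]

theorem odd_XC (x : D.X) : ¬ 2 ∣ orderOf (D.XC x) ↔ Odd (orderOf x) := by
  rw [show orderOf (D.XC x) = orderOf x from orderOf_injective _ (inclusion_injective _) x,
    ← Nat.not_even_iff_odd, even_iff_two_dvd]

theorem odd_only_XC {g : cen D.t} (hg : ¬ 2 ∣ orderOf g) : ∃ x : D.X, Odd (orderOf x) ∧ g = D.XC x := by
  rcases D.cases_C g with ⟨x, rfl⟩ | ⟨x, rfl⟩
  · exact ⟨x, (odd_XC x).1 hg, rfl⟩
  · exfalso
    have ho : Odd (orderOf (D.tC * D.XC x)) := by rwa [← Nat.not_even_iff_odd, even_iff_two_dvd]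
    have hx : Odd (orderOf x) := by
      refine ho.of_dvd_nat ?_
      have := orderOf_map_dvd D.pX (D.tC * D.XC x)
      rwa [D.pX_t] at this
    exact D.sec_not_odd hx (by rwa [← Subgroup.orderOf_coe, Subgroup.coe_mul, Data.coe_tC,
      Data.coe_XC] at ho)

/-- Members of other blocks are orthogonal to a twisted combination. -/
theorem XFacts.comb_orth {μ : D.Φ →* ℂˣ} {c : Fin 4 → ℤ} (hc : ∀ x, XF.comb μ c x ≠ 0 → Odd (orderOf x))
    {ψ : IrrCharacter (cen D.t)} (hψ : ψ ∉ XF.cblock μ) :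
    ∑ x : D.X, conj (XF.comb μ c x) * (ψ : cen D.t → ℂ) (D.XC x) = 0 := by
  haveI : XF.I.IsPrime := Blocks.IsPModular.isPrime XF.modular
  have hj : ∀ j, ∑ x ∈ Finset.univ.filter (fun x : D.X => Odd (orderOf x)),
      (ψ : cen D.t → ℂ) (D.XC x) * conj ((XF.tch μ j : D.X → ℂ) x) = 0 := by
    intro j
    have h := Blocks.sum_regular_eq_zero (p := 2) XF.modular (χ := ψ) (ψ := D.liftX (XF.tch μ j))
      fun hs => hψ (Blocks.isPBlock_mem_of_sameBlock (XF.cblock_isPBlock μ) (XF.lift_mem μ j)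
        (Blocks.sameBlock_symm hs))
    rw [← h]
    refine Finset.sum_bij (fun x _ => D.XC x) (fun x hx => ?_)
      (fun a _ b _ e => inclusion_injective _ e) (fun g hg => ?_) (fun x _ => ?_)
    · exact Finset.mem_filter.2 ⟨Finset.mem_univ _, (odd_XC x).2 (Finset.mem_filter.1 hx).2⟩
    · obtain ⟨x, hx, rfl⟩ := odd_only_XC (Finset.mem_filter.1 hg).2
      exact ⟨x, by simp [hx], rfl⟩
    · show _ = _ * conj ((XF.tch μ j : D.X → ℂ) (D.pX (D.XC x)))
      rw [D.pX_X]
  rw [← Finset.sum_filter_of_ne (p := fun x : D.X => Odd (orderOf x)) (fun x _ hx => hc x fun e => hx (by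
    rw [e, map_zero, zero_mul]))]
  have e : ∀ x : D.X, conj (XF.comb μ c x) * (ψ : cen D.t → ℂ) (D.XC x) =
      ∑ j, ((c j * XF.sgn j : ℤ) : ℂ) * ((ψ : cen D.t → ℂ) (D.XC x) * conj ((XF.tch μ j : D.X → ℂ) x)) :=
    fun x => by
      rw [XFacts.comb, map_sum, Finset.sum_mul]
      exact Finset.sum_congr rfl fun j _ => by rw [map_mul, map_intCast]; ring
  rw [Finset.sum_congr rfl fun x _ => e x, Finset.sum_comm]
  exact Finset.sum_eq_zero fun j _ => by rw [← Finset.mul_sum, hj, mul_zero]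

theorem secFun_XC (χ : IrrCharacter G) (x : D.X) :
    Blocks.secFun D.t (cen D.t) (χ : G → ℂ) (D.XC x) = (χ : G → ℂ) (D.t * x) := rfl

/-- The part of a twisted block carries the twisted columns. -/
theorem XFacts.scol_part {μ : D.Φ →* ℂˣ} {c : Fin 4 → ℤ} (hc : ∀ x, XF.comb μ c x ≠ 0 → Odd (orderOf x))
    (χ : IrrCharacter G) :
    (D.scol (XF.comb_gen μ c) χ : ℂ) * (Nat.card D.X : ℂ) = ∑ x : D.X, conj (XF.comb μ c x) *
      blockPart (XF.cblock μ) (Blocks.secFun D.t (cen D.t) (χ : G → ℂ)) (D.XC x) := by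
  haveI : XF.I.IsPrime := Blocks.IsPModular.isPrime XF.modular
  rw [D.scol_spec]
  have hcl := Blocks.isClassFunction_secFun (x := D.t) (C := cen D.t) rfl
    (IsCharacter.isClassFunction (IsIrrCharacter.isCharacter χ.2))
  have e : ∀ x : D.X, conj (XF.comb μ c x) * (χ : G → ℂ) (D.t * x) =
      ∑ b ∈ Blocks.blocks XF.I (cen D.t),
        conj (XF.comb μ c x) * blockPart b (Blocks.secFun D.t (cen D.t) (χ : G → ℂ)) (D.XC x) := fun x => by
    rw [← Finset.mul_sum, Blocks.sum_blockPart (M := XF.I) hcl, secFun_XC]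
  rw [Finset.sum_congr rfl fun x _ => e x, Finset.sum_comm,
    Finset.sum_eq_single (XF.cblock μ) (fun b hb hne => ?_)
      (fun h => absurd (Blocks.mem_blocks.2 (XF.cblock_isPBlock μ)) h)]
  simp only [Blocks.blockPart_eq_sum, Finset.mul_sum]
  rw [Finset.sum_comm]
  refine Finset.sum_eq_zero fun ψ hψ => ?_
  have h0 := XF.comb_orth hc (ψ := ψ) fun h => hne
    (Blocks.isPBlock_eq_of_mem (Blocks.mem_blocks.1 hb) (XF.cblock_isPBlock μ) (Finset.mem_filter.1 hψ).2 h)
  rw [← mul_zero (classInner (Blocks.secFun D.t (cen D.t) (χ : G → ℂ)) (ψ : cen D.t → ℂ)), ← h0,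
    Finset.mul_sum]
  exact Finset.sum_congr rfl fun x _ => by ring

theorem XFacts.scol_zero_of_not {μ : D.Φ →* ℂˣ} {c : Fin 4 → ℤ}
    (hc : ∀ x, XF.comb μ c x ≠ 0 → Odd (orderOf x)) {χ : IrrCharacter G}
    (hnot : ¬ IsInducedBlock XF.I (cen D.t) (XF.cblock μ) (blockOf XF.I (χ : G → ℂ))) :
    D.scol (XF.comb_gen μ c) χ = 0 := by
  haveI : XF.I.IsPrime := Blocks.IsPModular.isPrime XF.modular
  have h := XF.scol_part hc χ
  rw [Finset.sum_eq_zero fun x _ => ?_, mul_eq_zero] at h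
  · exact_mod_cast h.resolve_right (Nat.cast_ne_zero.2 Nat.card_pos.ne')
  by_cases hx : XF.comb μ c x = 0
  · simp [hx]
  rw [Blocks.blockPart_secFun_eq_zero (p := 2) XF.modular ⟨1, by rw [D.t_order, pow_one]⟩ (C := cen D.t)
    rfl (Blocks.isPBlock_blockOf χ) (Blocks.self_mem_blockOf χ) (XF.cblock_isPBlock μ) hnot
    ((odd_XC x).2 (hc x hx)), mul_zero]

theorem comb_sum_tch (μ : D.Φ →* ℂˣ) (c : Fin 4 → ℤ) (j : Fin 4) :
    ∑ x : D.X, conj (XF.comb μ c x) * (XF.tch μ j : D.X → ℂ) x =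
      (Nat.card D.X : ℂ) * ((c j * XF.sgn j : ℤ) : ℂ) := by
  have h := XF.comb_inner μ μ c (fun k => if k = j then 1 else 0)
  rw [if_pos rfl] at h
  have e : ∀ x, XF.comb μ (fun k => if k = j then 1 else 0) x =
      (XF.sgn j : ℂ) * (XF.tch μ j : D.X → ℂ) x := fun x => by simp [XFacts.comb]
  simp only [e, mul_ite, mul_one, mul_zero, Finset.sum_ite_eq', Finset.mem_univ, if_true] at h
  have hs : ((XF.sgn j : ℤ) : ℂ) * (XF.sgn j : ℂ) = 1 := by
    rcases XF.sgn_unit j with h | h <;> rw [h] <;> norm_num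
  simp only [mul_left_comm (conj _) ((XF.sgn j : ℤ) : ℂ), ← Finset.mul_sum] at h
  have h2 := congrArg (fun z => ((XF.sgn j : ℤ) : ℂ) * z) h
  simp only [← mul_assoc, hs, one_mul] at h2
  refine h2.trans ?_
  push_cast
  ring

/-- The rows of the blocks of full defect. -/
theorem local_rows : LocalStmt XF := by
  intro μ χ hne
  haveI : XF.I.IsPrime := Blocks.IsPModular.isPrime XF.modular
  set B := blockOf XF.I (χ : G → ℂ) with hBdef
  have hind : IsInducedBlock XF.I (cen D.t) (XF.cblock μ) B := by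
    by_contra hnot
    rcases hne with h | h
    · exact h (XF.scol_zero_of_not (fun _ => XF.comb_b_odd) hnot)
    · exact h (XF.scol_zero_of_not (fun _ => XF.comb_e_odd) hnot)
  refine ⟨?_, fun ν hν => ?_⟩
  swap
  · have hnot : ¬ IsInducedBlock XF.I (cen D.t) (XF.cblock ν) B := fun h =>
      hν (XF.cblock_inj (XF.inducing_unique hind h))
    exact ⟨XF.scol_zero_of_not (fun _ => XF.comb_b_odd) hnot,
      XF.scol_zero_of_not (fun _ => XF.comb_e_odd) hnot⟩
  choose jj hjj using fun ψ : {ψ // ψ ∈ XF.cblock μ} => XF.exists_res ψ.2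
  set f := Blocks.secFun D.t (cen D.t) (χ : G → ℂ) with hf
  let a : {ψ // ψ ∈ XF.cblock μ} → ℂ := fun ψ => classInner f (ψ.1 : cen D.t → ℂ)
  have hpart : ∀ x : D.X, blockPart (XF.cblock μ) f (D.XC x) =
      ∑ ψ : {ψ // ψ ∈ XF.cblock μ}, a ψ * (XF.tch μ (jj ψ) : D.X → ℂ) x := fun x => by
    rw [Blocks.blockPart_eq_sum, Finset.sum_subtype (p := fun ψ => ψ ∈ XF.cblock μ) _ (by simp)]
    exact Finset.sum_congr rfl fun ψ _ => by rw [← hjj ψ x]
  have hcol : ∀ (c : Fin 4 → ℤ), (∀ x, XF.comb μ c x ≠ 0 → Odd (orderOf x)) →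
      (D.scol (XF.comb_gen μ c) χ : ℂ) = ∑ ψ, a ψ * ((c (jj ψ) * XF.sgn (jj ψ) : ℤ) : ℂ) := by
    intro c hc
    refine mul_right_cancel₀ (Nat.cast_ne_zero.2 (Nat.card_pos (α := D.X)).ne') ?_
    rw [XF.scol_part hc χ, Finset.sum_congr rfl fun x _ => by rw [← hf, hpart x, Finset.mul_sum],
      Finset.sum_comm, Finset.sum_mul]
    refine Finset.sum_congr rfl fun ψ _ => ?_
    rw [Finset.sum_congr rfl fun x _ => mul_left_comm _ _ _, ← Finset.mul_sum, comb_sum_tch XF]
    ring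
  have htv : (D.tv χ : ℂ) = ∑ ψ, a ψ * (XF.tch μ (jj ψ) : D.X → ℂ) 1 := by
    rw [← hpart 1, map_one, D.tv_cast]
    have hcl := Blocks.isClassFunction_secFun (x := D.t) (C := cen D.t) rfl
      (IsCharacter.isClassFunction (IsIrrCharacter.isCharacter χ.2))
    have h := Blocks.sum_blockPart (M := XF.I) hcl (1 : cen D.t)
    rw [Finset.sum_eq_single (XF.cblock μ)] at h
    · rw [hf, h, Blocks.secFun, OneMemClass.coe_one, mul_one]
    · intro b hb hne'
      exact Blocks.blockPart_secFun_eq_zero (p := 2) XF.modular ⟨1, by rw [D.t_order, pow_one]⟩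
        (C := cen D.t) rfl (Blocks.isPBlock_blockOf χ) (Blocks.self_mem_blockOf χ)
        (Blocks.mem_blocks.1 hb) (fun h => hne' (XF.inducing_unique hind h)) (by simp)
    · exact fun h => absurd (Blocks.mem_blocks.2 (XF.cblock_isPBlock μ)) h
  have hkey : ∀ j, 2 * (XF.tch μ j : D.X → ℂ) 1 =
      ((Fintype.card D.F : ℂ) + 1) * ((vb j * XF.sgn j : ℤ) : ℂ) -
      ((Fintype.card D.F : ℂ) - 1) * ((ve j * XF.sgn j : ℤ) : ℂ) := by
    intro j
    have hs : ((XF.sgn j : ℤ) : ℂ) * (XF.sgn j : ℂ) = 1 := by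
      rcases XF.sgn_unit j with h | h <;> rw [h] <;> norm_num
    have ht : (XF.tch μ j : D.X → ℂ) 1 = (XF.ξ j : D.X → ℂ) 1 := by simp [XFacts.tch]
    rw [ht]
    have hv : ∀ k : Fin 4, 2 * (![1, -(Fintype.card D.F : ℂ), ((Fintype.card D.F : ℂ) - 1) / 2,
        ((Fintype.card D.F : ℂ) - 1) / 2] : Fin 4 → ℂ) k = ((Fintype.card D.F : ℂ) + 1) * (vb k : ℂ) -
          ((Fintype.card D.F : ℂ) - 1) * (ve k : ℂ) := by
      intro k; fin_cases k <;> simp [vb, ve] <;> ring
    push_cast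
    linear_combination (2 * ((XF.sgn j : ℤ) : ℂ)) * XF.deg j - 2 * (XF.ξ j : D.X → ℂ) 1 * hs +
      ((XF.sgn j : ℤ) : ℂ) * hv j
  have hb := hcol vb fun _ => XF.comb_b_odd
  have he := hcol ve fun _ => XF.comb_e_odd
  have hC : 2 * (D.tv χ : ℂ) = ((Fintype.card D.F : ℂ) + 1) * (XF.bc μ χ : ℂ) -
      ((Fintype.card D.F : ℂ) - 1) * (XF.ec μ χ : ℂ) := by
    rw [htv, show (XF.bc μ χ : ℂ) = _ from hb, show (XF.ec μ χ : ℂ) = _ from he, Finset.mul_sum,
      Finset.mul_sum, Finset.mul_sum, ← Finset.sum_sub_distrib]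
    refine Finset.sum_congr rfl fun ψ _ => ?_
    linear_combination a ψ * hkey (jj ψ)
  exact_mod_cast hC

end Cfsg.Agent.NoField
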