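import Cfsg.Agent.Lib.NoField.Pieces

/-!
A torus coefficient lives in its own block.
-/

set_option autoImplicit false
set_option linter.style.haveILetI false
set_option linter.unusedSectionVars false

namespace Cfsg.Agent.NoField

open Subgroup Cfsg
open scoped Classical

universe u

variable {G : Type u} [Group G] [Fintype G] {D : Data G} {M : Main D} {XF : XFacts M}

theorem Torus.three_rows (T : Torus XF) (μ : D.Φ →* ℂˣ) :
    (∀ χ, T.a μ χ = 0 ∨ T.a μ χ = 1 ∨ T.a μ χ = -1) ∧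
      (Finset.univ.filter fun χ => T.a μ χ ≠ 0).card = 3 := by
  have hn := T.norm μ
  have hb : ∀ χ, T.a μ χ * T.a μ χ ≤ 3 := fun χ => by
    rw [← hn]
    exact Finset.single_le_sum (f := fun χ => T.a μ χ * T.a μ χ) (fun _ _ => mul_self_nonneg _)
      (Finset.mem_univ χ)
  have h1 : ∀ χ, T.a μ χ = 0 ∨ T.a μ χ = 1 ∨ T.a μ χ = -1 := fun χ => by
    have h := hb χ
    have h2 : T.a μ χ < 2 := by nlinarith
    have h3 : -2 < T.a μ χ := by nlinarith
    omega
  refine ⟨h1, ?_⟩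
  have h2 : ∑ χ, T.a μ χ * T.a μ χ = ∑ χ, if T.a μ χ ≠ 0 then (1 : ℤ) else 0 := by
    refine Finset.sum_congr rfl fun χ _ => ?_
    rcases h1 χ with h | h | h <;> simp [h]
  rw [h2, Finset.sum_boole] at hn
  exact_mod_cast hn

/-- A character in a block of full defect has no torus coefficient for another twist. -/
theorem Torus.a_zero (T : Torus XF) (hL : LocalStmt XF) {μ ν : D.Φ →* ℂˣ} (hne : ν ≠ μ)
    {χ : IrrCharacter G} (hχ : XF.bc ν χ ≠ 0 ∨ XF.ec ν χ ≠ 0) : T.a μ χ = 0 := by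
  by_contra ha
  obtain ⟨h1, hcard⟩ := T.three_rows μ
  set q : ℤ := (Fintype.card D.F : ℤ) with hq
  have hq27 : 27 ≤ q := by rw [hq]; exact_mod_cast D.q_large
  set A := Finset.univ.filter fun χ => T.a μ χ ≠ 0 with hA
  have hmem : ∀ χ, χ ∈ A ↔ T.a μ χ ≠ 0 := fun χ => by simp [hA]
  set inν : IrrCharacter G → Prop := fun χ => XF.bc ν χ ≠ 0 ∨ XF.ec ν χ ≠ 0 with hinν
  set inμ : IrrCharacter G → Prop := fun χ => XF.bc μ χ ≠ 0 ∨ XF.ec μ χ ≠ 0 with hinμ
  -- a second row in the block of `ν`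
  obtain ⟨χ', hχ'ne, hχ'A, hχ'⟩ : ∃ χ', χ' ≠ χ ∧ χ' ∈ A ∧ inν χ' := by
    by_contra hno
    push Not at hno
    have key : ∀ f : IrrCharacter G → ℤ, (∀ χ', ¬ inν χ' → f χ' = 0) → ∑ χ', T.a μ χ' * f χ' = 0 →
        f χ = 0 := by
      intro f hf hs
      rw [Finset.sum_eq_single χ (fun χ' _ hne' => ?_) (fun h => absurd (Finset.mem_univ _) h)] at hs
      · exact (mul_eq_zero.1 hs).resolve_left ha
      · by_cases h : T.a μ χ' = 0
        · rw [h, zero_mul]
        · rw [hf χ' (hno χ' hne' ((hmem χ').2 h)), mul_zero]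
    have hb := key (XF.bc ν) (fun χ' h => by by_contra hb; exact h (Or.inl hb)) (T.a_bc μ ν)
    have he := key (XF.ec ν) (fun χ' h => by by_contra hb; exact h (Or.inr hb))
      (by rw [T.a_ec, if_neg (Ne.symm hne)])
    exact hχ.elim (fun h => h hb) (fun h => h he)
  -- a row inside
  obtain ⟨ρ, hρA, hρ⟩ : ∃ ρ, ρ ∈ A ∧ inμ ρ := by
    by_contra hno
    push Not at hno
    have h := T.a_ec μ μ
    rw [if_pos rfl, Finset.sum_eq_zero fun χ' _ => ?_] at h
    · norm_num at h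
    · by_cases hz : T.a μ χ' = 0
      · rw [hz, zero_mul]
      · have hn := hno χ' ((hmem χ').2 hz)
        simp only [hinμ, not_or, not_not] at hn
        rw [hn.2, mul_zero]
  -- a row in neither
  obtain ⟨π, hπA, hπμ, hπν⟩ : ∃ π, π ∈ A ∧ ¬ inμ π ∧ ¬ inν π := by
    by_contra hno
    push Not at hno
    have hpt : ∀ χ', T.a μ χ' * (2 * D.tv χ') =
        (q + 1) * (T.a μ χ' * XF.bc μ χ') - (q - 1) * (T.a μ χ' * XF.ec μ χ') +
          ((q + 1) * (T.a μ χ' * XF.bc ν χ') - (q - 1) * (T.a μ χ' * XF.ec ν χ')) := by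
      intro χ'
      by_cases hz : T.a μ χ' = 0
      · simp [hz]
      by_cases hm : inμ χ'
      · obtain ⟨e1, e2⟩ := hL μ χ' hm
        obtain ⟨e3, e4⟩ := e2 ν hne
        rw [e1, e3, e4]; ring
      · obtain ⟨e1, e2⟩ := hL ν χ' (hno χ' ((hmem χ').2 hz) hm)
        obtain ⟨e3, e4⟩ := e2 μ (Ne.symm hne)
        rw [e1, e3, e4]; ring
    have hs := Finset.sum_congr rfl (fun χ' (_ : χ' ∈ Finset.univ) => hpt χ')
    simp only [Finset.sum_add_distrib, Finset.sum_sub_distrib, ← Finset.mul_sum] at hs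
    rw [Finset.sum_congr rfl (fun χ' (_ : χ' ∈ Finset.univ) =>
      (by ring : T.a μ χ' * (2 * D.tv χ') = 2 * (T.a μ χ' * D.tv χ'))), ← Finset.mul_sum, T.a_tv,
      T.a_bc, T.a_bc, T.a_ec, T.a_ec, if_pos rfl, if_neg (Ne.symm hne)] at hs
    linarith
  have hd : ∀ χ', inν χ' → ¬ inμ χ' := fun χ' h h' => by
    obtain ⟨e1, e2⟩ := (hL μ χ' h').2 ν hne
    exact h.elim (fun h => h e1) (fun h => h e2)
  have hsub : ({χ, χ', ρ, π} : Finset (IrrCharacter G)) ⊆ A := by
    intro x hx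
    simp only [Finset.mem_insert, Finset.mem_singleton] at hx
    rcases hx with rfl | rfl | rfl | rfl
    exacts [(hmem _).2 ha, hχ'A, hρA, hπA]
  have h4 := Finset.card_le_card hsub
  rw [Finset.card_insert_of_notMem, Finset.card_insert_of_notMem, Finset.card_insert_of_notMem,
    Finset.card_singleton, hcard] at h4
  · omega
  · simp only [Finset.mem_singleton]
    rintro rfl
    exact hπμ hρ
  · simp only [Finset.mem_insert, Finset.mem_singleton, not_or]
    exact ⟨fun e => hd χ' hχ' (e ▸ hρ), fun e => hπν (e ▸ hχ')⟩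
  · simp only [Finset.mem_insert, Finset.mem_singleton, not_or]
    exact ⟨Ne.symm hχ'ne, fun e => hd χ hχ (e ▸ hρ), fun e => hπν (e ▸ hχ)⟩

end Cfsg.Agent.NoField
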