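import Cfsg.Agent.Lib.NoField.DeltaTorus
import Cfsg.Agent.Lib.NoField.Zero

/-!
The two rows given by the character of defect zero of `C(f)`: the induced character has two constituents,
one in the block of a twist with the value of `λ` at `σ`, the other in the principal block after twisting.
-/

set_option autoImplicit false
set_option linter.style.haveILetI false
set_option linter.unusedSectionVars false

namespace Cfsg.Agent.NoField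

attribute [-instance] Cfsg.Agent.BrauerPairs.fintypeSubgroupBP

open Subgroup Cfsg
open scoped ComplexConjugate Classical

universe u

/-- Two nonzero integers whose squares are part of a sum equal to two. -/
theorem delta_two_rows {ι : Type*} [Fintype ι] [DecidableEq ι] (c : ι → ℤ) (h2 : ∑ i, c i * c i = 2) {a b : ι}
    (hab : a ≠ b) (ha : c a ≠ 0) (hb : c b ≠ 0) :
    (c a = 1 ∨ c a = -1) ∧ (c b = 1 ∨ c b = -1) ∧ ∀ i, i ≠ a → i ≠ b → c i = 0 := by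
  rw [← Finset.add_sum_erase _ _ (Finset.mem_univ a), ← Finset.add_sum_erase _ _
    (Finset.mem_erase.2 ⟨hab.symm, Finset.mem_univ b⟩)] at h2
  have h0 : 0 ≤ ∑ i ∈ (Finset.univ.erase a).erase b, c i * c i :=
    Finset.sum_nonneg fun i _ => mul_self_nonneg _
  have ha1 : 1 ≤ c a * c a := by nlinarith [Int.one_le_abs ha, abs_mul_abs_self (c a)]
  have hb1 : 1 ≤ c b * c b := by nlinarith [Int.one_le_abs hb, abs_mul_abs_self (c b)]
  refine ⟨mul_self_eq_one_iff.1 (by linarith), mul_self_eq_one_iff.1 (by linarith), fun i hia hib => ?_⟩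
  exact mul_self_eq_zero.1 ((Finset.sum_eq_zero_iff_of_nonneg fun i _ => mul_self_nonneg (c i)).1
    (by linarith) i (Finset.mem_erase.2 ⟨hib, Finset.mem_erase.2 ⟨hia, Finset.mem_univ i⟩⟩))

variable {G : Type u} [Group G] [Fintype G] {D : Data G} {M : Main D} {XF : XFacts M}

theorem pairs (T : Torus XF) (hL : LocalStmt XF) (E₀ : EtaData M) : PairsStmt T := by
  obtain ⟨Λ⟩ := M.exists_lp
  set P : ℂ := ((M.p ^ M.v : ℕ) : ℂ) with hP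
  set N : ℂ := ((M.tset 1).card : ℂ) with hN
  set e : ℂ := (Nat.card D.Φ : ℂ)
  have he : e ≠ 0 := Nat.cast_ne_zero.2 Nat.card_pos.ne'
  have hNP : N * P ≠ 0 := mul_ne_zero (Nat.cast_ne_zero.2 (M.tset_pos 1).ne')
    (Nat.cast_ne_zero.2 (pow_ne_zero _ M.p_prime.ne_zero))
  have hNlp : ((M.tset Λ.lp).card : ℂ) = N := by rw [hN, M.tset_card Λ.lp]
  -- move a row of the trivial coset into the principal block
  obtain ⟨E, hE1⟩ : ∃ E : EtaData M, ∑ χ, Λ.co E χ * XF.bc 1 χ ≠ 0 := by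
    have h := Λ.sum_bc E₀ XF 1
    rw [Λ.Kt_one, ← hP, ← hN, mul_neg, neg_neg] at h
    obtain ⟨μ₁, hμ₁, hne⟩ : ∃ μ ∈ M.tset 1, ∑ χ, Λ.co E₀ χ * XF.bc μ χ ≠ 0 := by
      by_contra hno
      push Not at hno
      refine hNP ?_
      rw [← h, Finset.sum_eq_zero fun μ hμ => by exact_mod_cast hno μ hμ, zero_mul]
    obtain ⟨E', hE'⟩ := E₀.exists_twist μ₁⁻¹ (by
      rw [MonoidHom.inv_apply, M.mem_tset.1 hμ₁, MonoidHom.one_apply, inv_one])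
    refine ⟨E', ?_⟩
    rwa [Λ.co_twist E₀ XF _ hE', show (1 : D.Φ →* ℂˣ) / μ₁⁻¹ = μ₁ from by ext τ; simp]
  set c := Λ.co E
  obtain ⟨ψ', -, hψ'⟩ := Finset.exists_ne_zero_of_sum_ne_zero hE1
  obtain ⟨μ, hμ, ψ, hψ⟩ : ∃ μ ∈ M.tset Λ.lp, ∃ ψ, c ψ * XF.bc μ ψ ≠ 0 := by
    by_contra hno
    push Not at hno
    have h := Λ.sum_bc E XF Λ.lp
    rw [Λ.Kt_lp, ← hP, hNlp, Finset.sum_eq_zero fun μ hμ => Finset.sum_eq_zero fun χ _ => by
      exact_mod_cast hno μ hμ χ, zero_mul] at h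
    exact hNP (neg_eq_zero.1 h.symm)
  obtain ⟨hcψ, hbψ⟩ := mul_ne_zero_iff.1 hψ
  obtain ⟨hcψ', hbψ'⟩ := mul_ne_zero_iff.1 hψ'
  have hσ : ∀ {ν : D.Φ →* ℂˣ}, ν ∈ M.tset Λ.lp → ν M.σ ≠ 1 := fun hν h =>
    Λ.ne ((M.mem_tset.1 hν).symm.trans h)
  have hμ1 : μ ≠ 1 := fun h => hσ hμ (by rw [h, MonoidHom.one_apply])
  have hne : ψ ≠ ψ' := fun h => hbψ (by rw [h]; exact ((hL 1 ψ' (Or.inl hbψ')).2 μ hμ1).1)
  obtain ⟨hc, hc', hc0⟩ := delta_two_rows c (Λ.norm_two E) hne hcψ hcψ'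
  have hsum : ∀ f : IrrCharacter G → ℂ,
      ∑ χ, (c χ : ℂ) * f χ = (c ψ : ℂ) * f ψ + (c ψ' : ℂ) * f ψ' := fun f => by
    rw [← Finset.sum_subset (Finset.subset_univ ({ψ, ψ'} : Finset (IrrCharacter G))) fun χ _ hχ => ?_,
      Finset.sum_pair hne]
    simp only [Finset.mem_insert, Finset.mem_singleton, not_or] at hχ
    rw [hc0 χ hχ.1 hχ.2, Int.cast_zero, zero_mul]
  have h1mem : (1 : D.Φ →* ℂˣ) ∈ M.tset 1 := M.mem_tset.2 rfl
  have key : ∀ col : (D.Φ →* ℂˣ) → IrrCharacter G → ℤ,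
      (∀ ν, ν ≠ μ → col ν ψ = 0) → (∀ ν, ν ≠ 1 → col ν ψ' = 0) →
      (∑ ν ∈ M.tset Λ.lp, ∑ χ, (c χ : ℂ) * (col ν χ : ℂ) = (c ψ : ℂ) * col μ ψ) ∧
      ∑ ν ∈ M.tset 1, ∑ χ, (c χ : ℂ) * (col ν χ : ℂ) = (c ψ' : ℂ) * col 1 ψ' := by
    intro col h h'
    constructor
    · rw [Finset.sum_eq_single_of_mem μ hμ fun ν hν hν' => ?_]
      · rw [hsum, h' μ hμ1, Int.cast_zero, mul_zero, add_zero]
      · rw [hsum, h ν hν', h' ν fun he => hσ hν (by rw [he, MonoidHom.one_apply]), Int.cast_zero, mul_zero,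
          mul_zero, add_zero]
    · rw [Finset.sum_eq_single_of_mem 1 h1mem fun ν hν hν' => ?_]
      · rw [hsum, h 1 (Ne.symm hμ1), Int.cast_zero, mul_zero, zero_add]
      · rw [hsum, h ν fun he => hσ hμ (by rw [← he, M.mem_tset.1 hν, MonoidHom.one_apply]), h' ν hν',
          Int.cast_zero, mul_zero, mul_zero, add_zero]
  obtain ⟨b1, b2⟩ := key XF.bc (fun ν hν => ((hL μ ψ (Or.inl hbψ)).2 ν hν).1)
    fun ν hν => ((hL 1 ψ' (Or.inl hbψ')).2 ν hν).1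
  obtain ⟨e1, e2⟩ := key XF.ec (fun ν hν => ((hL μ ψ (Or.inl hbψ)).2 ν hν).2)
    fun ν hν => ((hL 1 ψ' (Or.inl hbψ')).2 ν hν).2
  obtain ⟨a1, a2⟩ := key T.a (fun ν hν => T.a_zero hL (Ne.symm hν) (Or.inl hbψ))
    fun ν hν => T.a_zero hL (Ne.symm hν) (Or.inl hbψ')
  have B1 := Λ.sum_bc E XF Λ.lp
  have B2 := Λ.sum_bc E XF 1
  have C1 := Λ.sum_ec E XF Λ.lp
  have C2 := Λ.sum_ec E XF 1
  have A1 := Λ.sum_a E T Λ.lp
  have A2 := Λ.sum_a E T 1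
  rw [b1, Λ.Kt_lp, hNlp] at B1
  rw [e1, Λ.Kt_lp, hNlp] at C1
  rw [a1, Λ.Kt_lp, hNlp] at A1
  rw [b2, Λ.Kt_one] at B2
  rw [e2, Λ.Kt_one] at C2
  rw [a2, Λ.Kt_one] at A2
  have z1 : c ψ * XF.ec μ ψ = c ψ * XF.bc μ ψ := by
    have h : ((c ψ : ℂ) * XF.ec μ ψ) = (c ψ : ℂ) * XF.bc μ ψ := mul_right_cancel₀ he (C1.trans B1.symm)
    exact_mod_cast h
  have z2 : c ψ' * XF.ec 1 ψ' = c ψ' * XF.bc 1 ψ' := by
    have h : ((c ψ' : ℂ) * XF.ec 1 ψ') = (c ψ' : ℂ) * XF.bc 1 ψ' := mul_right_cancel₀ he (C2.trans B2.symm)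
    exact_mod_cast h
  have z3 : c ψ * T.a μ ψ = -(c ψ * XF.bc μ ψ) := by
    have h : ((c ψ : ℂ) * T.a μ ψ) = -((c ψ : ℂ) * XF.bc μ ψ) :=
      mul_right_cancel₀ he (by rw [neg_mul, B1, A1, neg_neg])
    exact_mod_cast h
  have z4 : c ψ' * T.a 1 ψ' = -(c ψ' * XF.bc 1 ψ') := by
    have h : ((c ψ' : ℂ) * T.a 1 ψ') = -((c ψ' : ℂ) * XF.bc 1 ψ') :=
      mul_right_cancel₀ he (by rw [neg_mul, B2, A2, neg_neg])
    exact_mod_cast h
  have z5 : c ψ' * XF.bc 1 ψ' = -(c ψ * XF.bc μ ψ) := by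
    have h : ((c ψ' : ℂ) * XF.bc 1 ψ') = -((c ψ : ℂ) * XF.bc μ ψ) :=
      mul_right_cancel₀ he (by rw [neg_mul, B1, B2]; ring)
    exact_mod_cast h
  have hd : c ψ * D.dg ψ + c ψ' * D.dg ψ' = 0 := by
    have h := Λ.deg_zero E
    rw [hsum fun χ => (χ : G → ℂ) 1, ← D.dg_cast, ← D.dg_cast] at h
    exact_mod_cast h
  have hd1 := D.dg_pos ψ
  have hd2 := D.dg_pos ψ'
  have hcc : c ψ' = -c ψ ∧ D.dg ψ = D.dg ψ' := by
    rcases hc with h | h <;> rcases hc' with h' | h' <;> rw [h, h'] at hd ⊢ <;> constructor <;> linarith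
  have heq : XF.ec μ ψ = XF.bc μ ψ := mul_left_cancel₀ hcψ z1
  have heq' : XF.ec 1 ψ' = XF.bc 1 ψ' := mul_left_cancel₀ hcψ' z2
  have haq : T.a μ ψ = -XF.bc μ ψ := mul_left_cancel₀ hcψ (by rw [z3, mul_neg])
  have haq' : T.a 1 ψ' = -XF.bc 1 ψ' := mul_left_cancel₀ hcψ' (by rw [z4, mul_neg])
  have hbb : XF.bc 1 ψ' = XF.bc μ ψ := by
    rw [hcc.1] at z5
    exact mul_left_cancel₀ hcψ (by linarith)
  have hu : XF.bc μ ψ = 1 ∨ XF.bc μ ψ = -1 := by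
    rcases (T.three_rows μ).1 ψ with h | h | h <;> rw [haq] at h <;> omega
  exact ⟨{
    μ := μ, μ_ne := hμ1, ψ := ψ, ψ' := ψ', ε := XF.bc μ ψ, ε_unit := hu
    ψ_row := ⟨rfl, heq, haq⟩
    ψ'_row := ⟨hbb, by rw [heq', hbb], by rw [haq', hbb]⟩
    same_deg := hcc.2 }⟩

end Cfsg.Agent.NoField
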