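import Cfsg.Agent.Lib.NoField.TorusVal

/-!
The torus coefficients: their norm, their products with the columns of the section and with the
degrees, the values at `t` and the class product sums.
-/

set_option autoImplicit false
set_option linter.style.haveILetI false
set_option linter.unusedSectionVars false

namespace Cfsg.Agent.NoField

open Subgroup Cfsg Cfsg.Agent.Char Cfsg.Agent.Walter8 Cfsg.Agent.AutPSL
open scoped Classical ComplexConjugate

universe u

variable {G : Type u} [Group G] [Fintype G] {D : Data G} {M : Main D}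

theorem sum_bits (a b c : ℂ) :
    ∑ x : Bool, ∑ y : Bool, sgb y * (sgb y * a + sgb x * b + sgb (x ^^ y) * c) = 4 * a := by
  simp [sgb]; ring

namespace Main.TData

variable (T : M.TData)

theorem lam_inv_val (z : M.ld.Zh) : (T.lam z⁻¹ : ℂ) = conj (T.lam z : ℂ) := by
  have h := conj_unit_val M.l_prime.ne_zero (T.pow_l z)
  rw [map_inv, Units.val_inv_eq_inv_val]
  exact inv_eq_of_mul_eq_one_right h

theorem mu_norm (μ : D.Φ →* ℂˣ) (σ : D.Φ) : (μ σ : ℂ) * conj (μ σ : ℂ) = 1 :=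
  conj_unit_val (n := Nat.card D.Φ) Nat.card_pos.ne' (by rw [← map_pow, pow_card_eq_one', map_one])

/-- The shape of the induced function on a fibre. -/
theorem value_shape (μ : D.Φ →* ℂˣ) {z : M.ld.Zh} (hz : T.lam z ≠ 1) (σ : D.Φ) :
    ∃ b c : ℂ, ∀ x y : Bool, ∑ χ, (T.a μ χ : ℂ) * (χ : G → ℂ) (M.el x y z σ) =
      sgb y * ((μ σ : ℂ) * (2 - (T.lam z : ℂ) - conj (T.lam z : ℂ))) + sgb x * b + sgb (x ^^ y) * c := by
  obtain ⟨z1, h1⟩ := T.rot.exists_conj z
  obtain ⟨z2, h2⟩ := T.rot.exists_conj z1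
  obtain ⟨w1, g1⟩ := T.rot.exists_conj z⁻¹
  obtain ⟨w2, g2⟩ := T.rot.exists_conj w1
  refine ⟨(μ σ : ℂ) * (1 - (T.lam z1 : ℂ)) + (μ σ : ℂ) * (1 - (T.lam w1 : ℂ)),
    (μ σ : ℂ) * (1 - (T.lam z2 : ℂ)) + (μ σ : ℂ) * (1 - (T.lam w2 : ℂ)), fun x y => ?_⟩
  have hc : ∀ (k : ℕ) (j : Bool) (g : G), T.γ ^ k * (if j then D.jL D.i else 1) * g *
      (T.γ ^ k * (if j then D.jL D.i else 1))⁻¹ =
      T.γ ^ k * ((if j then D.jL D.i else 1) * g * (if j then D.jL D.i else 1)⁻¹) * (T.γ ^ k)⁻¹ :=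
    fun k j g => by group
  have sq : ∀ g : G, T.γ ^ 2 * g * (T.γ ^ 2)⁻¹ = T.γ * (T.γ * g * T.γ⁻¹) * T.γ⁻¹ :=
    fun g => by rw [pow_two]; group
  have hyx : ((x ^^ y) ^^ x) = y := by cases x <;> cases y <;> rfl
  rw [T.value μ hz, Fintype.sum_prod_type, Fin.sum_univ_three]
  simp only [Fintype.sum_bool, mv, hc]
  simp only [Fin.val_zero, Fin.val_one, Fin.val_two, pow_zero, pow_one, sq, if_true, Bool.false_eq_true,
    if_false, M.conj_i, one_mul, mul_one, inv_one, h1, h2, g1, g2, hyx, T.ev_el, T.lam_inv_val]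
  ring

theorem norm_eq (μ : D.Φ →* ℂˣ) : ∑ χ, T.a μ χ * T.a μ χ = 3 := by
  have h := T.weight_sum μ (fun χ => (T.a μ χ : ℂ))
  have e : ∀ (z : M.ld.Zh) (σ : D.Φ), conj (μ σ : ℂ) * (1 - conj (T.lam z : ℂ)) *
      (∑ x : Bool, ∑ y : Bool, sgb y * ∑ χ, (T.a μ χ : ℂ) * (χ : G → ℂ) (M.el x y z σ)) =
      4 * (3 - (T.lam z : ℂ) - 3 * conj (T.lam z : ℂ) + conj (T.lam z : ℂ) ^ 2) := by
    intro z σ
    have hl := conj_unit_val M.l_prime.ne_zero (T.pow_l z)
    by_cases hz : T.lam z = 1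
    · rw [hz]; simp
    obtain ⟨b, c, hv⟩ := T.value_shape μ hz σ
    simp only [hv]
    rw [sum_bits]
    have hm := mu_norm μ σ
    linear_combination (4 * (1 - conj (T.lam z : ℂ)) * (2 - (T.lam z : ℂ) - conj (T.lam z : ℂ))) * hm + 4 * hl
  obtain ⟨s1, s2, s3⟩ := T.sum_Zh
  have hsum : (∑ χ, (T.a μ χ : ℂ) * (T.a μ χ : ℂ)) * (4 * (Nat.card M.ld.Zh : ℂ) * (Nat.card D.Φ : ℂ)) =
      3 * (4 * (Nat.card M.ld.Zh : ℂ) * (Nat.card D.Φ : ℂ)) := by
    rw [h, Finset.sum_congr rfl fun z _ => Finset.sum_congr rfl fun σ _ => e z σ]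
    simp only [Finset.sum_const, Finset.card_univ, nsmul_eq_mul, ← Nat.card_eq_fintype_card,
      ← Finset.mul_sum, Finset.sum_add_distrib, Finset.sum_sub_distrib, s1, s2, s3]
    ring
  have h0 : (4 * (Nat.card M.ld.Zh : ℂ) * (Nat.card D.Φ : ℂ)) ≠ 0 := by
    simp
  have h' := mul_right_cancel₀ h0 hsum
  exact_mod_cast h'

/-- The values of a column of the section on the support. -/
theorem sec_val {P : D.X → ℂ} (hP : IsGeneralizedCharacter D.X P) (hodd : ∀ x, P x ≠ 0 → Odd (orderOf x))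
    {z : M.ld.Zh} (hz : T.lam z ≠ 1) {σ : D.Φ} {v : ℂ}
    (hv : ∀ z' : M.ld.Zh, M.R ∈ zpowers (M.el false false z' σ) → P (M.wX z' σ) = v) (x y : Bool) :
    ∑ χ, (D.scol hP χ : ℂ) * (χ : G → ℂ) (M.el x y z σ) = if x || y then 2 * v else 0 := by
  have key : ∀ z' : M.ld.Zh, M.R ∈ zpowers (M.el false false z' σ) →
      ∑ χ, (D.scol hP χ : ℂ) * (χ : G → ℂ) (M.el true false z' σ) = 2 * v := by
    intro z' hR
    have e : M.el true false z' σ = D.t * (M.wX z' σ : G) := by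
      rw [M.el_wX]; simp [Data.four]
    rw [e, D.scol_value hP hodd (T.wX_odd z' σ), hv z' hR]
  have step : ∀ (z' z'' : M.ld.Zh), (∀ x y σ, T.γ * M.el x y z' σ * T.γ⁻¹ = M.el (x ^^ y) x z'' σ) →
      M.R ∈ zpowers (M.el false false z' σ) → M.R ∈ zpowers (M.el false false z'' σ) := by
    intro z' z'' he hR
    have h1 : T.γ * M.R * T.γ⁻¹ ∈ zpowers (M.el false false z'' σ) := by
      obtain ⟨i, hi⟩ := mem_zpowers_iff.1 hR
      have e := he false false σ
      simp only [Bool.xor_false] at e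
      rw [← hi, ← conj_zpow, e]
      exact zpow_mem (mem_zpowers _) i
    exact zpowers_le.2 h1 (M.R_mem_of_ne T.rot.pow fun e => M.R_ne (conj_eq_one_iff.1 e))
  have hR0 := T.R_mem hz false false σ
  obtain ⟨z1, e1⟩ := T.rot.exists_conj z
  obtain ⟨z2, e2⟩ := T.rot.exists_conj z1
  have hmove : ∀ (z' z'' : M.ld.Zh), (∀ x y σ, T.γ * M.el x y z' σ * T.γ⁻¹ = M.el (x ^^ y) x z'' σ) →
      ∀ x y, ∑ χ, (D.scol hP χ : ℂ) * (χ : G → ℂ) (M.el x y z' σ) =
        ∑ χ, (D.scol hP χ : ℂ) * (χ : G → ℂ) (M.el (x ^^ y) x z'' σ) := by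
    intro z' z'' he x y
    refine Finset.sum_congr rfl fun χ _ => ?_
    rw [← he, cls]
  cases x <;> cases y
  · rw [M.el_ff]
    have hzero := D.scol_zero_odd hP hodd (y := (M.wX z σ : G))
      (by rw [Subgroup.orderOf_coe]; exact T.wX_odd z σ)
    simpa using hzero
  · rw [hmove z z1 e1]
    simpa using key z1 (step z z1 e1 hR0)
  · simpa using key z hR0
  · rw [hmove z z1 e1]
    simp only [Bool.xor_self]
    rw [hmove z1 z2 e2]
    simpa using key z2 (step z1 z2 e2 (step z z1 e1 hR0))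

theorem sec_sum {P : D.X → ℂ} (hP : IsGeneralizedCharacter D.X P) (hodd : ∀ x, P x ≠ 0 → Odd (orderOf x))
    (μ : D.Φ →* ℂˣ) (V : D.Φ → ℂ)
    (hv : ∀ (σ : D.Φ) (z' : M.ld.Zh), M.R ∈ zpowers (M.el false false z' σ) → P (M.wX z' σ) = V σ) :
    (∑ χ, (T.a μ χ : ℂ) * (D.scol hP χ : ℂ)) * (4 * (Nat.card M.ld.Zh : ℂ) * (Nat.card D.Φ : ℂ)) =
      -2 * (Nat.card M.ld.Zh : ℂ) * ∑ σ : D.Φ, conj (μ σ : ℂ) * V σ := by
  rw [T.weight_sum μ fun χ => (D.scol hP χ : ℂ)]
  have e : ∀ (z : M.ld.Zh) (σ : D.Φ), conj (μ σ : ℂ) * (1 - conj (T.lam z : ℂ)) *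
      (∑ x : Bool, ∑ y : Bool, sgb y * ∑ χ, (D.scol hP χ : ℂ) * (χ : G → ℂ) (M.el x y z σ)) =
      (1 - conj (T.lam z : ℂ)) * (-2 * (conj (μ σ : ℂ) * V σ)) := by
    intro z σ
    by_cases hz : T.lam z = 1
    · rw [hz]; simp
    simp only [T.sec_val hP hodd hz (hv σ)]
    simp [sgb]
    ring
  rw [Finset.sum_congr rfl fun z _ => Finset.sum_congr rfl fun σ _ => e z σ]
  obtain ⟨-, s2, -⟩ := T.sum_Zh
  simp only [← Finset.mul_sum]
  rw [← Finset.sum_mul]
  simp only [Finset.sum_sub_distrib, s2, sub_zero, Finset.sum_const, Finset.card_univ, nsmul_eq_mul,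
    mul_one, ← Nat.card_eq_fintype_card]
  ring

theorem a_bc_eq (XF : XFacts M) (μ ν : D.Φ →* ℂˣ) : ∑ χ, T.a μ χ * XF.bc ν χ = 0 := by
  have h := T.sec_sum (XF.comb_gen ν vb) (fun _ => XF.comb_b_odd) μ (fun _ => 0) fun σ z' hR => by
    rw [XF.comb_b, XF.fix_torus _ (by rw [← M.el_ff]; exact hR), Nat.cast_zero, mul_zero]
  simp only [mul_zero, Finset.sum_const_zero] at h
  have h0 : (4 * (Nat.card M.ld.Zh : ℂ) * (Nat.card D.Φ : ℂ)) ≠ 0 := by simp
  have h' : (∑ χ, (T.a μ χ : ℂ) * (XF.bc ν χ : ℂ)) = 0 := (mul_eq_zero.1 h).resolve_right h0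
  exact_mod_cast h'

theorem a_ec_eq (XF : XFacts M) (μ ν : D.Φ →* ℂˣ) :
    ∑ χ, T.a μ χ * XF.ec ν χ = if μ = ν then -2 else 0 := by
  have h := T.sec_sum (XF.comb_gen ν ve) (fun _ => XF.comb_e_odd) μ (fun σ => 4 * (ν σ : ℂ))
    fun σ z' hR => by
      rw [XF.comb_e, XF.fix_torus _ (by rw [← M.el_ff]; exact hR), if_pos (T.wX_odd z' σ), Data.tw,
        MonoidHom.comp_apply, M.pr_wX]
      push_cast; ring
  have hδ : ∑ σ : D.Φ, conj (μ σ : ℂ) * (4 * (ν σ : ℂ)) = if μ = ν then 4 * (Nat.card D.Φ : ℂ) else 0 := by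
    have e : ∀ σ, conj (μ σ : ℂ) * (4 * (ν σ : ℂ)) = 4 * (((ν / μ) σ : ℂˣ) : ℂ) := fun σ => by
      have hm := mu_norm μ σ
      rw [MonoidHom.div_apply, Units.val_div_eq_div_val, eq_comm, ← mul_div_assoc,
        div_eq_iff (μ σ).ne_zero]
      linear_combination (-(4 * (ν σ : ℂ))) * hm
    rw [Finset.sum_congr rfl fun σ _ => e σ, ← Finset.mul_sum]
    split_ifs with hμ
    · subst hμ
      simp [Nat.card_eq_fintype_card]
    · rw [show ∑ σ : D.Φ, (((ν / μ) σ : ℂˣ) : ℂ) = 0 from sum_hom_units_eq_zero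
        ((Units.coeHom ℂ).comp (ν / μ)) fun hh => hμ (div_eq_one.1 (MonoidHom.ext fun σ => Units.ext
          (congrArg (fun f : D.Φ →* ℂ => f σ) hh))).symm, mul_zero]
  rw [hδ] at h
  have h0 : (4 * (Nat.card M.ld.Zh : ℂ) * (Nat.card D.Φ : ℂ)) ≠ 0 := by simp
  have h' : (∑ χ, (T.a μ χ : ℂ) * (XF.ec ν χ : ℂ)) = ((if μ = ν then -2 else 0 : ℤ) : ℂ) := by
    refine mul_right_cancel₀ h0 (h.trans ?_)
    split_ifs <;> push_cast <;> ring
  exact_mod_cast h'

/-- The induced function vanishes at elements of order two or one. -/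
theorem value_two (μ : D.Φ →* ℂˣ) {g : G} (hg : g * g = 1) :
    ∑ χ, (T.a μ χ : ℂ) * (χ : G → ℂ) g = 0 := by
  refine icoef_value_zero (T.f0_gen μ) fun w => ?_
  by_contra h
  obtain ⟨x, y, z, σ, he, hz⟩ := T.exists_of_ev h
  have h2 := T.l_dvd_order hz x y σ
  rw [← he, Invol.order_conj] at h2
  have h3 := Nat.le_of_dvd (by norm_num) (h2.trans (orderOf_dvd_of_pow_eq_one (n := 2) (by rw [pow_two]; exact hg)))
  have h4 := M.l_prime.two_le
  have h5 := M.l_odd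
  rw [show M.l = 2 by omega] at h5
  exact absurd h5 (by decide)

theorem a_dg_eq (μ : D.Φ →* ℂˣ) : ∑ χ, T.a μ χ * D.dg χ = 0 := by
  have h := T.value_two μ (g := 1) (one_mul 1)
  simp only [← D.dg_cast] at h
  exact_mod_cast h

theorem a_tv_eq (μ : D.Φ →* ℂˣ) : ∑ χ, T.a μ χ * D.tv χ = 0 := by
  have h := T.value_two μ (g := D.t) D.t_sq
  simp only [← D.tv_cast] at h
  exact_mod_cast h

/-- The involutions inverting an element of the support. -/
theorem pair_iff {z : M.ld.Zh} (hz : T.lam z ≠ 1) (x y : Bool) (σ : D.Φ) (a : G) :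
    (IsConj D.t a ∧ IsConj D.t (a⁻¹ * M.el x y z σ)) ↔
      (IsConj D.t a ∧ a * D.t = D.t * a ∧ a * D.jL D.s = D.jL D.s * a ∧
        a * (M.wX z σ : G) * a⁻¹ = (M.wX z σ : G)⁻¹) := by
  have hinv : ∀ {b : G}, IsConj D.t b → b * b = 1 := fun {b} hc => by
    obtain ⟨c, rfl⟩ := isConj_iff.1 hc
    rw [show c * D.t * c⁻¹ * (c * D.t * c⁻¹) = c * (D.t * D.t) * c⁻¹ by group, D.t_sq, mul_one,
      mul_inv_cancel]
  have hfour : Commute (D.four x y) (M.wX z σ : G) := (M.w_four x y z σ).symm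
  have hfi : (D.four x y)⁻¹ = D.four x y := inv_eq_of_mul_eq_one_right (four_sq D x y)
  have hci : (M.el x y z σ)⁻¹ = D.four x y * (M.wX z σ : G)⁻¹ := by
    rw [M.el_wX, mul_inv_rev, hfi]
    exact (hfour.inv_right.eq).symm
  constructor
  · rintro ⟨ha, hb⟩
    have h2 := hinv ha
    have hai : a⁻¹ = a := inv_eq_of_mul_eq_one_right h2
    have e1 : a * M.el x y z σ * a⁻¹ = (M.el x y z σ)⁻¹ := by
      have hb2 := hinv hb
      rw [hai] at hb2
      rw [hai]
      exact eq_inv_of_mul_eq_one_left (by rw [← hb2]; group)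
    have hR : a * M.R * a⁻¹ ∈ zpowers M.R := by
      obtain ⟨i, hi⟩ := mem_zpowers_iff.1 (T.R_mem hz x y σ)
      rw [← hi, ← conj_zpow, e1, inv_zpow]
      exact inv_mem (mem_zpowers _)
    obtain ⟨p, c, he⟩ := T.mv_cover hR
    have hat : a * D.t * a⁻¹ = ![D.t, D.t * D.jL D.s, D.jL D.s] p.1 := by rw [← T.pow_t, he, T.mv_t]
    have hc0 : (c : G) * D.jL D.s = D.jL D.s * c := (M.mem_C0.1 c.2).2.1
    have hi0 : Commute (if p.2 then D.jL D.i else 1) (D.jL D.s) := by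
      split_ifs
      exacts [D.S_comm D.i_mem_S D.s_mem_S, Commute.one_left _]
    have has : a * D.jL D.s * a⁻¹ = T.γ ^ (p.1 : ℕ) * D.jL D.s * (T.γ ^ (p.1 : ℕ))⁻¹ := by
      calc a * D.jL D.s * a⁻¹ = T.γ ^ (p.1 : ℕ) * ((if p.2 then D.jL D.i else 1) * ((c : G) * D.jL D.s) *
            (c : G)⁻¹ * (if p.2 then D.jL D.i else 1)⁻¹) * (T.γ ^ (p.1 : ℕ))⁻¹ := by rw [he]; simp only [mv]; group
        _ = _ := by rw [hc0, mul_assoc _ (D.jL D.s * c), mul_inv_cancel_right, hi0.eq, mul_inv_cancel_right]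
    have htt : a * (a * D.t * a⁻¹) * a⁻¹ = D.t := by
      calc a * (a * D.t * a⁻¹) * a⁻¹ = (a * a) * D.t * (a * a)⁻¹ := by group
        _ = D.t := by rw [h2]; group
    have hts : D.t ≠ D.jL D.s := fun e => D.t_notMem (e ▸ D.jL_mem _)
    have hts3 : D.t ≠ D.t * D.jL D.s := fun e =>
      D.s_ne (D.jL_inj ((mul_eq_left.1 e.symm).trans (map_one D.jL).symm))
    have hp : p.1 = 0 := by
      obtain ⟨k, j⟩ := p
      fin_cases k
      · rfl
      · exfalso
        simp at hat has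
        rw [T.rot.ms] at has
        rw [hat] at htt
        rw [show a * (D.t * D.jL D.s) * a⁻¹ = (a * D.t * a⁻¹) * (a * D.jL D.s * a⁻¹) by group, hat, has,
          mul_assoc, ← D.t_jL D.s, ← mul_assoc, D.t_sq, one_mul] at htt
        exact hts htt.symm
      · exfalso
        simp at hat has
        rw [hat, has, pow_two, show T.γ * T.γ * D.jL D.s * (T.γ * T.γ)⁻¹ =
          T.γ * (T.γ * D.jL D.s * T.γ⁻¹) * T.γ⁻¹ by group, T.rot.ms, T.rot.mt] at htt
        exact hts3 htt.symm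
    rw [hp] at hat has
    simp at hat has
    have ht' : a * D.t = D.t * a := mul_inv_eq_iff_eq_mul.1 hat
    have hs' : a * D.jL D.s = D.jL D.s * a := mul_inv_eq_iff_eq_mul.1 has
    refine ⟨ha, ht', hs', ?_⟩
    have hf : a * D.four x y * a⁻¹ = D.four x y := by
      have c1 : Commute a (if x then D.t else 1) := by
        split_ifs
        exacts [ht', Commute.one_right _]
      have c2 : Commute a (if y then D.jL D.s else 1) := by
        split_ifs
        exacts [hs', Commute.one_right _]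
      rw [show a * D.four x y = D.four x y * a from (c1.mul_right c2).eq, mul_inv_cancel_right]
    refine mul_left_cancel (a := D.four x y) ?_
    calc D.four x y * (a * (M.wX z σ : G) * a⁻¹) = (a * D.four x y * a⁻¹) * (a * (M.wX z σ : G) * a⁻¹) := by rw [hf]
      _ = a * M.el x y z σ * a⁻¹ := by rw [M.el_wX]; group
      _ = _ := by rw [e1, hci]
  · rintro ⟨ha, ht', hs', hw⟩
    refine ⟨ha, ?_⟩
    have h2 := hinv ha
    have hai : a⁻¹ = a := inv_eq_of_mul_eq_one_right h2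
    have hf : a * D.four x y * a⁻¹ = D.four x y := by
      have c1 : Commute a (if x then D.t else 1) := by
        split_ifs
        exacts [ht', Commute.one_right _]
      have c2 : Commute a (if y then D.jL D.s else 1) := by
        split_ifs
        exacts [hs', Commute.one_right _]
      rw [show a * D.four x y = D.four x y * a from (c1.mul_right c2).eq, mul_inv_cancel_right]
    have e1 : a * M.el x y z σ * a⁻¹ = (M.el x y z σ)⁻¹ := by
      rw [hci, M.el_wX, show a * (D.four x y * (M.wX z σ : G)) * a⁻¹ =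
        (a * D.four x y * a⁻¹) * (a * (M.wX z σ : G) * a⁻¹) by group, hf, hw]
    refine D.one_class _ _ D.t_order (Invol.order_two_of_sq ?_ fun h => ?_)
    · calc a⁻¹ * M.el x y z σ * (a⁻¹ * M.el x y z σ) = (a * M.el x y z σ * a⁻¹) * M.el x y z σ := by
            simp only [hai]; group
        _ = 1 := by rw [e1, inv_mul_cancel]
    · have hca : M.el x y z σ = a := (inv_mul_eq_one.1 h).symm
      have h3 := T.l_dvd_order hz x y σ
      rw [hca] at h3
      have h4 := Nat.le_of_dvd (by norm_num) (h3.trans (orderOf_dvd_of_pow_eq_one (n := 2) (by rw [pow_two]; exact h2)))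
      have h5 := M.l_prime.two_le
      have h6 := M.l_odd
      rw [show M.l = 2 by omega] at h6
      exact absurd h6 (by decide)

/-- The class product sum does not see the four-group. -/
theorem pair_const {z : M.ld.Zh} (hz : T.lam z ≠ 1) (x y : Bool) (σ : D.Φ) :
    ∑ χ, (D.tv χ : ℂ) ^ 2 / (D.dg χ : ℂ) * (χ : G → ℂ) (M.el x y z σ) =
      ∑ χ, (D.tv χ : ℂ) ^ 2 / (D.dg χ : ℂ) * (χ : G → ℂ) (M.el false false z σ) := by
  have h1 := ClassCount.pair_count D.t D.t (M.el x y z σ)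
  have h2 := ClassCount.pair_count D.t D.t (M.el false false z σ)
  rw [Nat.card_congr (Equiv.subtypeEquivRight fun a =>
    (T.pair_iff hz x y σ a).trans (T.pair_iff hz false false σ a).symm)] at h1
  have h3 := mul_left_cancel₀ (Nat.cast_ne_zero.2 (Nat.card_pos (α := G)).ne') (h1.symm.trans h2)
  have h4 := congrArg conj h3
  simp only [map_sum, ← D.tv_cast, ← D.dg_cast, map_div₀, map_mul, map_intCast, Complex.conj_conj] at h4
  calc ∑ χ, (D.tv χ : ℂ) ^ 2 / (D.dg χ : ℂ) * (χ : G → ℂ) (M.el x y z σ)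
      = ∑ χ, (D.tv χ : ℂ) * (D.tv χ : ℂ) * (χ : G → ℂ) (M.el x y z σ) / (D.dg χ : ℂ) :=
        Finset.sum_congr rfl fun χ _ => by ring
    _ = _ := h4
    _ = _ := Finset.sum_congr rfl fun χ _ => by ring

theorem a_weight_eq (μ : D.Φ →* ℂˣ) :
    ∑ χ, (T.a μ χ : ℚ) * ((D.tv χ : ℚ) ^ 2 / (D.dg χ : ℚ)) = 0 := by
  have h := T.weight_sum μ (fun χ => (D.tv χ : ℂ) ^ 2 / (D.dg χ : ℂ))
  have e : ∀ (z : M.ld.Zh) (σ : D.Φ), conj (μ σ : ℂ) * (1 - conj (T.lam z : ℂ)) *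
      (∑ x : Bool, ∑ y : Bool, sgb y *
        ∑ χ, (D.tv χ : ℂ) ^ 2 / (D.dg χ : ℂ) * (χ : G → ℂ) (M.el x y z σ)) = 0 := by
    intro z σ
    by_cases hz : T.lam z = 1
    · rw [hz]; simp
    simp only [T.pair_const hz _ _ σ, Fintype.sum_bool, sgb]
    simp
  rw [Finset.sum_congr rfl fun z _ => Finset.sum_congr rfl fun σ _ => e z σ] at h
  simp only [Finset.sum_const_zero] at h
  have h0 : (4 * (Nat.card M.ld.Zh : ℂ) * (Nat.card D.Φ : ℂ)) ≠ 0 := by simp
  have h' : ((∑ χ, (T.a μ χ : ℚ) * ((D.tv χ : ℚ) ^ 2 / (D.dg χ : ℚ)) : ℚ) : ℂ) = 0 := by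
    push_cast
    exact (mul_eq_zero.1 h).resolve_right h0
  exact_mod_cast h'

end Main.TData

/-- The torus coefficients exist. -/
theorem torus (XF : XFacts M) (hfree : FreeStmt M) : TorusStmt XF := by
  obtain ⟨T⟩ := M.exists_tData hfree
  obtain ⟨z0, hz0, hz0'⟩ := T.fixed
  refine ⟨{
    lam := T.lam
    lam_inv := fun σ z z' h => by rw [← T.inv σ z]; exact congrArg T.lam (Subtype.ext h.symm)
    lam_r := fun z hz => T.det z hz
    lam_ne := ⟨z0, hz0, hz0'⟩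
    a := T.a
    a_spec := fun μ χ => ?_
    norm := T.norm_eq
    a_bc := T.a_bc_eq XF
    a_ec := T.a_ec_eq XF
    a_dg := T.a_dg_eq
    a_tv := T.a_tv_eq
    a_weight := T.a_weight_eq }⟩
  rw [← Main.TData.card_C0']
  show (icoef (T.f0_gen μ) χ : ℂ) * _ = _
  rw [icoef_spec]
  refine (Main.TData.sum_C0 (M := M) _).trans ?_
  refine Finset.sum_congr (Finset.ext fun _ => by simp) fun z _ => Finset.sum_congr (Finset.ext fun _ => by simp)
    fun σ _ => Finset.sum_congr rfl fun x _ => Finset.sum_congr rfl fun y _ => ?_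
  rw [← ev_coe (T.f0 μ) ⟨M.el x y z σ, M.el_mem x y z σ⟩]
  show conj (ev (T.f0 μ) (M.el x y z σ)) * (χ : G → ℂ) (M.el x y z σ) = _
  rw [T.ev_el, map_mul, map_mul, map_sub, map_one,
    show M.el x y z σ = D.four x y * D.jL (z : PSL2 D.F) * D.jΦ σ from (mul_assoc _ _ _).symm]
  cases y <;> simp [sgb]

end Cfsg.Agent.NoField
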