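import Cfsg.Agent.Lib.NoField.XFactsLocal
import Cfsg.Agent.Lib.Blocks.KleinPrincipal
import Cfsg.Agent.Lib.Blocks.Reynolds
import Cfsg.Agent.Lib.Char.GlaubermanMod

/-!
The principal 2-block of `X`: degrees `1, q, (q-1)/2, (q-1)/2`.
-/

set_option autoImplicit false
set_option linter.style.haveILetI false
set_option linter.unusedSectionVars false

namespace Cfsg.Agent.NoField

open Subgroup Cfsg.Agent.Walter8 Cfsg.Agent.AutPSL Cfsg.Agent.Char Cfsg.Agent.Blocks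
open scoped ComplexConjugate Classical

universe u

variable {G : Type u} [Group G] [Finite G] {D : Data G}

/-- A character of `X` of degree greater than one sums to zero on every coset of `L`. -/
theorem coset_sum_zero [Fintype G] (χ : Cfsg.IrrCharacter D.X) (hχ : Cfsg.charDegree (χ : D.X → ℂ) ≠ 1)
    (σ : D.Φ) : ∑ x : D.X, (if D.pr x = σ then (χ : D.X → ℂ) x else 0) = 0 := by
  haveI := Fintype.ofFinite D.Φ
  set S : D.Φ → ℂ := fun σ => ∑ x : D.X, (if D.pr x = σ then (χ : D.X → ℂ) x else 0) with hS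
  have hcl : Cfsg.IsClassFunction D.Φ S := fun g h => by
    rw [D.Φ_comm h g, mul_inv_cancel_right]
  have h0 : S = 0 := by
    refine eq_zero_of_orthogonal hcl fun ψ hψ => ?_
    have hsurj : Function.Surjective D.pr := fun τ => ⟨D.jΦX τ, D.pr_jΦ τ⟩
    set ψ' : Cfsg.IrrCharacter D.X := ⟨fun x => ψ (D.pr x), IsIrrCharacter.comp hψ D.pr hsurj⟩
    have hne : (χ : D.X → ℂ) ≠ (ψ' : D.X → ℂ) := fun e => hχ (by
      rw [e]
      have h1 := charDegree_eq_one_of_comm D.Φ_comm ⟨ψ, hψ⟩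
      unfold Cfsg.charDegree at h1 ⊢
      show ⌊(ψ (D.pr 1)).re⌋₊ = 1
      rw [map_one]; exact h1)
    have h := classInner_irr_of_ne χ.2 ψ'.2 hne
    rw [Cfsg.classInner, mul_eq_zero] at h
    replace h := h.resolve_left (inv_ne_zero (Nat.cast_ne_zero.2 Nat.card_pos.ne'))
    rw [Cfsg.classInner, mul_eq_zero]
    right
    rw [← h]
    simp only [hS, Finset.sum_mul, ite_mul, zero_mul]
    rw [Finset.sum_comm]
    exact Finset.sum_congr rfl fun x _ => by rw [Finset.sum_ite_eq]; simp [ψ']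
  exact congrFun h0 σ

/-- The degrees are determined by the degree relation and the order formula. -/
theorem degrees_of_formula {q a b r f nX : ℕ} {ε₂ ε₃ : ℤ} (hq : 2 ≤ q) (ha : a ≠ 0) (hb : b ≠ 0)
    (hf : f ≠ 0) (h2 : ε₂ = 1 ∨ ε₂ = -1) (h3 : ε₃ = 1 ∨ ε₃ = -1) (hr : 4 * r = q + 1)
    (hn : 2 * nX = f * (q * (q ^ 2 - 1)))
    (hd : 1 + -1 * (q : ℤ) + ε₂ * a + ε₃ * b = 0)
    (ho : (nX : ℚ) * (1 + ((-1 : ℤ) : ℚ) / q + (ε₂ : ℚ) / a + (ε₃ : ℚ) / b) = 8 * (r : ℚ) ^ 3 * (4 * f : ℕ)) :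
    ε₂ = 1 ∧ ε₃ = 1 ∧ 2 * a = q - 1 ∧ 2 * b = q - 1 := by
  have hq' : (2 : ℚ) ≤ q := by exact_mod_cast hq
  have hr' : (r : ℚ) = ((q : ℚ) + 1) / 4 := by
    have : (4 : ℚ) * r = q + 1 := by exact_mod_cast hr
    linarith
  have hn' : (nX : ℚ) = f * (q * ((q : ℚ) ^ 2 - 1)) / 2 := by
    have h : ((2 * nX : ℕ) : ℚ) = ((f * (q * (q ^ 2 - 1)) : ℕ) : ℚ) := by rw [hn]
    push_cast [Nat.cast_sub (Nat.one_le_pow 2 q (by omega))] at h
    linarith
  have hd' : (ε₂ : ℚ) * a + ε₃ * b = q - 1 := by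
    have h : ((1 + -1 * (q : ℤ) + ε₂ * a + ε₃ * b : ℤ) : ℚ) = 0 := by rw [hd]; norm_num
    push_cast at h
    linarith
  have hf' : (f : ℚ) ≠ 0 := by exact_mod_cast hf
  have ha' : (a : ℚ) ≠ 0 := by exact_mod_cast ha
  have hb' : (b : ℚ) ≠ 0 := by exact_mod_cast hb
  have hq0 : (q : ℚ) ≠ 0 := by linarith
  have hq1 : (q : ℚ) + 1 ≠ 0 := by linarith
  have e2 : (ε₂ : ℚ) * ε₂ = 1 := by rcases h2 with e | e <;> rw [e] <;> norm_num
  have e3 : (ε₃ : ℚ) * ε₃ = 1 := by rcases h3 with e | e <;> rw [e] <;> norm_num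
  rw [hn', hr'] at ho
  push_cast at ho
  have key : (q : ℚ) * ((q : ℚ) - 1) * ((ε₂ : ℚ) * b + ε₃ * a) = 4 * q * (a * b) := by
    field_simp at ho
    have h : ((q : ℚ) + 1) * ((q : ℚ) * ((q : ℚ) - 1) * ((ε₂ : ℚ) * b + ε₃ * a) - 4 * q * (a * b)) = 0 := by
      linear_combination ho / 16
    have h' := (mul_eq_zero.1 h).resolve_left hq1
    linarith
  have key2 : ((q : ℚ) - 1) * ((ε₂ : ℚ) * b + ε₃ * a) = 4 * (a * b) :=
    mul_left_cancel₀ hq0 (by linear_combination key)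
  have hsq : ((ε₂ : ℚ) * a - ε₃ * b) ^ 2 = 0 := by
    linear_combination ((ε₂ : ℚ) * ε₃) * key2 + ((ε₂ : ℚ) * a + ε₃ * b) * hd' -
      ((q : ℚ) - 1) * (ε₃ * b * e2 + ε₂ * a * e3)
  have hab : (ε₂ : ℚ) * a = ε₃ * b := sub_eq_zero.1 (pow_eq_zero_iff two_ne_zero |>.1 hsq)
  have hz : ((2 * (ε₂ * a) : ℤ) : ℚ) = ((q : ℤ) - 1 : ℤ) := by push_cast; linarith
  have hz' : 2 * (ε₂ * (a : ℤ)) = (q : ℤ) - 1 := by exact_mod_cast hz
  have hab' : ε₂ * (a : ℤ) = ε₃ * b := by exact_mod_cast hab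
  have i2 : ε₂ = 1 := by
    rcases h2 with e | e
    · exact e
    · rw [e] at hz'; omega
  have i3 : ε₃ = 1 := by
    rcases h3 with e | e
    · exact e
    · rw [e, i2] at hab'; omega
  rw [i2, i3] at hab'
  rw [i2] at hz'
  exact ⟨i2, i3, by omega, by omega⟩

namespace Main

variable (M : Main D)
include M

/-- The facts on `X`. -/
theorem xfacts [Fintype G] : Nonempty (XFacts M) := by
  haveI : Fact (Nat.Prime 2) := ⟨Nat.prime_two⟩
  obtain ⟨I, hI⟩ := GlaubermanMod.exists_isPModular 2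
  haveI : I.IsPrime := hI.2.1.isPrime
  have hS := M.setup
  obtain ⟨χ, hχ, hχ1⟩ := M.exists_steinberg
  have hq := D.q_large
  have hχd : Cfsg.charDegree (χ : D.X → ℂ) = Fintype.card D.F := by
    unfold Cfsg.charDegree; rw [hχ1]; simp
  have hJ := M.s_order
  have hev : ∀ x : D.X, ¬ Odd (orderOf x) → (χ : D.X → ℂ) x = -1 := fun x hx => by
    rw [hχ, M.fix_even x hx]; simp
  have hχne : (χ : D.X → ℂ) ≠ fun _ => 1 := fun e => by
    have h := hev _ (fun h => by rw [hJ] at h; exact Nat.not_odd_iff_even.2 even_two h)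
    rw [e] at h
    norm_num at h
  -- the Steinberg character is in the principal block
  have hmem : χ ∈ Cfsg.principalBlock I D.X := by
    by_contra hno
    have hns : ¬ Cfsg.SameBlock I (χ : D.X → ℂ) ((principal D.X : Cfsg.IrrCharacter D.X) : D.X → ℂ) := fun h =>
      hno (sameBlock_symm h)
    have h1 := sum_regular_eq_zero hI hns
    have h2 := classInner_irr_of_ne χ.2 (principal D.X).2 hχne
    rw [Cfsg.classInner, mul_eq_zero] at h2
    replace h2 := h2.resolve_left (inv_ne_zero (Nat.cast_ne_zero.2 Nat.card_pos.ne'))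
    simp only [principal, map_one, mul_one] at h1 h2
    rw [← Finset.sum_filter_add_sum_filter_not Finset.univ (fun x : D.X => ¬ 2 ∣ orderOf x), h1, zero_add,
      Finset.sum_congr rfl (g := fun _ => (-1 : ℂ)) (fun x hx => hev x (fun ho => by
        simp only [Finset.mem_filter, Finset.mem_univ, true_and, not_not] at hx
        exact Nat.not_even_iff_odd.2 ho (even_iff_two_dvd.2 hx))),
      Finset.sum_const, nsmul_eq_mul, mul_neg, mul_one, neg_eq_zero, Nat.cast_eq_zero, Finset.card_eq_zero] at h2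
    exact (Finset.eq_empty_iff_forall_notMem.1 h2) (D.jLX D.s) (by simp [hJ])
  -- the four characters
  obtain ⟨χ₁, χ₂, χ₃, ⟨n1, n2, n3, n12, n13, n23⟩, hB, ε₁, ε₂, ε₃, ⟨he1, he2, he3⟩, hv⟩ :=
    KleinBlock.exists_three hI hS
  obtain ⟨hv1, hv2, hv3⟩ := hv _ hJ
  have hsJ : (χ : D.X → ℂ) (D.jLX D.s) = ((-1 : ℤ) : ℂ) := by
    rw [hev _ (fun h => by rw [hJ] at h; exact Nat.not_odd_iff_even.2 even_two h)]; norm_num
  obtain ⟨α, β, εa, εb, hB', hdist, hval, hea, heb⟩ : ∃ (α β : Cfsg.IrrCharacter D.X) (εa εb : ℤ),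
      Cfsg.principalBlock I D.X = {φ : Cfsg.IrrCharacter D.X |
        (φ : D.X → ℂ) = (fun _ => 1) ∨ φ = χ ∨ φ = α ∨ φ = β} ∧
      ((χ : D.X → ℂ) ≠ (fun _ => 1) ∧ (α : D.X → ℂ) ≠ (fun _ => 1) ∧ (β : D.X → ℂ) ≠ (fun _ => 1) ∧
        χ ≠ α ∧ χ ≠ β ∧ α ≠ β) ∧
      ((χ : D.X → ℂ) (D.jLX D.s) = ((-1 : ℤ) : ℂ) ∧ (α : D.X → ℂ) (D.jLX D.s) = εa ∧
        (β : D.X → ℂ) (D.jLX D.s) = εb) ∧ (εa = 1 ∨ εa = -1) ∧ (εb = 1 ∨ εb = -1) := by
    have hm : χ = χ₁ ∨ χ = χ₂ ∨ χ = χ₃ := by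
      have h := hmem
      rw [hB] at h
      exact h.resolve_left hχne
    rcases hm with rfl | rfl | rfl
    · exact ⟨χ₂, χ₃, ε₂, ε₃, hB, ⟨n1, n2, n3, n12, n13, n23⟩, ⟨hsJ, hv2, hv3⟩, he2, he3⟩
    · exact ⟨χ₁, χ₃, ε₁, ε₃, hB.trans (Set.ext fun φ => by simp only [Set.mem_setOf_eq]; tauto),
        ⟨n2, n1, n3, n12.symm, n23, n13⟩, ⟨hsJ, hv1, hv3⟩, he1, he3⟩
    · exact ⟨χ₁, χ₂, ε₁, ε₂, hB.trans (Set.ext fun φ => by simp only [Set.mem_setOf_eq]; tauto),
        ⟨n3, n1, n2, n13.symm, n23.symm, n12⟩, ⟨hsJ, hv1, hv2⟩, he1, he2⟩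
  have hfour := KleinBlock.four_indicator hI hS χ α β (-1) εa εb hJ hB' hdist hval
  have hd := KleinBlock.degree_relation hI hS χ α β (-1) εa εb hJ hB' hdist hval
  obtain ⟨P, hP⟩ := M.exists_sylow
  obtain ⟨r, hr, hcP, hcs⟩ := M.cen_counts P hP
  have ho := KleinBlock.order_formula hI hS χ α β (-1) εa εb hJ hB' hdist hval ⟨Or.inr rfl, hea, heb⟩ P hcs
  rw [hcP, hχd] at ho
  rw [hχd] at hd
  obtain ⟨rfl, rfl, hα, hβ⟩ := degrees_of_formula (q := Fintype.card D.F) (by omega) (charDegree_pos α).ne'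
    (charDegree_pos β).ne' (Nat.card_pos (α := D.Φ)).ne' hea heb hr
    (by rw [D.card_X, ← M.card_L]; ring) hd ho
  have hhalf : ∀ φ : Cfsg.IrrCharacter D.X, 2 * Cfsg.charDegree (φ : D.X → ℂ) = Fintype.card D.F - 1 →
      (φ : D.X → ℂ) 1 = ((Fintype.card D.F : ℂ) - 1) / 2 := fun φ h => by
    rw [irr_one_eq_charDegree, eq_div_iff two_ne_zero]
    have h' : ((2 * Cfsg.charDegree (φ : D.X → ℂ) : ℕ) : ℂ) = ((Fintype.card D.F - 1 : ℕ) : ℂ) := by rw [h]
    rw [Nat.cast_sub (by omega)] at h'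
    push_cast at h'
    linear_combination h'
  obtain ⟨d1, d2, d3, d12, d13, d23⟩ := hdist
  have p1 : principal D.X ≠ χ := fun e => d1 (e ▸ rfl)
  have p2 : principal D.X ≠ α := fun e => d2 (e ▸ rfl)
  have p3 : principal D.X ≠ β := fun e => d3 (e ▸ rfl)
  refine ⟨{
    ξ := ![principal D.X, χ, α, β]
    sgn := ![1, -1, 1, 1]
    sgn_unit := fun j => by fin_cases j <;> simp
    ξ_zero := rfl
    sgn_zero := rfl
    ξ_inj := ?_
    I := I
    modular := hI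
    block := ?_
    deg := fun j => ?_
    singular := fun x => ?_
    steinberg := fun x => ?_
    coset := fun j hj σ => ?_
    fix_even := fun x hx => M.fix_even x hx
    fix_sum := fun σ => (M.sum_fix σ).2
    fix_torus := M.fix_torus
    fix_field := M.fix_field }⟩
  · intro i j h
    fin_cases i <;> fin_cases j <;> first | rfl | simp_all
  · rw [hB']
    ext φ
    simp only [Set.mem_setOf_eq, Set.mem_range]
    constructor
    · rintro (e | rfl | rfl | rfl)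
      exacts [⟨0, (Subtype.ext e).symm⟩, ⟨1, rfl⟩, ⟨2, rfl⟩, ⟨3, rfl⟩]
    · rintro ⟨j, rfl⟩
      fin_cases j <;> simp [principal]
  · fin_cases j
    · simp [principal]
    · simp [hχ1]
    · simp [hhalf α hα]
    · simp [hhalf β hβ]
  · have h := hfour x
    have e : (if Odd (orderOf x) then (0 : ℂ) else 4) = if 2 ∣ orderOf x then 4 else 0 := by
      by_cases ho : Odd (orderOf x)
      · rw [if_pos ho, if_neg (fun hd => Nat.not_even_iff_odd.2 ho (even_iff_two_dvd.2 hd))]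
      · rw [if_neg ho, if_pos (even_iff_two_dvd.1 (Nat.not_odd_iff_even.1 ho))]
    rw [e, ← h]
    simp [Fin.sum_univ_four, principal]
  · simp [hχ]
  · refine Eq.trans (Finset.sum_congr (Finset.ext fun x => ?_) fun x _ => rfl) (coset_sum_zero _ ?_ σ)
    · simp only [Finset.mem_univ]
    fin_cases j
    · exact absurd rfl hj
    · show Cfsg.charDegree (χ : D.X → ℂ) ≠ 1
      omega
    · show Cfsg.charDegree (α : D.X → ℂ) ≠ 1
      omega
    · show Cfsg.charDegree (β : D.X → ℂ) ≠ 1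
      omega

end Main

theorem xfacts (M : Main D) [Fintype G] : Nonempty (XFacts M) := M.xfacts

end Cfsg.Agent.NoField
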