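import Cfsg.Agent.Lib.NoField.Choose
import Cfsg.Agent.Lib.NoField.Build
import Cfsg.Agent.Lib.NoField.CPhiFree
import Cfsg.Agent.Lib.NoField.XFacts
import Cfsg.Agent.Lib.NoField.LocalBlocks
import Cfsg.Agent.Lib.NoField.Torus
import Cfsg.Agent.Lib.NoField.Arith
import Cfsg.Agent.Lib.NoField.Pairs
import Cfsg.Agent.Lib.Walter8.Main

/-!
Assembly of the elimination of the field automorphisms.
-/

set_option autoImplicit false
set_option linter.style.haveILetI false
set_option linter.unusedSectionVars false

namespace Cfsg.Agent.NoField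

open Subgroup
open Cfsg.Agent.ClosedAbelian (core)

universe u

/-- The main case does not occur, given the character of defect zero of `C(f)`. -/
theorem mainStmt_of {G : Type u} [Group G] [Finite G] (D : Data G)
    (hEta : ∀ (M : Main D) [Fintype G], EtaStmt M) : MainStmt D := by
  intro M
  letI := Fintype.ofFinite G
  obtain ⟨XF⟩ := xfacts M
  obtain ⟨T⟩ := torus XF (free M)
  obtain ⟨E⟩ := hEta M
  obtain ⟨P⟩ := pairs T (local_rows XF) E
  exact arith T (local_rows XF) P

/-- The field automorphisms are eliminated, given the open pieces. -/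
theorem noFieldStmt_of
    (hP3 : ∀ (G : Type u) [Group G] [Finite G] (D : Data G), P3Stmt D)
    (hSmall : ∀ (G : Type u) [Group G] [Finite G] (D : Data G), SmallStmt D)
    (hEta : ∀ (G : Type u) [Group G] [Fintype G] (D : Data G) (M : Main D), EtaStmt M) :
    Walter8.NoFieldStmt.{u} := by
  suffices h : ∀ (n : ℕ) (G : Type u) [Group G] [Finite G] [IsSimpleGroup G],
      Nat.card G = n → NoFieldAt G by
    intro G _ _ _
    exact h _ G rfl
  intro n
  induction n using Nat.strong_induction_on with
  | _ n ih =>
    intro G _ _ _ hn S hnc hE hL hcore a ha ha1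
    rcases exists_data hnc hE hL hcore (fun H _ _ _ hH => ih _ (hn ▸ hH) H rfl) ha ha1 with h | h
    · exact h
    · obtain ⟨D⟩ := h
      obtain ⟨M⟩ := exists_main D (hP3 G D) (hSmall G D)
      exact (mainStmt_of D (fun M' => hEta G D M') M).elim

end Cfsg.Agent.NoField
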