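import Cfsg.Agent.Lib.NoField.P3Factor
import Cfsg.Agent.Lib.PStable.FusionControl
import Cfsg.Agent.Lib.NoField.Choose
import Cfsg.Agent.S1241

/-!
No field automorphism of order three in characteristic three: `P3Stmt`.
-/

set_option autoImplicit false
set_option linter.style.haveILetI false
set_option linter.unusedSectionVars false

namespace Cfsg.Agent.NoField

open Subgroup Cfsg.Agent.AutPSL
open scoped commutatorElement
open Cfsg.Agent.Walter8 (cen)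

universe u

namespace P3

variable {G : Type u} [Group G] [Finite G] {D : Data G} (P : Prim D)

namespace Prim

include P

/-- The field part of an element of the odd part of `N(Z(J(S)))`. -/
theorem exists_hom {L : Local D} : ∃ χ : L.O →* D.Φ,
    (∀ (x : G) (hx : x ∈ BP D) (hxO : x ∈ L.O), χ ⟨x, hxO⟩ = D.pr ⟨x, hx.1⟩) ∧
    ∀ (g : L.O) (h : D.t * g * D.t⁻¹ ∈ L.O), χ ⟨_, h⟩ = χ g := by
  set K := comT D L.O with hK
  have hOt : ∀ h ∈ L.O, D.t * h * D.t⁻¹ ∈ L.O := fun h hh =>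
    (mem_normalizer_iff.1 (L.odd.normal L.good.t_mem) h).1 hh
  have hKO : K ≤ L.O := comT_le hOt
  have hKn : ∀ a ∈ L.O, ∀ k ∈ K, a * k * a⁻¹ ∈ K := by
    intro a ha k hk
    refine (closure_le (K := K.comap (MulAut.conj a).toMonoidHom)).2 ?_ hk
    rintro _ ⟨h, hh, rfl⟩
    show a * (h⁻¹ * (D.t * h * D.t⁻¹)) * a⁻¹ ∈ K
    rw [show a * (h⁻¹ * (D.t * h * D.t⁻¹)) * a⁻¹ = ((h * a⁻¹)⁻¹ * (D.t * (h * a⁻¹) * D.t⁻¹)) *
      ((a⁻¹)⁻¹ * (D.t * a⁻¹ * D.t⁻¹))⁻¹ by group]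
    exact mul_mem (subset_closure ⟨_, mul_mem hh (inv_mem ha), rfl⟩)
      (inv_mem (subset_closure ⟨_, inv_mem ha, rfl⟩))
  have hKt : ∀ k ∈ K, D.t * k * D.t⁻¹ ∈ K := by
    intro k hk
    refine (closure_le (K := K.comap (MulAut.conj D.t).toMonoidHom)).2 ?_ hk
    rintro _ ⟨h, hh, rfl⟩
    show D.t * (h⁻¹ * (D.t * h * D.t⁻¹)) * D.t⁻¹ ∈ K
    rw [t_conj_gen]
    exact inv_mem (subset_closure ⟨h, hh, rfl⟩)
  -- the decomposition
  have hdec : ∀ g : L.O, ∃ (c : G) (hc : c ∈ BP D), ∃ k ∈ K, (g : G) = c * k := by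
    intro g
    set m := (g : G)⁻¹ * (D.t * g * D.t⁻¹) with hm
    have hmK : m ∈ K := subset_closure ⟨g, g.2, rfl⟩
    obtain ⟨j, hj⟩ := exists_sqrt (L.odd.odd.of_dvd_nat (Subgroup.orderOf_dvd_natCard _ (hKO hmK)))
    have hct : (g : G) * m ^ j * D.t = D.t * ((g : G) * m ^ j) := by
      refine (mul_inv_eq_iff_eq_mul.1 ?_).symm
      have he : D.t * m ^ j * D.t⁻¹ = (m ^ j)⁻¹ := by rw [← conj_pow, hm, t_conj_gen, inv_pow]
      calc D.t * ((g : G) * m ^ j) * D.t⁻¹ = (g : G) * m * (D.t * m ^ j * D.t⁻¹) := by rw [hm]; group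
        _ = (g : G) * (m ^ j * m ^ j) * (m ^ j)⁻¹ := by rw [he, hj]
        _ = _ := by group
    exact ⟨_, P.mem_BP_of_comm L.good L.odd (mul_mem g.2 (pow_mem (hKO hmK) j)) hct, (m ^ j)⁻¹,
      inv_mem (pow_mem hmK j), (mul_inv_cancel_right _ _).symm⟩
  choose c hc k hk hck using hdec
  have huniq : ∀ (g : L.O) (c' : G) (hc' : c' ∈ BP D), ∀ k' ∈ K, (g : G) = c' * k' →
      D.pr ⟨c', hc'.1⟩ = D.pr ⟨c g, (hc g).1⟩ := by
    intro g c' hc' k' hk' he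
    have hd : (c g)⁻¹ * c' ∈ K := by
      have e : (c g)⁻¹ * c' = k g * k'⁻¹ := by
        have h0 : c g * k g = c' * k' := (hck g).symm.trans he
        calc (c g)⁻¹ * c' = (c g)⁻¹ * (c' * k') * k'⁻¹ := by group
          _ = (c g)⁻¹ * (c g * k g) * k'⁻¹ := by rw [h0]
          _ = _ := by group
      rw [e]
      exact mul_mem (hk g) (inv_mem hk')
    have h1 := P.pr_eq_one (L := L) (mul_mem (inv_mem (hc g)) hc') hd
    have h2 : D.pr ((⟨c g, (hc g).1⟩ : D.X)⁻¹ * ⟨c', hc'.1⟩) = 1 := h1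
    rw [map_mul, map_inv, inv_mul_eq_one] at h2
    exact h2.symm
  refine ⟨MonoidHom.mk' (fun g => D.pr ⟨c g, (hc g).1⟩) fun g g' => ?_, fun x hx hxO => ?_, fun g h => ?_⟩
  · have hkk : (c g')⁻¹ * k g * c g' ∈ K := by
      have := hKn _ (inv_mem (P.BP_le_O L.good L.odd (hc g'))) _ (hk g)
      rwa [inv_inv] at this
    have he : ((g * g' : L.O) : G) = c g * c g' * ((c g')⁻¹ * k g * c g' * k g') := by
      rw [Subgroup.coe_mul, hck g, hck g']; group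
    show D.pr _ = D.pr _ * D.pr _
    rw [← map_mul, ← huniq (g * g') _ (mul_mem (hc g) (hc g')) _ (mul_mem hkk (hk g')) he]
    rfl
  · exact (huniq ⟨x, hxO⟩ x hx 1 (one_mem K) (mul_one x).symm).symm
  · refine (huniq ⟨_, h⟩ (c g) (hc g) _ (hKt _ (hk g)) ?_).symm
    show D.t * (g : G) * D.t⁻¹ = c g * (D.t * k g * D.t⁻¹)
    rw [hck g]
    calc D.t * (c g * k g) * D.t⁻¹ = (D.t * c g) * k g * D.t⁻¹ := by group
      _ = (c g * D.t) * k g * D.t⁻¹ := by rw [D.X_comm (hc g).1]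
      _ = _ := by group

/-- The contradiction by transfer. -/
theorem contradiction (h3 : 3 ∣ Nat.card D.Φ) : False := by
  haveI : Fact (Nat.Prime 3) := ⟨Nat.prime_three⟩
  obtain ⟨L⟩ := P.exists_local
  obtain ⟨χ, hχ, hχt⟩ := P.exists_hom (L := L)
  obtain ⟨σ, hσ⟩ := exists_prime_orderOf_dvd_card' (G := D.Φ) 3 h3
  set A := ZJ.zJ 3 False (L.S : Subgroup G) with hA
  set M := normalizer (A : Set G) with hM
  have hSM : (L.S : Subgroup G) ≤ M := ZJ.le_normalizer_zJ _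
  have hSO : (L.S : Subgroup G) ≤ L.O := fun s hs => by
    obtain ⟨k, hk⟩ := L.S.2 ⟨s, hs⟩
    exact L.odd.mem s (hSM hs) (((by decide : Odd 3).pow).of_dvd_nat
      (orderOf_dvd_of_pow_eq_one (show s ^ 3 ^ k = 1 by simpa using congrArg Subtype.val hk)))
  have hinv : ∀ n ∈ M, ∀ (a : G) (ha : a ∈ L.O) (hb : n * a * n⁻¹ ∈ L.O), χ ⟨_, hb⟩ = χ ⟨a, ha⟩ := by
    intro n hn a ha hb
    have hconjO : ∀ (o : G) (ho : o ∈ L.O) (a : G) (ha : a ∈ L.O),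
        χ ⟨o * a * o⁻¹, mul_mem (mul_mem ho ha) (inv_mem ho)⟩ = χ ⟨a, ha⟩ := fun o ho a ha => by
      rw [show (⟨o * a * o⁻¹, mul_mem (mul_mem ho ha) (inv_mem ho)⟩ : L.O) =
        ⟨o, ho⟩ * ⟨a, ha⟩ * (⟨o, ho⟩ : L.O)⁻¹ from rfl, map_mul, map_mul, map_inv,
        D.Φ_comm (χ ⟨o, ho⟩), mul_inv_cancel_right]
    rcases L.odd.dec n hn with h | h
    · exact hconjO n h a ha
    · have h1 : D.t * n * a * (D.t * n)⁻¹ ∈ L.O := mul_mem (mul_mem h ha) (inv_mem h)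
      have h2 : D.t * (n * a * n⁻¹) * D.t⁻¹ ∈ L.O :=
        (mem_normalizer_iff.1 (L.odd.normal L.good.t_mem) _).1 hb
      rw [← hconjO _ h a ha, ← hχt ⟨_, hb⟩ h2]
      congr 2
      group
  -- an element of `S` with non-trivial field part
  set f₀ := D.jΦ σ with hf₀
  have hf₀O : f₀ ∈ L.O := P.BP_le_O L.good L.odd (P.mem_BP_jΦ σ)
  let SM : Sylow 3 M := L.S.subtype hSM
  have hf₀3 : (⟨f₀, L.odd.le hf₀O⟩ : M) ^ 3 = 1 := Subtype.ext (by
    show f₀ ^ 3 = 1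
    rw [hf₀, ← map_pow, ← hσ, pow_orderOf_eq_one, map_one])
  have hp : IsPGroup 3 (zpowers (⟨f₀, L.odd.le hf₀O⟩ : M)) := by
    refine IsPGroup.of_card (n := 1) ?_
    rw [Nat.card_zpowers, pow_one]
    refine orderOf_eq_prime hf₀3 fun h => ?_
    have h1 : D.jΦ σ = 1 := congrArg Subtype.val h
    rw [map_eq_one_iff _ D.jΦ_inj] at h1
    rw [h1, orderOf_one] at hσ
    omega
  obtain ⟨Q, hQ⟩ := hp.exists_le_sylow
  obtain ⟨g, hg⟩ := MulAction.exists_smul_eq M Q SM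
  set f := (g : G) * f₀ * (g : G)⁻¹ with hfdef
  have hfS : f ∈ (L.S : Subgroup G) := by
    have : g * ⟨f₀, L.odd.le hf₀O⟩ * g⁻¹ ∈ (SM : Subgroup M) := by
      rw [← hg, Sylow.coe_subgroup_smul]
      exact ⟨_, hQ (mem_zpowers _), rfl⟩
    exact this
  have hfχ : χ ⟨f, hSO hfS⟩ = σ := by
    rw [hinv g g.2 f₀ hf₀O (hSO hfS), hχ f₀ (P.mem_BP_jΦ σ) hf₀O]
    exact D.pr_spec _ 1 σ (by rw [map_one, one_mul])
  let K : Subgroup G :=
    { carrier := {y | ∃ h : y ∈ (L.S : Subgroup G), χ ⟨y, hSO h⟩ = 1}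
      one_mem' := ⟨one_mem _, map_one χ⟩
      mul_mem' := fun {a b} ⟨ha, ha'⟩ ⟨hb, hb'⟩ => ⟨mul_mem ha hb, by
        rw [show (⟨a * b, hSO (mul_mem ha hb)⟩ : L.O) = ⟨a, hSO ha⟩ * ⟨b, hSO hb⟩ from rfl, map_mul,
          ha', hb', one_mul]⟩
      inv_mem' := fun {a} ⟨ha, ha'⟩ => ⟨inv_mem ha, by
        rw [show (⟨a⁻¹, hSO (inv_mem ha)⟩ : L.O) = (⟨a, hSO ha⟩ : L.O)⁻¹ from rfl, map_inv, ha', inv_one]⟩ }
  have hKn : (K.subgroupOf (L.S : Subgroup G)).Normal := ⟨fun k hk s => by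
    obtain ⟨h, hk'⟩ := mem_subgroupOf.1 hk
    refine mem_subgroupOf.2 ⟨(s * k * s⁻¹).2, ?_⟩
    rw [show (⟨((s * k * s⁻¹ : (L.S : Subgroup G)) : G), hSO (s * k * s⁻¹).2⟩ : L.O) =
      ⟨(s : G), hSO s.2⟩ * ⟨(k : G), hSO h⟩ * (⟨(s : G), hSO s.2⟩ : L.O)⁻¹ from rfl, map_mul, map_mul,
      map_inv, hk', mul_one, mul_inv_cancel]⟩
  haveI := D.simple
  have hfG : f ∉ commutator G := by
    refine S1241.result (p := 3) (L.S : Subgroup G) K (fun y hy => hy.1) hKn ?_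
      ((Nat.prime_three.coprime_iff_not_dvd).2 L.S.not_dvd_index) f hfS ?_ ?_ ?_
    · intro a ha b hb
      refine ⟨mul_mem (mul_mem (mul_mem ha hb) (inv_mem ha)) (inv_mem hb), ?_⟩
      rw [show (⟨a * b * a⁻¹ * b⁻¹, hSO (mul_mem (mul_mem (mul_mem ha hb) (inv_mem ha)) (inv_mem hb))⟩ : L.O) =
        ⟨a, hSO ha⟩ * ⟨b, hSO hb⟩ * (⟨a, hSO ha⟩ : L.O)⁻¹ * (⟨b, hSO hb⟩ : L.O)⁻¹ from rfl,
        map_mul, map_mul, map_mul, map_inv, map_inv, D.Φ_comm (χ ⟨a, _⟩), mul_inv_cancel_right,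
        mul_inv_cancel]
    · rintro ⟨h, he⟩
      rw [hfχ] at he
      rw [he, orderOf_one] at hσ
      omega
    · obtain ⟨k, hk⟩ := L.S.2 ⟨f, hfS⟩
      exact (Nat.dvd_prime_pow Nat.prime_three).1
        (orderOf_dvd_of_pow_eq_one (show f ^ 3 ^ k = 1 by simpa using congrArg Subtype.val hk)) |>.imp
          fun _ h => h.2
    · intro m a hm
      have hfm : f ^ m ∈ (L.S : Subgroup G) := zpow_mem hfS m
      obtain ⟨n, hn, hna⟩ := PStable.exists_mem_normalizer_zJ (e := False) (by norm_num : (3 : ℕ) ≠ 2)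
        (G := G)
        (fun Y _ _ hY _ => PStable.isQuad_of_not_involves_sl2 (by norm_num)
          (PStable.not_involves_section (Walter8.not_involves_sl2 (by norm_num) D.no_four) hY))
        L.S (A := {f ^ m}) (g := a) (Set.singleton_subset_iff.2 hfm)
        (by rintro _ ⟨y, rfl, rfl⟩; exact hm)
      have he := hna _ rfl
      refine ⟨mul_mem hm (inv_mem hfm), ?_⟩
      have h5 := hinv n hn _ (hSO hfm) (hSO (show n * f ^ m * n⁻¹ ∈ (L.S : Subgroup G) by rw [he]; exact hm))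
      rw [show (⟨a * f ^ m * a⁻¹ * (f ^ m)⁻¹, hSO (mul_mem hm (inv_mem hfm))⟩ : L.O) =
        ⟨n * f ^ m * n⁻¹, hSO (he.symm ▸ hm)⟩ * (⟨f ^ m, hSO hfm⟩ : L.O)⁻¹ from
          Subtype.ext (by show _ = n * f ^ m * n⁻¹ * (f ^ m)⁻¹; rw [he]), map_mul, map_inv, h5,
        mul_inv_cancel]
  rcases (commutator_normal (⊤ : Subgroup G) ⊤).eq_bot_or_eq_top with h | h
  · exact D.nc ⟨⟨fun a b => commutatorElement_eq_one_iff_mul_comm.1
      (mem_bot.1 (h ▸ commutator_mem_commutator (mem_top a) (mem_top b)))⟩⟩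
  · exact hfG (show f ∈ ⁅(⊤ : Subgroup G), ⊤⁆ by rw [h]; exact mem_top f)

end Prim

end P3

/-- No field automorphism of order three in characteristic three. -/
theorem p3 {G : Type u} [Group G] [Finite G] (D : Data G) : P3Stmt D := fun h3 hc => by
  obtain ⟨P⟩ := P3.exists_prim D hc
  exact P.contradiction h3

end Cfsg.Agent.NoField
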