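import Cfsg.Agent.Lib.NoField.Main
import Cfsg.Agent.Lib.NoField.P3
import Cfsg.Agent.Lib.NoField.Eta

/-!
The elimination of the field automorphisms, given the small fixed fields.
-/

set_option autoImplicit false

namespace Cfsg.Agent.NoField

universe u

/-- The field automorphisms are eliminated, given `SmallStmt`. -/
theorem noFieldStmt_of_small
    (hSmall : ∀ (G : Type u) [Group G] [Finite G] (D : Data G), SmallStmt D) :
    Walter8.NoFieldStmt.{u} :=
  noFieldStmt_of (fun _ _ _ D => p3 D) hSmall fun _ _ _ _ M => eta M

end Cfsg.Agent.NoField
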