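import Cfsg.Agent.Lib.AutPSL.Automorphisms
import Cfsg.Agent.Lib.JanThom.PSL2Tori
import Cfsg.Agent.Lib.Classical.SL

/-!
The triangular subgroup of `PSL₂(F)`: multipliers, generation.
-/

set_option autoImplicit false
set_option linter.unusedSectionVars false
set_option linter.style.haveILetI false

namespace Cfsg.Agent.NoField.P3

open Matrix PStable Subgroup Cfsg.Agent.JanThom Cfsg.Agent.AutPSL

variable {F : Type*} [Field F] [Finite F]

local notation "SL2" => Matrix.SpecialLinearGroup (Fin 2) F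
local notation "M2" => Matrix (Fin 2) (Fin 2) F
local notation "L" => Matrix.ProjectiveSpecialLinearGroup (Fin 2) F
local notation "prH" => PSL2Inv.pr (F := F)

variable (F) in
/-- The triangular subgroup. -/
abbrev BL : Subgroup L := normalizer ((unip F : Subgroup L) : Set L)

/-- The multiplier of `b` on the unipotent subgroup is `c`. -/
def Mult (b : L) (c : F) : Prop := ∀ a : F, b * prH (upp a) * b⁻¹ = prH (upp (c * a))

theorem upp_mem (a : F) : prH (upp a) ∈ unip F := mem_unip.2 ⟨a, rfl⟩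

theorem exists_mult {b : L} (hb : b ∈ BL F) :
    ∃ c : F, c ≠ 0 ∧ Mult b c ∧
      ∃ x : SL2, prH x = b ∧ Matrix.trace (x : M2) ^ 2 = c + 2 + c⁻¹ := by
  rw [BL, normalizer_unip] at hb
  obtain ⟨x, hx, rfl⟩ := hb
  have h10 := mem_bor.1 hx
  have hd := det_one x
  rw [h10, mul_zero, sub_zero] at hd
  refine ⟨(x : M2) 0 0 ^ 2, pow_ne_zero 2 (left_ne_zero_of_mul_eq_one hd), pr_conj_upp hx, x, rfl, ?_⟩
  rw [Matrix.trace_fin_two, ← inv_pow, inv_eq_of_mul_eq_one_right hd]
  linear_combination 2 * hd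

theorem Mult.unique {b : L} {c c' : F} (h : Mult b c) (h' : Mult b c') : c = c' := by
  have e := unip_injective ((h 1).symm.trans (h' 1))
  rwa [mul_one, mul_one] at e

theorem Mult.one : Mult (1 : L) (1 : F) := fun a => by simp

theorem Mult.mul {b b' : L} {c c' : F} (h : Mult b c) (h' : Mult b' c') : Mult (b * b') (c * c') :=
  fun a => by
    calc b * b' * prH (upp a) * (b * b')⁻¹ = b * (b' * prH (upp a) * b'⁻¹) * b⁻¹ := by group
      _ = _ := by rw [h' a, h, mul_assoc]

theorem Mult.inv {b : L} {c : F} (h : Mult b c) (hc : c ≠ 0) : Mult b⁻¹ c⁻¹ := fun a => by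
  have e : prH (upp a) = b * prH (upp (c⁻¹ * a)) * b⁻¹ := by rw [h, mul_inv_cancel_left₀ hc]
  rw [inv_inv, e]
  group

theorem Mult.pow {b : L} {c : F} (h : Mult b c) : ∀ n : ℕ, Mult (b ^ n) (c ^ n)
  | 0 => by simpa using Mult.one
  | n + 1 => by rw [pow_succ, pow_succ]; exact (Mult.pow h n).mul h

theorem mult_unip {u : L} (hu : u ∈ unip F) : Mult u (1 : F) := fun a => by
  rw [unip_comm u hu _ (upp_mem a), mul_inv_cancel_right, one_mul]

/-- The centraliser of a non-trivial unipotent element. -/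
theorem cen_unip (h2 : (2 : F) ≠ 0) {a : F} (ha : a ≠ 0) {g : L}
    (hg : g * prH (upp a) = prH (upp a) * g) : g ∈ unip F := by
  obtain ⟨x, rfl⟩ := PSL2Inv.pr_surjective g
  rw [← map_mul, ← map_mul] at hg
  have hd := det_one x
  rcases PSL2Inv.pr_eq_iff.1 hg with e | e
  · have e' := congrArg (fun y : SL2 => (y : M2)) e
    simp only [Matrix.SpecialLinearGroup.coe_mul, upp_val] at e'
    have e11 := congrFun (congrFun e' 1) 1
    have e01 := congrFun (congrFun e' 0) 1
    simp [Matrix.mul_apply, Fin.sum_univ_two] at e11 e01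
    have h10 : (x : M2) 1 0 = 0 := e11.resolve_right ha
    have h00 : (x : M2) 0 0 = (x : M2) 1 1 :=
      mul_right_cancel₀ ha (by linear_combination -e01)
    rw [h10, mul_zero, sub_zero, ← h00] at hd
    rcases mul_self_eq_one_iff.1 hd with h | h
    · refine mem_unip.2 ⟨(x : M2) 0 1, congrArg prH (Subtype.ext ?_)⟩
      apply ext2 <;> simp [upp_val, h10, ← h00, h]
    · refine mem_unip.2 ⟨-(x : M2) 0 1, PSL2Inv.pr_eq_iff.2 (Or.inr (Subtype.ext ?_))⟩
      rw [Matrix.SpecialLinearGroup.coe_mul, SL2Inv.coe_negOne]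
      apply ext2 <;> simp [upp_val, h10, ← h00, h]
  · have e' := congrArg (fun y : SL2 => (y : M2)) e
    simp only [Matrix.SpecialLinearGroup.coe_mul, SL2Inv.coe_negOne, upp_val] at e'
    have e10 := congrFun (congrFun e' 1) 0
    have e11 := congrFun (congrFun e' 1) 1
    simp [Matrix.mul_apply, Fin.sum_univ_two] at e10 e11
    have h10 : (x : M2) 1 0 = 0 := by
      have : (2 : F) * (x : M2) 1 0 = 0 := by linear_combination e10
      exact (mul_eq_zero.1 this).resolve_left h2
    have h11 : (x : M2) 1 1 = 0 := by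
      have : (2 : F) * (x : M2) 1 1 = 0 := by
        rw [h10] at e11
        linear_combination e11
      exact (mul_eq_zero.1 this).resolve_left h2
    rw [h10, h11, mul_zero, mul_zero, sub_zero] at hd
    exact absurd hd zero_ne_one

/-- An element with multiplier one is unipotent. -/
theorem mem_unip_of_mult (h2 : (2 : F) ≠ 0) {b : L} (h : Mult b (1 : F)) : b ∈ unip F := by
  refine cen_unip h2 one_ne_zero ?_
  have := h 1
  rw [one_mul] at this
  exact mul_inv_eq_iff_eq_mul.1 this

/-- Conjugate elements of the triangular subgroup have equal or inverse multipliers. -/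
theorem mult_conj {b b' g : L} (hb : b ∈ BL F) (hb' : b' ∈ BL F) (he : g * b * g⁻¹ = b')
    {c c' : F} (hc : Mult b c) (hc' : Mult b' c') : c' = c ∨ c' = c⁻¹ := by
  obtain ⟨d, hd0, hd, x, hx, hxt⟩ := exists_mult hb
  obtain ⟨d', hd0', hd', x', hx', hxt'⟩ := exists_mult hb'
  rw [hc.unique hd, hc'.unique hd']
  obtain ⟨γ, rfl⟩ := PSL2Inv.pr_surjective g
  have e : prH (γ * x * γ⁻¹) = prH x' := by rw [map_mul, map_mul, map_inv, hx, hx', he]
  have ht : Matrix.trace (x' : M2) ^ 2 = Matrix.trace (x : M2) ^ 2 := by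
    rcases PSL2Inv.pr_eq_iff.1 e with e | e
    · rw [e, PStable.trace_conj]
    · rw [e, Matrix.SpecialLinearGroup.coe_mul, SL2Inv.coe_negOne, neg_one_mul, Matrix.trace_neg,
        PStable.trace_conj, neg_sq]
  rw [hxt, hxt'] at ht
  have key : (d' - d) * (d' * d - 1) = 0 := by
    field_simp at ht
    linear_combination ht
  rcases mul_eq_zero.1 key with h | h
  · exact Or.inl (sub_eq_zero.1 h)
  · exact Or.inr (eq_inv_of_mul_eq_one_left (sub_eq_zero.1 h))

/-- The triangular subgroup is maximal. -/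
theorem eq_top_of_bor {H : Subgroup L} (hB : BL F ≤ H) {g : L} (hg : g ∈ H) (hgB : g ∉ BL F) :
    H = ⊤ := by
  rw [BL, normalizer_unip] at hB hgB
  obtain ⟨x, rfl⟩ := PSL2Inv.pr_surjective g
  set K := H.comap prH with hK
  have hbor : bor F ≤ K := fun y hy => hB (mem_map_of_mem prH hy)
  have hc : (x : M2) 1 0 ≠ 0 := fun h => hgB ⟨x, mem_bor.2 h, rfl⟩
  have hxK : x ∈ K := hg
  have hupp : ∀ a : F, (upp a : SL2) ∈ K := fun a => hbor (mem_bor.2 (by simp [upp_val]))
  set w := upp (-(x : M2) 0 0 / (x : M2) 1 0) * x * upp (-(x : M2) 1 1 / (x : M2) 1 0) with hw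
  have hwK : w ∈ K := mul_mem (mul_mem (hupp _) hxK) (hupp _)
  have hd := det_one x
  have hw00 : (w : M2) 0 0 = 0 := by
    simp [hw, upp_val, Matrix.mul_apply, Matrix.vecMul, dotProduct, Fin.sum_univ_two]
    field_simp
    ring
  have hw11 : (w : M2) 1 1 = 0 := by
    simp [hw, upp_val, Matrix.mul_apply, Matrix.vecMul, dotProduct, Fin.sum_univ_two]
    field_simp
    ring
  have hw10 : (w : M2) 1 0 = (x : M2) 1 0 := by
    simp [hw, upp_val, Matrix.mul_apply, Matrix.vecMul, dotProduct, Fin.sum_univ_two]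
  have hwd := det_one w
  rw [hw00, hw10, zero_mul, zero_sub] at hwd
  have hlow : ∀ a : F, (low a : SL2) ∈ K := by
    intro a
    have h : low a = w * upp (-a / ((x : M2) 1 0 ^ 2)) * w⁻¹ := by
      rw [eq_mul_inv_iff_mul_eq]
      apply Subtype.ext
      simp only [Matrix.SpecialLinearGroup.coe_mul, upp_val, low_val]
      apply ext2 <;> simp [Matrix.mul_apply, Fin.sum_univ_two, hw00, hw11, hw10]
      · field_simp
        linear_combination -a * hwd
    rw [h]
    exact mul_mem (mul_mem hwK (hupp _)) (inv_mem hwK)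
  have htop : K = ⊤ := by
    rw [eq_top_iff, ← ClassicalSL.closure_elemTransvections, Subgroup.closure_le]
    rintro M ⟨i, j, hij, c, rfl⟩
    fin_cases i <;> fin_cases j <;> first | exact absurd rfl hij | skip
    · suffices e : Matrix.SpecialLinearGroup.transvection hij c = upp c by rw [e]; exact hupp c
      apply Subtype.ext
      apply ext2 <;> simp [upp_val, Matrix.SpecialLinearGroup.transvection, Matrix.transvection,
        Matrix.single]
    · suffices e : Matrix.SpecialLinearGroup.transvection hij c = low c by rw [e]; exact hlow c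
      apply Subtype.ext
      apply ext2 <;> simp [low_val, Matrix.SpecialLinearGroup.transvection, Matrix.transvection,
        Matrix.single]
  rw [eq_top_iff]
  intro y _
  obtain ⟨z, rfl⟩ := PSL2Inv.pr_surjective y
  exact show z ∈ K by rw [htop]; trivial

/-- Field automorphisms on unipotent elements. -/
theorem semi_upp (σ : F ≃+* F) (a : F) : semi 1 σ (prH (upp a)) = prH (upp (σ a)) := by
  show prH (slSemi 1 σ (upp a)) = _
  refine congrArg prH (Subtype.ext ?_)
  show ((slSemi 1 σ (upp a) : SL2) : M2) = ((upp (σ a) : SL2) : M2)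
  rw [slSemi_coe, upp_val]
  apply ext2 <;> simp [upp_val]

theorem semi_mem_unip (σ : F ≃+* F) {u : L} (hu : u ∈ unip F) : semi 1 σ u ∈ unip F := by
  obtain ⟨a, rfl⟩ := mem_unip.1 hu
  exact mem_unip.2 ⟨σ a, (semi_upp σ a).symm⟩

theorem Mult.semi {b : L} {c : F} (h : Mult b c) (σ : F ≃+* F) : Mult (semi 1 σ b) (σ c) :=
  fun a => by
    obtain ⟨a', rfl⟩ := σ.surjective a
    rw [← semi_upp, ← map_inv, ← map_mul, ← map_mul, h a', semi_upp, map_mul σ]

theorem semi_mem_BL (σ : F ≃+* F) {b : L} (hb : b ∈ BL F) : semi 1 σ b ∈ BL F := by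
  obtain ⟨c, -, hc, -⟩ := exists_mult hb
  refine Subgroup.mem_normalizer_fintype fun u hu => ?_
  obtain ⟨a, rfl⟩ := mem_unip.1 hu
  rw [hc.semi σ a]
  exact upp_mem _

end Cfsg.Agent.NoField.P3
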