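import Cfsg.Agent.Lib.NoField.CPhiLocal
import Cfsg.Agent.Lib.NoField.P3Borel
import Cfsg.Agent.Lib.LocalEven.Zsigmondy
import Cfsg.Agent.Lib.AutPSL.Centralizer
import Mathlib.RingTheory.RootsOfUnity.PrimitiveRoots

/-!
The case `p = 3` in characteristic three: a primitive prime and the Borel subgroup of `C(t)`.
-/

set_option autoImplicit false
set_option linter.style.haveILetI false
set_option linter.unusedSectionVars false

namespace Cfsg.Agent.NoField.P3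

open Subgroup Cfsg.Agent.AutPSL Cfsg.Agent.JanThom Cfsg.Agent.PStable
open Cfsg.Agent.Walter8 (cen)

universe u

variable {G : Type u} [Group G] [Finite G]

local notation "pr₂" => PSL2Inv.pr

/-- The exponent of the field and a primitive prime. -/
structure Prim (D : Data G) where
  n : ℕ
  l : ℕ
  char3 : ringChar D.F = 3
  card_F : Fintype.card D.F = 3 ^ n
  q_three : Fintype.card D.F % 8 = 3
  l_prime : l.Prime
  l_dvd : l ∣ 3 ^ n - 1
  l_prim : ∀ k : ℕ, 0 < k → k < n → ¬ l ∣ 3 ^ k - 1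
  l_five : 5 ≤ l
  l_ndvd : ¬ l ∣ Nat.card D.Φ

theorem exists_prim (D : Data G) (hc : ringChar D.F = 3) : Nonempty (Prim D) := by
  haveI : CharP D.F 3 := ringChar.of_eq hc
  haveI := Fact.mk Nat.prime_three
  obtain ⟨f, -, hf⟩ := FiniteField.card D.F 3
  have hq : Fintype.card D.F % 8 = 3 := by
    have := three_pow_mod' (f : ℕ); have := D.q_mod; rw [hf] at this ⊢; omega
  have h27 := D.q_large
  have hf3 : 3 ≤ (f : ℕ) := by
    by_contra h
    have : 3 ^ (f : ℕ) ≤ 3 ^ 2 := Nat.pow_le_pow_right (by norm_num) (by omega)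
    omega
  obtain ⟨l, hl, hld, hprim⟩ := LEZsig.zsigmondy 3 f (by norm_num) (by omega)
    (fun h => absurd h.1 (by norm_num)) (fun h => by omega)
  haveI := Fact.mk hl
  have hl2 : l ≠ 2 := by
    rintro rfl
    exact hprim 1 one_pos (by omega) (by norm_num)
  have hl3 : l ≠ 3 := by
    rintro rfl
    have h1 : (3 : ℕ) ∣ 3 ^ (f : ℕ) := dvd_pow_self 3 (by omega)
    have h2 := Nat.dvd_sub h1 hld
    rw [Nat.sub_sub_self (Nat.one_le_pow _ _ (by norm_num))] at h2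
    omega
  have hl5 : 5 ≤ l := by
    have := hl.two_le
    have h4 : l ≠ 4 := fun h => by subst h; norm_num at hl
    omega
  refine ⟨⟨f, l, hc, hf, hq, hl, hld, hprim, hl5, fun hΦ => ?_⟩⟩
  -- `|Φ| ∣ f < l`
  obtain ⟨E⟩ := exists_ringAut_equiv (F := D.F) 3 f hf
  haveI := finite_aut (F := D.F)
  have hcard : Nat.card D.Φ ∣ (f : ℕ) := by
    refine (Subgroup.card_subgroup_dvd_card D.Φ).trans (dvd_of_eq ?_)
    rw [Nat.card_congr E.toEquiv, Nat.card_congr Multiplicative.toAdd, Nat.card_zmod]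
  have hlf : l ≤ f := Nat.le_of_dvd (by omega) (hΦ.trans hcard)
  refine hprim (l - 1) (by omega) (by omega) ?_
  rw [← ZMod.natCast_eq_zero_iff, Nat.cast_sub (Nat.one_le_pow _ _ (by norm_num)), sub_eq_zero]
  push_cast
  refine ZMod.pow_card_sub_one_eq_one ?_
  intro h0
  have : ((3 : ℕ) : ZMod l) = 0 := by exact_mod_cast h0
  rw [ZMod.natCast_eq_zero_iff] at this
  exact hl3 ((Nat.prime_dvd_prime_iff_eq hl Nat.prime_three).1 this)
where
  three_pow_mod' (m : ℕ) : 3 ^ m % 8 = 1 ∨ 3 ^ m % 8 = 3 := by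
    induction m with
    | zero => simp
    | succ m ih => rw [pow_succ]; omega

variable {D : Data G} (P : Prim D)

/-- An element of the triangular subgroup of order `l`. -/
def Prim.IsZ (b : PSL2 D.F) : Prop := b ∈ BL D.F ∧ b ^ P.l = 1 ∧ b ∉ unip D.F

/-- The root group inside `G`. -/
def UG (D : Data G) : Subgroup G := (unip D.F).map D.jL

/-- `N(U) ∩ X`, the group `BΦ`. -/
def BP (D : Data G) : Subgroup G := D.X ⊓ normalizer (UG D : Set G)

namespace Prim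

include P

theorem charP : CharP D.F 3 := ringChar.of_eq P.char3

theorem n_pos : 0 < P.n := by
  rcases Nat.eq_zero_or_pos P.n with h | h
  · have := D.q_large
    rw [P.card_F, h] at this
    simp at this
  · exact h

theorem l_ne_two : P.l ≠ 2 := fun h => absurd (h ▸ P.l_five) (by norm_num)
theorem l_ne_three : P.l ≠ 3 := fun h => absurd (h ▸ P.l_five) (by norm_num)

theorem unip_cube {u : PSL2 D.F} (hu : u ∈ unip D.F) : u ^ 3 = 1 := by
  haveI := P.charP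
  haveI := Fact.mk Nat.prime_three
  exact unip_exp 3 u hu

theorem card_BL : 2 * Nat.card (BL D.F) = 3 ^ P.n * (3 ^ P.n - 1) := by
  have h := two_mul_card_normalizer_unip (F := D.F) (by rw [Nat.card_eq_fintype_card]; exact D.odd)
  rwa [Nat.card_eq_fintype_card (α := D.F), P.card_F] at h

theorem card_BL_odd : Odd (Nat.card (BL D.F)) := by
  have h := P.card_BL
  have hq := P.q_three
  rw [P.card_F] at hq
  obtain ⟨k, hk⟩ : ∃ k, 3 ^ P.n - 1 = 2 * (2 * k + 1) := by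
    revert hq
    generalize 3 ^ P.n = x
    exact fun hq => ⟨(x - 3) / 4, by omega⟩
  rw [hk, ← mul_assoc, mul_comm (3 ^ P.n) 2, mul_assoc] at h
  rw [Nat.eq_of_mul_eq_mul_left two_pos h]
  exact ((by decide : Odd 3).pow).mul ⟨k, rfl⟩

theorem exists_Z : ∃ b, P.IsZ b := by
  haveI := Fact.mk P.l_prime
  have hd : P.l ∣ Nat.card (BL D.F) := by
    refine ((Nat.coprime_primes P.l_prime Nat.prime_two).2 P.l_ne_two).dvd_of_dvd_mul_left ?_
    rw [P.card_BL]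
    exact dvd_mul_of_dvd_right P.l_dvd _
  obtain ⟨b, hb⟩ := exists_prime_orderOf_dvd_card' P.l hd
  refine ⟨b, b.2, ?_, fun h => ?_⟩
  · rw [← hb, ← Subgroup.orderOf_coe]; exact pow_orderOf_eq_one _
  · have h3 := orderOf_dvd_of_pow_eq_one (P.unip_cube h)
    rw [Subgroup.orderOf_coe, hb] at h3
    exact P.l_ne_three ((Nat.prime_dvd_prime_iff_eq P.l_prime Nat.prime_three).1 h3)

theorem IsZ.order {b : PSL2 D.F} (hb : P.IsZ b) : orderOf b = P.l := by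
  haveI := Fact.mk P.l_prime
  exact orderOf_eq_prime hb.2.1 fun h => hb.2.2 (h ▸ one_mem _)

theorem IsZ.mult {b : PSL2 D.F} (hb : P.IsZ b) :
    ∃ c : D.F, c ≠ 0 ∧ c ≠ 1 ∧ c ^ P.l = 1 ∧ Mult b c := by
  obtain ⟨c, hc0, hc, -⟩ := exists_mult hb.1
  refine ⟨c, hc0, fun h => hb.2.2 (mem_unip_of_mult D.two_ne_zero (h ▸ hc)), ?_, hc⟩
  exact (hc.pow P.l).unique (hb.2.1.symm ▸ Mult.one)

/-- A field automorphism fixing an element of order `l` is trivial. -/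
theorem aut_eq_one {c : D.F} (hc1 : c ≠ 1) (hcl : c ^ P.l = 1) {σ : D.Φ}
    (hσ : (σ : D.F ≃+* D.F) c = c) : σ = 1 := by
  classical
  haveI := Fact.mk P.l_prime
  haveI := P.charP
  obtain ⟨K, hK, hcard⟩ := exists_fixed_field (σ : D.F ≃+* D.F)
  haveI := Fintype.ofFinite K
  haveI := Fact.mk Nat.prime_three
  obtain ⟨m, -, hm⟩ := FiniteField.card K 3
  rw [P.card_F, Nat.card_eq_fintype_card, hm, ← pow_mul] at hcard
  have hn : P.n = (m : ℕ) * orderOf (σ : D.F ≃+* D.F) := Nat.pow_right_injective (by norm_num) hcard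
  have hd : P.l ∣ 3 ^ (m : ℕ) - 1 := by
    have hc0 : c ≠ 0 := fun h => by rw [h, zero_pow P.l_prime.ne_zero] at hcl; exact zero_ne_one hcl
    have h1 : (⟨c, (hK c).2 hσ⟩ : K) ^ (Fintype.card K - 1) = 1 :=
      FiniteField.pow_card_sub_one_eq_one _ fun h => hc0 (congrArg Subtype.val h)
    have ho : orderOf c = P.l := orderOf_eq_prime hcl hc1
    rw [← ho, ← hm]
    exact orderOf_dvd_of_pow_eq_one (by simpa using congrArg Subtype.val h1)
  have hmn : P.n ≤ (m : ℕ) := by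
    by_contra h
    exact P.l_prim m m.pos (by omega) hd
  have ho : orderOf (σ : D.F ≃+* D.F) = 1 := by
    have h0 : 0 < (m : ℕ) := m.pos
    rcases Nat.lt_or_ge 1 (orderOf (σ : D.F ≃+* D.F)) with h | h
    · nlinarith
    · rcases Nat.le_one_iff_eq_zero_or_eq_one.1 h with h' | h'
      · rw [h', mul_zero] at hn; have := P.n_pos; omega
      · exact h'
  exact Subtype.ext (orderOf_eq_one_iff.1 ho)

theorem aut_eq_one_of_inv {c : D.F} (hc1 : c ≠ 1) (hcl : c ^ P.l = 1) {σ : D.Φ}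
    (hσ : (σ : D.F ≃+* D.F) c = c ∨ (σ : D.F ≃+* D.F) c = c⁻¹) : σ = 1 := by
  rcases hσ with h | h
  · exact P.aut_eq_one hc1 hcl h
  · have h2 : σ * σ = 1 := P.aut_eq_one hc1 hcl (by
      show (σ : D.F ≃+* D.F) ((σ : D.F ≃+* D.F) c) = c
      rw [h, map_inv₀, h, inv_inv])
    refine orderOf_eq_one_iff.1 (Nat.eq_one_of_dvd_coprimes ?_ dvd_rfl
      (orderOf_dvd_of_pow_eq_one (x := σ) (n := 2) (by rw [pow_two]; exact h2)))
    exact Nat.coprime_two_right.2 (D.card_Φ_odd.of_dvd_nat (orderOf_dvd_natCard σ))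

/-- Roots of `x ^ l = 1` are powers of a non-trivial one. -/
theorem root_pow {c c' : D.F} (hc1 : c ≠ 1) (hcl : c ^ P.l = 1) (hc' : c' ^ P.l = 1) :
    ∃ i : ℕ, c' = c ^ i := by
  haveI := Fact.mk P.l_prime
  haveI : NeZero P.l := ⟨P.l_prime.ne_zero⟩
  have ho := orderOf_eq_prime hcl hc1
  obtain ⟨i, -, hi⟩ := (ho ▸ IsPrimitiveRoot.orderOf c).eq_pow_of_pow_eq_one hc'
  exact ⟨i, hi.symm⟩

/-- The centraliser in `X` of an element of order `l` of the Borel subgroup. -/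
theorem cen_Z {b : PSL2 D.F} (hb : P.IsZ b) {g : G} (hg : g ∈ D.X)
    (hgb : g * D.jL b = D.jL b * g) :
    ∃ a : PSL2 D.F, g = D.jL a ∧ Odd (orderOf a) ∧ ¬ 3 ∣ orderOf a := by
  obtain ⟨a, σ, rfl⟩ := D.prod g hg
  obtain ⟨c, hc0, hc1, hcl, hc⟩ := IsZ.mult P hb
  have e : a * semi 1 (σ : D.F ≃+* D.F) b * a⁻¹ = b := by
    refine D.jL_inj ?_
    rw [map_mul, map_mul, map_inv, ← D.jconj]
    calc D.jL a * (D.jΦ σ * D.jL b * (D.jΦ σ)⁻¹) * (D.jL a)⁻¹
        = D.jL a * D.jΦ σ * D.jL b * (D.jL a * D.jΦ σ)⁻¹ := by group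
      _ = D.jL b := by rw [hgb, mul_inv_cancel_right]
  have hσ := P.aut_eq_one_of_inv hc1 hcl (σ := σ) (by
    rcases mult_conj (semi_mem_BL _ hb.1) hb.1 e (hc.semi _) hc with h | h
    · exact Or.inl h.symm
    · exact Or.inr (inv_eq_iff_eq_inv.1 h.symm))
  subst hσ
  have hs : semi 1 ((1 : D.Φ) : D.F ≃+* D.F) b = b := by
    show semi 1 (1 : D.F ≃+* D.F) b = b
    rw [semi_one]; rfl
  rw [hs] at e
  refine ⟨a, by rw [map_one, mul_one], ?_⟩
  haveI := P.charP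
  haveI := Fact.mk Nat.prime_three
  have ho := IsZ.order P hb
  have hb3 : b ^ 3 ≠ 1 := fun h => P.l_ne_three
    ((Nat.prime_dvd_prime_iff_eq P.l_prime Nat.prime_three).1 (ho ▸ orderOf_dvd_of_pow_eq_one h))
  have hb2 : b * b ≠ 1 := fun h => P.l_ne_two
    ((Nat.prime_dvd_prime_iff_eq P.l_prime Nat.prime_two).1
      (ho ▸ orderOf_dvd_of_pow_eq_one (by rwa [pow_two])))
  obtain ⟨R, m, hm, hR, -, hbR, hC, -, -⟩ :=
    exists_torus_cent 3 (by rw [Nat.card_eq_fintype_card]; exact D.odd) hb3 hb2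
  have hlm : P.l ∣ m := hR ▸ ho ▸ Subgroup.orderOf_dvd_natCard R hbR
  have had : orderOf a ∣ m :=
    hR ▸ Subgroup.orderOf_dvd_natCard R ((hC a).1 (mul_inv_eq_iff_eq_mul.1 e))
  rw [Nat.card_eq_fintype_card, P.card_F] at hm
  have hpos : 0 < 3 ^ P.n := pow_pos (by norm_num) _
  have hm' : 2 * m = 3 ^ P.n - 1 := by
    refine hm.resolve_left fun h => ?_
    have h1 : P.l ∣ 3 ^ P.n + 1 := h ▸ dvd_mul_of_dvd_right hlm 2
    have h2 := Nat.dvd_sub h1 P.l_dvd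
    rw [show 3 ^ P.n + 1 - (3 ^ P.n - 1) = 2 by omega] at h2
    exact P.l_ne_two ((Nat.prime_dvd_prime_iff_eq P.l_prime Nat.prime_two).1 h2)
  have hq := P.q_three
  rw [P.card_F] at hq
  refine ⟨(Nat.odd_iff.2 (by omega : m % 2 = 1)).of_dvd_nat had, fun h => ?_⟩
  have h3 : 3 ∣ 3 ^ P.n := dvd_pow_self 3 P.n_pos.ne'
  have := h.trans had
  omega

theorem UG_comm {a b : G} (ha : a ∈ UG D) (hb : b ∈ UG D) : a * b = b * a := by
  obtain ⟨a, ha, rfl⟩ := ha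
  obtain ⟨b, hb, rfl⟩ := hb
  rw [← map_mul, ← map_mul, unip_comm a ha b hb]

theorem mem_BP_jL {b : PSL2 D.F} (hb : b ∈ BL D.F) : D.jL b ∈ BP D :=
  ⟨D.jL_mem b, le_normalizer_map D.jL ⟨b, hb, rfl⟩⟩

theorem mem_BP_jΦ (σ : D.Φ) : D.jΦ σ ∈ BP D := by
  refine ⟨D.jΦ_mem σ, Subgroup.mem_normalizer_fintype fun x hx => ?_⟩
  obtain ⟨u, hu, rfl⟩ := hx
  rw [D.jconj]
  exact mem_map_of_mem _ (semi_mem_unip _ hu)

theorem UG_le_BP : UG D ≤ BP D := by
  rintro _ ⟨u, hu, rfl⟩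
  exact P.mem_BP_jL (Subgroup.le_normalizer hu)

theorem exists_BP {x : G} (hx : x ∈ BP D) : ∃ b ∈ BL D.F, ∃ σ : D.Φ, x = D.jL b * D.jΦ σ := by
  obtain ⟨b, σ, rfl⟩ := D.prod x hx.1
  refine ⟨b, Subgroup.mem_normalizer_fintype fun u hu => ?_, σ, rfl⟩
  have hb : D.jL b ∈ normalizer (UG D : Set G) := by
    have := Subgroup.mul_mem _ hx.2 (Subgroup.inv_mem _ (P.mem_BP_jΦ σ).2)
    rwa [mul_inv_cancel_right] at this
  have h := (mem_normalizer_iff.1 hb (D.jL u)).1 (mem_map_of_mem _ hu)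
  rw [← map_inv, ← map_mul, ← map_mul] at h
  obtain ⟨v, hv, e⟩ := h
  exact D.jL_inj e ▸ hv

theorem BP_odd : Odd (Nat.card (BP D)) := by
  have e : Nat.card (BP D) = Nat.card (BL D.F × D.Φ) := by
    refine (Nat.card_eq_of_bijective
      (fun p : BL D.F × D.Φ => (⟨D.jL p.1 * D.jΦ p.2, mul_mem (P.mem_BP_jL p.1.2) (P.mem_BP_jΦ p.2)⟩ :
        BP D)) ⟨fun p p' h => ?_, fun x => ?_⟩).symm
    · obtain ⟨h1, h2⟩ := D.prod_unique (congrArg Subtype.val h :)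
      exact Prod.ext (Subtype.ext h1) h2
    · obtain ⟨b, hb, σ, hx⟩ := P.exists_BP x.2
      exact ⟨(⟨b, hb⟩, σ), Subtype.ext hx.symm⟩
  rw [e, Nat.card_prod]
  exact P.card_BL_odd.mul D.card_Φ_odd

/-- `C(U) ∩ BΦ = U`. -/
theorem cen_UG {x : G} (hx : x ∈ BP D) (hc : ∀ u ∈ UG D, x * u = u * x) : x ∈ UG D := by
  obtain ⟨b, hb, σ, rfl⟩ := P.exists_BP hx
  obtain ⟨c, -, hm, -⟩ := exists_mult hb
  have key : ∀ a : D.F, c * (σ : D.F ≃+* D.F) a = a := fun a => by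
    have h := hc _ (mem_map_of_mem D.jL (upp_mem a))
    have e : D.jL (pr₂ (upp (c * (σ : D.F ≃+* D.F) a))) = D.jL (pr₂ (upp a)) := by
      rw [← hm, map_mul, map_mul, map_inv, ← semi_upp, ← D.jconj]
      calc D.jL b * (D.jΦ σ * D.jL (pr₂ (upp a)) * (D.jΦ σ)⁻¹) * (D.jL b)⁻¹
          = D.jL b * D.jΦ σ * D.jL (pr₂ (upp a)) * (D.jL b * D.jΦ σ)⁻¹ := by group
        _ = _ := by rw [h, mul_inv_cancel_right]
    exact unip_injective (D.jL_inj e)
  have hc1 : c = 1 := by simpa using key 1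
  have hσ : σ = 1 := Subtype.ext (RingEquiv.ext fun a => by simpa [hc1] using key a)
  rw [hσ, map_one, mul_one]
  exact mem_map_of_mem _ (mem_unip_of_mult D.two_ne_zero (hc1 ▸ hm))

/-- An element of order `l` of the Borel subgroup has no fixed point on `U`. -/
theorem fix_UG {b : PSL2 D.F} (hb : P.IsZ b) {u : G} (hu : u ∈ UG D)
    (h : D.jL b * u = u * D.jL b) : u = 1 := by
  obtain ⟨c, -, hc1, -, hc⟩ := IsZ.mult P hb
  obtain ⟨v, hv, rfl⟩ := hu
  obtain ⟨a, rfl⟩ := mem_unip.1 hv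
  have e : b * pr₂ (upp a) * b⁻¹ = pr₂ (upp a) := by
    refine D.jL_inj ?_
    rw [map_mul, map_mul, map_inv, h, mul_inv_cancel_right]
  have h1 : c * a = a := unip_injective ((hc a).symm.trans e)
  have ha : a = 0 := by
    by_contra ha
    exact hc1 (mul_right_cancel₀ ha (by rw [h1, one_mul]))
  rw [ha, upp_zero, map_one, map_one]

/-- `⟨z⟩` is irreducible on `U`. -/
theorem irred {b : PSL2 D.F} (hb : P.IsZ b) {V : Subgroup G} (hV : V ≤ UG D)
    (hinv : ∀ v ∈ V, D.jL b * v * (D.jL b)⁻¹ ∈ V) : V = ⊥ ∨ V = UG D := by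
  classical
  haveI := Fact.mk P.l_prime
  have hzn : D.jL b ∈ normalizer (V : Set G) := Subgroup.mem_normalizer_fintype hinv
  letI : MulAction (zpowers (D.jL b)) V :=
    { smul := fun w v => ⟨(w : G) * v * (w : G)⁻¹,
        (mem_normalizer_iff.1 (zpowers_le.2 hzn w.2) v).1 v.2⟩
      one_smul := fun v => Subtype.ext (by
        show ((1 : zpowers (D.jL b)) : G) * v * ((1 : zpowers (D.jL b)) : G)⁻¹ = v
        simp)
      mul_smul := fun w w' v => Subtype.ext (by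
        show ((w * w' : zpowers (D.jL b)) : G) * v * ((w * w' : zpowers (D.jL b)) : G)⁻¹ =
          (w : G) * ((w' : G) * v * (w' : G)⁻¹) * (w : G)⁻¹
        rw [Subgroup.coe_mul]; group) }
  have hzl : IsPGroup P.l (zpowers (D.jL b)) := IsPGroup.of_card (n := 1) (by
    rw [Nat.card_zpowers, orderOf_injective _ D.jL_inj, IsZ.order P hb, pow_one])
  have hmod := hzl.card_modEq_card_fixedPoints V
  have hfix : MulAction.fixedPoints (zpowers (D.jL b)) V = {1} := by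
    ext v
    refine ⟨fun hv => ?_, ?_⟩
    · have h := congrArg Subtype.val (hv ⟨D.jL b, mem_zpowers _⟩)
      exact Subtype.ext (P.fix_UG hb (hV v.2) (mul_inv_eq_iff_eq_mul.1 h))
    · rintro rfl w
      exact Subtype.ext (by show (w : G) * 1 * (w : G)⁻¹ = 1; group)
  rw [hfix, Nat.card_coe_set_eq, Set.ncard_singleton] at hmod
  have hcardU : Nat.card (UG D) = 3 ^ P.n := by
    rw [UG, card_map_of_injective D.jL_inj, card_unip, Nat.card_eq_fintype_card, P.card_F]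
  obtain ⟨k, hk, hkV⟩ := (Nat.dvd_prime_pow Nat.prime_three).1 (hcardU ▸ card_dvd_of_le hV)
  rcases Nat.eq_zero_or_pos k with rfl | hk0
  · exact Or.inl (card_eq_one.1 (by simpa using hkV))
  · refine Or.inr (eq_of_le_of_card_ge hV ?_)
    have : k = P.n := by
      by_contra hne
      refine P.l_prim k hk0 (lt_of_le_of_ne hk hne) ?_
      rw [← hkV]
      exact (Nat.modEq_iff_dvd' (Nat.card_pos (α := V))).1 hmod.symm
    rw [hcardU, hkV, this]

/-- An element of `BΦ` outside `B` gives an element of order `l` by a commutator with `z`. -/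
theorem trick {b : PSL2 D.F} (hb : P.IsZ b) {x : G} (hx : x ∈ BP D) (hσ : D.pr ⟨x, hx.1⟩ ≠ 1) :
    ∃ w : PSL2 D.F, w ∈ BL D.F ∧ w ∉ unip D.F ∧ D.jL w = x * D.jL b * x⁻¹ * (D.jL b)⁻¹ ∧
      P.IsZ (w ^ 3) := by
  obtain ⟨β, hβ, σ, e⟩ := P.exists_BP hx
  have hσ1 : σ ≠ 1 := fun h => hσ (by rw [D.pr_spec _ β σ e, h])
  obtain ⟨c, hc0, hc1, hcl, hc⟩ := IsZ.mult P hb
  obtain ⟨d, hd0, hd, -⟩ := exists_mult hβ
  set w := β * semi 1 (σ : D.F ≃+* D.F) b * β⁻¹ * b⁻¹ with hw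
  have hwB : w ∈ BL D.F := mul_mem (mul_mem (mul_mem hβ (semi_mem_BL _ hb.1)) (inv_mem hβ)) (inv_mem hb.1)
  have hmw : Mult w ((σ : D.F ≃+* D.F) c * c⁻¹) := by
    have := ((hd.mul (hc.semi (σ : D.F ≃+* D.F))).mul (hd.inv hd0)).mul (hc.inv hc0)
    rwa [mul_comm d, mul_inv_cancel_right₀ hd0] at this
  have hne : (σ : D.F ≃+* D.F) c * c⁻¹ ≠ 1 := fun h =>
    hσ1 (P.aut_eq_one hc1 hcl ((mul_inv_eq_one₀ hc0).1 h))
  have hpl : ((σ : D.F ≃+* D.F) c * c⁻¹) ^ P.l = 1 := by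
    rw [mul_pow, ← map_pow, hcl, map_one, inv_pow, hcl, inv_one, one_mul]
  have hwU : w ∉ unip D.F := fun h => hne (hmw.unique (mult_unip h))
  refine ⟨w, hwB, hwU, ?_, pow_mem hwB 3, ?_, fun h => ?_⟩
  · rw [hw, map_mul, map_mul, map_mul, map_inv, map_inv, ← D.jconj, e]
    group
  · rw [← pow_mul, mul_comm, pow_mul]
    refine P.unip_cube (mem_unip_of_mult D.two_ne_zero ?_)
    rw [← hpl]
    exact hmw.pow _
  · have h3 := (hmw.pow 3).unique (mult_unip h)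
    haveI := Fact.mk P.l_prime
    have hl := orderOf_eq_prime hpl hne
    exact P.l_ne_three ((Nat.prime_dvd_prime_iff_eq P.l_prime Nat.prime_three).1
      (hl ▸ orderOf_dvd_of_pow_eq_one h3))

/-- Modulo `U` the elements of order `l` of `BΦ` are the powers of `z`. -/
theorem pow_l {b : PSL2 D.F} (hb : P.IsZ b) {x : G} (hx : x ∈ BP D) (h : x ^ P.l ∈ UG D) :
    ∃ i : ℕ, x * ((D.jL b) ^ i)⁻¹ ∈ UG D := by
  obtain ⟨β, hβ, σ, e⟩ := P.exists_BP hx
  have hσ : σ = 1 := by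
    obtain ⟨u, -, hu⟩ := h
    have hpr : D.pr (⟨x, hx.1⟩ ^ P.l) = 1 := D.pr_spec _ u 1 (by rw [map_one, mul_one]; exact hu.symm)
    rw [map_pow, D.pr_spec _ β σ e] at hpr
    exact orderOf_eq_one_iff.1 (Nat.eq_one_of_dvd_coprimes
      ((P.l_prime.coprime_iff_not_dvd.2 P.l_ndvd).symm) (orderOf_dvd_natCard σ)
      (orderOf_dvd_of_pow_eq_one hpr))
  rw [hσ, map_one, mul_one] at e
  subst e
  obtain ⟨c, hc0, hc1, hcl, hc⟩ := IsZ.mult P hb
  obtain ⟨d, -, hd, -⟩ := exists_mult hβ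
  obtain ⟨u, hu, hu'⟩ := h
  rw [← map_pow] at hu'
  have hdl : d ^ P.l = 1 := (D.jL_inj hu' ▸ (hd.pow P.l) : Mult u _).unique (mult_unip hu)
  obtain ⟨i, rfl⟩ := P.root_pow hc1 hcl hdl
  refine ⟨i, β * (b ^ i)⁻¹, mem_unip_of_mult D.two_ne_zero ?_, by rw [map_mul, map_inv, map_pow]⟩
  have := hd.mul ((hc.pow i).inv (pow_ne_zero i hc0))
  rwa [mul_inv_cancel₀ (pow_ne_zero i hc0)] at this

/-- No involution of `C(t)` inverts a non-trivial 3-element of `C(t)`. -/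
theorem no_inv {r s : G} (hr : r * D.t = D.t * r) (hr3 : ∃ k, r ^ 3 ^ k = 1)
    (hs : s * D.t = D.t * s) (hs2 : s * s = 1) (hsr : s * r * s⁻¹ = r⁻¹) : r = 1 := by
  obtain ⟨k, hk⟩ := hr3
  have h3odd : Odd (3 ^ k) := (by decide : Odd 3).pow
  have hrX : r ∈ D.X := by
    refine ClosedAbelian.mem_of_sq_mem ?_ (h3odd.of_dvd_nat (orderOf_dvd_of_pow_eq_one hk))
    rcases D.dec r (mem_centralizer_singleton_iff.2 hr) with h | h
    · exact mul_mem h h
    · have h' : D.t * r * (D.t * r) ∈ D.X := mul_mem h h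
      rwa [mul_assoc, ← mul_assoc r, hr, mul_assoc D.t r r, ← mul_assoc D.t, D.t_sq, one_mul] at h'
  obtain ⟨a, σ, rfl⟩ := D.prod r hrX
  obtain ⟨s', hs'X, hs'2, hs'r⟩ : ∃ s' ∈ D.X, s' * s' = 1 ∧
      s' * (D.jL a * D.jΦ σ) * s'⁻¹ = (D.jL a * D.jΦ σ)⁻¹ := by
    rcases D.dec s (mem_centralizer_singleton_iff.2 hs) with h | h
    · exact ⟨s, h, hs2, hsr⟩
    · refine ⟨D.t * s, h, by
        rw [mul_assoc, ← mul_assoc s, hs, mul_assoc D.t s s, hs2, mul_one, D.t_sq], ?_⟩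
      calc D.t * s * (D.jL a * D.jΦ σ) * (D.t * s)⁻¹
          = D.t * (s * (D.jL a * D.jΦ σ) * s⁻¹) * D.t⁻¹ := by group
        _ = D.t * (D.jL a * D.jΦ σ)⁻¹ * D.t⁻¹ := by rw [hsr]
        _ = _ := by rw [← D.X_comm (inv_mem hrX), mul_inv_cancel_right]
  obtain ⟨a', σ', rfl⟩ := D.prod s' hs'X
  have hp : ∀ {l : PSL2 D.F} {τ : D.Φ} (h : D.jL l * D.jΦ τ ∈ D.X), D.pr ⟨_, h⟩ = τ :=
    fun h => D.pr_spec _ _ _ rfl
  have hσ' : σ' = 1 := by
    have h2 : D.pr (⟨_, hs'X⟩ * ⟨_, hs'X⟩) = 1 := D.pr_spec _ 1 1 (by rw [map_one, map_one, mul_one]; exact hs'2)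
    rw [map_mul, hp] at h2
    exact orderOf_eq_one_iff.1 (Nat.eq_one_of_dvd_coprimes
      (Nat.coprime_two_right.2 (D.card_Φ_odd.of_dvd_nat (orderOf_dvd_natCard σ'))) dvd_rfl
      (orderOf_dvd_of_pow_eq_one (by rw [pow_two]; exact h2)))
  have hσ : σ = 1 := by
    have h2 := congrArg D.pr (show (⟨_, hs'X⟩ * ⟨_, hrX⟩ * (⟨_, hs'X⟩ : D.X)⁻¹ : D.X) = (⟨_, hrX⟩ : D.X)⁻¹
      from Subtype.ext hs'r)
    rw [map_mul, map_mul, map_inv, map_inv, hp, hp, hσ', one_mul, inv_one, mul_one] at h2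
    exact orderOf_eq_one_iff.1 (Nat.eq_one_of_dvd_coprimes
      (Nat.coprime_two_right.2 (D.card_Φ_odd.of_dvd_nat (orderOf_dvd_natCard σ))) dvd_rfl
      (orderOf_dvd_of_pow_eq_one (by rw [pow_two]; exact mul_eq_one_iff_eq_inv.2 h2)))
  subst hσ hσ'
  simp only [map_one, mul_one] at hk hs'2 hs'r ⊢
  suffices ha : a = 1 by rw [ha, map_one]
  rw [← map_pow, map_eq_one_iff _ D.jL_inj] at hk
  rw [← map_mul, map_eq_one_iff _ D.jL_inj] at hs'2
  rw [← map_inv, ← map_mul, ← map_mul, ← map_inv] at hs'r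
  have hs'r := D.jL_inj hs'r
  have hoa := h3odd.of_dvd_nat (orderOf_dvd_of_pow_eq_one hk)
  by_contra ha
  by_cases ha' : a' = 1
  · rw [ha', one_mul, inv_one, mul_one] at hs'r
    exact ha (orderOf_eq_one_iff.1 (Nat.eq_one_of_dvd_coprimes (Nat.coprime_two_right.2 hoa) dvd_rfl
      (orderOf_dvd_of_pow_eq_one (by rw [pow_two]; exact mul_eq_one_iff_eq_inv.2 hs'r))))
  obtain ⟨ld, -⟩ : ∃ ld : LData (PSL2 D.F) (Fintype.card D.F : ℤ), ld.s = D.s := by
    have h := exists_lData_at D.q_mod (by have := D.q_large; omega) D.s_sq D.s_ne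
    rwa [if_pos P.q_three] at h
  obtain ⟨g, hg⟩ := ld.odd_cases a hoa
  have hga : g * a * g⁻¹ ≠ 1 := fun h => ha (conj_eq_one_iff.1 h)
  have hnot : ∀ (T : Subgroup (PSL2 D.F)) (m : ℕ), Nat.card T = m → ¬ 3 ∣ m → g * a * g⁻¹ ∉ T := by
    intro T m hT hm hmem
    have hd : orderOf (g * a * g⁻¹) ∣ m := hT ▸ Subgroup.orderOf_dvd_natCard T hmem
    have hd3 : orderOf (g * a * g⁻¹) ∣ 3 ^ k := orderOf_dvd_of_pow_eq_one (by
      rw [conj_pow, hk, mul_one, mul_inv_cancel])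
    exact hga (orderOf_eq_one_iff.1 (Nat.eq_one_of_dvd_coprimes
      (((Nat.Prime.coprime_iff_not_dvd Nat.prime_three).2 hm).pow_left k) hd3 hd))
  have h3q : 3 ∣ Fintype.card D.F := P.card_F ▸ dvd_pow_self 3 P.n_pos.ne'
  have hU : g * a * g⁻¹ ∈ ld.U := by
    rcases hg with h | h | h
    · refine absurd h (hnot _ _ ld.card_Zh ?_)
      have := ld.h_eq
      omega
    · refine absurd h (hnot _ _ ld.card_Zk ?_)
      have := ld.k_eq
      omega
    · exact h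
  have h0 := ld.inv_u _ hU hga
  rw [if_neg (by omega)] at h0
  refine (Nat.card_pos_iff.2 ⟨⟨⟨g * a' * g⁻¹, ?_, fun h => ha' (conj_eq_one_iff.1 h), ?_⟩⟩,
    inferInstance⟩).ne' h0
  · calc g * a' * g⁻¹ * (g * a' * g⁻¹) = g * (a' * a') * g⁻¹ := by group
      _ = 1 := by rw [hs'2, mul_one, mul_inv_cancel]
  · calc g * a' * g⁻¹ * (g * a * g⁻¹) * (g * a' * g⁻¹)⁻¹ = g * (a' * a * a'⁻¹) * g⁻¹ := by group
      _ = _ := by rw [hs'r]; group

/-- An involution of `L` inverting `z`. -/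
theorem exists_inverting {b : PSL2 D.F} (hb : P.IsZ b) :
    ∃ j : PSL2 D.F, j * j = 1 ∧ j ≠ 1 ∧ j * b * j⁻¹ = b⁻¹ := by
  haveI := P.charP
  haveI := Fact.mk Nat.prime_three
  have ho := IsZ.order P hb
  have hb3 : b ^ 3 ≠ 1 := fun h => P.l_ne_three
    ((Nat.prime_dvd_prime_iff_eq P.l_prime Nat.prime_three).1 (ho ▸ orderOf_dvd_of_pow_eq_one h))
  have hb2 : b * b ≠ 1 := fun h => P.l_ne_two
    ((Nat.prime_dvd_prime_iff_eq P.l_prime Nat.prime_two).1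
      (ho ▸ orderOf_dvd_of_pow_eq_one (by rwa [pow_two])))
  obtain ⟨R, m, -, hR, -, -, -, -, hcnt⟩ :=
    exists_torus_cent 3 (by rw [Nat.card_eq_fintype_card]; exact D.odd) hb3 hb2
  have hm : 0 < m := hR ▸ Nat.card_pos
  obtain ⟨⟨j, hj⟩⟩ := (Nat.card_pos_iff.1 (hcnt.symm ▸ hm)).1
  exact ⟨j, hj⟩

end Prim

end Cfsg.Agent.NoField.P3
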