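import Cfsg.Agent.Lib.NoField.P3Base
import Cfsg.Agent.Lib.Solvable.Coprime
import Mathlib.GroupTheory.Transfer

/-!
The case `p = 3`: centralisers of elements of order `l` of the Borel subgroup have order prime to three.
-/

set_option autoImplicit false
set_option linter.style.haveILetI false
set_option linter.unusedSectionVars false

namespace Cfsg.Agent.NoField.P3

open Subgroup Cfsg.Agent.AutPSL
open Cfsg.Agent.Walter8 (cen)

universe u

variable {G : Type u} [Group G] [Finite G]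

/-- An involution without fixed points on a subgroup inverts it. -/
theorem inverts_of_fpf {R : Subgroup G} {i : G} (hi : i * i = 1)
    (hR : ∀ r ∈ R, i * r * i⁻¹ ∈ R) (hf : ∀ r ∈ R, i * r = r * i → r = 1) :
    ∀ r ∈ R, i * r * i⁻¹ = r⁻¹ := by
  intro r hr
  have hinj : Function.Injective
      (fun x : R => (⟨(x : G)⁻¹ * (i * x * i⁻¹), mul_mem (inv_mem x.2) (hR x x.2)⟩ : R)) := by
    intro x y h
    have h' : (x : G)⁻¹ * (i * x * i⁻¹) = (y : G)⁻¹ * (i * y * i⁻¹) := congrArg Subtype.val h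
    have h1 := hf ((y : G) * (x : G)⁻¹) (mul_mem y.2 (inv_mem x.2)) (by
      calc i * ((y : G) * (x : G)⁻¹) = (i * y * i⁻¹) * (i * x * i⁻¹)⁻¹ * i := by group
        _ = (y : G) * ((y : G)⁻¹ * (i * y * i⁻¹)) * (i * x * i⁻¹)⁻¹ * i := by group
        _ = (y : G) * ((x : G)⁻¹ * (i * x * i⁻¹)) * (i * x * i⁻¹)⁻¹ * i := by rw [h']
        _ = (y : G) * (x : G)⁻¹ * i := by group)
    exact Subtype.ext (mul_inv_eq_one.1 h1).symm
  obtain ⟨x, hx⟩ := (Finite.injective_iff_surjective.1 hinj) ⟨r, hr⟩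
  have hr' : (x : G)⁻¹ * (i * x * i⁻¹) = r := congrArg Subtype.val hx
  rw [← hr']
  have hii : i⁻¹ = i := inv_eq_of_mul_eq_one_right hi
  calc i * ((x : G)⁻¹ * (i * x * i⁻¹)) * i⁻¹ = i * (x : G)⁻¹ * i * x * (i * i)⁻¹ := by group
    _ = (i * (x : G) * i)⁻¹ * x := by rw [hi, inv_one, mul_one, mul_inv_rev, mul_inv_rev, hii]; group
    _ = ((x : G)⁻¹ * (i * x * i⁻¹))⁻¹ := by rw [hii]; group

variable {D : Data G} (P : Prim D)

namespace Prim

include P

/-- No involution of `C(i)` inverts a non-trivial 3-element of `C(i)`. -/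
theorem no_inv_at {i r s : G} (hi : orderOf i = 2) (hr : r * i = i * r) (hr3 : ∃ k, r ^ 3 ^ k = 1)
    (hs : s * i = i * s) (hs2 : s * s = 1) (hsr : s * r * s⁻¹ = r⁻¹) : r = 1 := by
  obtain ⟨g, hg⟩ := isConj_iff.1 (D.one_class i D.t hi D.t_order)
  have hc : ∀ {x : G}, x * i = i * x → (g * x * g⁻¹) * D.t = D.t * (g * x * g⁻¹) := fun {x} hx => by
    rw [← hg]
    calc g * x * g⁻¹ * (g * i * g⁻¹) = g * (x * i) * g⁻¹ := by group
      _ = g * (i * x) * g⁻¹ := by rw [hx]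
      _ = _ := by group
  obtain ⟨k, hk⟩ := hr3
  have h := P.no_inv (r := g * r * g⁻¹) (s := g * s * g⁻¹) (hc hr)
    ⟨k, by rw [conj_pow, hk, mul_one, mul_inv_cancel]⟩ (hc hs)
    (by
      calc g * s * g⁻¹ * (g * s * g⁻¹) = g * (s * s) * g⁻¹ := by group
        _ = 1 := by rw [hs2, mul_one, mul_inv_cancel]) (by
      calc g * s * g⁻¹ * (g * r * g⁻¹) * (g * s * g⁻¹)⁻¹ = g * (s * r * s⁻¹) * g⁻¹ := by group
        _ = _ := by rw [hsr]; group)
  exact conj_eq_one_iff.1 h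

/-- A 3-group normalised by a four-group containing `t`, with `t` free on it, is trivial. -/
theorem four_trivial {R : Subgroup G} (hR : IsPGroup 3 R) {j : G} (hj : j * j = 1) (hj1 : j ≠ 1)
    (hjt : j ≠ D.t) (hc : j * D.t = D.t * j) (htR : ∀ r ∈ R, D.t * r * D.t⁻¹ ∈ R)
    (hjR : ∀ r ∈ R, j * r * j⁻¹ ∈ R) (hf : ∀ r ∈ R, D.t * r = r * D.t → r = 1) : R = ⊥ := by
  have h3 : ∀ r ∈ R, ∃ k, r ^ 3 ^ k = 1 := fun r hr => by
    obtain ⟨k, hk⟩ := hR ⟨r, hr⟩
    exact ⟨k, by simpa using congrArg Subtype.val hk⟩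
  have ht := inverts_of_fpf D.t_sq htR hf
  have hjf : ∀ r ∈ R, j * r = r * j → r = 1 := fun r hr h =>
    P.no_inv_at (Invol.order_two_of_sq hj hj1) h.symm (h3 r hr) hc.symm D.t_sq (ht r hr)
  have hjj := inverts_of_fpf hj hjR hjf
  rw [eq_bot_iff_forall]
  intro r hr
  have htj : D.t * j * (D.t * j) = 1 := by
    rw [mul_assoc, ← mul_assoc j, hc, mul_assoc D.t j j, hj, mul_one, D.t_sq]
  refine P.no_inv_at (i := D.t * j) (s := D.t) (Invol.order_two_of_sq htj ?_) ?_ (h3 r hr)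
    (by rw [mul_assoc D.t j D.t, hc]) D.t_sq (ht r hr)
  · intro h
    exact hjt (by rw [eq_inv_of_mul_eq_one_right h, D.t_inv])
  · have h : (D.t * j) * r * (D.t * j)⁻¹ = r := by
      calc (D.t * j) * r * (D.t * j)⁻¹ = D.t * (j * r * j⁻¹) * D.t⁻¹ := by group
        _ = (D.t * r * D.t⁻¹)⁻¹ := by rw [hjj r hr]; group
        _ = r := by rw [ht r hr, inv_inv]
    exact (mul_inv_eq_iff_eq_mul.1 h).symm

/-- A subgroup whose only involution commuting with `t` is `t` has a normal subgroup of odd order and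
index two. -/
theorem exists_odd_part {H : Subgroup G} (ht : D.t ∈ H)
    (hH : ∀ g ∈ H, g * D.t = D.t * g → g * g = 1 → g ≠ 1 → g = D.t) :
    ∃ O : Subgroup G, O ≤ H ∧ Odd (Nat.card O) ∧ D.t ∉ O ∧ (∀ g ∈ H, g ∈ O ∨ D.t * g ∈ O) ∧
      H ≤ normalizer (O : Set G) ∧ ∀ g ∈ H, Odd (orderOf g) → g ∈ O := by
  haveI : Fact (Nat.Prime 2) := ⟨Nat.prime_two⟩
  have ho : orderOf (⟨D.t, ht⟩ : H) = 2 := (Subgroup.orderOf_mk _ _).trans D.t_order
  have hp2 : IsPGroup 2 (zpowers (⟨D.t, ht⟩ : H)) := IsPGroup.of_card (n := 1)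
    (by rw [Nat.card_zpowers, ho, pow_one])
  obtain ⟨S, hS⟩ := hp2.exists_le_sylow
  have hsq : ∀ x ∈ (S : Subgroup H), x * x = 1 := by
    intro x hx
    obtain ⟨k, hk⟩ := IsPGroup.iff_orderOf.1 S.2 ⟨x, hx⟩
    rw [Subgroup.orderOf_mk, ← Subgroup.orderOf_coe] at hk
    have hk1 : k ≤ 1 := by
      by_contra h
      refine D.no_four ((x : G) ^ (2 ^ (k - 2))) ?_
      rw [orderOf_pow, hk, Nat.gcd_eq_right (pow_dvd_pow 2 (by omega)),
        Nat.pow_div (by omega) two_pos, show k - (k - 2) = 2 by omega]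
      norm_num
    have := pow_orderOf_eq_one (x : G)
    rw [hk] at this
    rcases Nat.le_one_iff_eq_zero_or_eq_one.1 hk1 with rfl | rfl
    · rw [pow_zero, pow_one] at this
      exact Subtype.ext (by rw [Subgroup.coe_mul, this, one_mul]; rfl)
    · exact Subtype.ext (by rw [Subgroup.coe_mul, ← pow_two]; simpa using this)
  have hcomm : ∀ x ∈ (S : Subgroup H), ∀ y ∈ (S : Subgroup H), x * y = y * x := fun x hx y hy => by
    have hi : ∀ z ∈ (S : Subgroup H), z⁻¹ = z := fun z hz => inv_eq_of_mul_eq_one_right (hsq z hz)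
    calc x * y = (x * y)⁻¹ := (hi _ (mul_mem hx hy)).symm
      _ = y * x := by rw [mul_inv_rev, hi x hx, hi y hy]
  have htS : (⟨D.t, ht⟩ : H) ∈ (S : Subgroup H) := hS (mem_zpowers _)
  have hval : ∀ x ∈ (S : Subgroup H), x = 1 ∨ x = ⟨D.t, ht⟩ := by
    intro x hx
    by_cases h1 : x = 1
    · exact Or.inl h1
    · exact Or.inr (Subtype.ext (hH x x.2 (congrArg Subtype.val (hcomm x hx _ htS))
        (congrArg Subtype.val (hsq x hx)) fun h => h1 (Subtype.ext h)))
  have hcen : normalizer ((S : Subgroup H) : Set H) ≤ centralizer ((S : Subgroup H) : Set H) := by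
    intro g hg
    refine mem_centralizer_iff.2 fun x hx => ?_
    rcases hval x hx with rfl | rfl
    · rw [one_mul, mul_one]
    · rcases hval _ ((mem_normalizer_iff.1 hg _).1 hx) with h | h
      · refine absurd (conj_eq_one_iff.1 h) fun h' => D.t_ne (congrArg Subtype.val h')
      · exact (mul_inv_eq_iff_eq_mul.1 h).symm
  obtain ⟨K, hKn, hc⟩ : ∃ K : Subgroup H, K.Normal ∧ IsComplement' K (S : Subgroup H) :=
    ⟨(MonoidHom.transferSylow S hcen).ker, MonoidHom.normal_ker _,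
      MonoidHom.ker_transferSylow_isComplement' S hcen⟩
  have hKS : ∀ x ∈ K, x ∈ (S : Subgroup H) → x = 1 := fun x hx hx' =>
    Subgroup.mem_bot.1 (hc.disjoint.le_bot ⟨hx, hx'⟩)
  have hdec : ∀ g : H, g ∈ K ∨ ⟨D.t, ht⟩ * g ∈ K := by
    intro g
    obtain ⟨⟨k, s⟩, e⟩ := hc.2 g
    change (k : H) * (s : H) = g at e
    rcases hval s s.2 with h | h
    · left; rw [← e, h, mul_one]; exact k.2
    · right
      rw [← e, h, ← mul_assoc]
      have h2 : (⟨D.t, ht⟩ : H) = (⟨D.t, ht⟩ : H)⁻¹ := (inv_eq_of_mul_eq_one_right (hsq _ htS)).symm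
      nth_rw 2 [h2]
      exact hKn.conj_mem (k : H) k.2 _
  have hKodd : Odd (Nat.card K) := by
    rw [← Nat.not_even_iff_odd, even_iff_two_dvd]
    intro h
    obtain ⟨x, hx⟩ := exists_prime_orderOf_dvd_card' (G := K) 2 h
    obtain ⟨y, hy⟩ := ((IsPGroup.of_card (n := 1) (by
      rw [Nat.card_zpowers, Subgroup.orderOf_coe, hx, pow_one]) :
        IsPGroup 2 (zpowers (x : H)))).exists_le_sylow
    obtain ⟨c, hc'⟩ := MulAction.exists_smul_eq H y S
    have hmem : c * (x : H) * c⁻¹ ∈ (S : Subgroup H) := by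
      rw [← hc', Sylow.coe_subgroup_smul]
      exact ⟨x, hy (mem_zpowers _), rfl⟩
    have h1 := hKS _ (hKn.conj_mem _ x.2 c) hmem
    rw [conj_eq_one_iff] at h1
    rw [← Subgroup.orderOf_coe, h1, orderOf_one] at hx
    omega
  refine ⟨K.map H.subtype, map_subtype_le _, ?_, ?_, ?_, ?_, ?_⟩
  · rwa [card_map_of_injective H.subtype_injective]
  · rintro ⟨x, hx, hxt⟩
    have : x = ⟨D.t, ht⟩ := Subtype.ext hxt
    exact D.t_ne (congrArg Subtype.val (hKS _ (this ▸ hx) htS))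
  · intro g hg
    rcases hdec ⟨g, hg⟩ with h | h
    · exact Or.inl ⟨_, h, rfl⟩
    · exact Or.inr ⟨_, h, rfl⟩
  · intro g hg
    refine Subgroup.mem_normalizer_fintype fun x hx => ?_
    obtain ⟨x, hx, rfl⟩ := hx
    exact ⟨⟨g, hg⟩ * x * (⟨g, hg⟩ : H)⁻¹, hKn.conj_mem x hx _, rfl⟩
  · intro g hg hgo
    have hgo' : Odd (orderOf (⟨g, hg⟩ : H)) := by rw [Subgroup.orderOf_mk]; exact hgo
    suffices h0 : (⟨g, hg⟩ : H) * ⟨g, hg⟩ ∈ K from
      ⟨⟨g, hg⟩, ClosedAbelian.mem_of_sq_mem h0 hgo', rfl⟩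
    rcases hdec ⟨g, hg⟩ with h | h
    · exact mul_mem h h
    · have := mul_mem (hKn.conj_mem _ h ⟨D.t, ht⟩) h
      have h2 : (⟨D.t, ht⟩ : H) * ⟨D.t, ht⟩ = 1 := hsq _ htS
      rwa [mul_assoc, mul_assoc, ← mul_assoc (⟨D.t, ht⟩ : H)⁻¹, inv_mul_cancel, one_mul, ← mul_assoc,
        ← mul_assoc, h2, one_mul] at this

/-- `C(z)` has order prime to three. -/
theorem cen_Z_three {b : PSL2 D.F} (hb : P.IsZ b) {x : G} (hx : x * D.jL b = D.jL b * x)
    (hx3 : ∃ k, x ^ 3 ^ k = 1) : x = 1 := by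
  haveI : Fact (Nat.Prime 3) := ⟨Nat.prime_three⟩
  set H := cen (D.jL b) with hH
  have htH : D.t ∈ H := mem_centralizer_singleton_iff.2 (D.t_jL b)
  have hin : ∀ g ∈ H, g * D.t = D.t * g → g * g = 1 → g ≠ 1 → g = D.t := by
    intro g hg hgt hg2 hg1
    have hgb := mem_centralizer_singleton_iff.1 hg
    have key : ∀ y ∈ D.X, y * D.jL b = D.jL b * y → y * y = 1 → y = 1 := by
      intro y hy hyb hy2
      obtain ⟨a, rfl, ho, -⟩ := P.cen_Z hb hy hyb
      rw [← map_mul, map_eq_one_iff _ D.jL_inj] at hy2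
      rw [orderOf_eq_one_iff.1 (Nat.eq_one_of_dvd_coprimes (Nat.coprime_two_right.2 ho) dvd_rfl
        (orderOf_dvd_of_pow_eq_one (by rwa [pow_two]))), map_one]
    rcases D.dec g (mem_centralizer_singleton_iff.2 hgt) with h | h
    · exact absurd (key g h hgb hg2) hg1
    · have := key _ h (by rw [mul_assoc, hgb, ← mul_assoc, D.t_jL, mul_assoc])
        (by rw [mul_assoc, ← mul_assoc g, hgt, mul_assoc D.t g g, hg2, mul_one, D.t_sq])
      rw [eq_inv_of_mul_eq_one_right this, D.t_inv]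
  obtain ⟨O, hOH, hOodd, -, -, hOn, hOmem⟩ := P.exists_odd_part htH hin
  obtain ⟨j, hj2, hj1, hjb⟩ := P.exists_inverting hb
  have hjH : ∀ g ∈ H, D.jL j * g * (D.jL j)⁻¹ ∈ H := by
    intro g hg
    have hgb := mem_centralizer_singleton_iff.1 hg
    have e : D.jL b = D.jL j * (D.jL b)⁻¹ * (D.jL j)⁻¹ := by
      rw [← map_inv, ← map_inv, ← map_mul, ← map_mul]
      refine congrArg D.jL ?_
      rw [← conj_inv, hjb, inv_inv]
    refine mem_centralizer_singleton_iff.2 ?_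
    rw [e]
    calc D.jL j * g * (D.jL j)⁻¹ * (D.jL j * (D.jL b)⁻¹ * (D.jL j)⁻¹)
        = D.jL j * (g * (D.jL b)⁻¹) * (D.jL j)⁻¹ := by group
      _ = D.jL j * ((D.jL b)⁻¹ * g) * (D.jL j)⁻¹ := by
          rw [(show Commute g (D.jL b) from hgb).inv_right.eq]
      _ = _ := by group
  have hjO : ∀ g ∈ O, D.jL j * g * (D.jL j)⁻¹ ∈ O := by
    intro g hg
    refine hOmem _ (hjH g (hOH hg)) ?_
    rw [show orderOf (D.jL j * g * (D.jL j)⁻¹) = orderOf g from
      (MulAut.conj (D.jL j)).orderOf_eq g]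
    exact hOodd.of_dvd_nat (Subgroup.orderOf_dvd_natCard O hg)
  have hjj : D.jL j * D.jL j = 1 := by rw [← map_mul, hj2, map_one]
  set A := zpowers D.t ⊔ zpowers (D.jL j) with hA
  have hA2 : IsPGroup 2 A := by
    haveI : Fact (Nat.Prime 2) := ⟨Nat.prime_two⟩
    refine IsPGroup.to_sup_of_normal_right' ?_ ?_ ?_
    · exact IsPGroup.of_card (n := 1) (by rw [Nat.card_zpowers, D.t_order, pow_one])
    · exact IsPGroup.of_card (n := 1) (by
        rw [Nat.card_zpowers, Invol.order_two_of_sq hjj (fun h => hj1 (D.jL_inj (h.trans (map_one _).symm))),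
          pow_one])
    · refine zpowers_le.2 (centralizer_le_normalizer _ (mem_centralizer_iff.2 fun y hy => ?_))
      obtain ⟨m, rfl⟩ := mem_zpowers_iff.1 hy
      exact ((show Commute (D.jL j) D.t from (D.t_jL j).symm).zpow_left m).eq
  have hAO : A ≤ normalizer (O : Set G) := sup_le (zpowers_le.2 (hOn htH))
    (zpowers_le.2 (Subgroup.mem_normalizer_fintype hjO))
  have hcop : (Nat.card A).Coprime (Nat.card O) := by
    obtain ⟨k, hk⟩ := hA2.exists_card_eq
    rw [hk]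
    exact (Nat.coprime_two_left.2 hOodd).pow_left k
  obtain ⟨R, hR⟩ := CoprimeAct.exists_invariant_sylow hAO hcop
    (Or.inl (haveI := hA2.isNilpotent; inferInstance)) 3
  have hRbot : (R : Subgroup O).map O.subtype = ⊥ := by
    refine P.four_trivial (R.2.map O.subtype) hjj (fun h => hj1 (D.jL_inj (h.trans (map_one _).symm)))
      (fun h => D.t_notMem (h ▸ D.jL_mem j)) (D.t_jL j).symm
      (fun r hr => (mem_normalizer_iff.1 (hR (mem_sup_left (mem_zpowers _))) r).1 hr)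
      (fun r hr => (mem_normalizer_iff.1 (hR (mem_sup_right (mem_zpowers _))) r).1 hr) ?_
    intro r hr hrt
    have hrO : r ∈ O := map_subtype_le _ hr
    have hrodd := hOodd.of_dvd_nat (Subgroup.orderOf_dvd_natCard O hrO)
    have hrX : r ∈ D.X := by
      refine ClosedAbelian.mem_of_sq_mem ?_ hrodd
      rcases D.dec r (mem_centralizer_singleton_iff.2 hrt.symm) with h | h
      · exact mul_mem h h
      · have h' : D.t * r * (D.t * r) ∈ D.X := mul_mem h h
        rwa [mul_assoc, ← mul_assoc r, ← hrt, mul_assoc D.t r r, ← mul_assoc D.t, D.t_sq, one_mul] at h'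
    obtain ⟨a, rfl, -, h3⟩ := P.cen_Z hb hrX (mem_centralizer_singleton_iff.1 (hOH hrO))
    obtain ⟨k, hk⟩ := (R.2.map O.subtype) ⟨_, hr⟩
    have hk' : a ^ 3 ^ k = 1 := by
      have := congrArg Subtype.val hk
      rw [Subgroup.coe_pow, Subgroup.coe_one, ← map_pow, map_eq_one_iff _ D.jL_inj] at this
      exact this
    rw [orderOf_eq_one_iff.1 (Nat.eq_one_of_dvd_coprimes
      (((Nat.Prime.coprime_iff_not_dvd Nat.prime_three).2 h3).pow_left k)
      (orderOf_dvd_of_pow_eq_one hk') dvd_rfl), map_one]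
  obtain ⟨k, hk⟩ := hx3
  have hxO : x ∈ O := hOmem x (mem_centralizer_singleton_iff.2 hx)
    (((by decide : Odd 3).pow).of_dvd_nat (orderOf_dvd_of_pow_eq_one hk))
  have h3O : ¬ 3 ∣ Nat.card O := by
    have h1 : (R : Subgroup O) = ⊥ := (map_eq_bot_iff_of_injective _ O.subtype_injective).1 hRbot
    exact fun h => R.ne_bot_of_dvd_card h h1
  refine orderOf_eq_one_iff.1 (Nat.eq_one_of_dvd_coprimes
    (((Nat.Prime.coprime_iff_not_dvd Nat.prime_three).2 h3O).pow_left k)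
    (orderOf_dvd_of_pow_eq_one hk) (Subgroup.orderOf_dvd_natCard O hxO))

/-- `L⟨t⟩` normalises no non-trivial 3-group. -/
theorem L_three {R : Subgroup G} (hR : IsPGroup 3 R) (ht : ∀ r ∈ R, D.t * r * D.t⁻¹ ∈ R)
    (hL : ∀ l : PSL2 D.F, ∀ r ∈ R, D.jL l * r * (D.jL l)⁻¹ ∈ R) : R = ⊥ := by
  have h3 : ∀ r ∈ R, ∃ k, r ^ 3 ^ k = 1 := fun r hr => by
    obtain ⟨k, hk⟩ := hR ⟨r, hr⟩
    exact ⟨k, by simpa using congrArg Subtype.val hk⟩
  obtain ⟨ld, hld⟩ : ∃ ld : JanThom.LData (PSL2 D.F) (Fintype.card D.F : ℤ), ld.s = D.s := by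
    have h := exists_lData_at D.q_mod (by have := D.q_large; omega) D.s_sq D.s_ne
    rwa [if_pos P.q_three] at h
  -- the part inside `L`
  have hT : ∀ a : PSL2 D.F, D.jL a ∈ R → a = 1 := by
    have hss : D.jL D.s * D.jL D.s = 1 := by rw [← map_mul, D.s_sq, map_one]
    have hinv := inverts_of_fpf (R := R ⊓ D.jL.range) hss
      (fun r hr => ⟨hL _ r hr.1, by
        obtain ⟨a, rfl⟩ := hr.2
        exact ⟨D.s * a * D.s⁻¹, by rw [map_mul, map_mul, map_inv]⟩⟩)
      (fun r hr hrs => by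
        obtain ⟨a, rfl⟩ := hr.2
        obtain ⟨k, hk⟩ := h3 _ hr.1
        rw [← map_pow, map_eq_one_iff _ D.jL_inj] at hk
        rw [← map_mul, ← map_mul] at hrs
        have hC : a ∈ centralizer ({ld.s} : Set (PSL2 D.F)) :=
          mem_centralizer_singleton_iff.2 (by rw [hld]; exact (D.jL_inj hrs).symm)
        have hd := Subgroup.orderOf_dvd_natCard _ hC
        rw [ld.card_Cs] at hd
        have hq3 : 3 ∣ Fintype.card D.F := P.card_F ▸ dvd_pow_self 3 P.n_pos.ne'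
        have h4 := ld.h_eq
        have h3h : ¬ 3 ∣ 4 * ld.h := by omega
        rw [orderOf_eq_one_iff.1 (Nat.eq_one_of_dvd_coprimes
          (((Nat.Prime.coprime_iff_not_dvd Nat.prime_three).2 h3h).pow_left k)
          (orderOf_dvd_of_pow_eq_one hk) hd), map_one])
    intro a ha
    refine D.jL_inj ((P.no_inv (D.t_jL a).symm (h3 _ ha) (D.t_jL D.s).symm hss
      (hinv _ ⟨ha, a, rfl⟩)).trans (map_one _).symm)
  refine P.four_trivial hR (j := D.jL D.s) (by rw [← map_mul, D.s_sq, map_one])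
    (fun h => D.s_ne (D.jL_inj (h.trans (map_one _).symm))) (fun h => D.t_notMem (h ▸ D.jL_mem _))
    (D.t_jL D.s).symm ht (hL _) ?_
  intro r hr hrt
  obtain ⟨k, hk⟩ := h3 r hr
  have hrodd : Odd (orderOf r) := ((by decide : Odd 3).pow).of_dvd_nat (orderOf_dvd_of_pow_eq_one hk)
  have hrX : r ∈ D.X := by
    refine ClosedAbelian.mem_of_sq_mem ?_ hrodd
    rcases D.dec r (mem_centralizer_singleton_iff.2 hrt.symm) with h | h
    · exact mul_mem h h
    · have h' : D.t * r * (D.t * r) ∈ D.X := mul_mem h h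
      rwa [mul_assoc, ← mul_assoc r, ← hrt, mul_assoc D.t r r, ← mul_assoc D.t, D.t_sq, one_mul] at h'
  have hcomm : ∀ l : PSL2 D.F, D.jL l * r = r * D.jL l := by
    intro l
    obtain ⟨a, σ, rfl⟩ := D.prod r hrX
    set r := D.jL a * D.jΦ σ with hrd
    have hm : D.jL l * r * (D.jL l)⁻¹ * r⁻¹ ∈ R := mul_mem (hL l r hr) (inv_mem hr)
    have he : D.jL l * r * (D.jL l)⁻¹ * r⁻¹ =
        D.jL (l * (a * semi 1 (σ : D.F ≃+* D.F) l⁻¹ * a⁻¹)) := by
      rw [map_mul, map_mul, map_mul, map_inv D.jL a, ← D.jconj, map_inv, hrd]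
      group
    rw [he] at hm
    have h1 := congrArg D.jL (hT _ hm)
    rw [← he, map_one, mul_inv_eq_one, mul_inv_eq_iff_eq_mul] at h1
    exact h1
  have hrBP : r ∈ BP D := ⟨hrX, Subgroup.mem_normalizer_fintype fun u hu => by
    obtain ⟨v, hv, rfl⟩ := hu
    rw [← hcomm v, mul_inv_cancel_right]
    exact mem_map_of_mem _ hv⟩
  obtain ⟨b, hb⟩ := P.exists_Z
  have hrU := P.cen_UG hrBP (fun u hu => by obtain ⟨v, -, rfl⟩ := hu; exact (hcomm v).symm)
  exact P.fix_UG hb hrU (hcomm b)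

end Prim

end Cfsg.Agent.NoField.P3
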