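import Cfsg.Agent.Lib.NoField.WeightBase
import Cfsg.Agent.Lib.Solvable.SchurZassenhaus
import Cfsg.Agent.Lib.LocalEven.Frattini
import Cfsg.Agent.Lib.FGStruct.MaximalCount
import Cfsg.Agent.Lib.OddChar.OddTheorem
import Mathlib.LinearAlgebra.Matrix.NonsingularInverse
import Mathlib.FieldTheory.Finite.Basic
import Mathlib.LinearAlgebra.Matrix.CharP

/-!
A `p`-group `P` with an automorphism `α` of weights `1` and `ω`, and the groups of automorphisms in which
no power of the fixed element `f` moves to another one: they have a normal Sylow `p`-subgroup, and when their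
`p`-elements are inner they fix a homomorphism onto `ZMod p` which does not vanish at `f`.
-/

set_option autoImplicit false
set_option linter.unusedSectionVars false
set_option linter.style.haveILetI false

namespace Cfsg.Agent.NoField.Weight

open Subgroup
open scoped commutatorElement Matrix

universe u

/-- A fixed-point argument: equal cosets of a normal `p`-subgroup contain conjugate `p'`-elements. -/
theorem conj_of_coset {G : Type u} [Group G] [Finite G] {p : ℕ} [Fact p.Prime] {N : Subgroup G}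
    (hN : IsPGroup p N) {a b : G} (haN : a ∈ normalizer (N : Set G)) (ha : ¬ p ∣ orderOf a)
    (hb : ¬ p ∣ orderOf b) (hab : a⁻¹ * b ∈ N) : ∃ k ∈ N, k * a * k⁻¹ = b := by
  have hp : p.Prime := Fact.out
  obtain ⟨e, he⟩ := IsPGroup.iff_card.1 hN
  have hcop : ∀ x : G, ¬ p ∣ orderOf x → (Nat.card (zpowers x)).Coprime (Nat.card N) := fun x hx => by
    rw [Nat.card_zpowers, he]
    exact Nat.Coprime.pow_right _ ((hp.coprime_iff_not_dvd.2 hx).symm)
  have hsmall : ∀ x : G, ¬ p ∣ orderOf x → ∀ m : ℕ, x ^ m ∈ N → x ^ m = 1 := fun x hx m hm => by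
    have := (disjoint_of_coprime_natCard (hcop x hx)).eq_bot
    exact (eq_bot_iff_forall _).1 this _ (mem_inf.2 ⟨pow_mem (mem_zpowers x) m, hm⟩)
  have hpowN : ∀ m : ℕ, (a ^ m)⁻¹ * b ^ m ∈ N := by
    intro m
    induction m with
    | zero => simp
    | succ m ih =>
      have h1 : b ^ m * b = b ^ (m + 1) := (pow_succ b m).symm
      have h2 : (a ^ (m + 1))⁻¹ * b ^ (m + 1) = (a⁻¹ * ((a ^ m)⁻¹ * b ^ m) * a) * (a⁻¹ * b) := by
        rw [← h1, pow_succ a m]; group
      rw [h2]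
      refine mul_mem ?_ hab
      have h3 := (mem_normalizer_iff.1 (inv_mem haN) _).1 ih
      rwa [inv_inv] at h3
  have hord : orderOf b = orderOf a := by
    refine Nat.dvd_antisymm (orderOf_dvd_of_pow_eq_one (hsmall b hb _ ?_))
      (orderOf_dvd_of_pow_eq_one (hsmall a ha _ ?_))
    · have := hpowN (orderOf a)
      rwa [pow_orderOf_eq_one, inv_one, one_mul] at this
    · have := hpowN (orderOf b)
      rw [pow_orderOf_eq_one, mul_one] at this
      rwa [inv_mem_iff] at this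
  haveI : Fact (Nat.Prime p) := ⟨hp⟩
  have hBle : zpowers b ≤ N ⊔ zpowers a := by
    rw [zpowers_le]
    have := mul_mem (mem_sup_right (S := N) (mem_zpowers a)) (mem_sup_left (T := zpowers a) hab)
    rwa [mul_inv_cancel_left] at this
  obtain ⟨k, hk, hkA⟩ := SchurZ.conj_in (zpowers_le.2 haN) (hcop a ha)
    (Or.inl (Group.isSolvable_of_comm fun x y => mul_comm' x y)) hBle
    (by rw [Nat.card_zpowers, Nat.card_zpowers, hord])
  refine ⟨k, hk, ?_⟩
  have hmem : k * a * k⁻¹ ∈ zpowers b := by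
    rw [← hkA]
    exact Subgroup.smul_mem_pointwise_smul _ (MulAut.conj k) _ (mem_zpowers a)
  obtain ⟨j, hj⟩ := (mem_powers_iff_mem_zpowers.2 hmem)
  simp only at hj
  -- modulo `N` both sides are the image of `a`
  have h1 : (a ^ j)⁻¹ * (k * a * k⁻¹) ∈ N := by rw [← hj]; exact hpowN j
  have h2 : (k * a * k⁻¹)⁻¹ * a ∈ N := by
    rw [show (k * a * k⁻¹)⁻¹ * a = k * (a⁻¹ * k⁻¹ * a) by group]
    refine mul_mem hk ?_
    have := (mem_normalizer_iff.1 (inv_mem haN) _).1 (inv_mem hk)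
    rwa [inv_inv] at this
  have h3 : (a ^ j)⁻¹ * a ∈ N := by
    have := mul_mem h1 h2
    rwa [mul_assoc, mul_inv_cancel_left] at this
  have h4 : ∃ m : ℕ, a ^ m = (a ^ j)⁻¹ * a := by
    obtain ⟨m, hm⟩ := mem_powers_iff_mem_zpowers.2
      (mul_mem (inv_mem (pow_mem (mem_zpowers a) j)) (mem_zpowers a))
    exact ⟨m, hm⟩
  obtain ⟨m, hm⟩ := h4
  have h5 : a ^ j = a ^ 1 := by
    have h6 := hsmall a ha m (hm.symm ▸ h3)
    rw [hm, inv_mul_eq_one] at h6
    rw [pow_one]; exact h6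
  have h7 : b ^ j = b ^ 1 := by
    rw [pow_eq_pow_iff_modEq] at h5 ⊢
    rwa [hord]
  rw [← hj, h7, pow_one]

variable {P : Type u} [Group P] [Finite P]

/-- The data. -/
structure Auto (p : ℕ) (P : Type u) [Group P] [Finite P] where
  f : P
  z : P
  ω : ℕ
  n : ℕ
  α : MulAut P
  hP : IsPGroup p P
  α_f : α f = f
  α_z : α z = z ^ ω
  f_ne : f ≠ 1
  z_order : orderOf z = p
  z_notMem : z ∉ zpowers f
  fz : f * z = z * f
  cen_f : ∀ x, x * f = f * x → ∃ i j : ℕ, x = f ^ i * z ^ j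
  ω_one : (ω : ZMod p) ≠ 1
  ω_sq : (ω : ZMod p) ^ 2 ≠ 1
  n_cop : ¬ p ∣ n
  α_pow : α ^ n = 1
  α_fix : ∀ x, α x = x → x ∈ zpowers f
  coset : ∀ x, ∃ c, α c = c ∧ x * c⁻¹ ∈ closure (Set.range fun y : P => y⁻¹ * α y)

variable {p : ℕ} [hpF : Fact p.Prime] (S : Auto p P)

namespace Auto

theorem α_iter (m : ℕ) (x : P) : (S.α ^ m) x = S.α^[m] x := by
  induction m generalizing x with
  | zero => rfl
  | succ m ih => rw [pow_succ, MulAut.mul_apply, ih, Function.iterate_succ_apply]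

theorem z_pow (k : ℕ) : S.z ^ k = 1 ↔ (k : ZMod p) = 0 := by
  rw [ZMod.natCast_eq_zero_iff, ← orderOf_dvd_iff_pow_eq_one, S.z_order]

theorem z_pow_eq {a b : ℕ} : S.z ^ a = S.z ^ b ↔ (a : ZMod p) = (b : ZMod p) := by
  rw [pow_eq_pow_iff_modEq, S.z_order, ZMod.natCast_eq_natCast_iff]

theorem α_pow_z (m : ℕ) : (S.α ^ m) S.z = S.z ^ (S.ω ^ m) := by
  induction m with
  | zero => simp
  | succ m ih => rw [pow_succ', MulAut.mul_apply, ih, map_pow, S.α_z, ← pow_mul, ← pow_succ']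

theorem ω_pow : (S.ω : ZMod p) ^ S.n = 1 := by
  have h := S.α_pow_z S.n
  rw [S.α_pow, MulAut.one_apply] at h
  nth_rw 1 [← pow_one S.z] at h
  rw [S.z_pow_eq] at h
  push_cast at h
  exact h.symm

theorem ω_ne_zero : (S.ω : ZMod p) ≠ 0 := fun h => by
  have h1 := S.ω_pow
  have hn : S.n ≠ 0 := fun h0 => S.n_cop (h0 ▸ dvd_zero p)
  rw [h, zero_pow hn] at h1
  exact zero_ne_one h1

/-- The moved part. -/
def Q : Subgroup P := closure (Set.range fun y : P => y⁻¹ * S.α y)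

theorem d_mem (y : P) : y⁻¹ * S.α y ∈ S.Q := subset_closure ⟨y, rfl⟩

theorem Q_normal : S.Q.Normal := by
  refine ⟨fun x hx g => ?_⟩
  suffices h : S.Q ≤ S.Q.comap (MulAut.conj g).toMonoidHom from h hx
  refine (closure_le _).2 ?_
  rintro _ ⟨y, rfl⟩
  show g * (y⁻¹ * S.α y) * g⁻¹ ∈ S.Q
  have h : g * (y⁻¹ * S.α y) * g⁻¹ = ((y * g⁻¹)⁻¹ * S.α (y * g⁻¹)) * ((g⁻¹)⁻¹ * S.α g⁻¹)⁻¹ := by
    rw [map_mul, map_inv]; group
  rw [h]
  exact mul_mem (S.d_mem _) (inv_mem (S.d_mem _))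

theorem Q_α {x : P} (hx : x ∈ S.Q) : S.α x ∈ S.Q := by
  suffices h : S.Q ≤ S.Q.comap S.α.toMonoidHom from h hx
  refine (closure_le _).2 ?_
  rintro _ ⟨y, rfl⟩
  show S.α (y⁻¹ * S.α y) ∈ S.Q
  rw [map_mul, map_inv]
  exact S.d_mem _

theorem decomp (x : P) : ∃ q ∈ S.Q, ∃ i : ℕ, x = q * S.f ^ i := by
  obtain ⟨c, hc, hx⟩ := S.coset x
  obtain ⟨i, hi⟩ := mem_powers_iff_mem_zpowers.2 (S.α_fix c hc)
  simp only at hi
  exact ⟨x * c⁻¹, hx, i, by rw [hi, inv_mul_cancel_right]⟩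

theorem good : Good S.α S.ω ⊤ := by
  refine good_top S.ω _ P rfl S.hP S.α S.f S.α_f ?_
  intro A B hAB hBC hA hB hn hne
  by_cases hex : ∃ b ∈ B, b ∉ A ∧ b⁻¹ * S.α b ∈ A
  · obtain ⟨b, hb, hbA, h⟩ := hex
    exact ⟨b, hb, hbA, 1, Or.inl rfl, by rwa [pow_one]⟩
  · push Not at hex
    obtain ⟨b, hb, hbA⟩ := SetLike.not_le_iff_exists.1 hne
    obtain ⟨i, j, rfl⟩ := S.cen_f b (mem_centralizer_singleton_iff.1 (hBC hb))
    have hd := hex _ hb hbA
    have hdB := mul_mem (inv_mem hb) (hB _ hb)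
    have e : (S.f ^ i * S.z ^ j)⁻¹ * S.α (S.f ^ i * S.z ^ j) = (S.z ^ j)⁻¹ * S.z ^ (S.ω * j) := by
      rw [map_mul, map_pow, map_pow, S.α_f, S.α_z, ← pow_mul]; group
    rw [e] at hd hdB
    refine ⟨_, hdB, hd, S.ω, Or.inr rfl, ?_⟩
    rw [map_mul, map_inv, map_pow, map_pow, S.α_z,
      (show Commute (S.z ^ j)⁻¹ (S.z ^ (S.ω * j)) from (Commute.pow_pow_self S.z _ _).inv_left).mul_pow,
      inv_pow]
    simp only [← pow_mul]
    rw [show S.ω * j * S.ω = S.ω * (S.ω * j) by ring, mul_comm j S.ω, inv_mul_cancel]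
    exact one_mem A

/-- `Q` is generated by what `α` moves in it. -/
theorem Q_gen : closure (Set.range fun q : S.Q => (q : P)⁻¹ * S.α q) = S.Q := by
  haveI := S.Q_normal
  refine le_antisymm ((closure_le _).2 (by rintro _ ⟨q, rfl⟩; exact S.d_mem _)) ?_
  set C := closure (Set.range fun q : S.Q => (q : P)⁻¹ * S.α q) with hC
  refine (closure_le _).2 ?_
  rintro _ ⟨y, rfl⟩
  obtain ⟨q, hq, i, rfl⟩ := S.decomp y
  have hq' : (S.f ^ i)⁻¹ * q * S.f ^ i ∈ S.Q := by
    have := S.Q_normal.conj_mem q hq (S.f ^ i)⁻¹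
    rwa [inv_inv] at this
  refine subset_closure ⟨⟨_, hq'⟩, ?_⟩
  show ((S.f ^ i)⁻¹ * q * S.f ^ i)⁻¹ * S.α ((S.f ^ i)⁻¹ * q * S.f ^ i) = (q * S.f ^ i)⁻¹ * S.α (q * S.f ^ i)
  simp only [map_mul, map_inv, map_pow, S.α_f]
  group

/-- `α` on `Q`. -/
noncomputable def αQ : MulAut S.Q :=
  MulEquiv.ofBijective ((S.α.toMonoidHom.comp S.Q.subtype).codRestrict S.Q fun q => S.Q_α q.2)
    (Finite.injective_iff_bijective.1 fun a b h =>
      Subtype.ext (S.α.injective (congrArg Subtype.val h)))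

theorem αQ_coe (q : S.Q) : ((S.αQ q : S.Q) : P) = S.α q := rfl

theorem Q_comm {a b : P} (ha : a ∈ S.Q) (hb : b ∈ S.Q) : a * b = b * a := by
  have hit : ∀ (m : ℕ) (q : S.Q), ((S.αQ^[m] q : S.Q) : P) = S.α^[m] q := by
    intro m
    induction m with
    | zero => intro q; rfl
    | succ m ih => intro q; rw [Function.iterate_succ_apply, Function.iterate_succ_apply, ih]; rfl
  have hgood : Good S.αQ S.ω ⊤ := by
    intro A B hAB _ hA hB hn hne
    obtain ⟨b, hb, hbA, e, he, hbe⟩ := S.good (A.map S.Q.subtype) (B.map S.Q.subtype) (map_mono hAB) le_top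
      (by rintro _ ⟨q, hq, rfl⟩; exact ⟨_, hA q hq, rfl⟩)
      (by rintro _ ⟨q, hq, rfl⟩; exact ⟨_, hB q hq, rfl⟩)
      (by rintro _ ⟨c, hc, rfl⟩ _ ⟨q, hq, rfl⟩; exact ⟨_, hn c hc q hq, by simp⟩)
      (fun h => hne fun q hq => by
        obtain ⟨r, hr, hrq⟩ := h ⟨q, hq, rfl⟩
        exact S.Q.subtype_injective hrq ▸ hr)
    obtain ⟨b, hb, rfl⟩ := hb
    refine ⟨b, hb, fun h => hbA ⟨b, h, rfl⟩, e, he, ?_⟩
    obtain ⟨r, hr, hre⟩ := hbe
    have : r = (b ^ e)⁻¹ * S.αQ b := Subtype.ext (by simpa [S.αQ_coe] using hre)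
    exact this ▸ hr
  have hgen : closure (Set.range fun x : S.Q => x⁻¹ * S.αQ x) = ⊤ := by
    refine map_injective S.Q.subtype_injective ?_
    rw [MonoidHom.map_closure, ← Set.range_comp, ← MonoidHom.range_eq_map, range_subtype]
    exact S.Q_gen
  exact congrArg Subtype.val (comm_of_good (S.hP.to_subgroup _) S.αQ hgood S.n_cop
    (fun q => Subtype.ext (by rw [hit, ← S.α_iter, S.α_pow]; rfl)) S.ω_pow S.ω_one S.ω_sq hgen
    ⟨a, ha⟩ ⟨b, hb⟩)

/-- Nothing of `Q` is fixed. -/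
theorem Q_fix {x : P} (hx : x ∈ S.Q) (h : S.α x = x) : x = 1 := by
  let d : S.Q →* S.Q :=
    { toFun := fun q => q⁻¹ * S.αQ q
      map_one' := by simp
      map_mul' := fun a b => Subtype.ext (by
        simp only [map_mul, Subgroup.coe_mul, Subgroup.coe_inv, S.αQ_coe, mul_inv_rev]
        rw [mul_assoc ((b : P))⁻¹, S.Q_comm (inv_mem b.2) (mul_mem (inv_mem a.2)
          (mul_mem (S.Q_α a.2) (S.Q_α b.2))), ← mul_assoc (a : P)⁻¹, mul_assoc ((a : P)⁻¹ * S.α a),
          S.Q_comm (S.Q_α b.2) (inv_mem b.2)]) }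
  have hsur : Function.Surjective d := by
    rw [← MonoidHom.range_eq_top]
    refine map_injective S.Q.subtype_injective ?_
    rw [← MonoidHom.range_eq_map S.Q.subtype, range_subtype]
    refine le_antisymm (map_subtype_le _) ?_
    conv_lhs => rw [← S.Q_gen]
    refine (closure_le _).2 ?_
    rintro _ ⟨q, rfl⟩
    exact ⟨d q, ⟨q, rfl⟩, rfl⟩
  have hinj : Function.Injective d := Finite.injective_iff_surjective.2 hsur
  have h1 : d ⟨x, hx⟩ = d 1 := by
    rw [map_one]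
    exact Subtype.ext (by show x⁻¹ * S.α x = 1; rw [h, inv_mul_cancel])
  exact congrArg Subtype.val (hinj h1)

theorem f_inter {i : ℕ} (h : S.f ^ i ∈ S.Q) : S.f ^ i = 1 := S.Q_fix h (by rw [map_pow, S.α_f])

theorem z_mem : S.z ∈ S.Q := by
  have h := S.d_mem S.z
  rw [S.α_z] at h
  obtain ⟨k, hk⟩ : ∃ k : ℕ, S.z ^ k = S.z⁻¹ * S.z ^ S.ω := by
    obtain ⟨k, hk⟩ := mem_powers_iff_mem_zpowers.2
      (mul_mem (inv_mem (mem_zpowers S.z)) (pow_mem (mem_zpowers S.z) S.ω))
    exact ⟨k, hk⟩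
  have hk0 : (k : ZMod p) ≠ 0 := fun hk0 => S.ω_one <| by
    rw [(S.z_pow k).2 hk0, eq_comm, inv_mul_eq_one] at hk
    nth_rw 1 [← pow_one S.z] at hk
    rw [S.z_pow_eq] at hk
    exact_mod_cast hk.symm
  obtain ⟨c, hc⟩ : ∃ c : ℕ, (c : ZMod p) = (k : ZMod p)⁻¹ := ⟨_, ZMod.natCast_zmod_val _⟩
  have h2 : S.z = (S.z ^ k) ^ c := by
    rw [← pow_mul]
    nth_rw 1 [← pow_one S.z]
    rw [S.z_pow_eq]
    push_cast
    rw [hc, mul_inv_cancel₀ hk0]
  rw [h2, hk]
  exact pow_mem h c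

theorem Q_cen {q : P} (hq : q ∈ S.Q) (h : q * S.f = S.f * q) : ∃ j : ℕ, q = S.z ^ j := by
  obtain ⟨i, j, rfl⟩ := S.cen_f q h
  have hi : S.f ^ i ∈ S.Q := by
    have := mul_mem hq (inv_mem (pow_mem S.z_mem j))
    rwa [mul_inv_cancel_right] at this
  exact ⟨j, by rw [S.f_inter hi, one_mul]⟩

theorem decomp_unique {q r : P} {i k : ℕ} (hq : q ∈ S.Q) (hr : r ∈ S.Q)
    (h : q * S.f ^ i = r * S.f ^ k) : q = r ∧ (i : ZMod p) = (k : ZMod p) := by
  have h1 : S.f ^ k = r⁻¹ * (q * S.f ^ i) := by rw [h, inv_mul_cancel_left]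
  have hmem : r⁻¹ * q ∈ S.Q := mul_mem (inv_mem hr) hq
  have hfix : S.α (r⁻¹ * q) = r⁻¹ * q := by
    have h2 : r⁻¹ * q = S.f ^ k * (S.f ^ i)⁻¹ := by rw [h1]; group
    rw [h2, map_mul, map_inv, map_pow, map_pow, S.α_f]
  have hqr : q = r := by
    have := S.Q_fix hmem hfix
    rw [inv_mul_eq_one] at this
    exact this.symm
  refine ⟨hqr, ?_⟩
  rw [hqr] at h
  have h3 : S.f ^ i = S.f ^ k := mul_left_cancel h
  rw [pow_eq_pow_iff_modEq] at h3
  obtain ⟨m, hm⟩ := IsPGroup.iff_orderOf.1 S.hP S.f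
  have hm0 : m ≠ 0 := fun h0 => S.f_ne (orderOf_eq_one_iff.1 (by rw [hm, h0, pow_zero]))
  rw [ZMod.natCast_eq_natCast_iff]
  exact h3.of_dvd (hm ▸ dvd_pow_self p hm0)

/-- The commutator with `f` on `Q`. -/
def δ : S.Q →* S.Q where
  toFun q := ⟨(q : P) * (S.f * (q : P)⁻¹ * S.f⁻¹), mul_mem q.2 (S.Q_normal.conj_mem _ (inv_mem q.2) S.f)⟩
  map_one' := by ext; simp
  map_mul' a b := Subtype.ext (by
    simp only [Subgroup.coe_mul]
    have ha := S.Q_normal.conj_mem _ (inv_mem a.2) S.f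
    have hb := S.Q_normal.conj_mem _ (inv_mem b.2) S.f
    rw [show S.f * ((a : P) * b)⁻¹ * S.f⁻¹ = (S.f * (b : P)⁻¹ * S.f⁻¹) * (S.f * (a : P)⁻¹ * S.f⁻¹) by group,
      S.Q_comm hb ha, mul_assoc (a : P), ← mul_assoc (b : P), S.Q_comm b.2 ha,
      mul_assoc (S.f * (a : P)⁻¹ * S.f⁻¹), ← mul_assoc (a : P)])

theorem δ_coe (q : S.Q) : ((S.δ q : S.Q) : P) = q * (S.f * (q : P)⁻¹ * S.f⁻¹) := rfl

/-- The kernel of the coordinate on `Q`. -/
def R₀ : Subgroup P := S.δ.range.map S.Q.subtype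

theorem R₀_le : S.R₀ ≤ S.Q := map_subtype_le _

theorem δ_mem {q : P} (hq : q ∈ S.Q) : q * (S.f * q⁻¹ * S.f⁻¹) ∈ S.R₀ :=
  ⟨S.δ ⟨q, hq⟩, ⟨⟨q, hq⟩, rfl⟩, rfl⟩

theorem R₀_α {x : P} (hx : x ∈ S.R₀) : S.α x ∈ S.R₀ := by
  obtain ⟨_, ⟨q, rfl⟩, rfl⟩ := hx
  have : S.α (S.Q.subtype (S.δ q)) = S.α q * (S.f * (S.α q)⁻¹ * S.f⁻¹) := by
    show S.α ((S.δ q : S.Q) : P) = _
    rw [δ_coe]; simp only [map_mul, map_inv, S.α_f]
  rw [this]
  exact S.δ_mem (S.Q_α q.2)

theorem R₀_index : S.δ.range.index = p := by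
  have hker : S.δ.ker = (zpowers S.z).subgroupOf S.Q := by
    ext q
    rw [MonoidHom.mem_ker, mem_subgroupOf, Subtype.ext_iff, δ_coe, Subgroup.coe_one]
    constructor
    · intro h
      obtain ⟨j, hj⟩ := S.Q_cen q.2 (by
        have h1 : (q : P) * S.f * (q : P)⁻¹ * S.f⁻¹ = 1 := by simpa only [mul_assoc] using h
        rw [mul_inv_eq_one, mul_inv_eq_iff_eq_mul] at h1
        exact h1)
      exact hj ▸ pow_mem (mem_zpowers _) j
    · intro h
      obtain ⟨j, hj⟩ := mem_powers_iff_mem_zpowers.2 h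
      simp only at hj
      rw [← hj, ← inv_pow, ((show Commute S.f S.z from S.fz).inv_right.pow_right j).eq,
        mul_inv_cancel_right, inv_pow, mul_inv_cancel]
  have h1 := card_mul_index S.δ.ker
  rw [index_ker] at h1
  have h2 := card_mul_index S.δ.range
  rw [← h1, hker, Nat.card_congr (subgroupOfEquivOfLe (zpowers_le.2 S.z_mem)).toEquiv, Nat.card_zpowers,
    S.z_order, mul_comm p] at h2
  exact Nat.eq_of_mul_eq_mul_left Nat.card_pos h2

theorem exists_gen : ∃ b ∈ S.Q, (∀ q ∈ S.Q, ∃ j : ℕ, (b ^ j)⁻¹ * q ∈ S.R₀) ∧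
    (∀ j : ℕ, b ^ j ∈ S.R₀ ↔ (j : ZMod p) = 0) ∧ (b ^ S.ω)⁻¹ * S.α b ∈ S.R₀ := by
  have hp : p.Prime := Fact.out
  haveI : IsMulCommutative S.Q := ⟨⟨fun a b => Subtype.ext (S.Q_comm a.2 b.2)⟩⟩
  haveI hn : S.δ.range.Normal := ⟨fun x hx g => by rw [mul_comm' g, mul_inv_cancel_right]; exact hx⟩
  have hidx := S.R₀_index
  have hne : ¬ S.Q ≤ S.R₀ := fun h => by
    have htop : S.δ.range = ⊤ := eq_top_iff.2 fun q _ => by
      obtain ⟨r, hr, hrq⟩ := h q.2
      exact S.Q.subtype_injective hrq ▸ hr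
    rw [htop, index_top] at hidx
    exact hp.one_lt.ne hidx
  obtain ⟨b, hbQ, hbR, e, he, hbe⟩ := S.good S.R₀ S.Q S.R₀_le le_top (fun x hx => S.R₀_α hx)
    (fun x hx => S.Q_α hx)
    (fun c hc a ha => by rw [S.Q_comm hc (S.R₀_le ha), mul_inv_cancel_right]; exact ha) hne
  haveI hqp : Nat.card (S.Q ⧸ S.δ.range) = p := hidx
  let π := QuotientGroup.mk' S.δ.range
  have hmem : ∀ q : S.Q, (q : P) ∈ S.R₀ ↔ π q = 1 := fun q => by
    rw [show π q = (q : S.Q ⧸ S.δ.range) from rfl, QuotientGroup.eq_one_iff]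
    exact ⟨fun ⟨r, hr, h⟩ => S.Q.subtype_injective h ▸ hr, fun h => ⟨q, h, rfl⟩⟩
  set bq : S.Q := ⟨b, hbQ⟩
  have hord : orderOf (π bq) = p :=
    ((Nat.dvd_prime hp).1 ((orderOf_dvd_natCard (π bq)).trans (dvd_of_eq hqp))).resolve_left fun h =>
      hbR ((hmem bq).2 (orderOf_eq_one_iff.1 h))
  have hgen : ∀ q : S.Q, ∃ j : ℕ, π bq ^ j = π q := fun q => by
    have htop : zpowers (π bq) = ⊤ := eq_top_of_card_eq _ (by rw [Nat.card_zpowers, hord, hqp])
    exact mem_powers_iff_mem_zpowers.2 (htop ▸ mem_top (π q))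
  have hj : ∀ j : ℕ, b ^ j ∈ S.R₀ ↔ (j : ZMod p) = 0 := fun j => by
    rw [show b ^ j = ((bq ^ j : S.Q) : P) from rfl, hmem, map_pow, ← orderOf_dvd_iff_pow_eq_one, hord,
      ZMod.natCast_eq_zero_iff]
  have hdec : ∀ q ∈ S.Q, ∃ j : ℕ, (b ^ j)⁻¹ * q ∈ S.R₀ := fun q hq => by
    obtain ⟨j, hj'⟩ := hgen ⟨q, hq⟩
    refine ⟨j, (hmem ((bq ^ j)⁻¹ * ⟨q, hq⟩)).2 ?_⟩
    rw [map_mul, map_inv, map_pow, hj', inv_mul_cancel]
  refine ⟨b, hbQ, hdec, hj, ?_⟩
  rcases he with rfl | rfl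
  · exfalso
    refine hne fun q hq => ?_
    have hsub : S.Q ≤ S.R₀ := by
      conv_lhs => rw [← S.Q_gen]
      refine (closure_le _).2 ?_
      rintro _ ⟨x, rfl⟩
      obtain ⟨j, hjx⟩ := hdec x x.2
      rw [pow_one] at hbe
      have h1 : (b ^ j)⁻¹ * S.α (b ^ j) ∈ S.R₀ := by
        rw [map_pow, ← inv_pow, ← (show Commute b⁻¹ (S.α b) from
          S.Q_comm (inv_mem hbQ) (S.Q_α hbQ)).mul_pow]
        exact pow_mem hbe j
      show (x : P)⁻¹ * S.α x ∈ S.R₀
      have h2 : (x : P)⁻¹ * S.α x =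
          ((b ^ j)⁻¹ * x)⁻¹ * ((b ^ j)⁻¹ * S.α (b ^ j)) * S.α ((b ^ j)⁻¹ * x) := by
        rw [map_mul, map_inv]; group
      rw [h2]
      exact mul_mem (mul_mem (inv_mem hjx) h1) (S.R₀_α hjx)
    exact hsub hq
  · exact hbe

/-- The generator of `Q` modulo `R₀`. -/
noncomputable def b : P := S.exists_gen.choose

theorem b_mem : S.b ∈ S.Q := S.exists_gen.choose_spec.1

theorem b_dec {q : P} (hq : q ∈ S.Q) : ∃ j : ℕ, (S.b ^ j)⁻¹ * q ∈ S.R₀ := S.exists_gen.choose_spec.2.1 q hq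

theorem b_pow (j : ℕ) : S.b ^ j ∈ S.R₀ ↔ (j : ZMod p) = 0 := S.exists_gen.choose_spec.2.2.1 j

theorem b_α : (S.b ^ S.ω)⁻¹ * S.α S.b ∈ S.R₀ := S.exists_gen.choose_spec.2.2.2

theorem exists_coord (x : P) : ∃ i j : ℕ, ∃ r ∈ S.R₀, x = S.b ^ j * r * S.f ^ i := by
  obtain ⟨q, hq, i, rfl⟩ := S.decomp x
  obtain ⟨j, hj⟩ := S.b_dec hq
  exact ⟨i, j, _, hj, by rw [mul_inv_cancel_left]⟩

/-- The two coordinates. -/
noncomputable def co (x : P) : Fin 2 → ZMod p :=
  ![((S.exists_coord x).choose : ZMod p), ((S.exists_coord x).choose_spec.choose : ZMod p)]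

theorem co_spec {i j : ℕ} {r : P} (hr : r ∈ S.R₀) :
    S.co (S.b ^ j * r * S.f ^ i) = ![(i : ZMod p), (j : ZMod p)] := by
  set x := S.b ^ j * r * S.f ^ i with hx
  obtain ⟨r', hr', h⟩ := (S.exists_coord x).choose_spec.choose_spec
  set i' := (S.exists_coord x).choose
  set j' := (S.exists_coord x).choose_spec.choose
  obtain ⟨h1, h2⟩ := S.decomp_unique (mul_mem (pow_mem S.b_mem j) (S.R₀_le hr))
    (mul_mem (pow_mem S.b_mem j') (S.R₀_le hr')) (hx.symm.trans h)
  have key : ∀ (a c : ℕ) (u w : P), u ∈ S.R₀ → w ∈ S.R₀ → S.b ^ a * u = S.b ^ c * w → a ≤ c →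
      (a : ZMod p) = (c : ZMod p) := by
    intro a c u w hu hw he hle
    rw [← Nat.add_sub_of_le hle, pow_add, mul_assoc] at he
    have h4 : S.b ^ (c - a) = u * w⁻¹ := by rw [mul_left_cancel he, mul_inv_cancel_right]
    have h5 := (S.b_pow (c - a)).1 (h4 ▸ mul_mem hu (inv_mem hw))
    rw [Nat.cast_sub hle, sub_eq_zero] at h5
    exact h5.symm
  have h3 : (j : ZMod p) = (j' : ZMod p) := by
    rcases Nat.le_total j j' with hle | hle
    · exact key j j' r r' hr hr' h1 hle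
    · exact (key j' j r' r hr' hr h1.symm hle).symm
  rw [h2, h3]
  rfl

theorem co_f : S.co S.f = ![1, 0] := by
  have h := S.co_spec (i := 1) (j := 0) (one_mem S.R₀)
  simpa using h

theorem co_b : S.co S.b = ![0, 1] := by
  have h := S.co_spec (i := 0) (j := 1) (one_mem S.R₀)
  simpa using h

theorem co_Q {q : P} (hq : q ∈ S.Q) : S.co q 0 = 0 := by
  obtain ⟨j, hj⟩ := S.b_dec hq
  have h := S.co_spec (i := 0) (j := j) hj
  rw [pow_zero, mul_one, mul_inv_cancel_left] at h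
  rw [h]; simp

theorem co_mul (x y : P) : S.co (x * y) = S.co x + S.co y := by
  obtain ⟨i, j, r, hr, rfl⟩ := S.exists_coord x
  obtain ⟨k, l, s, hs, rfl⟩ := S.exists_coord y
  have hq : S.b ^ l * s ∈ S.Q := mul_mem (pow_mem S.b_mem l) (S.R₀_le hs)
  -- moving `f ^ i` to the right changes `q` only inside `R₀`
  have hmove : ∀ m : ℕ, ∃ t ∈ S.R₀, S.f ^ m * (S.b ^ l * s) = S.b ^ l * s * t * S.f ^ m := by
    intro m
    induction m with
    | zero => exact ⟨1, one_mem _, by simp⟩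
    | succ m ih =>
      obtain ⟨t, ht, e⟩ := ih
      have hq' : S.b ^ l * s * t ∈ S.Q := mul_mem hq (S.R₀_le ht)
      refine ⟨t * ((S.b ^ l * s * t) * (S.f * (S.b ^ l * s * t)⁻¹ * S.f⁻¹))⁻¹,
        mul_mem ht (inv_mem (S.δ_mem hq')), ?_⟩
      rw [pow_succ', mul_assoc S.f, e]
      have hcm := S.Q_comm hq' (S.Q_normal.conj_mem _ hq' S.f)
      calc S.f * (S.b ^ l * s * t * S.f ^ m)
          = (S.f * (S.b ^ l * s * t) * S.f⁻¹) * (S.b ^ l * s * t) * (S.b ^ l * s * t)⁻¹ * (S.f * S.f ^ m) := by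
            group
        _ = (S.b ^ l * s * t) * (S.f * (S.b ^ l * s * t) * S.f⁻¹) * (S.b ^ l * s * t)⁻¹ * (S.f * S.f ^ m) := by
            rw [hcm]
        _ = _ := by group
  obtain ⟨t, ht, e⟩ := hmove i
  have h : S.b ^ j * r * S.f ^ i * (S.b ^ l * s * S.f ^ k) =
      S.b ^ (j + l) * (r * s * t) * S.f ^ (i + k) := by
    calc S.b ^ j * r * S.f ^ i * (S.b ^ l * s * S.f ^ k)
        = S.b ^ j * r * (S.f ^ i * (S.b ^ l * s)) * S.f ^ k := by group
      _ = S.b ^ j * (r * S.b ^ l) * s * t * (S.f ^ i * S.f ^ k) := by rw [e]; group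
      _ = _ := by
        rw [S.Q_comm (S.R₀_le hr) (pow_mem S.b_mem l), ← pow_add S.f, pow_add S.b]; group
  rw [h, S.co_spec (mul_mem (mul_mem hr hs) ht), S.co_spec hr, S.co_spec hs]
  ext a
  fin_cases a <;> simp

/-- The coordinates as a homomorphism. -/
noncomputable def coHom : P →* Multiplicative (Fin 2 → ZMod p) :=
  MonoidHom.mk' (fun x => Multiplicative.ofAdd (S.co x)) fun x y => by rw [S.co_mul]; rfl

theorem co_one : S.co 1 = 0 := congrArg Multiplicative.toAdd S.coHom.map_one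

theorem co_inv (x : P) : S.co x⁻¹ = -S.co x := congrArg Multiplicative.toAdd (S.coHom.map_inv x)

theorem co_pow (x : P) (m : ℕ) : S.co (x ^ m) = m • S.co x := congrArg Multiplicative.toAdd (map_pow S.coHom x m)

theorem co_surj (v : Fin 2 → ZMod p) : ∃ x, S.co x = v := by
  refine ⟨S.b ^ (v 1).val * 1 * S.f ^ (v 0).val, ?_⟩
  rw [S.co_spec (one_mem _), ZMod.natCast_zmod_val, ZMod.natCast_zmod_val]
  ext a; fin_cases a <;> simp

/-- The kernel of the coordinates is the Frattini subgroup. -/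
theorem co_eq_zero (x : P) : S.co x = 0 ↔ x ∈ frattini P := by
  constructor
  · intro h
    obtain ⟨i, j, r, hr, rfl⟩ := S.exists_coord x
    rw [S.co_spec hr] at h
    have hi : (i : ZMod p) = 0 := by simpa using congrFun h 0
    have hj : (j : ZMod p) = 0 := by simpa using congrFun h 1
    have hR : S.R₀ ≤ frattini P := by
      rintro _ ⟨_, ⟨q, rfl⟩, rfl⟩
      have := MaximalCount.comm_mem_frattini (p := p) S.hP (q : P) S.f
      show ((S.δ q : S.Q) : P) ∈ frattini P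
      rwa [δ_coe, show (q : P) * (S.f * (q : P)⁻¹ * S.f⁻¹) = q * S.f * (q : P)⁻¹ * S.f⁻¹ by group]
    refine mul_mem (hR (mul_mem ((S.b_pow j).2 hj) hr)) ?_
    rw [ZMod.natCast_eq_zero_iff] at hi
    obtain ⟨c, rfl⟩ := hi
    rw [mul_comm, pow_mul]
    exact MaximalCount.mem_frattini_pow S.hP _
  · intro h
    have hle : frattini P ≤ S.coHom.ker := by
      refine LEFrattini.frattini_le (p := p) (fun a c => ?_) fun a => ?_
      · rw [MonoidHom.mem_ker, map_commutatorElement]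
        exact commutatorElement_eq_one_iff_mul_comm.2 (mul_comm _ _)
      · rw [MonoidHom.mem_ker]
        refine congrArg Multiplicative.ofAdd (a₂ := (0 : Fin 2 → ZMod p)) ?_
        rw [S.co_pow]
        exact ZModModule.char_nsmul_eq_zero p _
    exact congrArg Multiplicative.toAdd (MonoidHom.mem_ker.1 (hle h))

theorem co_congr (a : MulAut P) {x y : P} (h : S.co x = S.co y) : S.co (a x) = S.co (a y) := by
  have h1 : x⁻¹ * y ∈ frattini P := (S.co_eq_zero _).1 (by rw [S.co_mul, S.co_inv, h, neg_add_cancel])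
  have h2 : a (x⁻¹ * y) ∈ frattini P := by
    have := (inferInstance : (frattini P).Characteristic).fixed a
    rw [← this] at h1
    exact h1
  have h3 := (S.co_eq_zero _).2 h2
  rw [map_mul, map_inv, S.co_mul, S.co_inv, neg_add_eq_zero] at h3
  exact h3

/-- The matrix of an automorphism. -/
noncomputable def mat (a : MulAut P) : Matrix (Fin 2) (Fin 2) (ZMod p) :=
  !![S.co (a S.f) 0, S.co (a S.b) 0; S.co (a S.f) 1, S.co (a S.b) 1]

theorem co_apply (a : MulAut P) (x : P) : S.co (a x) = S.mat a *ᵥ S.co x := by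
  obtain ⟨i, j, r, hr, rfl⟩ := S.exists_coord x
  have h : S.co (a (S.b ^ j * r * S.f ^ i)) = S.co (a (S.b ^ j * S.f ^ i)) := S.co_congr a (by
    rw [S.co_spec hr]
    have := S.co_spec (i := i) (j := j) (one_mem S.R₀)
    rw [mul_one] at this
    rw [this])
  rw [h, map_mul, map_pow, map_pow, S.co_mul, S.co_pow, S.co_pow, S.co_spec hr]
  ext k
  fin_cases k <;> simp [mat, Matrix.mulVec, dotProduct, Fin.sum_univ_two, mul_comm] <;> ring

theorem mat_ext {M N : Matrix (Fin 2) (Fin 2) (ZMod p)} (h : ∀ x, M *ᵥ S.co x = N *ᵥ S.co x) : M = N := by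
  refine Matrix.ext_of_mulVec_single fun i => ?_
  obtain ⟨x, hx⟩ := S.co_surj (Pi.single i 1)
  rw [← hx]; exact h x

theorem mat_mul (a c : MulAut P) : S.mat (a * c) = S.mat a * S.mat c := S.mat_ext fun x => by
  rw [← S.co_apply, MulAut.mul_apply, S.co_apply, S.co_apply, Matrix.mulVec_mulVec]

theorem mat_one : S.mat 1 = 1 := S.mat_ext fun x => by
  rw [← S.co_apply, MulAut.one_apply, Matrix.one_mulVec]

theorem mat_α : S.mat S.α = !![1, 0; 0, (S.ω : ZMod p)] := by
  have h : S.co (S.α S.b) = ![0, (S.ω : ZMod p)] := by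
    have h1 : S.α S.b = S.b ^ S.ω * ((S.b ^ S.ω)⁻¹ * S.α S.b) * S.f ^ 0 := by simp
    rw [h1, S.co_spec S.b_α, Nat.cast_zero]
  rw [mat, S.α_f, S.co_f, h]
  rfl

/-- The matrices as a homomorphism. -/
noncomputable def rep : MulAut P →* (Matrix (Fin 2) (Fin 2) (ZMod p))ˣ :=
  MonoidHom.toHomUnits { toFun := S.mat, map_one' := S.mat_one, map_mul' := S.mat_mul }

theorem rep_coe (a : MulAut P) : ((S.rep a : (Matrix (Fin 2) (Fin 2) (ZMod p))ˣ) : Matrix (Fin 2) (Fin 2) (ZMod p)) =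
    S.mat a := rfl

theorem co_fix_of_rep {a : MulAut P} (h : S.rep a = 1) (x : P) : S.co (a x) = S.co x := by
  rw [S.co_apply, ← S.rep_coe, h, Units.val_one, Matrix.one_mulVec]

/-- The kernel is a `p`-group. -/
theorem ker_isPGroup : IsPGroup p S.rep.ker := by
  have hp : p.Prime := Fact.out
  refine IsPGroup.iff_orderOf.2 fun g => ?_
  refine ⟨_, Nat.eq_prime_pow_of_unique_prime_dvd (orderOf_pos g).ne' fun {r} hr hrd => ?_⟩
  by_contra hne
  haveI : Fact r.Prime := ⟨hr⟩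
  obtain ⟨a, ha, hao⟩ : ∃ a : MulAut P, a ∈ S.rep.ker ∧ orderOf a = r := by
    refine ⟨((g ^ (orderOf g / r) : S.rep.ker) : MulAut P), (g ^ (orderOf g / r)).2, ?_⟩
    rw [Subgroup.orderOf_coe]
    exact orderOf_pow_orderOf_div (orderOf_pos g).ne' hrd
  let Fx : Subgroup P :=
    { carrier := {x | a x = x}
      one_mem' := map_one a
      mul_mem' := fun hx hy => by show a _ = _; rw [map_mul, hx, hy]
      inv_mem' := fun hx => by show a _ = _; rw [map_inv, hx] }
  have hfix : Fx ⊔ frattini P = ⊤ := by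
    rw [eq_top_iff]
    intro x _
    let T := {y : P // x⁻¹ * y ∈ frattini P}
    have hmap : ∀ (c : zpowers a) (y : T), x⁻¹ * (c : MulAut P) y.1 ∈ frattini P := fun c y => by
      have hc : S.rep (c : MulAut P) = 1 := by
        have : (c : MulAut P) ∈ S.rep.ker := zpowers_le.2 ha c.2
        exact this
      refine (S.co_eq_zero _).1 ?_
      have hy := (S.co_eq_zero _).2 y.2
      rw [S.co_mul] at hy ⊢
      rw [S.co_fix_of_rep hc]; exact hy
    letI : MulAction (zpowers a) T :=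
      { smul := fun c y => ⟨(c : MulAut P) y.1, hmap c y⟩
        one_smul := fun y => rfl
        mul_smul := fun c d y => rfl }
    have hcard : Nat.card T = Nat.card (frattini P) :=
      Nat.card_congr (Equiv.subtypeEquiv (Equiv.mulLeft x⁻¹) fun y => by simp)
    have hz : IsPGroup r (zpowers a) := IsPGroup.of_card (n := 1) (by rw [Nat.card_zpowers, hao, pow_one])
    obtain ⟨k, hk⟩ := IsPGroup.iff_card.1 (S.hP.to_subgroup (frattini P))
    obtain ⟨y, hy⟩ := hz.nonempty_fixed_point_of_prime_not_dvd_card T (by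
      rw [hcard, hk]
      exact fun hd => hne ((Nat.prime_dvd_prime_iff_eq hr hp).1 (hr.dvd_of_dvd_pow hd)))
    have hy' : y.1 ∈ Fx := congrArg Subtype.val (hy ⟨a, mem_zpowers a⟩)
    rw [show x = y.1 * (x⁻¹ * y.1)⁻¹ by group]
    exact mul_mem (mem_sup_left hy') (mem_sup_right (inv_mem y.2))
  have htop : Fx = ⊤ := frattini_nongenerating hfix
  have ha1 : a = 1 := MulEquiv.ext fun x => (htop ▸ mem_top x : x ∈ Fx)
  rw [ha1, orderOf_one] at hao
  exact hr.one_lt.ne hao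

/-! ### Groups of automorphisms which move no power of `f` to another one -/

/-- The hypothesis on a group of automorphisms. -/
structure Nice (A : Subgroup (MulAut P)) : Prop where
  α_mem : S.α ∈ A
  fixed : ∀ a ∈ A, a S.f ∈ zpowers S.f → a S.f = S.f

variable {S} {A : Subgroup (MulAut P)}

theorem α_order (S : Auto p P) : ¬ p ∣ orderOf S.α := fun h =>
  S.n_cop (h.trans (orderOf_dvd_of_pow_eq_one S.α_pow))

/-- An element of `A` commuting with `α` modulo the kernel fixes the first coordinate of `f`. -/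
theorem Nice.diag (h : S.Nice A) {a : MulAut P} (ha : a ∈ A) (hc : S.mat a * S.mat S.α = S.mat S.α * S.mat a) :
    S.mat a 0 0 = 1 ∧ S.mat a 1 0 = 0 ∧ S.mat a 0 1 = 0 := by
  set N := S.rep.ker ⊓ A with hN
  have hα' : S.α⁻¹ * (a * S.α * a⁻¹) ∈ N := by
    refine mem_inf.2 ⟨?_, mul_mem (inv_mem h.α_mem) (mul_mem (mul_mem ha h.α_mem) (inv_mem ha))⟩
    rw [MonoidHom.mem_ker, map_mul, map_mul, map_mul, map_inv, map_inv, inv_mul_eq_one,
      eq_mul_inv_iff_mul_eq]
    exact Units.ext (by rw [Units.val_mul, Units.val_mul, S.rep_coe, S.rep_coe]; exact hc.symm)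
  have hnorm : S.α ∈ normalizer (N : Set (MulAut P)) := by
    exact inf_normalizer_le_normalizer_inf
      ⟨(le_normalizer_of_normal : A ≤ normalizer (S.rep.ker : Set (MulAut P))) h.α_mem, le_normalizer h.α_mem⟩
  obtain ⟨k, hk, hka⟩ := conj_of_coset (S.ker_isPGroup.to_le (inf_le_left : N ≤ S.rep.ker)) hnorm
    S.α_order (b := a * S.α * a⁻¹) (by
      rw [show orderOf (a * S.α * a⁻¹) = orderOf S.α from
        orderOf_injective (MulAut.conj a).toMonoidHom (MulAut.conj a).injective _]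
      exact S.α_order) hα'
  have hfix : S.α ((k⁻¹ * a) S.f) = (k⁻¹ * a) S.f := by
    have e : S.α * (k⁻¹ * a) = k⁻¹ * a * S.α := by
      have : a * S.α = k * S.α * k⁻¹ * a := by rw [hka]; group
      rw [mul_assoc, this]; group
    have := congrArg (fun g : MulAut P => g S.f) e
    simp only [MulAut.mul_apply, S.α_f] at this
    exact this
  have hf := h.fixed _ (mul_mem (inv_mem hk.2) ha) (S.α_fix _ hfix)
  have hkr : S.rep k = 1 := hk.1
  have hco : S.mat a *ᵥ ![1, 0] = ![1, 0] := by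
    rw [← S.co_f, ← S.co_apply]
    conv_rhs => rw [← hf]
    rw [← S.co_fix_of_rep hkr ((k⁻¹ * a) S.f), MulAut.mul_apply, MulAut.apply_inv_self]
  have h00 := congrFun hco 0
  have h10 := congrFun hco 1
  simp [Matrix.mulVec, dotProduct, Fin.sum_univ_two] at h00 h10
  refine ⟨h00, h10, ?_⟩
  rw [S.mat_α] at hc
  have h01 := congrFun (congrFun hc 0) 1
  simp [Matrix.mul_apply, Fin.sum_univ_two] at h01
  by_contra hne
  exact S.ω_one (mul_left_cancel₀ hne (by rw [h01, mul_one]))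

theorem Nice.not_neg (h : S.Nice A) (hp2 : p ≠ 2) {a : MulAut P} (ha : a ∈ A) : S.mat a ≠ -1 := fun he => by
  haveI : Fact (2 < p) := ⟨lt_of_le_of_ne (Fact.out : p.Prime).two_le (Ne.symm hp2)⟩
  have h1 := (h.diag ha (by rw [he]; simp)).1
  rw [he] at h1
  simp at h1
  exact ZMod.neg_one_ne_one h1

/-- A `p`-element of `A` acts with determinant one and a fixed vector. -/
theorem mat_of_pElement (S : Auto p P) {a : MulAut P} (ha : ∃ k : ℕ, a ^ p ^ k = 1) :
    (S.mat a).det = 1 ∧ ∃ v : Fin 2 → ZMod p, v ≠ 0 ∧ S.mat a *ᵥ v = v := by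
  obtain ⟨k, hk⟩ := ha
  constructor
  · have h := congrArg (fun g => (S.mat g).det) hk
    rw [S.mat_one, Matrix.det_one] at h
    have hpow : ∀ m : ℕ, (S.mat (a ^ m)).det = (S.mat a).det ^ m := by
      intro m
      induction m with
      | zero => rw [pow_zero, S.mat_one, Matrix.det_one, pow_zero]
      | succ m ih => rw [pow_succ, S.mat_mul, Matrix.det_mul, ih, pow_succ]
    simp only [hpow] at h
    rwa [ZMod.pow_card_pow] at h
  · obtain ⟨m, -, hm⟩ := (Nat.dvd_prime_pow Fact.out).1 (orderOf_dvd_of_pow_eq_one hk)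
    have hpg : IsPGroup p (zpowers a) := IsPGroup.of_card (n := m) (by rw [Nat.card_zpowers, hm])
    letI : MulAction (zpowers a) (Fin 2 → ZMod p) :=
      { smul := fun c v => S.mat (c : MulAut P) *ᵥ v
        one_smul := fun v => by show S.mat 1 *ᵥ v = v; rw [S.mat_one, Matrix.one_mulVec]
        mul_smul := fun c d v => by
          show S.mat ((c : MulAut P) * d) *ᵥ v = S.mat c *ᵥ (S.mat d *ᵥ v)
          rw [S.mat_mul, Matrix.mulVec_mulVec] }
    have hd : p ∣ Nat.card (Fin 2 → ZMod p) := by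
      rw [Nat.card_fun, Nat.card_eq_fintype_card (α := Fin 2), Nat.card_zmod, Fintype.card_fin]
      exact dvd_pow_self p two_ne_zero
    have h0 : (0 : Fin 2 → ZMod p) ∈ MulAction.fixedPoints (zpowers a) (Fin 2 → ZMod p) :=
      fun c => Matrix.mulVec_zero _
    obtain ⟨v, hv, hne⟩ := hpg.exists_fixed_point_of_prime_dvd_card_of_fixed_point _ hd h0
    exact ⟨v, hne.symm, hv ⟨a, mem_zpowers a⟩⟩

/-- The elements of determinant one fixing a vector form a `p`-group. -/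
theorem line_isPGroup (S : Auto p P) {v : Fin 2 → ZMod p} (hv : v ≠ 0) (A : Subgroup (MulAut P)) :
    ∃ M : Subgroup (MulAut P), M ≤ A ∧ IsPGroup p M ∧
      ∀ a ∈ A, (S.mat a).det = 1 → S.mat a *ᵥ v = v → a ∈ M := by
  let M : Subgroup (MulAut P) :=
    { carrier := {a | a ∈ A ∧ (S.mat a).det = 1 ∧ S.mat a *ᵥ v = v}
      one_mem' := ⟨one_mem A, by rw [S.mat_one, Matrix.det_one], by rw [S.mat_one, Matrix.one_mulVec]⟩
      mul_mem' := fun {a c} ha hc => ⟨mul_mem ha.1 hc.1, by rw [S.mat_mul, Matrix.det_mul, ha.2.1, hc.2.1, mul_one],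
        by rw [S.mat_mul, ← Matrix.mulVec_mulVec, hc.2.2, ha.2.2]⟩
      inv_mem' := fun {a} ha => by
        have h1 : S.mat a⁻¹ * S.mat a = 1 := by rw [← S.mat_mul, inv_mul_cancel, S.mat_one]
        refine ⟨inv_mem ha.1, ?_, ?_⟩
        · have := congrArg Matrix.det h1
          rwa [Matrix.det_mul, ha.2.1, mul_one, Matrix.det_one] at this
        · conv_lhs => rw [← ha.2.2]
          rw [Matrix.mulVec_mulVec, h1, Matrix.one_mulVec] }
  refine ⟨M, fun a ha => ha.1, ?_, fun a h1 h2 h3 => ⟨h1, h2, h3⟩⟩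
  intro g
  have hg := g.2
  set N := S.mat (g : MulAut P) - 1 with hN
  have hNv : N *ᵥ v = 0 := by rw [hN, Matrix.sub_mulVec, hg.2.2, Matrix.one_mulVec, sub_self]
  have hdN : N.det = 0 := Matrix.exists_mulVec_eq_zero_iff.1 ⟨v, hv, hNv⟩
  have hsq : N * N = 0 := by
    have h1 := hg.2.1
    rw [Matrix.det_fin_two] at h1 hdN
    simp [hN] at hdN
    ext i j
    fin_cases i <;> fin_cases j <;> simp [hN, Matrix.mul_apply, Fin.sum_univ_two] <;>
      grind
  have hp2 : (S.mat (g : MulAut P)) ^ p = 1 := by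
    have e : S.mat (g : MulAut P) = 1 + N := by rw [hN, add_sub_cancel]
    rw [e, add_pow_char_of_commute p (Commute.one_left N), one_pow]
    have : N ^ p = 0 := pow_eq_zero_of_le (Fact.out : p.Prime).two_le (by rw [pow_two, hsq])
    rw [this, add_zero]
  have hmem : (g : MulAut P) ^ p ∈ S.rep.ker := by
    rw [MonoidHom.mem_ker, map_pow]
    exact Units.ext (by rw [Units.val_pow_eq_pow_val, S.rep_coe, Units.val_one]; exact hp2)
  obtain ⟨k, hk⟩ := S.ker_isPGroup ⟨_, hmem⟩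
  refine ⟨k + 1, Subtype.ext ?_⟩
  have := congrArg Subtype.val hk
  simp only [Subgroup.coe_pow, Subgroup.coe_one] at this ⊢
  rwa [pow_succ', pow_mul]

/-- `A` has a normal subgroup which is a `p`-group containing all its `p`-elements. -/
theorem Nice.pclosed (h : S.Nice A) (hp2 : p ≠ 2) : ∃ M : Subgroup (MulAut P), M ≤ A ∧ IsPGroup p M ∧
    A ≤ normalizer (M : Set (MulAut P)) ∧ ∀ a ∈ A, (∃ k : ℕ, a ^ p ^ k = 1) → a ∈ M := by
  set Pel : Set (MulAut P) := {a | a ∈ A ∧ ∃ k : ℕ, a ^ p ^ k = 1} with hPel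
  suffices hline : ∃ v : Fin 2 → ZMod p, v ≠ 0 ∧ ∀ a ∈ Pel, S.mat a *ᵥ v = v by
    obtain ⟨v, hv, hfix⟩ := hline
    obtain ⟨M, hMA, hMp, hM⟩ := S.line_isPGroup hv A
    have hmem : ∀ a ∈ Pel, a ∈ M := fun a ha => hM a ha.1 (S.mat_of_pElement ha.2).1 (hfix a ha)
    refine ⟨M, hMA, hMp, fun g hg => ?_, fun a ha hk => hmem a ⟨ha, hk⟩⟩
    have hsub : ∀ g ∈ A, ∀ x ∈ M, g * x * g⁻¹ ∈ M := fun g hg x hx => by
      obtain ⟨k, hk⟩ := hMp ⟨x, hx⟩
      refine hmem _ ⟨mul_mem (mul_mem hg (hMA hx)) (inv_mem hg), k, ?_⟩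
      have := congrArg Subtype.val hk
      simp only [Subgroup.coe_pow, Subgroup.coe_one] at this
      rw [conj_pow, this, mul_one, mul_inv_cancel]
    refine mem_normalizer_iff.2 fun x => ⟨hsub g hg x, fun hx => ?_⟩
    have := hsub _ (inv_mem hg) _ hx
    rwa [show g⁻¹ * (g * x * g⁻¹) * g⁻¹⁻¹ = x by group] at this
  by_contra hcon
  push Not at hcon
  -- a nontrivial element fixing a given vector
  have hmove : ∀ v : Fin 2 → ZMod p, v ≠ 0 → ∃ a ∈ Pel, S.mat a *ᵥ v = v ∧ S.mat a ≠ 1 := by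
    intro v hv
    obtain ⟨a₀, ha₀, ha₀v⟩ := hcon v hv
    obtain ⟨-, w, hw, ha₀w⟩ := S.mat_of_pElement ha₀.2
    obtain ⟨a₁, ha₁, ha₁w⟩ := hcon w hw
    obtain ⟨hd₁, u, hu, ha₁u⟩ := S.mat_of_pElement ha₁.2
    -- coordinates in the basis `w, u`
    have hdet : w 0 * u 1 - w 1 * u 0 ≠ 0 := by
      intro h0
      refine ha₁w ?_
      obtain ⟨c, hc⟩ : ∃ c : ZMod p, w = c • u := by
        by_cases hu0 : u 0 = 0
        · have hu1 : u 1 ≠ 0 := fun h1 => hu (by ext i; fin_cases i <;> assumption)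
          refine ⟨w 1 / u 1, ?_⟩
          rw [hu0, mul_zero, sub_zero, mul_eq_zero, or_iff_left hu1] at h0
          ext i; fin_cases i <;> simp [hu0, h0, hu1]
        · refine ⟨w 0 / u 0, ?_⟩
          ext i; fin_cases i <;> simp [hu0]
          field_simp
          linear_combination -h0
      rw [hc, Matrix.mulVec_smul, ha₁u]
    by_cases hvw : v 0 * w 1 - v 1 * w 0 = 0
    · refine absurd ?_ ha₀v
      obtain ⟨c, hc⟩ : ∃ c : ZMod p, v = c • w := by
        by_cases hw0 : w 0 = 0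
        · have hw1 : w 1 ≠ 0 := fun h1 => hw (by ext i; fin_cases i <;> assumption)
          refine ⟨v 1 / w 1, ?_⟩
          rw [hw0, mul_zero, sub_zero, mul_eq_zero, or_iff_left hw1] at hvw
          ext i; fin_cases i <;> simp [hw0, hvw, hw1]
        · refine ⟨v 0 / w 0, ?_⟩
          ext i; fin_cases i <;> simp [hw0]
          field_simp
          linear_combination -hvw
      rw [hc, Matrix.mulVec_smul, ha₀w]
    -- otherwise a power of `a₀` carries the line of `u` to the line of `v`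
    set Mw := S.mat a₀ with hMw
    obtain ⟨hd₀, -⟩ := S.mat_of_pElement ha₀.2
    set α₁ := (v 0 * u 1 - v 1 * u 0) / (w 0 * u 1 - w 1 * u 0) with hα₁
    set β₁ := (w 0 * v 1 - w 1 * v 0) / (w 0 * u 1 - w 1 * u 0) with hβ₁
    have hαD : α₁ * (w 0 * u 1 - w 1 * u 0) = v 0 * u 1 - v 1 * u 0 := div_mul_cancel₀ _ hdet
    have hβD : β₁ * (w 0 * u 1 - w 1 * u 0) = w 0 * v 1 - w 1 * v 0 := div_mul_cancel₀ _ hdet
    have hv_eq : v = α₁ • w + β₁ • u := by
      funext i
      refine mul_left_cancel₀ hdet ?_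
      simp only [Pi.add_apply, Pi.smul_apply, smul_eq_mul]
      fin_cases i
      · simp only [Fin.zero_eta, Fin.isValue]
        linear_combination (-(w 0)) * hαD - u 0 * hβD
      · simp only [Fin.mk_one, Fin.isValue]
        linear_combination (-(w 1)) * hαD - u 1 * hβD
    have hβ0 : β₁ ≠ 0 := div_ne_zero (fun h0 => hvw (by linear_combination -h0)) hdet
    -- `a₀ u = u + c w`
    set c₁ := ((Mw *ᵥ u) 0 * u 1 - (Mw *ᵥ u) 1 * u 0) / (w 0 * u 1 - w 1 * u 0) with hc₁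
    have hu_eq : Mw *ᵥ u = c₁ • w + u := by
      have e0 : Mw 0 0 * w 0 + Mw 0 1 * w 1 = w 0 := by
        have := congrFun ha₀w 0; simpa [Matrix.mulVec, dotProduct, Fin.sum_univ_two, hMw] using this
      have e1 : Mw 1 0 * w 0 + Mw 1 1 * w 1 = w 1 := by
        have := congrFun ha₀w 1; simpa [Matrix.mulVec, dotProduct, Fin.sum_univ_two, hMw] using this
      have e2 : Mw 0 0 * Mw 1 1 - Mw 0 1 * Mw 1 0 = 1 := by rw [← Matrix.det_fin_two]; exact hd₀
      have e3 : w 0 * (Mw *ᵥ u) 1 - w 1 * (Mw *ᵥ u) 0 = w 0 * u 1 - w 1 * u 0 := by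
        simp [Matrix.mulVec, dotProduct, Fin.sum_univ_two]
        linear_combination (-(Mw 1 0 * u 0 + Mw 1 1 * u 1)) * e0 + (Mw 0 0 * u 0 + Mw 0 1 * u 1) * e1 +
          (w 0 * u 1 - w 1 * u 0) * e2
      have hcD : c₁ * (w 0 * u 1 - w 1 * u 0) = (Mw *ᵥ u) 0 * u 1 - (Mw *ᵥ u) 1 * u 0 :=
        div_mul_cancel₀ _ hdet
      funext i
      refine mul_left_cancel₀ hdet ?_
      simp only [Pi.add_apply, Pi.smul_apply, smul_eq_mul]
      fin_cases i
      · simp only [Fin.zero_eta, Fin.isValue]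
        linear_combination u 0 * e3 - w 0 * hcD
      · simp only [Fin.mk_one, Fin.isValue]
        linear_combination u 1 * e3 - w 1 * hcD
    have hc0 : c₁ ≠ 0 := fun h0 => by
      rw [h0, zero_smul, zero_add] at hu_eq
      refine ha₀v ?_
      rw [hv_eq, Matrix.mulVec_add, Matrix.mulVec_smul, Matrix.mulVec_smul, ha₀w, hu_eq]
    have hpow : ∀ m : ℕ, S.mat (a₀ ^ m) *ᵥ u = ((m : ZMod p) * c₁) • w + u := by
      intro m
      induction m with
      | zero => simp [S.mat_one]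
      | succ m ih =>
        rw [pow_succ', S.mat_mul, ← Matrix.mulVec_mulVec, ih, ← hMw, Matrix.mulVec_add, Matrix.mulVec_smul,
          ha₀w, hu_eq, ← add_assoc, ← add_smul]
        push_cast
        ring_nf
    set m := (α₁ / β₁ / c₁).val with hm
    have hvm : v = β₁ • (S.mat (a₀ ^ m) *ᵥ u) := by
      rw [hpow, hm, ZMod.natCast_zmod_val, div_mul_cancel₀ _ hc0, smul_add, smul_smul,
        mul_div_cancel₀ _ hβ0]
      exact hv_eq
    have hinv : S.mat (a₀ ^ m)⁻¹ *ᵥ (S.mat (a₀ ^ m) *ᵥ u) = u := by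
      rw [Matrix.mulVec_mulVec, ← S.mat_mul, inv_mul_cancel, S.mat_one, Matrix.one_mulVec]
    refine ⟨a₀ ^ m * a₁ * (a₀ ^ m)⁻¹, ⟨?_, ?_⟩, ?_, ?_⟩
    · exact mul_mem (mul_mem (pow_mem ha₀.1 m) ha₁.1) (inv_mem (pow_mem ha₀.1 m))
    · obtain ⟨k, hk⟩ := ha₁.2
      exact ⟨k, by rw [conj_pow, hk, mul_one, mul_inv_cancel]⟩
    · rw [hvm, S.mat_mul, S.mat_mul, Matrix.mulVec_smul, ← Matrix.mulVec_mulVec, hinv,
        ← Matrix.mulVec_mulVec, ha₁u]
    · intro h1
      refine ha₁w ?_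
      have e : S.mat a₁ = S.mat (a₀ ^ m)⁻¹ * S.mat (a₀ ^ m * a₁ * (a₀ ^ m)⁻¹) * S.mat (a₀ ^ m) := by
        rw [← S.mat_mul, ← S.mat_mul]; group
      rw [e, h1, mul_one, ← S.mat_mul, inv_mul_cancel, S.mat_one, Matrix.one_mulVec]
  -- powers give all of the two root groups
  have hroot : ∀ a ∈ A, ∀ m : ℕ, a ^ m ∈ A := fun a ha m => pow_mem ha m
  obtain ⟨a, ha, hav, hane⟩ := hmove ![1, 0] (fun h0 => by simpa using congrFun h0 0)
  obtain ⟨c, hc, hcv, hcne⟩ := hmove ![0, 1] (fun h0 => by simpa using congrFun h0 1)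
  have hup : ∀ x : ZMod p, ∃ g ∈ A, S.mat g = !![1, x; 0, 1] := by
    have hd := (S.mat_of_pElement ha.2).1
    have e0 := congrFun hav 0
    have e1 := congrFun hav 1
    simp [Matrix.mulVec, dotProduct, Fin.sum_univ_two] at e0 e1
    rw [Matrix.det_fin_two, e0, e1, one_mul, mul_zero, sub_zero] at hd
    have hy0 : S.mat a 0 1 ≠ 0 := fun h0 => hane (by
      ext i j; fin_cases i <;> fin_cases j <;> simp [e0, e1, hd, h0])
    have hpow : ∀ m : ℕ, S.mat (a ^ m) = !![1, (m : ZMod p) * S.mat a 0 1; 0, 1] := by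
      intro m
      induction m with
      | zero => rw [pow_zero, S.mat_one]; ext i j; fin_cases i <;> fin_cases j <;> simp
      | succ m ih =>
        rw [pow_succ, S.mat_mul, ih]
        ext i j; fin_cases i <;> fin_cases j <;> simp [Matrix.mul_apply, Fin.sum_univ_two, e0, e1, hd]
        ring
    intro x
    refine ⟨a ^ (x / S.mat a 0 1).val, hroot a ha.1 _, ?_⟩
    rw [hpow, ZMod.natCast_zmod_val, div_mul_cancel₀ _ hy0]
  have hlo : ∀ x : ZMod p, ∃ g ∈ A, S.mat g = !![1, 0; x, 1] := by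
    have hd := (S.mat_of_pElement hc.2).1
    have e0 := congrFun hcv 0
    have e1 := congrFun hcv 1
    simp [Matrix.mulVec, dotProduct, Fin.sum_univ_two] at e0 e1
    rw [Matrix.det_fin_two, e0, e1, mul_one, zero_mul, sub_zero] at hd
    have hy0 : S.mat c 1 0 ≠ 0 := fun h0 => hcne (by
      ext i j; fin_cases i <;> fin_cases j <;> simp [e0, e1, hd, h0])
    have hpow : ∀ m : ℕ, S.mat (c ^ m) = !![1, 0; (m : ZMod p) * S.mat c 1 0, 1] := by
      intro m
      induction m with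
      | zero => rw [pow_zero, S.mat_one]; ext i j; fin_cases i <;> fin_cases j <;> simp
      | succ m ih =>
        rw [pow_succ, S.mat_mul, ih]
        ext i j; fin_cases i <;> fin_cases j <;> simp [Matrix.mul_apply, Fin.sum_univ_two, e0, e1, hd]
        ring
    intro x
    refine ⟨c ^ (x / S.mat c 1 0).val, hroot c hc.1 _, ?_⟩
    rw [hpow, ZMod.natCast_zmod_val, div_mul_cancel₀ _ hy0]
  obtain ⟨g₁, hg₁, hm₁⟩ := hup (-1)
  obtain ⟨g₂, hg₂, hm₂⟩ := hlo 1
  refine h.not_neg hp2 (a := g₁ * g₂ * g₁ * (g₁ * g₂ * g₁))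
    (mul_mem (mul_mem (mul_mem hg₁ hg₂) hg₁) (mul_mem (mul_mem hg₁ hg₂) hg₁)) ?_
  simp only [S.mat_mul, hm₁, hm₂]
  ext i j
  fin_cases i <;> fin_cases j <;> simp [Matrix.mul_apply, Fin.sum_univ_two]

/-- With inner `p`-elements, `A` fixes the first coordinate. -/
theorem Nice.first (h : S.Nice A) (hp2 : p ≠ 2)
    (hinner : ∀ a ∈ A, (∃ k : ℕ, a ^ p ^ k = 1) → ∃ x : P, a = MulAut.conj x) :
    ∀ a ∈ A, ∀ x, S.co (a x) 0 = S.co x 0 := by
  classical
  have hp : p.Prime := Fact.out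
  set d := S.rep S.α with hd
  set H₀ := A.map S.rep with hH₀
  -- the image has order prime to `p`
  have hprime : ∀ g ∈ H₀, ¬ p ∣ orderOf g := by
    rintro _ ⟨a, ha, rfl⟩ hdvd
    set m := orderOf (S.rep a) with hm
    have hy : orderOf (S.rep (a ^ (m / p))) = p := by
      rw [map_pow]; exact orderOf_pow_orderOf_div (orderOf_pos _).ne' hdvd
    set c := a ^ (m / p) with hc
    obtain ⟨u, w, huw, hu, hw, ⟨k, hk⟩, hwo⟩ := PBasic.exists_pPart_mul (p := p) c
    have hcA : c ∈ A := pow_mem ha _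
    have huA : u ∈ A := zpowers_le.2 hcA hu
    obtain ⟨x, hx⟩ := hinner u huA ⟨k, by rw [← hk, pow_orderOf_eq_one]⟩
    have hu1 : S.rep u = 1 := Units.ext <| S.mat_ext fun y => by
      rw [S.rep_coe, Units.val_one, Matrix.one_mulVec, ← S.co_apply, hx, MulAut.conj_apply, S.co_mul,
        S.co_mul, S.co_inv, add_neg_cancel_comm]
    have hcw : S.rep c = S.rep w := by rw [← huw, map_mul, hu1, one_mul]
    have : p ∣ orderOf w := hy ▸ hcw ▸ orderOf_map_dvd S.rep w
    exact (hp.coprime_iff_not_dvd.1 hwo.symm) this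
  -- no non-trivial element of determinant one
  let det' : (Matrix (Fin 2) (Fin 2) (ZMod p))ˣ →* (ZMod p)ˣ := Units.map Matrix.detMonoidHom
  set H₁ := H₀ ⊓ det'.ker with hH₁
  have hdH : d ∈ H₀ := ⟨_, h.α_mem, rfl⟩
  have hone : H₁ = ⊥ := by
    by_contra hne
    have hodd : Odd (Nat.card H₁) := by
      rw [← Nat.not_even_iff_odd, even_iff_two_dvd]
      intro h2
      obtain ⟨g, hg⟩ := exists_prime_orderOf_dvd_card' (G := H₁) 2 h2
      obtain ⟨⟨a, ha, hag⟩, hgd⟩ := g.2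
      have hdet : (S.mat a).det = 1 := by
        have := congrArg Units.val (MonoidHom.mem_ker.1 hgd)
        rw [← hag] at this; exact this
      have hg2 : ((g : H₁) : (Matrix (Fin 2) (Fin 2) (ZMod p))ˣ) ^ 2 = 1 := by
        have h := pow_orderOf_eq_one g
        rw [hg] at h
        rw [← Subgroup.coe_pow, h, Subgroup.coe_one]
      have hne1 : ((g : H₁) : (Matrix (Fin 2) (Fin 2) (ZMod p))ˣ) ≠ 1 := fun e => by
        have : (g : H₁) = 1 := Subtype.ext e
        rw [this, orderOf_one] at hg; omega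
      have hm2 : S.mat a * S.mat a = 1 := by
        rw [← S.rep_coe, hag, ← Units.val_mul, ← pow_two, hg2, Units.val_one]
      refine h.not_neg hp2 ha ?_
      haveI : Fact (2 < p) := ⟨lt_of_le_of_ne hp.two_le (Ne.symm hp2)⟩
      have htwo : (2 : ZMod p) ≠ 0 := by
        intro h0
        exact ZMod.neg_one_ne_one (n := p) (by linear_combination -h0)
      have h00 := congrFun (congrFun hm2 0) 0
      have h01 := congrFun (congrFun hm2 0) 1
      have h10 := congrFun (congrFun hm2 1) 0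
      have h11 := congrFun (congrFun hm2 1) 1
      rw [Matrix.det_fin_two] at hdet
      simp [Matrix.mul_apply, Fin.sum_univ_two] at h00 h01 h10 h11
      set A0 := S.mat a 0 0
      set B0 := S.mat a 0 1
      set C0 := S.mat a 1 0
      set E0 := S.mat a 1 1
      have hAE : A0 = E0 := by
        have h3 : A0 * (A0 + E0) = 2 := by linear_combination h00 + hdet
        have hne0 : A0 + E0 ≠ 0 := fun h0 => htwo (by rw [← h3, h0, mul_zero])
        have h4 : (A0 - E0) * (A0 + E0) = 0 := by linear_combination h00 - h11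
        exact sub_eq_zero.1 ((mul_eq_zero.1 h4).resolve_right hne0)
      have hA0 : A0 ≠ 0 := fun h0 => by
        have h3 : A0 * (A0 + E0) = 2 := by linear_combination h00 + hdet
        rw [h0, zero_mul] at h3
        exact htwo h3.symm
      have hB0 : B0 = 0 := by
        have h3 : (2 * A0) * B0 = 0 := by linear_combination h01 + B0 * hAE
        exact (mul_eq_zero.1 h3).resolve_left (mul_ne_zero htwo hA0)
      have hC0 : C0 = 0 := by
        have h3 : (2 * A0) * C0 = 0 := by linear_combination h10 + C0 * hAE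
        exact (mul_eq_zero.1 h3).resolve_left (mul_ne_zero htwo hA0)
      have hAm : A0 = -1 := by
        have h3 : (A0 - 1) * (A0 + 1) = 0 := by linear_combination h00 - C0 * hB0
        rcases mul_eq_zero.1 h3 with h4 | h4
        · exfalso
          refine hne1 (Units.ext ?_)
          rw [← hag, S.rep_coe, Units.val_one]
          rw [sub_eq_zero] at h4
          ext i j; fin_cases i <;> fin_cases j <;> simp [← hAE, h4, hB0, hC0, A0, B0, C0, E0] at *
        · exact eq_neg_of_add_eq_zero_left h4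
      ext i j; fin_cases i <;> fin_cases j
      · simpa using hAm
      · simpa using hB0
      · simpa using hC0
      · simpa using hAE.symm.trans hAm
    haveI hsol := OddChar.oddSolvable H₁ hodd
    obtain ⟨n, hn⟩ := (Group.isSolvable_def H₁).1 hsol
    let D := fun k => (derivedSeries H₁ k).map H₁.subtype
    have hDn : D n = ⊥ := by simp [D, hn]
    have hD0 : D 0 = H₁ := by simp [D, ← MonoidHom.range_eq_map]
    have hDs : ∀ k, D (k + 1) = ⁅D k, D k⁆ := fun k => by simp [D, derivedSeries_succ, map_commutator]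
    have hex : ∃ k, D k = ⊥ := ⟨n, hDn⟩
    obtain ⟨k, hk⟩ : ∃ k, Nat.find hex = k + 1 := Nat.exists_eq_succ_of_ne_zero fun h0 =>
      hne (hD0 ▸ h0 ▸ Nat.find_spec hex)
    have hinv : ∀ j, ∀ x ∈ D j, d * x * d⁻¹ ∈ D j := by
      intro j
      induction j with
      | zero =>
        intro x hx
        rw [hD0] at hx ⊢
        exact mem_inf.2 ⟨mul_mem (mul_mem hdH hx.1) (inv_mem hdH),
          (inferInstance : det'.ker.Normal).conj_mem x hx.2 d⟩
      | succ j ih =>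
        suffices hle : (D (j + 1)).map (MulAut.conj d).toMonoidHom ≤ D (j + 1) from
          fun x hx => hle ⟨x, hx, rfl⟩
        rw [hDs, map_commutator]
        exact commutator_mono (by rintro _ ⟨x, hx, rfl⟩; exact ih x hx) (by rintro _ ⟨x, hx, rfl⟩; exact ih x hx)
    have hk0 : D k ≠ ⊥ := fun e => by
      have := Nat.find_min' hex e
      omega
    obtain ⟨M, hM, hM1⟩ := (bot_or_exists_ne_one (D k)).resolve_left hk0
    have hcom : M * (d * M * d⁻¹) = d * M * d⁻¹ * M := by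
      have h1 : ⁅M, d * M * d⁻¹⁆ ∈ D (k + 1) := hDs k ▸ commutator_mem_commutator hM (hinv k M hM)
      rw [← hk, Nat.find_spec hex, mem_bot, commutatorElement_eq_one_iff_mul_comm] at h1
      exact h1
    have hMH : M ∈ H₁ := map_subtype_le _ hM
    obtain ⟨a, ha, rfl⟩ := hMH.1
    have hdet : (S.mat a).det = 1 := congrArg Units.val (MonoidHom.mem_ker.1 hMH.2)
    have hcm : S.mat a * S.mat (S.α * a * S.α⁻¹) = S.mat (S.α * a * S.α⁻¹) * S.mat a := by
      have hconj : d * S.rep a * d⁻¹ = S.rep (S.α * a * S.α⁻¹) := by rw [map_mul, map_mul, map_inv]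
      rw [hconj] at hcom
      have e := congrArg Units.val hcom
      rw [Units.val_mul, Units.val_mul, S.rep_coe, S.rep_coe] at e
      exact e
    have hω0 := S.ω_ne_zero
    have hαi : S.mat S.α⁻¹ = !![1, 0; 0, (S.ω : ZMod p)⁻¹] := by
      have h1 : S.mat S.α * S.mat S.α⁻¹ = 1 := by rw [← S.mat_mul, mul_inv_cancel, S.mat_one]
      have h2 : !![1, 0; 0, (S.ω : ZMod p)⁻¹] * S.mat S.α = 1 := by
        rw [S.mat_α]; ext i j; fin_cases i <;> fin_cases j <;> simp [hω0]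
      exact (left_inv_eq_right_inv h2 h1).symm
    rw [S.mat_mul, S.mat_mul, S.mat_α, hαi, Matrix.eta_fin_two (S.mat a)] at hcm
    simp only [Matrix.mul_fin_two] at hcm
    have h00 := congrFun (congrFun hcm 0) 0
    have h01 := congrFun (congrFun hcm 0) 1
    have h10 := congrFun (congrFun hcm 1) 0
    rw [Matrix.det_fin_two] at hdet
    simp [-mul_eq_mul_left_iff, -mul_eq_mul_right_iff] at h00 h01 h10
    set A0 := S.mat a 0 0 with hA0
    set B0 := S.mat a 0 1 with hB0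
    set C0 := S.mat a 1 0 with hC0
    set E0 := S.mat a 1 1 with hE0
    have hω2 : (S.ω : ZMod p) - (S.ω : ZMod p)⁻¹ ≠ 0 := fun h0 => S.ω_sq (by
      rw [sub_eq_zero] at h0
      rw [pow_two]; nth_rw 2 [h0]; exact mul_inv_cancel₀ hω0)
    have hBC : B0 * C0 = 0 := by
      have : (B0 * C0) * ((S.ω : ZMod p) - (S.ω : ZMod p)⁻¹) = 0 := by linear_combination h00
      exact (mul_eq_zero.1 this).resolve_right hω2
    have hdiag : B0 = 0 ∧ C0 = 0 := by
      by_contra hnd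
      have hone1 : (S.ω : ZMod p) - 1 ≠ 0 := sub_ne_zero.2 S.ω_one
      have hi1 : (S.ω : ZMod p)⁻¹ - 1 ≠ 0 := by
        intro h0; rw [sub_eq_zero, inv_eq_one] at h0; exact S.ω_one h0
      have hAE : A0 = E0 := by
        rcases mul_eq_zero.1 hBC with hb | hc
        · have hc : C0 ≠ 0 := fun hc => hnd ⟨hb, hc⟩
          have h3 : C0 * ((S.ω : ZMod p) - 1) * (A0 - E0) = 0 := by
            linear_combination -h10 - C0 * E0 * mul_inv_cancel₀ hω0
          simp only [mul_eq_zero, sub_eq_zero] at h3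
          exact h3.resolve_left (by rintro (h4 | h4); exacts [hc h4, S.ω_one h4])
        · have hb : B0 ≠ 0 := fun hb => hnd ⟨hb, hc⟩
          have h3 : B0 * ((S.ω : ZMod p)⁻¹ - 1) * (A0 - E0) = 0 := by
            linear_combination h01 - B0 * E0 * mul_inv_cancel₀ hω0
          rcases mul_eq_zero.1 h3 with h4 | h4
          · exact absurd h4 (mul_ne_zero hb hi1)
          · exact sub_eq_zero.1 h4
      have hsq : A0 * A0 = 1 := by linear_combination hdet + A0 * hAE + hBC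
      -- the square is unipotent and non-trivial, so of order `p`
      have hord : ¬ p ∣ orderOf (S.rep (a * a)) := hprime _ ⟨_, mul_mem ha ha, rfl⟩
      set N0 := S.mat (a * a) - 1 with hN0
      have hNN : N0 * N0 = 0 := by
        rw [hN0, S.mat_mul]
        ext i j
        fin_cases i <;> fin_cases j <;> simp [Matrix.mul_apply, Fin.sum_univ_two, ← hA0, ← hB0, ← hC0, ← hE0, ← hAE] <;>
          grind
      have hNne : N0 ≠ 0 := by
        intro h0
        rw [hN0, sub_eq_zero, S.mat_mul] at h0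
        have e1 := congrFun (congrFun h0 0) 1
        have e2 := congrFun (congrFun h0 1) 0
        simp [Matrix.mul_apply, Fin.sum_univ_two, ← hA0, ← hB0, ← hC0, ← hE0, ← hAE] at e1 e2
        have hA : A0 ≠ 0 := left_ne_zero_of_mul_eq_one hsq
        haveI : Fact (2 < p) := ⟨lt_of_le_of_ne hp.two_le (Ne.symm hp2)⟩
        have htwo : (2 : ZMod p) ≠ 0 := fun h2 =>
          ZMod.neg_one_ne_one (n := p) (by linear_combination -h2)
        refine hnd ⟨?_, ?_⟩
        · exact (mul_eq_zero.1 (show (2 * A0) * B0 = 0 by linear_combination e1)).resolve_left (mul_ne_zero htwo hA)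
        · exact (mul_eq_zero.1 (show (2 * A0) * C0 = 0 by linear_combination e2)).resolve_left (mul_ne_zero htwo hA)
      apply hord
      have hpow : S.rep (a * a) ^ p = 1 := by
        refine Units.ext ?_
        rw [Units.val_pow_eq_pow_val, S.rep_coe, Units.val_one, ← add_sub_cancel 1 (S.mat (a * a)), ← hN0,
          add_pow_char_of_commute p (Commute.one_left N0), one_pow]
        rw [pow_eq_zero_of_le hp.two_le (by rw [pow_two, hNN] : N0 ^ 2 = 0), add_zero]
      rw [orderOf_eq_prime hpow fun e => hNne (by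
        rw [hN0, ← S.rep_coe, e, Units.val_one, sub_self])]
    obtain ⟨hb, hc⟩ := hdiag
    have hA1 := (h.diag ha (by
      rw [S.mat_α]
      ext i j
      fin_cases i <;> fin_cases j <;> simp [Matrix.mul_apply, Fin.sum_univ_two, ← hA0, ← hB0, ← hC0, ← hE0, hb, hc]
      ring)).1
    refine hM1 (Units.ext ?_)
    rw [S.rep_coe, Units.val_one]
    rw [← hA0] at hA1
    ext i j
    fin_cases i <;> fin_cases j <;> simp [← hA0, ← hB0, ← hC0, ← hE0, hb, hc, hA1]
    rw [hA1, hb, hc] at hdet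
    linear_combination hdet
  intro a ha x
  have hca : S.rep a * d = d * S.rep a := by
    have h1 : S.rep a * d * (S.rep a)⁻¹ * d⁻¹ ∈ H₁ := by
      have hra : S.rep a ∈ H₀ := ⟨a, ha, rfl⟩
      refine mem_inf.2 ⟨mul_mem (mul_mem (mul_mem hra hdH) (inv_mem hra)) (inv_mem hdH), ?_⟩
      rw [MonoidHom.mem_ker, map_mul, map_mul, map_mul, map_inv, map_inv, mul_comm (det' (S.rep a)),
        mul_inv_cancel_right, mul_inv_cancel]
    rw [hone, mem_bot, mul_inv_eq_one, mul_inv_eq_iff_eq_mul] at h1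
    exact h1
  obtain ⟨h00, h10, h01⟩ := h.diag ha (congrArg Units.val hca)
  rw [S.co_apply]
  simp [Matrix.mulVec, dotProduct, Fin.sum_univ_two, h00, h01]

end Auto

end Cfsg.Agent.NoField.Weight
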