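import Cfsg.Agent.Lib.Walter8.Replace
import Cfsg.Agent.Lib.PStable.FusionControl
import Cfsg.Agent.Lib.Solvable.Fitting
import Cfsg.Agent.Lib.Components.PComponent
import Cfsg.Agent.Lib.Isolated.Basic
import Cfsg.Agent.Lib.FiniteGroup.FittingPow

/-!
Fusion in a group without elements of order four, constrained at an odd prime, whose Sylow subgroup has an abelian
normal subgroup with cyclic quotient: a function on the Sylow subgroup kept by its normaliser is kept by fusion.
-/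

set_option autoImplicit false
set_option linter.unusedSectionVars false
set_option linter.style.haveILetI false

namespace Cfsg.Agent.NoField.Weight

open Subgroup
open scoped commutatorElement

universe u

variable {M : Type u} [Group M] [Finite M] {p : ℕ} [Fact p.Prime]

/-- A normal subgroup meets the core of order prime to `p` in a normal subgroup of that kind. -/
theorem pPrimeCore_subgroup_eq_bot (h : Cfsg.pPrimeCore p M = ⊥) (C : Subgroup M) [C.Normal] :
    Cfsg.pPrimeCore p C = ⊥ := by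
  haveI : (Cfsg.pPrimeCore p C).Characteristic := by
    refine characteristic_iff_map_le.2 fun φ => ?_
    rw [Cfsg.pPrimeCore, sSup_eq_iSup, Subgroup.map_iSup]
    refine iSup_le fun N => ?_
    rw [Subgroup.map_iSup]
    refine iSup_le fun hN => ?_
    refine le_iSup₂_of_le (N.map φ.toMonoidHom) ⟨hN.1.map _ φ.surjective, ?_⟩ le_rfl
    rw [card_map_of_injective φ.injective]
    exact hN.2
  haveI := ConjAct.normal_of_characteristic_of_normal (H := C) (K := Cfsg.pPrimeCore p C)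
  have hle : (Cfsg.pPrimeCore p C).map C.subtype ≤ Cfsg.pPrimeCore p M := by
    refine le_sSup ⟨inferInstance, ?_⟩
    rw [card_map_of_injective C.subtype_injective]
    exact PBasic.pPrimeCore_coprime p C
  rw [h, le_bot_iff, map_eq_bot_iff_of_injective _ C.subtype_injective] at hle
  exact hle

/-- A normal `p`-subgroup with solvable centraliser makes the quotient by `O_{p'}` constrained. -/
theorem centralizer_pCore_le_of_center {Z : Subgroup M} [Z.Normal] (hZ : IsPGroup p Z)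
    (hC : Group.IsSolvable ↥(centralizer (Z : Set M))) :
    centralizer (Cfsg.pCore p (M ⧸ Cfsg.pPrimeCore p M) : Set (M ⧸ Cfsg.pPrimeCore p M)) ≤
      Cfsg.pCore p (M ⧸ Cfsg.pPrimeCore p M) := by
  set E := Cfsg.pPrimeCore p M with hE
  set π := QuotientGroup.mk' E with hπ
  set R := Cfsg.pCore p (M ⧸ E) with hR
  set C := centralizer (R : Set (M ⧸ E)) with hCd
  haveI : R.Normal := Cfsg.pCore_normal p _
  haveI hCn : C.Normal := inferInstance
  have hZR : Z.map π ≤ R :=
    le_sSup ⟨(‹Z.Normal›).map π (QuotientGroup.mk'_surjective E), hZ.map π⟩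
  have hEZ : E ⊓ Z = ⊥ := PBasic.inf_eq_bot_of_coprime (PBasic.pPrimeCore_coprime p M) hZ
  have hCle : C ≤ (centralizer (Z : Set M)).map π := by
    intro c hc
    obtain ⟨m, rfl⟩ := QuotientGroup.mk'_surjective E c
    refine ⟨m, mem_centralizer_iff.2 fun ζ hζ => ?_, rfl⟩
    have h1 : ζ * m * ζ⁻¹ * m⁻¹ ∈ E ⊓ Z := by
      refine mem_inf.2 ⟨(QuotientGroup.eq_one_iff _).1 ?_, ?_⟩
      · show π (ζ * m * ζ⁻¹ * m⁻¹) = 1
        rw [map_mul, map_mul, map_mul, map_inv, map_inv,
          mem_centralizer_iff.1 hc _ (hZR ⟨ζ, hζ, rfl⟩), mul_inv_cancel_right, mul_inv_cancel]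
      · rw [mul_assoc ζ, mul_assoc ζ]
        exact mul_mem hζ ((‹Z.Normal›).conj_mem _ (inv_mem hζ) m)
    rw [hEZ, mem_bot, mul_inv_eq_one, mul_inv_eq_iff_eq_mul] at h1
    exact h1
  haveI : Group.IsSolvable ↥((centralizer (Z : Set M)).map π) :=
    Group.isSolvable_of_surjective (π.subgroupMap_surjective _)
  haveI : Group.IsSolvable C := Group.isSolvable_of_isSolvable_injective (inclusion_injective hCle)
  have h0 : Cfsg.pPrimeCore p C = ⊥ :=
    pPrimeCore_subgroup_eq_bot (Components.pPrimeCore_quotient M) C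
  haveI := Cfsg.pCore_normal p C
  have h1 := FittingCores.centralizer_pCore_le (G := C) Fact.out h0
  have h2 : (Cfsg.pCore p C).map C.subtype ≤ R := by
    haveI : (Cfsg.pCore p C).Characteristic := by
      refine characteristic_iff_map_le.2 fun φ => ?_
      rw [Cfsg.pCore, sSup_eq_iSup, Subgroup.map_iSup]
      refine iSup_le fun N => ?_
      rw [Subgroup.map_iSup]
      exact iSup_le fun hN => le_iSup₂_of_le (N.map φ.toMonoidHom) ⟨hN.1.map _ φ.surjective, hN.2.map _⟩ le_rfl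
    haveI := ConjAct.normal_of_characteristic_of_normal (H := C) (K := Cfsg.pCore p C)
    exact le_sSup ⟨inferInstance, (FiniteGroup.pCore_isPGroup p).map _⟩
  intro c hc
  refine h2 ⟨⟨c, hc⟩, h1 (mem_centralizer_iff.2 fun x hx => Subtype.ext ?_), rfl⟩
  exact mem_centralizer_iff.1 hc _ (h2 ⟨x, hx, rfl⟩)

/-- Fusion keeps a function which the normaliser of the Sylow subgroup keeps. -/
theorem congr_of_constrained (hp2 : p ≠ 2) (h4 : ∀ g : M, orderOf g ≠ 4)
    (hc : centralizer (Cfsg.pCore p (M ⧸ Cfsg.pPrimeCore p M) : Set (M ⧸ Cfsg.pPrimeCore p M)) ≤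
      Cfsg.pCore p (M ⧸ Cfsg.pPrimeCore p M))
    (P : Sylow p M) {Q : Subgroup M} (hQP : Q ≤ P) (hQn : ∀ x ∈ (P : Subgroup M), ∀ q ∈ Q, x * q * x⁻¹ ∈ Q)
    (hQc : ∀ a ∈ Q, ∀ b ∈ Q, a * b = b * a) {f : M} (hf : f ∈ (P : Subgroup M))
    (hdec : ∀ x ∈ (P : Subgroup M), ∃ q ∈ Q, ∃ i : ℕ, x = q * f ^ i)
    (χ : M → ZMod p) (hmul : ∀ a ∈ (P : Subgroup M), ∀ b ∈ (P : Subgroup M), χ (a * b) = χ a + χ b)
    (hχQ : ∀ q ∈ Q, χ q = 0)
    (hN : ∀ g ∈ normalizer ((P : Subgroup M) : Set M), ∀ x ∈ (P : Subgroup M), χ (g * x * g⁻¹) = χ x) :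
    ∀ n x : M, x ∈ (P : Subgroup M) → n * x * n⁻¹ ∈ (P : Subgroup M) → χ (n * x * n⁻¹) = χ x := by
  classical
  have hp : p.Prime := Fact.out
  set E := Cfsg.pPrimeCore p M with hE
  set π := QuotientGroup.mk' E with hπ
  have hπs : Function.Surjective π := QuotientGroup.mk'_surjective E
  set R := Cfsg.pCore p (M ⧸ E) with hR
  haveI : R.Normal := Cfsg.pCore_normal p _
  have hEP : E ⊓ (P : Subgroup M) = ⊥ :=
    PBasic.inf_eq_bot_of_coprime (PBasic.pPrimeCore_coprime p M) P.isPGroup'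
  have hRp : IsPGroup p R := FiniteGroup.pCore_isPGroup p
  set PS := P.mapSurjective hπs with hPS
  have hPSc : (PS : Subgroup (M ⧸ E)) = (P : Subgroup M).map π := Sylow.coe_mapSurjective hπs P
  have hRP : R ≤ (P : Subgroup M).map π := hPSc ▸ ZJ.le_sylow PS hRp
  -- the abelian normal subgroup lies in the core
  have h4' : ∀ y : M ⧸ E, orderOf y ≠ 4 := fun y =>
    Walter8.ne_four_of_surjective h4 (π.comp (⊤ : Subgroup M).subtype)
      (fun c => by obtain ⟨m, rfl⟩ := hπs c; exact ⟨⟨m, mem_top m⟩, rfl⟩) y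
  have hquad : ZJ.IsQuad p (M ⧸ E) :=
    PStable.isQuad_of_not_involves_sl2 hp2 (Walter8.not_involves_sl2 hp2 h4')
  have hQR : ∀ q ∈ Q, π q ∈ R := by
    intro q hq
    have hq2 : ⁅⁅R, zpowers (π q)⁆, zpowers (π q)⁆ = ⊥ := by
      have hQ1 : zpowers (π q) ≤ Q.map π := zpowers_le.2 ⟨q, hq, rfl⟩
      have h1 : ⁅R, zpowers (π q)⁆ ≤ Q.map π := by
        refine commutator_le.2 fun r hr a ha => ?_
        obtain ⟨x, hx, rfl⟩ := hRP hr
        obtain ⟨b, hb, rfl⟩ := hQ1 ha
        rw [← map_commutatorElement, commutatorElement_def]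
        exact ⟨_, mul_mem (hQn x hx b hb) (inv_mem hb), rfl⟩
      refine eq_bot_iff.2 (commutator_le.2 fun r hr a ha => ?_)
      obtain ⟨c, hc', rfl⟩ := h1 hr
      obtain ⟨b, hb, rfl⟩ := hQ1 ha
      rw [mem_bot, ← map_commutatorElement, commutatorElement_eq_one_iff_mul_comm.2 (hQc c hc' b hb), map_one]
    have h1 := PStable.mk_mem_of_quadratic hquad R hRp (π q) hq2
    set C := centralizer (R : Set (M ⧸ E)) with hC
    have hker : IsPGroup p (QuotientGroup.mk' C).ker := by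
      rw [QuotientGroup.ker_mk']; exact hRp.to_le hc
    haveI := Cfsg.pCore_normal p ((M ⧸ E) ⧸ C)
    have hle : (Cfsg.pCore p ((M ⧸ E) ⧸ C)).comap (QuotientGroup.mk' C) ≤ R :=
      le_sSup ⟨inferInstance, (FiniteGroup.pCore_isPGroup p).comap_of_ker_isPGroup _ hker⟩
    exact hle h1
  set N := R.comap π with hN0
  haveI : N.Normal := inferInstance
  -- the normaliser of the Sylow subgroup and conjugation by `O_{p'}`
  intro n x hx hnx
  by_cases hfN : f ∈ N
  · -- the Sylow subgroup is normal modulo `O_{p'}`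
    have hPN : (P : Subgroup M) ≤ N := fun y hy => by
      obtain ⟨q, hq, i, rfl⟩ := hdec y hy
      exact mul_mem (hQR q hq) (pow_mem hfN i)
    have hsup := Sylow.normalizer_sup_eq_top (P.subtype hPN)
    rw [Sylow.coe_subtype, map_subgroupOf_eq_of_le hPN] at hsup
    have hEPN : normalizer ((P : Subgroup M) : Set M) ⊔ E = ⊤ := by
      refine top_le_iff.1 (hsup ▸ sup_le le_sup_left fun y hy => ?_)
      obtain ⟨y', hy', e⟩ := hRP hy
      have hmem : y'⁻¹ * y ∈ E := QuotientGroup.eq.1 e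
      have := mul_mem (mem_sup_left (T := E) (le_normalizer hy')) (mem_sup_right (S := normalizer ((P : Subgroup M) : Set M)) hmem)
      rwa [mul_inv_cancel_left] at this
    obtain ⟨g, hg, e, he, rfl⟩ := mem_sup_of_normal_right.1 (hEPN ▸ mem_top n)
    have hin : e * x * e⁻¹ ∈ (P : Subgroup M) := by
      have h1 := (mem_normalizer_iff.1 (inv_mem hg) _).1 hnx
      rwa [show g⁻¹ * (g * e * x * (g * e)⁻¹) * g⁻¹⁻¹ = e * x * e⁻¹ by group] at h1
    have h2 : e * x * e⁻¹ * x⁻¹ ∈ E ⊓ (P : Subgroup M) := by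
      refine mem_inf.2 ⟨?_, mul_mem hin (inv_mem hx)⟩
      rw [mul_assoc e, mul_assoc e]
      exact mul_mem he ((inferInstance : E.Normal).conj_mem _ (inv_mem he) x)
    rw [hEP, mem_bot, mul_inv_eq_one] at h2
    rw [show g * e * x * (g * e)⁻¹ = g * (e * x * e⁻¹) * g⁻¹ by group, h2]
    exact hN g hg x hx
  · -- the quotient has a cyclic Sylow subgroup
    set ρ := (QuotientGroup.mk' R).comp π with hρ
    have hρs : Function.Surjective ρ := (QuotientGroup.mk'_surjective R).comp hπs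
    have hρk : ∀ y, ρ y = 1 ↔ y ∈ N := fun y => QuotientGroup.eq_one_iff (π y)
    have hχN : ∀ y ∈ (P : Subgroup M), y ∈ N → χ y = 0 := by
      intro y hy hyN
      obtain ⟨q, hq, i, rfl⟩ := hdec y hy
      have hi : f ^ i ∈ N := by
        have := mul_mem (inv_mem (show q ∈ N from hQR q hq)) hyN
        rwa [inv_mul_cancel_left] at this
      have hχpow : ∀ m : ℕ, χ (f ^ m) = m • χ f := by
        intro m
        induction m with
        | zero =>
          have := hmul 1 (one_mem _) 1 (one_mem _)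
          rw [mul_one, left_eq_add] at this
          rw [pow_zero, zero_smul, this]
        | succ m ih => rw [pow_succ, hmul _ (pow_mem hf m) _ hf, ih, succ_nsmul]
      have hpi : p ∣ i := by
        by_contra hpi
        obtain ⟨k, hk⟩ := IsPGroup.iff_orderOf.1 P.isPGroup' ⟨f, hf⟩
        have ho : orderOf f = p ^ k := by rwa [← Subgroup.orderOf_coe] at hk
        obtain ⟨j, hj⟩ := exists_pow_eq_self_of_coprime (n := i) (x := f)
          (ho ▸ Nat.Coprime.pow_right k ((hp.coprime_iff_not_dvd.2 hpi).symm))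
        exact hfN (hj ▸ pow_mem hi j)
      rw [hmul q (hQP hq) _ (pow_mem hf i), hχQ q hq, hχpow, nsmul_eq_mul,
        (ZMod.natCast_eq_zero_iff i p).2 hpi, zero_mul, add_zero]
    have heq : ∀ a ∈ (P : Subgroup M), ∀ b ∈ (P : Subgroup M), ρ a = ρ b → χ a = χ b := by
      intro a ha b hb h
      have h1 := hχN (a⁻¹ * b) (mul_mem (inv_mem ha) hb) ((hρk _).1 (by rw [map_mul, map_inv, h, inv_mul_cancel]))
      have h2 := hmul a ha (a⁻¹ * b) (mul_mem (inv_mem ha) hb)
      rw [mul_inv_cancel_left, h1, add_zero] at h2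
      exact h2.symm
    set PR := P.mapSurjective hρs with hPR
    have hPRc : (PR : Subgroup ((M ⧸ E) ⧸ R)) = (P : Subgroup M).map ρ := Sylow.coe_mapSurjective hρs P
    have hcyc : ∀ a ∈ (PR : Subgroup ((M ⧸ E) ⧸ R)), ∃ i : ℕ, a = ρ f ^ i := by
      intro a ha
      obtain ⟨y, hy, rfl⟩ := hPRc ▸ ha
      obtain ⟨q, hq, i, rfl⟩ := hdec y hy
      exact ⟨i, by rw [map_mul, (hρk q).2 (hQR q hq), one_mul, map_pow]⟩
    haveI : IsMulCommutative (PR : Subgroup ((M ⧸ E) ⧸ R)) := ⟨⟨fun a b => Subtype.ext (by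
      obtain ⟨i, hi⟩ := hcyc a a.2
      obtain ⟨j, hj⟩ := hcyc b b.2
      show (a : (M ⧸ E) ⧸ R) * b = b * a
      rw [hi, hj]
      exact (Commute.pow_pow_self (ρ f) i j).eq)⟩⟩
    obtain ⟨h, hh, hhx⟩ := Sylow.conj_eq_normalizer_conj_of_mem PR (ρ x) (ρ n⁻¹)
      (hPRc.symm.le ⟨x, hx, rfl⟩) (hPRc.symm.le ⟨_, hnx, by simp [map_mul, mul_assoc]⟩)
    obtain ⟨g, hg⟩ := hρs h⁻¹
    -- lift the normaliser
    set H := (PR : Subgroup ((M ⧸ E) ⧸ R)).comap ρ with hH
    have hPH : (P : Subgroup M) ≤ H := fun y hy => by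
      rw [hH, mem_comap, hPRc]; exact ⟨y, hy, rfl⟩
    have hgH : g ∈ normalizer (H : Set M) := by
      refine le_normalizer_comap ρ ?_
      rw [mem_comap, hg]; exact inv_mem hh
    obtain ⟨k, hk, hkg⟩ := IsolatedP.exists_mul_normalizer (P.subtype hPH) hgH
    rw [Sylow.coe_subtype, map_subgroupOf_eq_of_le hPH] at hkg
    have hmem := (mem_normalizer_iff.1 hkg x).1 hx
    have key : ρ ((k⁻¹ * g) * x * (k⁻¹ * g)⁻¹) = ρ (n * x * n⁻¹) := by
      have hy : h⁻¹ * ρ x * h = ρ (n * x * n⁻¹) := by rw [← hhx]; simp [map_mul, mul_assoc]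
      obtain ⟨i, hi⟩ := hcyc (ρ k) hk
      obtain ⟨j, hj⟩ := hcyc (ρ (n * x * n⁻¹)) (hPRc ▸ ⟨_, hnx, rfl⟩)
      rw [show (k⁻¹ * g) * x * (k⁻¹ * g)⁻¹ = k⁻¹ * (g * x * g⁻¹) * k by group, map_mul, map_mul, map_mul,
        map_mul, map_inv, map_inv, hg, inv_inv, hy, hi, hj, mul_assoc, (Commute.pow_pow_self (ρ f) j i).eq,
        inv_mul_cancel_left]
    rw [← heq _ hmem _ hnx key]
    exact hN _ hkg x hx

end Cfsg.Agent.NoField.Weight
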