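import Cfsg.Agent.Lib.NoField.Base
import Cfsg.Agent.Lib.NoField.WeightAuto
import Cfsg.Agent.Lib.NoField.WeightLocal
import Cfsg.Agent.Lib.Solvable.Coprime
import Cfsg.Agent.Lib.SEBrick.Basic
import Cfsg.Agent.S1241

/-!
The weight lemma: `WeightStmt`.
-/

set_option autoImplicit false
set_option linter.unusedSectionVars false
set_option linter.style.haveILetI false

namespace Cfsg.Agent.NoField

open Subgroup Cfsg.Agent.Walter8
open scoped commutatorElement

universe u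

namespace Weight

variable {G : Type u} [Group G] [Finite G]

/-- `Z(P) ≤ Z(J(P))`. -/
theorem mem_zJ_of_central {p : ℕ} {P : Subgroup G} {z : G} (hz : z ∈ P) (hc : ∀ y ∈ P, y * z = z * y) :
    z ∈ ZJ.zJ p False P := by
  have hA : ∀ A, ZJ.IsMaxIn p False P A → z ∈ A := fun A hA =>
    ZJ.mem_of_centralizes hA hz (fun a ha => hc a (hA.1 ha)) (fun h => h.elim)
  obtain ⟨A, hAm⟩ := ZJ.exists_isMaxIn p False P
  refine mem_inf.2 ⟨ZJ.le_jSub hAm (hA A hAm), mem_centralizer_iff.2 fun y hy => ?_⟩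
  exact hc y (ZJ.jSub_le P hy)

/-- An element conjugated to a power is conjugated to the natural power. -/
theorem conj_pow_of {x f : G} (h : x ∈ zpowers f) : ∃ k : ℕ, x = f ^ k := by
  obtain ⟨k, hk⟩ := mem_powers_iff_mem_zpowers.2 h
  exact ⟨k, hk.symm⟩

end Weight

open Weight in
/-- The weight lemma. -/
theorem weight (G : Type u) [Group G] [Finite G] : WeightStmt G := by
  intro p hp hp2 f z w₀ v ω hsimple hnc h4 hv hfo hzo hzf hfz hfw₀ hwz₀ hω1 hω2 hfact hconj hinvol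
  haveI : Fact p.Prime := ⟨hp⟩
  classical
  -- conjugation relations in `ZMod p`
  have hω1' : (ω : ZMod p) ≠ 1 := fun e => hω1 (by
    have := (ZMod.natCast_eq_natCast_iff' ω 1 p).1 (by rw [e, Nat.cast_one])
    rwa [Nat.mod_eq_of_lt hp.one_lt] at this)
  have hω2' : (ω : ZMod p) ^ 2 ≠ 1 := fun e => hω2 (by
    have := (ZMod.natCast_eq_natCast_iff' (ω ^ 2) 1 p).1 (by rw [Nat.cast_pow, e, Nat.cast_one])
    rwa [Nat.mod_eq_of_lt hp.one_lt] at this)
  have hzpow : ∀ a b : ℕ, z ^ a = z ^ b ↔ (a : ZMod p) = (b : ZMod p) := fun a b => by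
    rw [pow_eq_pow_iff_modEq, hzo, ZMod.natCast_eq_natCast_iff]
  -- the part of order prime to `p`
  obtain ⟨w, hwp, hfw, hwz⟩ : ∃ w : G, ¬ p ∣ orderOf w ∧ f * w = w * f ∧ w * z * w⁻¹ = z ^ ω := by
    obtain ⟨a, m, hm, ham⟩ := Nat.exists_eq_pow_mul_and_not_dvd (orderOf_pos w₀).ne' p hp.ne_one
    refine ⟨w₀ ^ p ^ a, ?_, (show Commute f w₀ from hfw₀).pow_right _, ?_⟩
    · rw [orderOf_pow' _ (pow_ne_zero _ hp.ne_zero), ham, Nat.gcd_eq_right (dvd_mul_right _ _),
        Nat.mul_div_cancel_left _ (pow_pos hp.pos a)]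
      exact hm
    · have hk : ∀ k : ℕ, w₀ ^ k * z * (w₀ ^ k)⁻¹ = z ^ ω ^ k := by
        intro k
        induction k with
        | zero => simp
        | succ k ih =>
          calc w₀ ^ (k + 1) * z * (w₀ ^ (k + 1))⁻¹ = w₀ * (w₀ ^ k * z * (w₀ ^ k)⁻¹) * w₀⁻¹ := by
                rw [pow_succ']; group
            _ = (w₀ * z * w₀⁻¹) ^ ω ^ k := by rw [ih, conj_pow]
            _ = _ := by rw [hwz₀, ← pow_mul, pow_succ']
      rw [hk, hzpow, Nat.cast_pow]
      clear hk ham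
      induction a with
      | zero => simp
      | succ a ih => rw [pow_succ, pow_mul, ih, ZMod.pow_card]
  clear hfw₀ hwz₀ w₀
  set T := zpowers f ⊔ zpowers z with hT
  have hTmem : ∀ x ∈ T, ∃ i j : ℕ, x = f ^ i * z ^ j := by
    intro x hx
    have hn : zpowers z ≤ normalizer (zpowers f : Set G) := by
      rw [zpowers_le]
      refine centralizer_le_normalizer _ (mem_centralizer_iff.2 fun y hy => ?_)
      obtain ⟨i, rfl⟩ := conj_pow_of hy
      exact (show Commute f z from hfz).pow_left i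
    rw [hT, ← SetLike.mem_coe, coe_mul_of_right_le_normalizer_left _ _ hn] at hx
    obtain ⟨a, ha, b, hb, rfl⟩ := Set.mem_mul.1 hx
    obtain ⟨i, rfl⟩ := conj_pow_of ha
    obtain ⟨j, rfl⟩ := conj_pow_of hb
    exact ⟨i, j, rfl⟩
  have hTp : IsPGroup p T := fun x => by
    obtain ⟨i, j, hx⟩ := hTmem x x.2
    refine ⟨v, Subtype.ext ?_⟩
    rw [Subgroup.coe_pow, Subgroup.coe_one, hx, ((show Commute f z from hfz).pow_pow i j).mul_pow,
      ← pow_mul, ← pow_mul, mul_comm i, mul_comm j, pow_mul, pow_mul, ← hfo, pow_orderOf_eq_one,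
      show z ^ orderOf f = 1 from orderOf_dvd_iff_pow_eq_one.1 (by rw [hzo, hfo]; exact dvd_pow_self p hv.ne'),
      one_pow, one_pow, one_mul]
  have hTcen : ∀ x ∈ T, x * f = f * x := fun x hx => by
    obtain ⟨i, j, rfl⟩ := hTmem x hx
    exact ((Commute.pow_self f i).mul_left ((show Commute z f from hfz.symm).pow_left j)).eq
  -- a `p`-group through `T` in the centraliser of `f` is `T`
  have hTmax : ∀ U : Subgroup G, IsPGroup p U → T ≤ U → (∀ x ∈ U, x * f = f * x) → U = T := by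
    intro U hU hTU hUf
    refine (eq_of_le_of_card_ge hTU ?_).symm
    obtain ⟨k, hk⟩ := IsPGroup.iff_card.1 hU
    obtain ⟨k', hk'⟩ := IsPGroup.iff_card.1 hTp
    rw [hk, hk']
    refine Nat.pow_le_pow_right hp.pos ?_
    have h1 : k ≤ v + 1 := by
      have hle : U ≤ cen f := fun x hx => mem_centralizer_singleton_iff.2 (hUf x hx)
      rw [← hfact]
      exact (hp.pow_dvd_iff_le_factorization Nat.card_pos.ne').1 (hk ▸ card_dvd_of_le hle)
    refine h1.trans ?_
    by_contra hlt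
    have hfT : zpowers f ≤ T := le_sup_left
    have heq : zpowers f = T := eq_of_le_of_card_ge hfT (by
      rw [Nat.card_zpowers, hfo, hk']; exact Nat.pow_le_pow_right hp.pos (by omega))
    exact hzf (heq.symm ▸ mem_sup_right (mem_zpowers z))
  -- the largest `p`-group normalised by an element with the weight `ω`
  let Fam : Set (Subgroup G) := {P | IsPGroup p P ∧ T ≤ P ∧ ∃ x : G, ¬ p ∣ orderOf x ∧ f * x = x * f ∧
    x * z * x⁻¹ = z ^ ω ∧ x ∈ normalizer (P : Set G)}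
  have hTFam : T ∈ Fam := by
    refine ⟨hTp, le_rfl, w, hwp, hfw, hwz, SEBrick.mem_normalizer_of fun y hy => ?_⟩
    obtain ⟨i, j, rfl⟩ := hTmem y hy
    rw [show w * (f ^ i * z ^ j) * w⁻¹ = (w * f * w⁻¹) ^ i * (w * z * w⁻¹) ^ j by rw [conj_pow, conj_pow]; group,
      ← hfw, mul_inv_cancel_right, hwz, ← pow_mul]
    exact mul_mem (mem_sup_left (pow_mem (mem_zpowers f) i)) (mem_sup_right (pow_mem (mem_zpowers z) _))
  obtain ⟨P, ⟨hPp, hTP, w, hwp, hfw, hwz, hwN⟩, hmax⟩ :=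
    Set.exists_max_image Fam (fun P => Nat.card P) (Set.toFinite _) ⟨T, hTFam⟩
  have hfP : f ∈ P := hTP (mem_sup_left (mem_zpowers f))
  have hzP : z ∈ P := hTP (mem_sup_right (mem_zpowers z))
  set N := normalizer (P : Set G) with hN
  set hom : N →* MulAut P := P.normalizerMonoidHom with hhom
  have hom_coe : ∀ (g : N) (x : P), ((hom g x : P) : G) = g * x * (g : G)⁻¹ := fun _ _ => rfl
  set α := hom ⟨w, hwN⟩ with hα
  -- coprimality of `⟨w⟩` and `P`
  have hcopw : (Nat.card (zpowers w)).Coprime (Nat.card P) := by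
    obtain ⟨k, hk⟩ := IsPGroup.iff_card.1 hPp
    rw [Nat.card_zpowers, hk]
    exact Nat.Coprime.pow_right _ (hp.coprime_iff_not_dvd.2 hwp).symm
  have hcenf : ∀ x : G, x ∈ P → x * f = f * x → x ∈ T := by
    intro x hx hxf
    have := hTmax (P ⊓ cen f) (hPp.to_le inf_le_left)
      (le_inf hTP fun y hy => mem_centralizer_singleton_iff.2 (hTcen y hy))
      (fun y hy => mem_centralizer_singleton_iff.1 hy.2)
    exact this ▸ (mem_inf.2 ⟨hx, mem_centralizer_singleton_iff.2 hxf⟩ : x ∈ P ⊓ cen f)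
  have hα_f : α ⟨f, hfP⟩ = ⟨f, hfP⟩ := Subtype.ext (by
    rw [hom_coe]; show w * f * w⁻¹ = f; rw [← hfw, mul_inv_cancel_right])
  -- the fixed points of `α`
  have hαfix : ∀ x : P, α x = x → x ∈ zpowers (⟨f, hfP⟩ : P) := by
    by_contra hcon
    push Not at hcon
    obtain ⟨x₀, hx₀, hx₀'⟩ := hcon
    let C : Subgroup P :=
      { carrier := {x | α x = x}
        one_mem' := map_one α
        mul_mem' := fun ha hb => by show α _ = _; rw [map_mul, ha, hb]
        inv_mem' := fun ha => by show α _ = _; rw [map_inv, ha] }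
    set F := (zpowers (⟨f, hfP⟩ : P)).subgroupOf C with hF
    have hne : F ≠ ⊤ := fun e => hx₀' (mem_subgroupOf.1 (e ▸ mem_top (⟨x₀, hx₀⟩ : C)))
    haveI : Group.IsNilpotent C := (hPp.to_subgroup C).isNilpotent
    have hlt := Group.normalizerCondition_of_isNilpotent (G := C) F (lt_top_iff_ne_top.2 hne)
    obtain ⟨y, hy, hy'⟩ := SetLike.exists_of_lt hlt
    have h1 : (y : P) * ⟨f, hfP⟩ * (y : P)⁻¹ ∈ zpowers (⟨f, hfP⟩ : P) :=
      mem_subgroupOf.1 ((mem_normalizer_iff.1 hy (⟨⟨f, hfP⟩, hα_f⟩ : C)).1 (mem_zpowers _ : (⟨f, hfP⟩ : P) ∈ _))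
    obtain ⟨b, hb⟩ := conj_pow_of h1
    have hb' : ((y : P) : G) * f ^ 1 * ((y : P) : G)⁻¹ = f ^ b := by
      rw [pow_one]; exact congrArg Subtype.val hb
    have hyf : ((y : P) : G) * f = f * ((y : P) : G) := by
      rw [← mul_inv_eq_iff_eq_mul]
      calc ((y : P) : G) * f * ((y : P) : G)⁻¹ = f ^ b := by rw [← hb', pow_one]
        _ = f ^ 1 := (hconj _ 1 b hb').symm
        _ = f := pow_one f
    obtain ⟨i, j, hij⟩ := hTmem _ (hcenf _ (y : P).2 hyf)
    have hfix : w * ((y : P) : G) * w⁻¹ = ((y : P) : G) := congrArg Subtype.val y.2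
    rw [hij, show w * (f ^ i * z ^ j) * w⁻¹ = (w * f * w⁻¹) ^ i * (w * z * w⁻¹) ^ j by
      rw [conj_pow, conj_pow]; group, ← hfw, mul_inv_cancel_right, hwz, mul_right_inj, ← pow_mul,
      hzpow, Nat.cast_mul] at hfix
    have hj : z ^ j = 1 := by
      rw [← pow_zero z, hzpow, Nat.cast_zero]
      have : ((ω : ZMod p) - 1) * (j : ZMod p) = 0 := by rw [sub_mul, one_mul, hfix, sub_self]
      exact (mul_eq_zero.1 this).resolve_left (sub_ne_zero.2 hω1')
    refine hy' (mem_subgroupOf.2 ?_)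
    have : (y : P) = ⟨f, hfP⟩ ^ i := Subtype.ext (by rw [hij, hj, mul_one, Subgroup.coe_pow])
    rw [this]
    exact pow_mem (mem_zpowers _) i
  -- the moved part
  have hcoset : ∀ x : P, ∃ c, α c = c ∧ x * c⁻¹ ∈ closure (Set.range fun y : P => y⁻¹ * α y) := by
    intro x
    obtain ⟨d, hd, c, hc, hxdc⟩ := CoprimeAct.exists_commutator_mul (zpowers_le.2 hwN) hcopw
      (Or.inl (Group.isSolvable_of_comm fun a b => mul_comm' a b)) x.2
    set D := (closure (Set.range fun y : P => y⁻¹ * α y)).map P.subtype with hD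
    have hstep : ∀ (k : ℕ) (y : P), (y : G)⁻¹ * (w ^ k * y * (w ^ k)⁻¹) ∈ D := by
      intro k
      induction k with
      | zero => intro y; simp
      | succ k ih =>
        intro y
        have hy' : w ^ k * (y : G) * (w ^ k)⁻¹ ∈ P := (mem_normalizer_iff.1 (pow_mem hwN k) _).1 y.2
        have h1 : (w ^ k * (y : G) * (w ^ k)⁻¹)⁻¹ * (w * (w ^ k * (y : G) * (w ^ k)⁻¹) * w⁻¹) ∈ D :=
          ⟨_, subset_closure ⟨⟨_, hy'⟩, rfl⟩, by simp [hα, hom_coe]⟩
        have h2 := mul_mem (ih y) h1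
        convert h2 using 1
        rw [pow_succ' w k]; group
    have hdD : d ∈ D := by
      refine (commutator_le.2 fun y hy a ha => ?_) hd
      obtain ⟨k, rfl⟩ := conj_pow_of ha
      have := hstep k ⟨y⁻¹, inv_mem hy⟩
      rw [commutatorElement_def]
      simpa [mul_assoc] using this
    have hcP : c ∈ P := hc.1
    refine ⟨⟨c, hcP⟩, Subtype.ext ?_, ?_⟩
    · rw [hom_coe]
      show w * c * w⁻¹ = c
      rw [mem_centralizer_iff.1 hc.2 w (mem_zpowers w), mul_inv_cancel_right]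
    · obtain ⟨d', hd', e⟩ := hdD
      have : x * (⟨c, hcP⟩ : P)⁻¹ = d' := Subtype.ext (by
        rw [Subgroup.coe_mul, Subgroup.coe_inv, hxdc]; exact (mul_inv_cancel_right d c).trans e.symm)
      exact this ▸ hd'
  let S : Auto p P :=
    { f := ⟨f, hfP⟩
      z := ⟨z, hzP⟩
      ω := ω
      n := orderOf w
      α := α
      hP := hPp
      α_f := hα_f
      α_z := Subtype.ext (by rw [hom_coe, Subgroup.coe_pow]; exact hwz)
      f_ne := fun e => by
        have : f = 1 := congrArg Subtype.val e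
        rw [this, orderOf_one] at hfo
        exact (Nat.one_lt_pow hv.ne' hp.one_lt).ne hfo
      z_order := by rw [← Subgroup.orderOf_coe]; exact hzo
      z_notMem := fun h => hzf (by
        obtain ⟨k, hk⟩ := conj_pow_of h
        rw [show z = f ^ k from congrArg Subtype.val hk]; exact pow_mem (mem_zpowers f) k)
      fz := Subtype.ext hfz
      cen_f := fun x hx => by
        obtain ⟨i, j, h⟩ := hTmem _ (hcenf x x.2 (congrArg Subtype.val hx))
        exact ⟨i, j, Subtype.ext h⟩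
      ω_one := hω1'
      ω_sq := hω2'
      n_cop := hwp
      α_pow := by
        rw [hα, ← map_pow]
        convert map_one hom
        exact Subtype.ext (by rw [Subgroup.coe_pow]; exact pow_orderOf_eq_one w)
      α_fix := hαfix
      coset := hcoset }
  set A := hom.range with hA
  have hnice : S.Nice A := ⟨⟨_, rfl⟩, by
    rintro _ ⟨g, rfl⟩ hgf
    obtain ⟨b, hb⟩ := conj_pow_of hgf
    have hb' : (g : G) * f ^ 1 * (g : G)⁻¹ = f ^ b := by
      rw [pow_one, ← hom_coe g ⟨f, hfP⟩]; exact congrArg Subtype.val hb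
    refine Subtype.ext ?_
    rw [hom_coe]
    show (g : G) * f * (g : G)⁻¹ = f
    have h1 := (hconj _ 1 b hb').symm
    rw [pow_one] at hb' h1
    rw [hb', h1]⟩
  obtain ⟨Mp, hMpA, hMpp, hMpn, hMpel⟩ := hnice.pclosed hp2
  set M₁ := (Mp.comap hom).map N.subtype with hM₁
  have hM₁N : M₁ ≤ N := map_subtype_le _
  have hpel : ∀ u : N, (∃ k, (u : G) ^ p ^ k = 1) → (u : G) ∈ M₁ := by
    rintro u ⟨k, hk⟩
    refine ⟨u, hMpel _ ⟨u, rfl⟩ ⟨k, ?_⟩, rfl⟩
    rw [← map_pow, show u ^ p ^ k = 1 from Subtype.ext (by rw [Subgroup.coe_pow]; exact hk), map_one]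
  have hUM₁ : ∀ U : Subgroup G, IsPGroup p U → U ≤ N → U ≤ M₁ := fun U hU hUN x hx => by
    obtain ⟨k, hk⟩ := hU ⟨x, hx⟩
    exact hpel ⟨x, hUN hx⟩ ⟨k, congrArg Subtype.val hk⟩
  have hPN : P ≤ N := le_normalizer
  obtain ⟨R₁, hR₁⟩ := (hPp.comap_subtype (K := M₁)).exists_le_sylow
  set R := (R₁ : Subgroup M₁).map M₁.subtype with hR
  have hPR : P ≤ R := fun x hx => ⟨⟨x, hUM₁ P hPp hPN hx⟩, hR₁ hx, rfl⟩
  -- the element normalising the Sylow subgroup
  have hwM₁ : w ∈ normalizer (M₁ : Set G) := by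
    refine SEBrick.mem_normalizer_of ?_
    rintro _ ⟨u, hu, rfl⟩
    refine ⟨⟨w, hwN⟩ * u * (⟨w, hwN⟩ : N)⁻¹, ?_, rfl⟩
    show hom (⟨w, hwN⟩ * u * (⟨w, hwN⟩ : N)⁻¹) ∈ Mp
    rw [map_mul, map_mul, map_inv]
    exact (mem_normalizer_iff.1 (hMpn ⟨_, rfl⟩) _).1 hu
  obtain ⟨n₁, hn₁, hn₁R⟩ := IsolatedP.exists_mul_normalizer R₁ hwM₁
  have hn₀N : n₁⁻¹ * w ∈ N := mul_mem (inv_mem (hM₁N hn₁)) hwN
  obtain ⟨u, x, hux, hu, hx, ⟨ku, hku⟩, hxo⟩ := PBasic.exists_pPart_mul (p := p) (⟨n₁⁻¹ * w, hn₀N⟩ : N)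
  have hxR : (x : G) ∈ normalizer (R : Set G) := by
    obtain ⟨k, hk⟩ := conj_pow_of hx
    rw [hk, Subgroup.coe_pow]
    exact pow_mem hn₁R k
  have hαA : α ∈ A := ⟨_, rfl⟩
  have hdiff : α⁻¹ * hom x ∈ Mp := by
    have hn₁Mp : hom ⟨n₁, hM₁N hn₁⟩ ∈ Mp := by
      have hn₁' := hn₁
      obtain ⟨u', hu', e⟩ := hn₁'
      have : (⟨n₁, hM₁N hn₁⟩ : N) = u' := Subtype.ext e.symm
      rw [this]; exact hu'
    have hu1 : hom u ∈ Mp :=
      hMpel _ ⟨u, rfl⟩ ⟨ku, by rw [← map_pow, ← hku, pow_orderOf_eq_one, map_one]⟩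
    have e : hom x = (hom u)⁻¹ * ((hom ⟨n₁, hM₁N hn₁⟩)⁻¹ * α) := by
      rw [eq_inv_mul_iff_mul_eq, ← map_mul, hux, hα, ← map_inv, ← map_mul]
      rfl
    rw [e, ← mul_assoc, ← mul_assoc]
    have := (mem_normalizer_iff.1 (inv_mem (hMpn hαA)) _).1 (mul_mem (inv_mem hu1) (inv_mem hn₁Mp))
    rwa [inv_inv, ← mul_assoc] at this
  have hαord : ¬ p ∣ orderOf α := S.α_order
  have hxo' : ¬ p ∣ orderOf (hom x) := fun h =>
    (hp.coprime_iff_not_dvd.1 hxo.symm) (h.trans (orderOf_map_dvd hom x))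
  obtain ⟨k, hk, hkα⟩ := Weight.conj_of_coset hMpp (hMpn hαA) hαord hxo' hdiff
  obtain ⟨m, rfl⟩ := hMpA hk
  set w' : N := m⁻¹ * x * m with hw'
  have hw'α : hom w' = α := by rw [hw', map_mul, map_mul, map_inv, ← hkα]; group
  have hact : ∀ y ∈ P, (w' : G) * y * (w' : G)⁻¹ = w * y * w⁻¹ := fun y hy => by
    have := congrArg (fun a : MulAut P => ((a ⟨y, hy⟩ : P) : G)) hw'α
    simpa [hom_coe, hα] using this
  set R' := R.map (MulAut.conj (m : G)⁻¹).toMonoidHom with hR'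
  have hPR' : P ≤ R' := fun y hy => ⟨(m : G) * y * (m : G)⁻¹, hPR ((mem_normalizer_iff.1 m.2 y).1 hy), by
    simp [mul_assoc]⟩
  have hcardR : Nat.card R ≤ Nat.card P := by
    have hRFam : R' ∈ Fam := by
      refine ⟨(R₁.isPGroup'.map _).map _, hTP.trans hPR', w', ?_, ?_, ?_, ?_⟩
      · rw [hw', Subgroup.orderOf_coe]
        have : orderOf (m⁻¹ * x * m) = orderOf x := by
          have := orderOf_injective (MulAut.conj m⁻¹).toMonoidHom (MulAut.conj m⁻¹).injective x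
          simpa using this
        rw [this]
        exact hp.coprime_iff_not_dvd.1 hxo.symm
      · have h := hact f hfP
        rw [← hfw, mul_inv_cancel_right, mul_inv_eq_iff_eq_mul] at h
        exact h.symm
      · rw [hact z hzP, hwz]
      · refine SEBrick.mem_normalizer_of ?_
        rintro _ ⟨y, hy, rfl⟩
        refine ⟨(x : G) * y * (x : G)⁻¹, (mem_normalizer_iff.1 hxR y).1 hy, ?_⟩
        simp [hw', mul_assoc]
    have := hmax R' hRFam
    rwa [card_map_of_injective (MulAut.conj (m : G)⁻¹).injective] at this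
  have hUle : ∀ U : Subgroup G, IsPGroup p U → U ≤ N → P ≤ U → U = P := by
    intro U hU hUN hPU
    refine (eq_of_le_of_card_ge hPU (le_trans ?_ hcardR)).symm
    obtain ⟨R₂, hR₂⟩ := (hU.comap_subtype (K := M₁)).exists_le_sylow
    calc Nat.card U = Nat.card (U.subgroupOf M₁) :=
          (Nat.card_congr (subgroupOfEquivOfLe (hUM₁ U hU hUN)).toEquiv).symm
      _ ≤ Nat.card (R₂ : Subgroup M₁) := card_le_of_le hR₂
      _ = Nat.card R := by
        rw [hR, card_map_of_injective M₁.subtype_injective]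
        exact Nat.card_congr (R₂.equiv R₁).toEquiv
  have hsyl : ∀ U : Subgroup G, IsPGroup p U → P ≤ U → U = P := by
    intro U hU hPU
    by_contra hne
    haveI : Group.IsNilpotent U := hU.isNilpotent
    have hlt : P.subgroupOf U < ⊤ := lt_top_iff_ne_top.2 fun e => hne
      (le_antisymm (subgroupOf_eq_top.1 e) hPU)
    obtain ⟨y, hy, hy'⟩ := SetLike.exists_of_lt (Group.normalizerCondition_of_isNilpotent (G := U) _ hlt)
    have hyN : (y : G) ∈ N := SEBrick.mem_normalizer_of fun q hq =>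
      mem_subgroupOf.1 ((mem_normalizer_iff.1 hy ⟨q, hPU hq⟩).1 (mem_subgroupOf.2 hq))
    have := hUle (U ⊓ N) (hU.to_le inf_le_left) inf_le_right (le_inf hPU hPN)
    exact hy' (mem_subgroupOf.2 (this ▸ (mem_inf.2 ⟨y.2, hyN⟩ : (y : G) ∈ U ⊓ N)))
  let Ps : Sylow p G := ⟨P, hPp, fun {U} hU hle => hsyl U hU hle⟩
  -- inner `p`-elements
  have hinner : ∀ a ∈ A, (∃ k : ℕ, a ^ p ^ k = 1) → ∃ x : P, a = MulAut.conj x := by
    rintro _ ⟨g, rfl⟩ ⟨k, hk⟩
    obtain ⟨u, x, hux, hu, hx, ⟨ku, hku⟩, hxo⟩ := PBasic.exists_pPart_mul (p := p) g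
    have huP : (u : G) ∈ P := by
      have hup : IsPGroup p (zpowers (u : G)) :=
        IsPGroup.of_card (n := ku) (by rw [Nat.card_zpowers, Subgroup.orderOf_coe, hku])
      have := hsyl (P ⊔ zpowers (u : G))
        (hPp.to_sup_of_normal_left' hup (zpowers_le.2 u.2)) le_sup_left
      exact this ▸ mem_sup_right (mem_zpowers _)
    have hx1 : hom x = 1 := by
      have hcomm : Commute (hom u) (hom x) := by
        obtain ⟨i, rfl⟩ := conj_pow_of hu
        obtain ⟨j, rfl⟩ := conj_pow_of hx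
        exact (Commute.pow_pow_self g i j).map hom
      have h1 : hom x ^ p ^ (k + ku) = 1 := by
        have h2 : (hom u * hom x) ^ p ^ (k + ku) = 1 := by
          rw [← map_mul, hux, pow_add, pow_mul, hk, one_pow]
        have h3 : hom u ^ p ^ (k + ku) = 1 := by
          rw [← map_pow, pow_add, mul_comm, pow_mul, ← hku, pow_orderOf_eq_one, one_pow, map_one]
        rwa [hcomm.mul_pow, h3, one_mul] at h2
      exact orderOf_eq_one_iff.1 (Nat.eq_one_of_dvd_coprimes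
        ((hxo.coprime_dvd_left (orderOf_map_dvd hom x)).pow_right (k + ku)) dvd_rfl
        (orderOf_dvd_of_pow_eq_one h1))
    refine ⟨⟨u, huP⟩, ?_⟩
    rw [← hux, map_mul, hx1, mul_one]
    exact MulEquiv.ext fun y => Subtype.ext rfl
  have hfirst := hnice.first hp2 hinner
  -- the transferred function
  let χ : G → ZMod p := fun g => if h : g ∈ P then S.co ⟨g, h⟩ 0 else 0
  have hχ : ∀ y : P, χ y = S.co y 0 := fun y => by simp only [χ, dif_pos y.2, Subtype.coe_eta]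
  have hχmul : ∀ a ∈ P, ∀ b ∈ P, χ (a * b) = χ a + χ b := fun a ha b hb => by
    rw [show a * b = ((⟨a, ha⟩ * ⟨b, hb⟩ : P) : G) from rfl, hχ, S.co_mul, Pi.add_apply, ← hχ, ← hχ]
  have hχN : ∀ g ∈ N, ∀ y ∈ P, χ (g * y * g⁻¹) = χ y := fun g hg y hy => by
    rw [show g * y * g⁻¹ = ((hom ⟨g, hg⟩ ⟨y, hy⟩ : P) : G) from rfl, hχ, hfirst _ ⟨_, rfl⟩, ← hχ]
  have hχf : χ f = 1 := by
    rw [show f = ((⟨f, hfP⟩ : P) : G) from rfl, hχ]
    exact congrFun S.co_f 0
  -- the abelian normal subgroup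
  haveI := S.Q_normal
  set Q := S.Q.map P.subtype with hQ
  have hQP : Q ≤ P := map_subtype_le _
  have hQn : ∀ y ∈ P, ∀ q ∈ Q, y * q * y⁻¹ ∈ Q := by
    rintro y hy _ ⟨q, hq, rfl⟩
    exact ⟨⟨y, hy⟩ * q * (⟨y, hy⟩ : P)⁻¹, S.Q_normal.conj_mem q hq _, rfl⟩
  have hQc : ∀ a ∈ Q, ∀ b ∈ Q, a * b = b * a := by
    rintro _ ⟨a, ha, rfl⟩ _ ⟨b, hb, rfl⟩
    rw [← map_mul, ← map_mul, S.Q_comm ha hb]
  have hdec : ∀ y ∈ P, ∃ q ∈ Q, ∃ i : ℕ, y = q * f ^ i := fun y hy => by
    obtain ⟨q, hq, i, h⟩ := S.decomp ⟨y, hy⟩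
    exact ⟨q, ⟨q, hq, rfl⟩, i, congrArg Subtype.val h⟩
  have hχQ : ∀ q ∈ Q, χ q = 0 := by
    rintro _ ⟨q, hq, rfl⟩
    exact (hχ q).trans (S.co_Q hq)
  -- `z` is central and its centraliser is solvable
  have hzcen : ∀ y ∈ P, y * z = z * y := fun y hy => by
    obtain ⟨q, hq, i, rfl⟩ := hdec y hy
    have hzQ : z ∈ Q := ⟨S.z, S.z_mem, rfl⟩
    rw [mul_assoc, ((show Commute f z from hfz).pow_left i).eq, ← mul_assoc, hQc q hq z hzQ, mul_assoc]
  have hodd : Odd (Nat.card (cen z)) := by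
    rw [← Nat.not_even_iff_odd, even_iff_two_dvd]
    intro h2
    obtain ⟨i, hi⟩ := exists_prime_orderOf_dvd_card' (G := cen z) 2 h2
    have hzi : z * (i : G) = (i : G) * z := (mem_centralizer_singleton_iff.1 i.2).symm
    obtain ⟨g, hg⟩ := hinvol z i (by rw [Subgroup.orderOf_coe]; exact hi) hzi ⟨1, by rw [pow_one, hzo]⟩
    obtain ⟨a, ha⟩ := conj_pow_of hg
    have h1 : (g * w * g⁻¹) * f ^ a * (g * w * g⁻¹)⁻¹ = f ^ (a * ω) := by
      rw [← ha, pow_mul, ← ha, conj_pow, ← hwz]; group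
    have h3 := hconj _ a (a * ω) h1
    rw [pow_mul, ← ha, conj_pow, mul_left_inj, mul_right_inj] at h3
    nth_rw 1 [← pow_one z] at h3
    rw [hzpow, Nat.cast_one] at h3
    exact hω1' h3.symm
  set Z := ZJ.zJ p False P with hZ
  set NZ := normalizer (Z : Set G) with hNZ
  have hzZ : z ∈ Z := mem_zJ_of_central hzP hzcen
  have hPNZ : P ≤ NZ := ZJ.le_normalizer_zJ P
  let PN : Sylow p NZ := Ps.subtype hPNZ
  haveI : (Z.subgroupOf NZ).Normal := normal_in_normalizer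
  have hsolv : Group.IsSolvable ↥(centralizer ((Z.subgroupOf NZ : Subgroup NZ) : Set NZ)) := by
    haveI hs : Group.IsSolvable (cen z) := OddChar.oddSolvable _ hodd
    let e : ↥(centralizer ((Z.subgroupOf NZ : Subgroup NZ) : Set NZ)) →* cen z :=
      (NZ.subtype.comp (centralizer _).subtype).codRestrict (cen z) fun c => by
        have hzN : z ∈ NZ := hPNZ hzP
        have := mem_centralizer_iff.1 c.2 ⟨z, hzN⟩ (mem_subgroupOf.2 hzZ)
        exact mem_centralizer_singleton_iff.2 (congrArg Subtype.val this).symm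
    exact Group.isSolvable_of_isSolvable_injective (f := e) fun a b h =>
      Subtype.ext (Subtype.ext (congrArg (fun c : cen z => (c : G)) h))
  have hc := centralizer_pCore_le_of_center (p := p) (Z := Z.subgroupOf NZ)
    ((hPp.to_le (ZJ.zJ_le P)).comap_subtype (K := NZ)) hsolv
  have hN4 : ∀ g : NZ, orderOf g ≠ 4 := fun g => by rw [← Subgroup.orderOf_coe]; exact h4 _
  have hctrl := congr_of_constrained hp2 hN4 hc PN (Q := Q.subgroupOf NZ)
    (fun q hq => hQP hq) (fun y hy q hq => hQn y hy q hq)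
    (fun a ha b hb => Subtype.ext (hQc a ha b hb)) (f := ⟨f, hPNZ hfP⟩) hfP
    (fun y hy => by
      obtain ⟨q, hq, i, h⟩ := hdec y hy
      exact ⟨⟨q, hPNZ (hQP hq)⟩, hq, i, Subtype.ext h⟩)
    (fun y => χ y) (fun a ha b hb => hχmul a ha b hb) (fun q hq => hχQ q hq)
    (fun g hg y hy => hχN g (SEBrick.mem_normalizer_of fun q hq =>
      (mem_normalizer_iff.1 hg ⟨q, hPNZ hq⟩).1 hq) y hy)
  -- transfer
  have hχinv : ∀ a ∈ P, χ a⁻¹ = -χ a := fun a ha => by
    rw [show a⁻¹ = (((⟨a, ha⟩ : P)⁻¹ : P) : G) from rfl, hχ, S.co_inv, Pi.neg_apply, ← hχ]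
  let K : Subgroup G :=
    { carrier := {y | y ∈ P ∧ χ y = 0}
      one_mem' := ⟨one_mem P, by rw [show (1 : G) = ((1 : P) : G) from rfl, hχ, S.co_one]; rfl⟩
      mul_mem' := fun ha hb => ⟨mul_mem ha.1 hb.1, by rw [hχmul _ ha.1 _ hb.1, ha.2, hb.2, add_zero]⟩
      inv_mem' := fun ha => ⟨inv_mem ha.1, by rw [hχinv _ ha.1, ha.2, neg_zero]⟩ }
  have hKn : (K.subgroupOf P).Normal := ⟨fun k hk g => by
    refine mem_subgroupOf.2 ⟨(g * k * g⁻¹).2, ?_⟩
    rw [Subgroup.coe_mul, Subgroup.coe_mul, Subgroup.coe_inv, hχmul _ (mul_mem g.2 k.2) _ (inv_mem g.2),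
      hχmul _ g.2 _ k.2, hχinv _ g.2, (mem_subgroupOf.1 hk).2, add_zero, add_neg_cancel]⟩
  have hfG : f ∉ commutator G := by
    refine S1241.result P K (fun y hy => hy.1) hKn (fun a ha b hb => ⟨mul_mem (mul_mem (mul_mem ha hb) (inv_mem ha)) (inv_mem hb), ?_⟩)
      ((hp.coprime_iff_not_dvd).2 Ps.not_dvd_index) f hfP
      (fun hf => one_ne_zero (α := ZMod p) (hχf.symm.trans hf.2)) ⟨v, hfo⟩ ?_
    · rw [hχmul _ (mul_mem (mul_mem ha hb) (inv_mem ha)) _ (inv_mem hb),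
        hχmul _ (mul_mem ha hb) _ (inv_mem ha), hχmul _ ha _ hb, hχinv a ha, hχinv b hb]
      ring
    · intro m a hm
      have hfm : f ^ m ∈ P := zpow_mem hfP m
      obtain ⟨n, hn, hna⟩ := PStable.exists_mem_normalizer_zJ (e := False) hp2 (G := G)
        (fun Y _ _ hY _ => PStable.isQuad_of_not_involves_sl2 hp2
          (PStable.not_involves_section (Walter8.not_involves_sl2 hp2 h4) hY))
        Ps (A := {f ^ m}) (g := a) (Set.singleton_subset_iff.2 hfm)
        (by rintro _ ⟨y, rfl, rfl⟩; exact hm)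
      have he := hna _ rfl
      refine ⟨mul_mem hm (inv_mem hfm), ?_⟩
      have h5 : χ (n * f ^ m * n⁻¹) = χ (f ^ m) :=
        hctrl ⟨n, hn⟩ ⟨f ^ m, hPNZ hfm⟩ hfm (show n * f ^ m * n⁻¹ ∈ P by rw [he]; exact hm)
      rw [hχmul _ hm _ (inv_mem hfm), hχinv _ hfm, ← he, h5, add_neg_cancel]
  haveI := hsimple
  rcases (commutator_normal (⊤ : Subgroup G) ⊤).eq_bot_or_eq_top with h | h
  · exact hnc ⟨⟨fun a b => commutatorElement_eq_one_iff_mul_comm.1
      (mem_bot.1 (h ▸ commutator_mem_commutator (mem_top a) (mem_top b)))⟩⟩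
  · exact hfG (show f ∈ ⁅(⊤ : Subgroup G), ⊤⁆ by rw [h]; exact mem_top f)

end Cfsg.Agent.NoField
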