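import Cfsg.Agent.Lib.NoField.P3Cent
import Cfsg.Agent.Lib.Walter8.Replace
import Cfsg.Agent.Lib.AbPPrime.Basic
import Cfsg.Agent.Lib.OddChar.OddTheorem
import Cfsg.Agent.Lib.NoField.Weight

/-!
The case `p = 3`: a Sylow 3-subgroup `S` with `C(t) ∩ N(Z(J(S))) = ⟨t⟩ × BΦ`.
-/

set_option autoImplicit false
set_option linter.style.haveILetI false
set_option linter.unusedSectionVars false

namespace Cfsg.Agent.NoField.P3

open Subgroup Cfsg.Agent.AutPSL
open Cfsg.Agent.Walter8 (cen)

universe u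

variable {G : Type u} [Group G] [Finite G] {D : Data G}

/-- `N` contains `t` and `BΦ`, and nothing more of `C(t)`. -/
structure Good (D : Data G) (N : Subgroup G) : Prop where
  t_mem : D.t ∈ N
  BP_le : BP D ≤ N
  inter : ∀ g ∈ N, g ∈ D.X → g ∈ BP D

/-- The odd part of a good subgroup. -/
structure OddPart (D : Data G) (N O : Subgroup G) : Prop where
  le : O ≤ N
  odd : Odd (Nat.card O)
  dec : ∀ g ∈ N, g ∈ O ∨ D.t * g ∈ O
  normal : N ≤ normalizer (O : Set G)
  mem : ∀ g ∈ N, Odd (orderOf g) → g ∈ O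

variable (P : Prim D)

/-- The end of the climb. -/
structure Local (D : Data G) where
  S : Sylow 3 G
  O : Subgroup G
  good : Good D (normalizer (ZJ.zJ 3 False (S : Subgroup G) : Set G))
  odd : OddPart D (normalizer (ZJ.zJ 3 False (S : Subgroup G) : Set G)) O
  ne_bot : ZJ.zJ 3 False (S : Subgroup G) ≠ ⊥

namespace Prim

include P

theorem good_start : Good D (normalizer (UG D : Set G)) where
  t_mem := centralizer_le_normalizer _ (mem_centralizer_iff.2 fun u hu => by
    obtain ⟨v, -, rfl⟩ := hu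
    exact (D.t_jL v).symm)
  BP_le := inf_le_right
  inter _ hg hgX := ⟨hgX, hg⟩

theorem exists_oddPart {N : Subgroup G} (hN : Good D N) : ∃ O, OddPart D N O := by
  obtain ⟨O, h1, h2, -, h3, h4, h5⟩ := P.exists_odd_part hN.t_mem fun g hg hgt hg2 hg1 => by
    have key : ∀ y ∈ N, y ∈ D.X → y * y = 1 → y = 1 := fun y hy hyX hy2 =>
      orderOf_eq_one_iff.1 (Nat.eq_one_of_dvd_coprimes (Nat.coprime_two_right.2
        (P.BP_odd.of_dvd_nat (Subgroup.orderOf_dvd_natCard _ (hN.inter y hy hyX)))) dvd_rfl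
        (orderOf_dvd_of_pow_eq_one (by rwa [pow_two])))
    rcases D.dec g (mem_centralizer_singleton_iff.2 hgt) with h | h
    · exact absurd (key g hg h hg2) hg1
    · have := key _ (mul_mem hN.t_mem hg) h
        (by rw [mul_assoc, ← mul_assoc g, hgt, mul_assoc D.t g g, hg2, mul_one, D.t_sq])
      rw [eq_inv_of_mul_eq_one_right this, D.t_inv]
  exact ⟨O, h1, h2, h3, h4, h5⟩

theorem mem_X_of_odd {g : G} (hg : g * D.t = D.t * g) (ho : Odd (orderOf g)) : g ∈ D.X := by
  refine ClosedAbelian.mem_of_sq_mem ?_ ho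
  rcases D.dec g (mem_centralizer_singleton_iff.2 hg) with h | h
  · exact mul_mem h h
  · have h' : D.t * g * (D.t * g) ∈ D.X := mul_mem h h
    rwa [mul_assoc, ← mul_assoc g, hg, mul_assoc D.t g g, ← mul_assoc D.t, D.t_sq, one_mul] at h'

theorem BP_le_O {N O : Subgroup G} (hN : Good D N) (hO : OddPart D N O) : BP D ≤ O := fun g hg =>
  hO.mem g (hN.BP_le hg) (P.BP_odd.of_dvd_nat (Subgroup.orderOf_dvd_natCard _ hg))

/-- The odd elements of `C(t)` in a good subgroup lie in `BΦ`. -/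
theorem mem_BP_of_comm {N O : Subgroup G} (hN : Good D N) (hO : OddPart D N O) {g : G} (hg : g ∈ O)
    (hgt : g * D.t = D.t * g) : g ∈ BP D :=
  hN.inter g (hO.le hg)
    (P.mem_X_of_odd hgt (hO.odd.of_dvd_nat (Subgroup.orderOf_dvd_natCard O hg)))

/-- One step of the climb. -/
theorem step {N : Subgroup G} (hN : Good D N) :
    ∃ R : Subgroup G, R ≤ N ∧ IsPGroup 3 R ∧
      Nat.card R = 3 ^ (Nat.card N).factorization 3 ∧
      ZJ.zJ 3 False R ≠ ⊥ ∧ Good D (normalizer (ZJ.zJ 3 False R : Set G)) := by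
  haveI : Fact (Nat.Prime 3) := ⟨Nat.prime_three⟩
  obtain ⟨O, hO⟩ := P.exists_oddPart hN
  haveI hsol : Group.IsSolvable O := OddChar.oddSolvable _ hO.odd
  have htO : zpowers D.t ≤ normalizer (O : Set G) := zpowers_le.2 (hO.normal hN.t_mem)
  have hcop : (Nat.card (zpowers D.t)).Coprime (Nat.card O) := by
    rw [Nat.card_zpowers, D.t_order]
    exact Nat.coprime_two_left.2 hO.odd
  obtain ⟨S, hS⟩ := CoprimeAct.exists_invariant_sylow htO hcop (Or.inr hsol) 3
  set R := (S : Subgroup O).map O.subtype with hR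
  set A := ZJ.zJ 3 False R with hA
  have hR3 : IsPGroup 3 R := S.2.map O.subtype
  have hRO : R ≤ O := map_subtype_le _
  have hcard : Nat.card R = 3 ^ (Nat.card N).factorization 3 := by
    rw [hR, card_map_of_injective O.subtype_injective, Sylow.card_eq_multiplicity]
    congr 1
    have hcN : Nat.card N = 2 * Nat.card O := by
      have hNt : D.t ∉ O := fun h => by
        have h1 := hO.odd.of_dvd_nat (Subgroup.orderOf_dvd_natCard O h)
        rw [D.t_order] at h1
        exact absurd h1 (by decide)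
      have hidx : (O.subgroupOf N).index = 2 := by
        refine Subgroup.index_eq_two_iff.2 ⟨⟨D.t, hN.t_mem⟩, fun g => ?_⟩
        simp only [mem_subgroupOf, Subgroup.coe_mul]
        rcases hO.dec g g.2 with h | h
        · refine Or.inr ⟨h, fun h' => hNt ?_⟩
          have := mul_mem (inv_mem h) h'
          rwa [inv_mul_cancel_left] at this
        · refine Or.inl ⟨?_, fun h' => hNt ?_⟩
          · have e : (g : G) * D.t = D.t * (D.t * (g : G)) * D.t⁻¹ := by
              rw [← mul_assoc, D.t_sq, one_mul, D.t_inv]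
            rw [e]
            exact (mem_normalizer_iff.1 (hO.normal hN.t_mem) _).1 h
          · have := mul_mem h (inv_mem h')
            rwa [mul_inv_cancel_right] at this
      have h1 := (O.subgroupOf N).card_mul_index
      rw [hidx, Nat.card_congr (subgroupOfEquivOfLe hO.le).toEquiv] at h1
      omega
    rw [hcN, Nat.factorization_mul (by norm_num) Nat.card_pos.ne']
    simp [Nat.prime_two.factorization]
  have hUO : UG D ≤ O := (P.UG_le_BP).trans (P.BP_le_O hN hO)
  have hAne : A ≠ ⊥ := by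
    have hRne : R ≠ ⊥ := by
      intro h
      have h3 : 3 ∣ Nat.card O := by
        refine dvd_trans ?_ (card_dvd_of_le hUO)
        rw [UG, card_map_of_injective D.jL_inj, JanThom.card_unip, Nat.card_eq_fintype_card, P.card_F]
        exact dvd_pow_self 3 P.n_pos.ne'
      exact S.ne_bot_of_dvd_card h3 ((map_eq_bot_iff_of_injective _ O.subtype_injective).1 h)
    haveI : Nontrivial R := (Subgroup.nontrivial_iff_ne_bot R).2 hRne
    haveI := hR3.center_nontrivial
    obtain ⟨⟨c, hc⟩, hc1⟩ := exists_ne (1 : Subgroup.center R)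
    intro hb
    have hm := Weight.mem_zJ_of_central (p := 3) c.2
      (fun y hy => congrArg Subtype.val ((Subgroup.mem_center_iff.1 hc) ⟨y, hy⟩))
    rw [← hA, hb, mem_bot] at hm
    exact hc1 (Subtype.ext (Subtype.ext hm))
  have htA : D.t ∈ normalizer (A : Set G) :=
    ZJ.normalizer_le_normalizer_zJ R (hS (mem_zpowers _))
  set K := (Cfsg.pPrimeCore 3 O).map O.subtype with hK
  haveI := FittingCores.pPrimeCore_normal (G := O) 3
  have hKt : ∀ r ∈ K, D.t * r * D.t⁻¹ ∈ K := by
    rintro _ ⟨r, hr, rfl⟩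
    refine ⟨O.normalizerMonoidHom ⟨D.t, hO.normal hN.t_mem⟩ r, ?_, rfl⟩
    rw [← FittingCores.pPrimeCore_map_equiv 3 (O.normalizerMonoidHom ⟨D.t, hO.normal hN.t_mem⟩)]
    exact ⟨r, hr, rfl⟩
  have hKfix : ∀ r ∈ K, D.t * r = r * D.t → r = 1 := by
    intro r hr hrt
    have hrO : r ∈ O := map_subtype_le _ hr
    have hrBP := P.mem_BP_of_comm hN hO hrO hrt.symm
    have hKc : (Nat.card K).Coprime 3 := by
      rw [hK, card_map_of_injective O.subtype_injective]
      exact FittingCores.pPrimeCore_coprime 3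
    have hKU : ∀ x ∈ K, x ∈ UG D → x = 1 := fun x hx hxU => by
      obtain ⟨v, hv, rfl⟩ := hxU
      have h3 : orderOf (D.jL v) ∣ 3 := orderOf_dvd_of_pow_eq_one (by
        rw [← map_pow, P.unip_cube hv, map_one])
      exact orderOf_eq_one_iff.1 (Nat.eq_one_of_dvd_coprimes hKc (Subgroup.orderOf_dvd_natCard K hx) h3)
    refine hKU r hr (P.cen_UG hrBP fun u hu => ?_)
    have h1 : r * u * r⁻¹ * u⁻¹ = 1 := by
      refine hKU _ ?_ (mul_mem ((mem_normalizer_iff.1 hrBP.2 u).1 hu) (inv_mem hu))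
      obtain ⟨r', hr', rfl⟩ := hr
      show (r' : G) * u * (r' : G)⁻¹ * u⁻¹ ∈ K
      rw [show (r' : G) * u * (r' : G)⁻¹ * u⁻¹ = (r' : G) * (u * (r' : G)⁻¹ * u⁻¹) by group]
      exact ⟨r' * ((⟨u, hUO hu⟩ : O) * r'⁻¹ * (⟨u, hUO hu⟩ : O)⁻¹),
        mul_mem hr' (Subgroup.Normal.conj_mem inferInstance _ (inv_mem hr') _), rfl⟩
    exact mul_inv_eq_iff_eq_mul.1 (mul_inv_eq_one.1 h1)
  have hinv := inverts_of_fpf D.t_sq hKt hKfix
  have hcov : ∀ g ∈ O, g * D.t = D.t * g → g ∈ normalizer (A : Set G) := by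
    intro g hg hgt
    have h4 : ∀ x : O, orderOf x ≠ 4 := fun x => by rw [← Subgroup.orderOf_coe]; exact D.no_four _
    have hsup := Walter8.normalizer_zJ_sup (by norm_num) h4 AbPPrime.isPConstrained_of_solvable S False
    have hgm : (⟨g, hg⟩ : O) ∈ normalizer (ZJ.zJ 3 False (S : Subgroup O) : Set O) ⊔
        Cfsg.pPrimeCore 3 O := by rw [hsup]; trivial
    obtain ⟨m, hm, r, hr, hmr⟩ := Subgroup.mem_sup_of_normal_right.1 hgm
    have hmA : (m : G) ∈ normalizer (A : Set G) := by
      have hz : (ZJ.zJ 3 False (S : Subgroup O)).map O.subtype = A := by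
        rw [hA, hR, ZJ.zJ_map O.subtype O.subtype_injective.injOn]
      rw [← hz]
      exact Subgroup.le_normalizer_map O.subtype ⟨m, hm, rfl⟩
    have hrK : (r : G) ∈ K := mem_map_of_mem _ hr
    have hge : (m : G) * r = g := congrArg Subtype.val hmr
    have hrA : (r : G) ∈ normalizer (A : Set G) := by
      refine ClosedAbelian.mem_of_sq_mem ?_ (hO.odd.of_dvd_nat (Subgroup.orderOf_dvd_natCard O r.2))
      have e : (m : G)⁻¹ * (D.t * m * D.t⁻¹) = r * r := by
        have h1 : D.t * (m : G) * D.t⁻¹ * (D.t * r * D.t⁻¹) = m * r := by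
          rw [hge]
          calc D.t * (m : G) * D.t⁻¹ * (D.t * r * D.t⁻¹) = D.t * ((m : G) * r) * D.t⁻¹ := by group
            _ = g := by rw [hge, ← hgt, mul_inv_cancel_right]
        rw [hinv _ hrK, mul_inv_eq_iff_eq_mul] at h1
        rw [h1]
        group
      rw [← e]
      exact mul_mem (inv_mem hmA) (mul_mem (mul_mem htA hmA) (inv_mem htA))
    rw [← hge]
    exact mul_mem hmA hrA
  refine ⟨R, hRO.trans hO.le, hR3, hcard, hAne, ⟨htA, fun g hg =>
    hcov g (P.BP_le_O hN hO hg) (D.X_comm hg.1), ?_⟩⟩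
  intro g hg hgX
  obtain ⟨l, σ, rfl⟩ := D.prod g hgX
  have hBA : BP D ≤ normalizer (A : Set G) := fun g hg => hcov g (P.BP_le_O hN hO hg) (D.X_comm hg.1)
  have hlA : D.jL l ∈ normalizer (A : Set G) := by
    have := Subgroup.mul_mem _ hg (Subgroup.inv_mem _ (hBA (P.mem_BP_jΦ σ)))
    rwa [mul_inv_cancel_right] at this
  refine mul_mem (P.mem_BP_jL ?_) (P.mem_BP_jΦ σ)
  by_contra hl
  have htop := eq_top_of_bor (H := (normalizer (A : Set G)).comap D.jL)
    (fun b hb => hBA (P.mem_BP_jL hb)) hlA hl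
  refine hAne (P.L_three (hR3.to_le (ZJ.zJ_le R)) (fun a ha => (mem_normalizer_iff.1 htA a).1 ha)
    fun x a ha => ?_)
  have hx : x ∈ (normalizer (A : Set G)).comap D.jL := by rw [htop]; trivial
  exact (mem_normalizer_iff.1 hx a).1 ha

/-- The climb. -/
theorem exists_local : Nonempty (Local D) := by
  haveI : Fact (Nat.Prime 3) := ⟨Nat.prime_three⟩
  obtain ⟨N, hN, hmax⟩ := Set.exists_max_image {N : Subgroup G | Good D N}
    (fun N => (Nat.card N).factorization 3) (Set.toFinite _) ⟨_, P.good_start⟩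
  obtain ⟨R, -, hR, hcard, hne, hgood⟩ := P.step hN
  obtain ⟨S, hS⟩ := hR.exists_le_sylow
  have hSR : (S : Subgroup G) = R := by
    by_contra hne'
    have hlt : R.subgroupOf S < ⊤ := lt_top_iff_ne_top.2 fun h =>
      hne' (le_antisymm (subgroupOf_eq_top.1 h) hS)
    haveI := S.2.isNilpotent
    obtain ⟨x, hxN, hxR⟩ := SetLike.exists_of_lt
      (Group.normalizerCondition_of_isNilpotent _ hlt)
    have hxN' : (x : G) ∈ normalizer (R : Set G) := by
      refine Subgroup.mem_normalizer_fintype fun y hy => ?_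
      exact mem_subgroupOf.1 ((mem_normalizer_iff.1 hxN ⟨y, hS hy⟩).1 (mem_subgroupOf.2 hy))
    set A := ZJ.zJ 3 False R
    have hle : R ⊔ zpowers (x : G) ≤ normalizer (A : Set G) := sup_le (ZJ.le_normalizer_zJ R)
      (zpowers_le.2 (ZJ.normalizer_le_normalizer_zJ R hxN'))
    have hp : IsPGroup 3 ↥(R ⊔ zpowers (x : G)) := S.2.to_le (sup_le hS (zpowers_le.2 x.2))
    have hlt' : R < R ⊔ zpowers (x : G) := lt_of_le_of_ne le_sup_left fun h =>
      hxR (mem_subgroupOf.2 (h.symm ▸ mem_sup_right (mem_zpowers _)))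
    obtain ⟨k, hk⟩ := hp.exists_card_eq
    have h1 : 3 ^ k ∣ Nat.card (normalizer (A : Set G)) := hk ▸ card_dvd_of_le hle
    have h2 := (Nat.Prime.pow_dvd_iff_le_factorization Nat.prime_three Nat.card_pos.ne').1 h1
    have h3 : Nat.card R < 3 ^ k := hk ▸ lt_of_le_of_ne (Subgroup.card_le_of_le hlt'.le)
      fun h => hlt'.ne (eq_of_le_of_card_ge hlt'.le h.ge)
    rw [hcard] at h3
    have h4 := (Nat.pow_lt_pow_iff_right (by norm_num)).1 h3
    have h5 : (Nat.card (normalizer (A : Set G))).factorization 3 ≤ (Nat.card N).factorization 3 :=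
      hmax _ hgood
    omega
  subst hSR
  obtain ⟨O, hO⟩ := P.exists_oddPart hgood
  exact ⟨⟨S, O, hgood, hO, hne⟩⟩

end Prim

end Cfsg.Agent.NoField.P3
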