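import Cfsg.Agent.Lib.NoField.P3Lines
import Cfsg.Agent.Lib.Signalizer.SFT.HH
import Cfsg.Agent.Lib.Solvable.Fitting
import Cfsg.Agent.Lib.OddChar.OddTheorem
import Mathlib.GroupTheory.Subgroup.Centralizer

/-!
An odd order group with automorphism `t` on such a module: the elements fixed by `t` in `[H, t]` centralise `z`.
-/

set_option autoImplicit false
set_option linter.style.haveILetI false
set_option linter.unusedSectionVars false
set_option linter.unusedVariables false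

namespace Cfsg.Agent.NoField.P3

open Subgroup

universe u

variable {X : Type u} [Group X] [Finite X]

/-- The conjugate of a subgroup. -/
def cj (g : X) (N : Subgroup X) : Subgroup X := N.map (MulAut.conj g).toMonoidHom

theorem mem_cj {g x : X} {N : Subgroup X} : x ∈ cj g N ↔ g⁻¹ * x * g ∈ N := by
  constructor
  · rintro ⟨y, hy, rfl⟩
    show g⁻¹ * (g * y * g⁻¹) * g ∈ N
    rwa [show g⁻¹ * (g * y * g⁻¹) * g = y by group]
  · exact fun h => ⟨_, h, by show g * (g⁻¹ * x * g) * g⁻¹ = x; group⟩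

theorem cj_mul (g h : X) (N : Subgroup X) : cj (g * h) N = cj g (cj h N) := by
  ext x
  rw [mem_cj, mem_cj, mem_cj, show (g * h)⁻¹ * x * (g * h) = h⁻¹ * (g⁻¹ * x * g) * h by group]

theorem cj_eq_iff {g : X} {N : Subgroup X} : cj g N = N ↔ g ∈ normalizer (N : Set X) :=
  mem_normalizer_iff_map_conj_eq.symm

theorem cj_inj {g : X} {M N : Subgroup X} (h : cj g M = cj g N) : M = N :=
  map_injective (MulAut.conj g).injective h

theorem mem_of_pow_coprime {N : Subgroup X} {g : X} {d : ℕ} (h : g ^ d ∈ N)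
    (hc : d.Coprime (orderOf g)) : g ∈ N := by
  obtain ⟨m, hm⟩ := exists_pow_eq_self_of_coprime hc
  exact hm ▸ pow_mem h m

namespace Act

variable {A : Act X} {W : Subgroup X}

/-- A hyperplane conjugates to a hyperplane. -/
theorem Supp.cj {N : Subgroup X} (hW : A.Wd W) (hN : A.Supp W N) {g : X} (hg : g ∈ A.H)
    (hgW : g ∈ normalizer (W : Set X)) : A.Supp W (P3.cj g N) := by
  haveI := Fact.mk A.l_prime
  obtain ⟨hNW, hhyp, v, hv, hv1, hc⟩ := hN
  have hle : P3.cj g N ≤ W := fun x hx => by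
    have := (mem_normalizer_iff.1 hgW _).1 (hNW (mem_cj.1 hx))
    rwa [show g * (g⁻¹ * x * g) * g⁻¹ = x by group] at this
  have hfix : ∀ x ∈ P3.cj g N, x * (g * v * g⁻¹) = g * v * g⁻¹ * x := fun x hx => by
    calc x * (g * v * g⁻¹) = g * ((g⁻¹ * x * g) * v) * g⁻¹ := by group
      _ = g * (v * (g⁻¹ * x * g)) * g⁻¹ := by rw [hc _ (mem_cj.1 hx)]
      _ = _ := by group
  have hw1 : g * v * g⁻¹ ≠ 1 := fun h => hv1 (conj_eq_one_iff.1 h)
  refine ⟨hle, ?_, _, conjV hg hv, hw1, hfix⟩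
  set z' := g * A.z * g⁻¹ with hz'
  have hz'W : z' ∈ W := (mem_normalizer_iff.1 hgW _).1 hW.z_mem
  have hdec : ∀ w ∈ W, ∃ i : ℕ, w * (z' ^ i)⁻¹ ∈ P3.cj g N := by
    intro w hw
    have h1 : g⁻¹ * w * g ∈ W := by
      refine (mem_normalizer_iff.1 hgW _).2 ?_
      rwa [show g * (g⁻¹ * w * g) * g⁻¹ = w by group]
    obtain ⟨i, hi⟩ := hhyp _ h1
    refine ⟨i, mem_cj.2 ?_⟩
    rw [hz', conj_pow, show g⁻¹ * (w * (g * A.z ^ i * g⁻¹)⁻¹) * g = g⁻¹ * w * g * (A.z ^ i)⁻¹ by group]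
    exact hi
  obtain ⟨k, hk⟩ := hdec _ hW.z_mem
  have hlk : ¬ A.l ∣ k := by
    rintro ⟨m, rfl⟩
    rw [pow_mul, hW.exp _ hz'W, one_pow, inv_one, mul_one] at hk
    exact hw1 (A.z_free _ (conjV hg hv) (hfix _ hk))
  intro w hw
  obtain ⟨i, hi⟩ := hdec w hw
  obtain ⟨m, -, hm⟩ := Nat.exists_mul_mod_eq_one_of_coprime
    ((A.l_prime.coprime_iff_not_dvd.2 hlk).symm) A.l_prime.one_lt
  refine ⟨m * i, ?_⟩
  have hkm : z' ^ (k * (m * i)) = z' ^ i := by
    rw [← mul_assoc, pow_mul]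
    congr 1
    rw [← Nat.div_add_mod (k * m) A.l, hm, pow_add, pow_mul, hW.exp _ hz'W, one_pow, one_mul, pow_one]
  have hcm : Commute A.z (z' ^ k)⁻¹ :=
    (hW.comm _ hW.z_mem _ (inv_mem (pow_mem hz'W k)) :)
  have h2 : (A.z * (z' ^ k)⁻¹) ^ (m * i) = A.z ^ (m * i) * (z' ^ i)⁻¹ := by
    rw [hcm.mul_pow, inv_pow, ← pow_mul, hkm]
  have := mul_mem hi (inv_mem (pow_mem hk (m * i)))
  rwa [h2, mul_inv_rev, inv_inv, mul_assoc, inv_mul_cancel_left] at this

/-- There are at most three such hyperplanes. -/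
theorem Supp.three (hW : A.Wd W) {a b c d : Subgroup X} (ha : A.Supp W a) (hb : A.Supp W b)
    (hc : A.Supp W c) (hd : A.Supp W d) :
    a = b ∨ a = c ∨ a = d ∨ b = c ∨ b = d ∨ c = d := by
  by_contra h
  push Not at h
  obtain ⟨h1, h2, h3, h4, h5, h6⟩ := h
  by_cases fa : A.tN a = a
  · have nb : A.tN b ≠ b := fun e => h1 (Supp.fixed_unique hW ha fa hb e)
    have nc : A.tN c ≠ c := fun e => h2 (Supp.fixed_unique hW ha fa hc e)
    have nd : A.tN d ≠ d := fun e => h3 (Supp.fixed_unique hW ha fa hd e)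
    rcases Supp.pair hW hb nb hc nc with e | e
    · exact h4 e.symm
    rcases Supp.pair hW hb nb hd nd with e' | e'
    · exact h5 e'.symm
    exact h6 (e.trans e'.symm)
  · have key : ∀ {x}, A.Supp W x → a ≠ x → A.tN x = x ∨ x = A.tN a := fun {x} hx hne => by
      by_cases e : A.tN x = x
      · exact Or.inl e
      · exact Or.inr ((Supp.pair hW ha fa hx e).resolve_left hne.symm)
    rcases key hb h1 with eb | eb <;> rcases key hc h2 with ec | ec <;>
      rcases key hd h3 with ed | ed <;>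
      first
        | exact h4 (Supp.fixed_unique hW hb eb hc ec)
        | exact h5 (Supp.fixed_unique hW hb eb hd ed)
        | exact h6 (Supp.fixed_unique hW hc ec hd ed)
        | exact h4 (eb.trans ec.symm)
        | exact h5 (eb.trans ed.symm)
        | exact h6 (ec.trans ed.symm)

/-- A small power of any element fixes a hyperplane. -/
theorem Supp.small {N : Subgroup X} (hW : A.Wd W) (hN : A.Supp W N) {g : X} (hg : g ∈ A.H)
    (hgW : g ∈ normalizer (W : Set X)) :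
    ∃ d, 1 ≤ d ∧ d ≤ 3 ∧ g ^ d ∈ normalizer (N : Set X) := by
  have hs : ∀ i : ℕ, A.Supp W (P3.cj (g ^ i) N) := fun i =>
    hN.cj hW (pow_mem hg i) (pow_mem hgW i)
  have key : ∀ i d : ℕ, P3.cj (g ^ i) N = P3.cj (g ^ (i + d)) N → g ^ d ∈ normalizer (N : Set X) := by
    intro i d h
    rw [pow_add, cj_mul] at h
    exact cj_eq_iff.1 (cj_inj h).symm
  rcases Supp.three hW (hs 0) (hs 1) (hs 2) (hs 3) with h | h | h | h | h | h
  · exact ⟨1, le_rfl, by omega, key 0 1 h⟩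
  · exact ⟨2, by omega, by omega, key 0 2 h⟩
  · exact ⟨3, by omega, le_rfl, key 0 3 h⟩
  · exact ⟨1, le_rfl, by omega, key 1 1 h⟩
  · exact ⟨2, by omega, by omega, key 1 2 h⟩
  · exact ⟨1, le_rfl, by omega, key 2 1 h⟩

/-- An `l`-element normalising `W` centralises `z`. -/
theorem comm_z_of_pow (hW : A.Wd W) {g : X} (hg : g ∈ A.H) (hgW : g ∈ normalizer (W : Set X))
    {k : ℕ} (hgk : g ^ A.l ^ k = 1) : g * A.z = A.z * g := by
  haveI := Fact.mk A.l_prime
  suffices h : g * A.z * g⁻¹ * A.z⁻¹ = 1 by exact mul_inv_eq_iff_eq_mul.1 (mul_inv_eq_one.1 h)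
  refine eq_one_of_forall hW (mul_mem ((mem_normalizer_iff.1 hgW _).1 hW.z_mem) (inv_mem hW.z_mem)) ?_
  intro N hN
  obtain ⟨d, hd1, hd3, hd⟩ := hN.small hW hg hgW
  have hgN : g ∈ normalizer (N : Set X) := by
    refine mem_of_pow_coprime hd (Nat.Coprime.coprime_dvd_right (orderOf_dvd_of_pow_eq_one hgk) ?_)
    refine (Nat.Coprime.pow_right k ?_)
    exact ((A.l_prime.coprime_iff_not_dvd).2 fun h => by
      have := Nat.le_of_dvd (by omega) h
      have := A.l_five; omega).symm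
  haveI : IsMulCommutative W := ⟨⟨fun a b => Subtype.ext (hW.comm _ a.2 _ b.2)⟩⟩
  letI : CommGroup W := { (inferInstance : Group W) with mul_comm := fun a b => mul_comm' a b }
  set N' := N.subgroupOf W with hN'
  haveI : N'.Normal := ⟨fun x hx y => by rwa [mul_comm' y x, mul_inv_cancel_right]⟩
  set ρ := W.normalizerMonoidHom ⟨g, hgW⟩ with hρ
  obtain ⟨a, ha⟩ := hN.2.1 _ ((mem_normalizer_iff.1 hgW _).1 hW.z_mem)
  set q := QuotientGroup.mk' N' with hq
  set zW : W := ⟨A.z, hW.z_mem⟩ with hzW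
  have hN'ρ : ∀ x ∈ N', q (ρ x) = 1 := fun x hx => (QuotientGroup.eq_one_iff _).2
    ((mem_normalizer_iff.1 hgN (x : X)).1 hx)
  have hz : q (ρ zW) = q zW ^ a := by
    rw [← map_pow, ← mul_inv_eq_one, ← map_inv, ← map_mul]
    exact (QuotientGroup.eq_one_iff _).2 ha
  have hall : ∀ x : W, q (ρ x) = q x ^ a := by
    intro x
    obtain ⟨i, hi⟩ := hN.2.1 _ x.2
    have hx : x = (x * (zW ^ i)⁻¹) * zW ^ i := (inv_mul_cancel_right _ _).symm
    have hm : x * (zW ^ i)⁻¹ ∈ N' := hi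
    have hm1 : q (x * (zW ^ i)⁻¹) = 1 := (QuotientGroup.eq_one_iff _).2 hm
    rw [hx, map_mul ρ, map_mul q, hN'ρ _ hm, map_mul q, hm1,
      one_mul, one_mul, map_pow, map_pow, hz, map_pow, ← pow_mul, ← pow_mul, mul_comm]
  have hiter : ∀ m : ℕ, q ((ρ ^ m : MulAut W) zW) = q zW ^ (a ^ m) := by
    intro m
    induction m with
    | zero => simp
    | succ m ih => rw [pow_succ', MulAut.mul_apply, hall, ih, ← pow_mul, pow_succ]
  have hρk : ρ ^ A.l ^ k = 1 := by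
    rw [hρ, ← map_pow, show (⟨g, hgW⟩ : normalizer (W : Set X)) ^ A.l ^ k = 1 from Subtype.ext hgk,
      map_one]
  have hzo : orderOf (q zW) = A.l := by
    refine orderOf_eq_prime (by rw [← map_pow, show zW ^ A.l = 1 from Subtype.ext A.z_l, map_one]) ?_
    intro h
    have h1 : A.z ^ 1 ∈ N := by rw [pow_one]; exact (QuotientGroup.eq_one_iff zW).1 h
    exact A.l_prime.not_dvd_one (hN.dvd h1)
  have h1 : q zW ^ (a ^ A.l ^ k) = q zW ^ 1 := by
    rw [← hiter, hρk, pow_one]; rfl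
  rw [pow_eq_pow_iff_modEq, hzo, ← ZMod.natCast_eq_natCast_iff] at h1
  have ha1 : a ≡ 1 [MOD A.l] := by
    rw [← ZMod.natCast_eq_natCast_iff]
    push_cast at h1 ⊢
    rwa [ZMod.pow_card_pow] at h1
  have hq1 : q (ρ zW) = q zW := by
    rw [hall]
    nth_rw 2 [← pow_one (q zW)]
    rw [pow_eq_pow_iff_modEq, hzo]
    exact ha1
  exact (QuotientGroup.eq_one_iff (ρ zW * zW⁻¹)).1 (by
    show q (ρ zW * zW⁻¹) = 1
    rw [map_mul, map_inv, hq1, mul_inv_cancel])

/-- `z` is central in every `t`-invariant `l`-subgroup containing it. -/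
theorem central_of_isPGroup {S : Subgroup X} (hS : S ≤ A.H) (hp : IsPGroup A.l S) (hz : A.z ∈ S)
    (ht : ∀ s ∈ S, A.t * s * A.t⁻¹ ∈ S) : ∀ s ∈ S, s * A.z = A.z * s := by
  haveI := Fact.mk A.l_prime
  set D := S ⊓ centralizer ({A.z} : Set X) with hD
  suffices h : S ≤ D from fun s hs => mem_centralizer_singleton_iff.1 (h hs).2
  by_contra hne
  haveI := hp.isNilpotent
  have hlt : D.subgroupOf S < ⊤ := lt_top_iff_ne_top.2 fun h => hne (subgroupOf_eq_top.1 h)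
  obtain ⟨g, hgN, hgD⟩ := SetLike.exists_of_lt (Group.normalizerCondition_of_isNilpotent _ hlt)
  have htD : ∀ d ∈ D, A.t * d * A.t⁻¹ ∈ D := by
    intro d hd
    refine ⟨ht d hd.1, mem_centralizer_singleton_iff.2 ?_⟩
    have hdz := mem_centralizer_singleton_iff.1 hd.2
    calc A.t * d * A.t⁻¹ * A.z = A.t * d * (A.t⁻¹ * A.z * A.t) * A.t⁻¹ := by group
      _ = A.t * (d * A.z) * A.t⁻¹ := by
          rw [mul_assoc A.t⁻¹, ← A.z_t, inv_mul_cancel_left]; group
      _ = A.t * (A.z * d) * A.t⁻¹ := by rw [hdz]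
      _ = (A.t * A.z) * d * A.t⁻¹ := by group
      _ = (A.z * A.t) * d * A.t⁻¹ := by rw [A.z_t]
      _ = _ := by group
  let W : Subgroup X :=
    { carrier := {w | w ∈ D ∧ (∀ d ∈ D, w * d = d * w) ∧ w ^ A.l = 1}
      one_mem' := ⟨one_mem D, fun d _ => by rw [one_mul, mul_one], one_pow _⟩
      mul_mem' := fun {a b} ha hb => ⟨mul_mem ha.1 hb.1,
        fun d hd => ((show Commute a d from ha.2.1 d hd).mul_left (hb.2.1 d hd)).eq,
        by rw [(show Commute a b from ha.2.1 b hb.1).mul_pow, ha.2.2, hb.2.2, one_mul]⟩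
      inv_mem' := fun {a} ha => ⟨inv_mem ha.1,
        fun d hd => (show Commute a d from ha.2.1 d hd).inv_left.eq,
        by rw [inv_pow, ha.2.2, inv_one]⟩ }
  have hW : A.Wd W := by
    refine ⟨fun w hw => hS hw.1.1, fun a ha b hb => ha.2.1 b hb.1, fun a ha => ha.2.2, ?_, ?_⟩
    · exact ⟨⟨hz, mem_centralizer_singleton_iff.2 rfl⟩,
        fun d hd => (mem_centralizer_singleton_iff.1 hd.2).symm, A.z_l⟩
    · intro w hw
      refine ⟨htD w hw.1, fun d hd => ?_, by rw [conj_pow, hw.2.2, mul_one, mul_inv_cancel]⟩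
      have h := hw.2.1 _ (htD d hd)
      calc A.t * w * A.t⁻¹ * d = A.t * w * A.t⁻¹ * (A.t * (A.t * d * A.t⁻¹) * A.t⁻¹) := by rw [A.t_t]
        _ = A.t * (w * (A.t * d * A.t⁻¹)) * A.t⁻¹ := by group
        _ = A.t * ((A.t * d * A.t⁻¹) * w) * A.t⁻¹ := by rw [h]
        _ = (A.t * (A.t * d * A.t⁻¹) * A.t⁻¹) * (A.t * w * A.t⁻¹) := by group
        _ = _ := by rw [A.t_t]
  have hgD' : ∀ d, d ∈ D ↔ (g : X) * d * (g : X)⁻¹ ∈ D := by
    intro d
    refine ⟨fun hd => ?_, fun hd => ?_⟩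
    · exact mem_subgroupOf.1 ((mem_normalizer_iff.1 hgN ⟨d, hd.1⟩).1 (mem_subgroupOf.2 hd))
    · have hdS : d ∈ S := by
        have := mul_mem (mul_mem (inv_mem g.2) hd.1) g.2
        rwa [show (g : X)⁻¹ * ((g : X) * d * (g : X)⁻¹) * g = d by group] at this
      exact mem_subgroupOf.1 ((mem_normalizer_iff.1 hgN ⟨d, hdS⟩).2 (mem_subgroupOf.2 hd))
  have hgW : (g : X) ∈ normalizer (W : Set X) := Subgroup.mem_normalizer_fintype fun w hw => by
    refine ⟨(hgD' w).1 hw.1, fun d hd => ?_, by rw [conj_pow, hw.2.2, mul_one, mul_inv_cancel]⟩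
    have hd' : (g : X)⁻¹ * d * g ∈ D := (hgD' _).2 (by
      rwa [show (g : X) * ((g : X)⁻¹ * d * g) * (g : X)⁻¹ = d by group])
    calc (g : X) * w * (g : X)⁻¹ * d = g * (w * ((g : X)⁻¹ * d * g)) * (g : X)⁻¹ := by group
      _ = g * (((g : X)⁻¹ * d * g) * w) * (g : X)⁻¹ := by rw [hw.2.1 _ hd']
      _ = _ := by group
  obtain ⟨k, hk⟩ := hp g
  exact hgD (mem_subgroupOf.2 ⟨g.2, mem_centralizer_singleton_iff.2
    (comm_z_of_pow hW (hS g.2) hgW (k := k) (by simpa using congrArg Subtype.val hk))⟩)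

variable (hW : A.Wd W) (hn : A.H ≤ normalizer (W : Set X))

/-- The action of `H` on `W`. -/
def psi : A.H →* MulAut W := W.normalizerMonoidHom.comp (inclusion hn)

theorem psi_val (g : A.H) (w : W) : ((psi hn g w : W) : X) = (g : X) * w * (g : X)⁻¹ := rfl

theorem exponent {N : Subgroup X} (hN : A.Supp W N) {g : A.H} (hg : (g : X) ∈ normalizer (N : Set X))
    (hW : A.Wd W) : ∃ a : ℕ, ∀ w : W, ((psi hn g w : W) : X) * ((w : X) ^ a)⁻¹ ∈ N := by
  obtain ⟨a, ha⟩ := hN.2.1 _ ((mem_normalizer_iff.1 (hn g.2) _).1 hW.z_mem)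
  refine ⟨a, fun w => ?_⟩
  obtain ⟨i, hi⟩ := hN.2.1 _ w.2
  set n := (w : X) * (A.z ^ i)⁻¹ with hnd
  set z' := (g : X) * A.z * (g : X)⁻¹ with hz'
  have hnW : n ∈ W := hN.1 hi
  have hz'W : z' ∈ W := (mem_normalizer_iff.1 (hn g.2) _).1 hW.z_mem
  have hw : (w : X) = n * A.z ^ i := by rw [hnd, inv_mul_cancel_right]
  have h1 : (g : X) * n * (g : X)⁻¹ * (n ^ a)⁻¹ ∈ N :=
    mul_mem ((mem_normalizer_iff.1 hg n).1 hi) (inv_mem (pow_mem hi a))
  have h2 := pow_mem ha i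
  have hc : ∀ x ∈ W, ∀ y ∈ W, Commute x y := fun x hx y hy => hW.comm x hx y hy
  rw [(hc _ hz'W _ (inv_mem (pow_mem hW.z_mem a))).mul_pow, inv_pow] at h2
  have h3 := mul_mem h1 h2
  rw [psi_val, hw]
  have e1 : (n * A.z ^ i) ^ a = n ^ a * (A.z ^ a) ^ i := by
    rw [(hc _ hnW _ (pow_mem hW.z_mem i)).mul_pow, pow_right_comm]
  have e2 : (g : X) * (n * A.z ^ i) * (g : X)⁻¹ = (g : X) * n * (g : X)⁻¹ * z' ^ i := by
    rw [hz', conj_pow]; group
  rw [e1, e2, mul_inv_rev]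
  have hgn : (g : X) * n * (g : X)⁻¹ ∈ W := (mem_normalizer_iff.1 (hn g.2) _).1 hnW
  have e3 : (g : X) * n * (g : X)⁻¹ * z' ^ i * (((A.z ^ a) ^ i)⁻¹ * (n ^ a)⁻¹) =
      (g : X) * n * (g : X)⁻¹ * (n ^ a)⁻¹ * (z' ^ i * ((A.z ^ a) ^ i)⁻¹) := by
   calc (g : X) * n * (g : X)⁻¹ * z' ^ i * (((A.z ^ a) ^ i)⁻¹ * (n ^ a)⁻¹)
      = (g : X) * n * (g : X)⁻¹ * ((z' ^ i * ((A.z ^ a) ^ i)⁻¹) * (n ^ a)⁻¹) := by group
    _ = (g : X) * n * (g : X)⁻¹ * ((n ^ a)⁻¹ * (z' ^ i * ((A.z ^ a) ^ i)⁻¹)) := by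
        rw [(hc _ (mul_mem (pow_mem hz'W i) (inv_mem (pow_mem (pow_mem hW.z_mem a) i))) _
          (inv_mem (pow_mem hnW a))).eq]
    _ = (g : X) * n * (g : X)⁻¹ * (n ^ a)⁻¹ * (z' ^ i * ((A.z ^ a) ^ i)⁻¹) := by group
  rw [e3]
  exact h3

include hW in
/-- The group of automorphisms induced on `W` is abelian. -/
theorem psi_comm (g h : A.H) : psi hn g * psi hn h = psi hn h * psi hn g := by
  haveI := Fact.mk A.l_prime
  have ext_all : ∀ {φ χ : MulAut W}, (∀ N, A.Supp W N → ∀ w : W, ((φ w : W) : X) * ((χ w : W) : X)⁻¹ ∈ N) →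
      φ = χ := fun {φ χ} hh => MulEquiv.ext fun w => Subtype.ext (mul_inv_eq_one.1
        (eq_one_of_forall hW (mul_mem (φ w).2 (inv_mem (χ w).2)) fun N hN => hh N hN w))
  have fixed_comm : ∀ a b : A.H, (∀ N, A.Supp W N → (a : X) ∈ normalizer (N : Set X) ∧
      (b : X) ∈ normalizer (N : Set X)) → psi hn a * psi hn b = psi hn b * psi hn a := by
    intro a b hab
    refine ext_all fun N hN w => ?_
    obtain ⟨i, hi⟩ := exponent hn hN (hab N hN).1 hW
    obtain ⟨j, hj⟩ := exponent hn hN (hab N hN).2 hW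
    rw [MulAut.mul_apply, MulAut.mul_apply]
    set x := psi hn b w
    set y := psi hn a w
    have h1 : ((psi hn a x : W) : X) * ((x : X) ^ i)⁻¹ ∈ N := hi x
    have h2 : ((psi hn b y : W) : X) * ((y : X) ^ j)⁻¹ ∈ N := hj y
    have h3 : ((x : X) * ((w : X) ^ j)⁻¹) ^ i ∈ N := pow_mem (hj w) i
    have h4 : ((y : X) * ((w : X) ^ i)⁻¹) ^ j ∈ N := pow_mem (hi w) j
    rw [(show Commute (x : X) ((w : X) ^ j)⁻¹ from
      hW.comm _ x.2 _ (inv_mem (pow_mem w.2 j))).mul_pow, inv_pow, ← pow_mul] at h3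
    rw [(show Commute (y : X) ((w : X) ^ i)⁻¹ from
      hW.comm _ y.2 _ (inv_mem (pow_mem w.2 i))).mul_pow, inv_pow, ← pow_mul, mul_comm i j] at h4
    have h5 := mul_mem (mul_mem h1 h3) (inv_mem (mul_mem h2 h4))
    have e : ∀ (u : X), ((psi hn a x : W) : X) * ((x : X) ^ i)⁻¹ * ((x : X) ^ i * u) =
        ((psi hn a x : W) : X) * u := fun u => by group
    have e' : ∀ (u : X), ((psi hn b y : W) : X) * ((y : X) ^ j)⁻¹ * ((y : X) ^ j * u) =
        ((psi hn b y : W) : X) * u := fun u => by group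
    rw [e, e', mul_inv_rev, inv_inv, mul_assoc, inv_mul_cancel_left] at h5
    exact h5
  by_cases hall : ∀ N, A.Supp W N → ∀ k : A.H, (k : X) ∈ normalizer (N : Set X)
  · exact fixed_comm g h fun N hN => ⟨hall N hN g, hall N hN h⟩
  push Not at hall
  obtain ⟨N₀, hN₀, g₀, hg₀⟩ := hall
  have hodd : ∀ x ∈ A.H, Odd (orderOf x) := fun x hx =>
    A.H_odd.of_dvd_nat (Subgroup.orderOf_dvd_natCard _ hx)
  set N₁ := P3.cj (g₀ : X) N₀ with hN₁d
  set N₂ := P3.cj ((g₀ : X) ^ 2) N₀ with hN₂d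
  have hN₁ : A.Supp W N₁ := hN₀.cj hW g₀.2 (hn g₀.2)
  have hN₂ : A.Supp W N₂ := hN₀.cj hW (pow_mem g₀.2 2) (pow_mem (hn g₀.2) 2)
  have h01 : N₀ ≠ N₁ := fun h => hg₀ (cj_eq_iff.1 h.symm)
  have h02 : N₀ ≠ N₂ := fun h => hg₀ (mem_of_pow_coprime (cj_eq_iff.1 h.symm)
    (Nat.coprime_two_left.2 (hodd _ g₀.2)))
  have h12 : N₁ ≠ N₂ := fun h => h01 (cj_inj (g := (g₀ : X))
    (h.trans (by rw [hN₂d, pow_two, cj_mul])))
  have hsupp : ∀ N, A.Supp W N → N = N₀ ∨ N = N₁ ∨ N = N₂ := fun N hN => by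
    rcases Supp.three hW hN hN₀ hN₁ hN₂ with e | e | e | e | e | e
    · exact Or.inl e
    · exact Or.inr (Or.inl e)
    · exact Or.inr (Or.inr e)
    · exact absurd e h01
    · exact absurd e h02
    · exact absurd e h12
  -- pairwise disjoint
  have hdisj : ∀ {M K}, A.Supp W M → A.Supp W K → M ≠ K → ∀ n, n ∈ M → n ∈ K → n = 1 := by
    obtain ⟨N, hN, hNt⟩ : ∃ N, A.Supp W N ∧ A.tN N ≠ N := by
      by_contra hc
      push Not at hc
      exact h01 (Supp.fixed_unique hW hN₀ (hc _ hN₀) hN₁ (hc _ hN₁))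
    have hcases : ∀ K, A.Supp W K → K = N ∨ K = A.tN N ∨ A.tN K = K := fun K hK => by
      by_cases e : A.tN K = K
      · exact Or.inr (Or.inr e)
      · rcases Supp.pair hW hN hNt hK e with e' | e'
        · exact Or.inl e'
        · exact Or.inr (Or.inl e')
    have d1 : ∀ n, n ∈ N → n ∈ A.tN N → n = 1 := by
      intro n h1 h2
      have hm : n * (A.t * n * A.t⁻¹) ∈ N := mul_mem h1 (mem_tN.1 h2)
      have hfix : A.t * (n * (A.t * n * A.t⁻¹)) = n * (A.t * n * A.t⁻¹) * A.t := by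
        refine mul_inv_eq_iff_eq_mul.1 ?_
        calc A.t * (n * (A.t * n * A.t⁻¹)) * A.t⁻¹
            = (A.t * n * A.t⁻¹) * (A.t * (A.t * n * A.t⁻¹) * A.t⁻¹) := by group
          _ = (A.t * n * A.t⁻¹) * n := by rw [A.t_t]
          _ = _ := hW.comm _ (hW.t_W _ (hN.1 h1)) _ (hN.1 h1)
      have hz := A.cyc _ (hW.le (hN.1 hm)) hfix (hW.exp _ (hN.1 hm))
        (hW.comm _ (hN.1 hm) _ hW.z_mem)
      obtain ⟨i, hi⟩ := mem_powers_iff_mem_zpowers.2 hz
      simp only at hi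
      obtain ⟨k, rfl⟩ := hN.dvd (hi ▸ hm)
      rw [pow_mul, A.z_l, one_pow] at hi
      have hinv := eq_inv_of_mul_eq_one_right hi.symm
      refine eq_one_of_forall hW (hN.1 h1) fun K hK => ?_
      rcases hcases K hK with rfl | rfl | e
      · exact h1
      · exact h2
      · exact hK.mem_of_inv hW e (hN.1 h1) hinv
    have d2 : ∀ K, A.Supp W K → A.tN K = K → ∀ n, n ∈ K → (n ∈ N ∨ n ∈ A.tN N) → n = 1 := by
      intro K hK hKt n hnK hn'
      have hinv := hK.fixed_inv hW hKt n hnK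
      have hboth : n ∈ N ∧ n ∈ A.tN N := by
        rcases hn' with h | h
        · exact ⟨h, mem_tN.2 (hinv ▸ inv_mem h)⟩
        · have h' := mem_tN.1 h
          rw [hinv] at h'
          exact ⟨inv_inv n ▸ inv_mem h', h⟩
      exact d1 n hboth.1 hboth.2
    intro M K hM hK hne n hnM hnK
    rcases hcases M hM with rfl | rfl | eM <;> rcases hcases K hK with rfl | rfl | eK <;>
      first
        | exact absurd rfl hne
        | exact absurd (Supp.fixed_unique hW hM eM hK eK) hne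
        | exact d1 n hnM hnK
        | exact d1 n hnK hnM
        | exact d2 _ hK eK n hnK (Or.inl hnM)
        | exact d2 _ hK eK n hnK (Or.inr hnM)
        | exact d2 _ hM eM n hnM (Or.inl hnK)
        | exact d2 _ hM eM n hnM (Or.inr hnK)
  -- an element fixing the three hyperplanes is scalar
  have scalar : ∀ s : A.H, (∀ N, A.Supp W N → (s : X) ∈ normalizer (N : Set X)) →
      ∃ a : ℕ, ∀ w : W, psi hn s w = w ^ a := by
    intro s hs
    obtain ⟨a, ha⟩ := exponent hn hN₀ (hs _ hN₀) hW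
    have eqexp : ∀ {M}, A.Supp W M → M ≠ N₀ → ∀ {b : ℕ},
        (∀ w : W, ((psi hn s w : W) : X) * ((w : X) ^ b)⁻¹ ∈ M) → a ≡ b [MOD A.l] := by
      intro M hM hMne b hb
      obtain ⟨C, hC, hC0, hCM⟩ : ∃ C, A.Supp W C ∧ C ≠ N₀ ∧ C ≠ M := by
        by_cases e : M = N₁
        · exact ⟨N₂, hN₂, h02.symm, e ▸ h12.symm⟩
        · exact ⟨N₁, hN₁, h01.symm, Ne.symm e⟩
      obtain ⟨n, hnC, hn1⟩ : ∃ n ∈ C, n ≠ 1 := by
        by_contra hc
        push Not at hc
        exact hC0 (hC.eq_of_le hN₀ fun x hx => (hc x hx).symm ▸ one_mem _)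
      have hmem : ∀ e : ℕ, ((psi hn s ⟨n, hC.1 hnC⟩ : W) : X) * (n ^ e)⁻¹ ∈ C := fun e =>
        mul_mem ((mem_normalizer_iff.1 (hs C hC) n).1 hnC) (inv_mem (pow_mem hnC e))
      have e1 := hdisj hN₀ hC hC0.symm _ (ha ⟨n, hC.1 hnC⟩) (hmem a)
      have e2 := hdisj hM hC hCM.symm _ (hb ⟨n, hC.1 hnC⟩) (hmem b)
      rw [mul_inv_eq_one] at e1 e2
      have hno : orderOf n = A.l := orderOf_eq_prime (hW.exp n (hC.1 hnC)) hn1
      exact hno ▸ pow_eq_pow_iff_modEq.1 (e1.symm.trans e2)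
    refine ⟨a, fun w => Subtype.ext ?_⟩
    rw [Subgroup.coe_pow]
    refine mul_inv_eq_one.1 (eq_one_of_forall hW (mul_mem (psi hn s w).2 (inv_mem (pow_mem w.2 a))) ?_)
    intro N hN
    obtain ⟨b, hb⟩ := exponent hn hN (hs N hN) hW
    by_cases e : N = N₀
    · exact e ▸ ha w
    · have hab := eqexp hN e hb
      have : (w : X) ^ a = (w : X) ^ b := pow_eq_pow_iff_modEq.2
        (hab.of_dvd (orderOf_dvd_of_pow_eq_one (hW.exp _ w.2)))
      rw [this]
      exact hb w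
  -- every element is a power of `g₀` times a scalar
  have split : ∀ k : A.H, ∃ (i : ℕ) (s : A.H), k = g₀ ^ i * s ∧ ∃ a : ℕ, ∀ w : W, psi hn s w = w ^ a := by
    intro k
    obtain ⟨i, hi⟩ : ∃ i : ℕ, P3.cj ((g₀ : X) ^ i) N₀ = P3.cj (k : X) N₀ := by
      rcases hsupp _ (hN₀.cj hW k.2 (hn k.2)) with e | e | e
      · exact ⟨0, by rw [e, pow_zero, cj_eq_iff.2 (one_mem _)]⟩
      · exact ⟨1, by rw [e, pow_one]⟩
      · exact ⟨2, by rw [e]⟩
    refine ⟨i, (g₀ ^ i)⁻¹ * k, (mul_inv_cancel_left _ _).symm, scalar _ ?_⟩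
    set s : A.H := (g₀ ^ i)⁻¹ * k with hs
    have hs0 : P3.cj (s : X) N₀ = N₀ := by
      rw [hs, Subgroup.coe_mul, Subgroup.coe_inv, Subgroup.coe_pow, cj_mul, ← hi, ← cj_mul,
        inv_mul_cancel, cj_eq_iff.2 (one_mem _)]
    intro N hN
    by_contra hNn
    have hne : P3.cj (s : X) N ≠ N := fun e => hNn (cj_eq_iff.1 e)
    have hN0 : N ≠ N₀ := fun e => hne (e ▸ hs0)
    set M := P3.cj (s : X) N with hM
    have hMs : A.Supp W M := hN.cj hW s.2 (hn s.2)
    have hM0 : M ≠ N₀ := fun e => hN0 (cj_inj (g := (s : X)) (e.trans hs0.symm))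
    have hM2 : P3.cj (s : X) M = N := by
      have hL : A.Supp W (P3.cj (s : X) M) := hMs.cj hW s.2 (hn s.2)
      rcases Supp.three hW hL hN₀ hN hMs with e | e | e | e | e | e
      · exact absurd (cj_inj (g := (s : X)) (e.trans hs0.symm)) hM0
      · exact e
      · exact absurd (cj_inj (g := (s : X)) e) hne
      · exact absurd e hN0.symm
      · exact absurd e hM0.symm
      · exact absurd e hne.symm
    refine hNn (mem_of_pow_coprime (cj_eq_iff.1 ?_) (Nat.coprime_two_left.2 (hodd _ s.2)))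
    rw [pow_two, cj_mul, ← hM, hM2]
  obtain ⟨i, s, rfl, a, ha⟩ := split g
  obtain ⟨j, s', rfl, b, hb⟩ := split h
  have hsc : ∀ {s : A.H} {a : ℕ}, (∀ w : W, psi hn s w = w ^ a) → ∀ φ : MulAut W,
      Commute (psi hn s) φ := fun {s a} hh φ =>
    MulEquiv.ext fun w => by rw [MulAut.mul_apply, MulAut.mul_apply, hh, hh, map_pow]
  rw [map_mul (psi hn) (g₀ ^ i), map_mul (psi hn) (g₀ ^ j), map_pow, map_pow]
  exact ((Commute.pow_pow (Commute.refl (psi hn g₀)) i j).mul_right (hsc hb _).symm).mul_left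
    (hsc ha _)

/-- The elements of `[H, t]` fixed by `t` centralise `z`. -/
theorem conclusion {x : X} (hx : x ∈ A.H) (hxt : A.t * x = x * A.t)
    (hxK : x ∈ closure {y | ∃ h ∈ A.H, y = h⁻¹ * (A.t * h * A.t⁻¹)}) : x * A.z = A.z * x := by
  haveI := Fact.mk A.l_prime
  haveI hsol : Group.IsSolvable A.H := OddChar.oddSolvable _ A.H_odd
  let τ : MulAut A.H := A.H.normalizerMonoidHom ⟨A.t, Subgroup.mem_normalizer_fintype A.t_H⟩
  set F := (Cfsg.fittingSubgroup A.H).map A.H.subtype with hF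
  have hchar : ∀ {K : Subgroup A.H}, K.map τ.toMonoidHom = K → ∀ y ∈ K.map A.H.subtype,
      A.t * y * A.t⁻¹ ∈ K.map A.H.subtype := by
    rintro K hK _ ⟨y, hy, rfl⟩
    exact ⟨τ y, hK ▸ mem_map_of_mem τ.toMonoidHom hy, rfl⟩
  have hnorm : ∀ {K : Subgroup A.H}, K.Normal → A.H ≤ normalizer ((K.map A.H.subtype : Subgroup X) : Set X) := by
    intro K hK g hg
    refine Subgroup.mem_normalizer_fintype ?_
    rintro _ ⟨y, hy, rfl⟩
    exact ⟨⟨g, hg⟩ * y * (⟨g, hg⟩ : A.H)⁻¹, hK.conj_mem y hy _, rfl⟩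
  -- `z` centralises every `O_r(H)`
  have hcore : ∀ r : ℕ, r.Prime → ∀ y ∈ (Cfsg.pCore r A.H).map A.H.subtype, y * A.z = A.z * y := by
    intro r hr
    haveI := Fact.mk hr
    set R := (Cfsg.pCore r A.H).map A.H.subtype with hR
    have hRn := hnorm (K := Cfsg.pCore r A.H) (FittingCores.pCore_normal r)
    have hRt := hchar (FittingCores.pCore_map_equiv r τ)
    have hRp : IsPGroup r R := (FittingCores.pCore_isPGroup r).map _
    intro y hy
    have hyH : y ∈ A.H := map_subtype_le _ hy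
    rcases eq_or_ne r 3 with rfl | h3
    · rw [A.core_three R (map_subtype_le _) hRp hRn hRt, mem_bot] at hy
      rw [hy, one_mul, mul_one]
    rcases eq_or_ne r 2 with rfl | h2
    · obtain ⟨k, hk⟩ := hRp ⟨y, hy⟩
      have hk' : y ^ 2 ^ k = 1 := by simpa using congrArg Subtype.val hk
      rw [orderOf_eq_one_iff.1 (Nat.eq_one_of_dvd_coprimes
        ((Nat.coprime_two_left.2 (A.H_odd.of_dvd_nat (Subgroup.orderOf_dvd_natCard _ hyH))).pow_left k)
        (orderOf_dvd_of_pow_eq_one hk') dvd_rfl), one_mul, mul_one]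
    rcases eq_or_ne r A.l with rfl | hl
    · refine central_of_isPGroup (S := R ⊔ zpowers A.z) (sup_le (map_subtype_le _) (zpowers_le.2 A.z_mem))
        ?_ (mem_sup_right (mem_zpowers _)) ?_ y (mem_sup_left hy)
      · refine hRp.to_sup_of_normal_left' (fun u => ⟨1, Subtype.ext ?_⟩) (zpowers_le.2 (hRn A.z_mem))
        obtain ⟨i, hi⟩ := mem_zpowers_iff.1 u.2
        rw [pow_one, Subgroup.coe_pow, ← hi, ← zpow_natCast, ← zpow_mul, mul_comm, zpow_mul,
          zpow_natCast, A.z_l, one_zpow]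
        rfl
      · intro s hs
        have e : R ⊔ zpowers A.z ≤ (R ⊔ zpowers A.z).comap (MulAut.conj A.t).toMonoidHom := by
          refine sup_le (fun u hu => mem_sup_left (hRt u hu)) (zpowers_le.2 (mem_sup_right ?_))
          show A.t * A.z * A.t⁻¹ ∈ zpowers A.z
          rw [A.z_t, mul_inv_cancel_right]; exact mem_zpowers _
        exact e hs
    · have hzo : orderOf A.z = A.l ∨ A.z = 1 := by
        rcases eq_or_ne A.z 1 with e | e
        · exact Or.inr e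
        · exact Or.inl (orderOf_eq_prime A.z_l e)
      rcases hzo with hzo | hzo
      swap
      · rw [hzo, mul_one, one_mul]
      haveI : Fact (Nat.Prime 3) := ⟨Nat.prime_three⟩
      have h := Signalizer.SFT.hh (p := A.l) (t := r) (s := 3) (Ne.symm h3)
        (by have := A.l_five; omega) hl hzo hRp (Or.inl h2) (hRn A.z_mem) A.V_three (A.H_V A.z_mem)
        ((map_subtype_le _).trans A.H_V)
        (fun u _ => mem_centralizer_iff.2 fun v hv => by
          rw [A.z_free v hv.1 (mem_centralizer_singleton_iff.1 hv.2).symm, one_mul, mul_one])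
      have hc := h (commutator_mem_commutator hy (mem_zpowers A.z))
      exact commutatorElement_eq_one_iff_mul_comm.1 (A.faith _
        (mul_mem (mul_mem (mul_mem hyH A.z_mem) (inv_mem hyH)) (inv_mem A.z_mem))
        fun v hv => (mem_centralizer_iff.1 hc v hv).symm)
  -- `z` lies in the centre of the Fitting subgroup
  have hFc : ∀ y ∈ F, y * A.z = A.z * y := by
    rintro _ ⟨y, hy, rfl⟩
    rw [SetLike.mem_coe, FittingCores.fitting_eq_iSup_pCore] at hy
    have hle : (⨆ p : Nat.Primes, Cfsg.pCore (p : ℕ) A.H) ≤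
        centralizer ({⟨A.z, A.z_mem⟩} : Set A.H) := iSup_le fun p u hu =>
      mem_centralizer_singleton_iff.2 (Subtype.ext (hcore p p.2 _ (mem_map_of_mem _ hu)))
    exact congrArg Subtype.val (mem_centralizer_singleton_iff.1 (hle hy))
  have hzF : A.z ∈ F := ⟨⟨A.z, A.z_mem⟩, FittingCores.centralizer_fitting_le
    (mem_centralizer_iff.2 fun u hu => Subtype.ext (hFc _ (mem_map_of_mem _ hu))), rfl⟩
  have hFn := hnorm (FittingCores.fitting_normal (G := A.H))
  have hFt := hchar (FittingCores.fitting_map_equiv τ)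
  let W : Subgroup X :=
    { carrier := {w | w ∈ F ∧ (∀ d ∈ F, w * d = d * w) ∧ w ^ A.l = 1}
      one_mem' := ⟨one_mem F, fun d _ => by rw [one_mul, mul_one], one_pow _⟩
      mul_mem' := fun {a b} ha hb => ⟨mul_mem ha.1 hb.1,
        fun d hd => ((show Commute a d from ha.2.1 d hd).mul_left (hb.2.1 d hd)).eq,
        by rw [(show Commute a b from ha.2.1 b hb.1).mul_pow, ha.2.2, hb.2.2, one_mul]⟩
      inv_mem' := fun {a} ha => ⟨inv_mem ha.1,
        fun d hd => (show Commute a d from ha.2.1 d hd).inv_left.eq,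
        by rw [inv_pow, ha.2.2, inv_one]⟩ }
  have hconj : ∀ c : X, (∀ d ∈ F, c * d * c⁻¹ ∈ F) → (∀ d ∈ F, c⁻¹ * d * c ∈ F) →
      ∀ w ∈ W, c * w * c⁻¹ ∈ W := by
    intro c hc hc' w hw
    refine ⟨hc w hw.1, fun d hd => ?_, by rw [conj_pow, hw.2.2, mul_one, mul_inv_cancel]⟩
    calc c * w * c⁻¹ * d = c * (w * (c⁻¹ * d * c)) * c⁻¹ := by group
      _ = c * ((c⁻¹ * d * c) * w) * c⁻¹ := by rw [hw.2.1 _ (hc' d hd)]
      _ = _ := by group
  have hWn : A.H ≤ normalizer (W : Set X) := fun g hg => Subgroup.mem_normalizer_fintype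
    (hconj g (fun d hd => (mem_normalizer_iff.1 (hFn hg) d).1 hd)
      (fun d hd => (mem_normalizer_iff.1 (hFn hg) _).2 (by
        rwa [show g * (g⁻¹ * d * g) * g⁻¹ = d by group])))
  have hW : A.Wd W := ⟨fun w hw => map_subtype_le _ hw.1, fun a ha b hb => ha.2.1 b hb.1,
    fun a ha => ha.2.2, ⟨hzF, fun d hd => (hFc d hd).symm, A.z_l⟩,
    hconj A.t hFt fun d hd => by
      have := hFt d hd
      rw [A.t_inv] at this ⊢
      exact this⟩
  set ψ := psi hWn
  let T : Subgroup A.H :=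
    { carrier := {y | ψ (τ y) * ψ y = 1}
      one_mem' := by show ψ (τ 1) * ψ 1 = 1; rw [map_one τ, map_one ψ, one_mul]
      mul_mem' := fun {a b} (ha : ψ (τ a) * ψ a = 1) (hb : ψ (τ b) * ψ b = 1) => by
        show ψ (τ (a * b)) * ψ (a * b) = 1
        rw [map_mul τ, map_mul ψ, map_mul ψ, mul_assoc, ← mul_assoc (ψ (τ b)), psi_comm hW hWn (τ b) a,
          mul_assoc, hb, mul_one, ha]
      inv_mem' := fun {a} (ha : ψ (τ a) * ψ a = 1) => by
        show ψ (τ a⁻¹) * ψ a⁻¹ = 1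
        rw [map_inv τ, map_inv ψ, map_inv ψ, ← mul_inv_rev, ← psi_comm hW hWn (τ a) a, ha, inv_one] }
  have hT : closure {y | ∃ h ∈ A.H, y = h⁻¹ * (A.t * h * A.t⁻¹)} ≤ T.map A.H.subtype := by
    rw [closure_le]
    rintro _ ⟨h, hh, rfl⟩
    refine ⟨(⟨h, hh⟩ : A.H)⁻¹ * τ ⟨h, hh⟩, ?_, rfl⟩
    show ψ (τ _) * ψ _ = 1
    have hτ2 : τ (τ ⟨h, hh⟩) = ⟨h, hh⟩ := Subtype.ext (A.t_t h)
    rw [map_mul τ, map_inv τ, hτ2, ← map_mul ψ]
    rw [mul_assoc, mul_inv_cancel_left, inv_mul_cancel, map_one]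
  obtain ⟨x', hx', hxe⟩ := hT hxK
  have hfix : τ x' = x' := Subtype.ext (by
    show A.t * (x' : X) * A.t⁻¹ = x'
    rw [show (x' : X) = x from hxe, hxt, mul_inv_cancel_right])
  have h1 : ψ (τ x') * ψ x' = 1 := hx'
  rw [hfix] at h1
  have h0 : ψ x' = 1 := orderOf_eq_one_iff.1 (Nat.eq_one_of_dvd_coprimes
    (Nat.coprime_two_right.2 ((A.H_odd.of_dvd_nat (orderOf_dvd_natCard x')).of_dvd_nat
      (orderOf_map_dvd ψ x'))) dvd_rfl (orderOf_dvd_of_pow_eq_one (by rw [pow_two]; exact h1)))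
  have h2 := congrArg Subtype.val (DFunLike.congr_fun h0 ⟨A.z, hW.z_mem⟩)
  have h3 : (x' : X) * A.z * (x' : X)⁻¹ = A.z := h2
  rw [show (x' : X) = x from hxe] at h3
  exact mul_inv_eq_iff_eq_mul.1 h3

end Act

end Cfsg.Agent.NoField.P3
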