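import Cfsg.Agent.Lib.NoField.P3Climb
import Cfsg.Agent.Lib.NoField.P3Group
import Mathlib.GroupTheory.SemidirectProduct
import Mathlib.GroupTheory.PGroup

/-!
The case `p = 3`: in `M = N(Z(J(S)))` the field automorphisms avoid `[O(M), t]`.
-/

set_option autoImplicit false
set_option linter.style.haveILetI false
set_option linter.unusedSectionVars false

namespace Cfsg.Agent.NoField.P3

open Subgroup Cfsg.Agent.AutPSL
open Cfsg.Agent.Walter8 (cen)

universe u

/-- In a group of odd order a square root is a power. -/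
theorem exists_sqrt {X : Type*} [Group X] {m : X} (ho : Odd (orderOf m)) :
    ∃ k : ℕ, m ^ k * m ^ k = m := by
  obtain ⟨j, hj⟩ := ho
  refine ⟨j + 1, ?_⟩
  rw [← pow_add, show j + 1 + (j + 1) = (2 * j + 1) + 1 by ring, pow_succ, ← hj, pow_orderOf_eq_one,
    one_mul]

variable {G : Type u} [Group G] [Finite G] {D : Data G} (P : Prim D)

/-- The subgroup `[O, t]`. -/
def comT (D : Data G) (O : Subgroup G) : Subgroup G :=
  closure {y | ∃ h ∈ O, y = h⁻¹ * (D.t * h * D.t⁻¹)}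

theorem comT_le {O : Subgroup G} (hO : ∀ h ∈ O, D.t * h * D.t⁻¹ ∈ O) : comT D O ≤ O := by
  rw [comT, closure_le]
  rintro _ ⟨h, hh, rfl⟩
  exact mul_mem (inv_mem hh) (hO h hh)

theorem t_conj_gen (h : G) :
    D.t * (h⁻¹ * (D.t * h * D.t⁻¹)) * D.t⁻¹ = (h⁻¹ * (D.t * h * D.t⁻¹))⁻¹ := by
  have e : D.t * (D.t * h * D.t⁻¹) * D.t⁻¹ = h := by
    rw [show D.t * (D.t * h * D.t⁻¹) * D.t⁻¹ = (D.t * D.t) * h * (D.t * D.t)⁻¹ by group, D.t_sq,
      one_mul, inv_one, mul_one]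
  calc D.t * (h⁻¹ * (D.t * h * D.t⁻¹)) * D.t⁻¹
      = (D.t * h * D.t⁻¹)⁻¹ * (D.t * (D.t * h * D.t⁻¹) * D.t⁻¹) := by group
    _ = _ := by rw [e]; group

namespace Prim

include P

set_option maxHeartbeats 800000 in
/-- The field automorphisms avoid `[O, t]`. -/
theorem pr_eq_one {L : Local D} {x : G} (hx : x ∈ BP D) (hxK : x ∈ comT D L.O) :
    D.pr ⟨x, hx.1⟩ = 1 := by
  by_contra hσ
  haveI : Fact (Nat.Prime 3) := ⟨Nat.prime_three⟩
  obtain ⟨b, hb⟩ := P.exists_Z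
  obtain ⟨w, hwB, hwU, hwe, hw3⟩ := P.trick hb hx hσ
  set A := ZJ.zJ 3 False (L.S : Subgroup G) with hA
  set M := normalizer (A : Set G) with hM
  have hA3 : IsPGroup 3 A := L.S.2.to_le (ZJ.zJ_le _)
  have h3 : ∀ a ∈ A, ∃ k, a ^ 3 ^ k = 1 := fun a ha => by
    obtain ⟨k, hk⟩ := hA3 ⟨a, ha⟩
    exact ⟨k, by simpa using congrArg Subtype.val hk⟩
  have hAM : A ≤ M := le_normalizer
  have hconj : ∀ g ∈ M, ∀ a ∈ A, g * a * g⁻¹ ∈ A := fun g hg a ha => (mem_normalizer_iff.1 hg a).1 ha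
  have hOM := L.odd.le
  have hOt : ∀ h ∈ L.O, D.t * h * D.t⁻¹ ∈ L.O := fun h hh =>
    (mem_normalizer_iff.1 (L.odd.normal L.good.t_mem) h).1 hh
  have hbM : D.jL b ∈ M := L.good.BP_le (P.mem_BP_jL hb.1)
  have hwM : D.jL w ∈ M := L.good.BP_le (P.mem_BP_jL hwB)
  by_cases hfree : ∀ a ∈ A, D.t * a = a * D.t → a = 1
  · have hinv := inverts_of_fpf D.t_sq (hconj _ L.good.t_mem) hfree
    have hKc : comT D L.O ≤ centralizer (A : Set G) := by
      rw [comT, closure_le]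
      rintro _ ⟨h, hh, rfl⟩
      refine mem_centralizer_iff.2 fun a ha => ?_
      set c := D.t * h * D.t⁻¹ with hc
      have e : c * a * c⁻¹ = h * a * h⁻¹ := by
        have h1 := hinv _ (hconj h (hOM hh) a⁻¹ (inv_mem ha))
        rw [show (h * a⁻¹ * h⁻¹)⁻¹ = h * a * h⁻¹ by group] at h1
        rw [← h1]
        calc c * a * c⁻¹ = c * (D.t * a⁻¹ * D.t⁻¹) * c⁻¹ := by rw [hinv _ (inv_mem ha), inv_inv]
          _ = _ := by rw [hc]; group
      have e' : h⁻¹ * c * a * (h⁻¹ * c)⁻¹ = a := by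
        calc h⁻¹ * c * a * (h⁻¹ * c)⁻¹ = h⁻¹ * (c * a * c⁻¹) * h := by group
          _ = a := by rw [e]; group
      exact (mul_inv_eq_iff_eq_mul.1 e').symm
    obtain ⟨a, ha, ha1⟩ := (ne_bot_iff_exists_ne_one.1 L.ne_bot : ∃ a : A, a ≠ 1) |>
      fun ⟨a, h⟩ => (⟨a, a.2, fun e => h (Subtype.ext e)⟩ : ∃ a ∈ A, a ≠ (1 : G))
    have hwa : a * D.jL w = D.jL w * a := by
      rw [hwe]
      have hxc := hKc hxK
      have hzc : D.jL b * x⁻¹ * (D.jL b)⁻¹ ∈ centralizer (A : Set G) :=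
        (mem_normalizer_iff.1 (OddOrder.FitOf.normalizer_le_normalizer_centralizer A hbM) _).1
          (inv_mem hxc)
      have hm := mul_mem hxc hzc
      rw [show x * (D.jL b * x⁻¹ * (D.jL b)⁻¹) = x * D.jL b * x⁻¹ * (D.jL b)⁻¹ by group] at hm
      exact mem_centralizer_iff.1 hm a ha
    refine ha1 (P.cen_Z_three hw3 ?_ (h3 a ha))
    rw [map_pow]
    exact ((show Commute a (D.jL w) from hwa).pow_right 3).eq
  push Not at hfree
  obtain ⟨a₀, ha₀, ha₀t, ha₀1⟩ := hfree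
  -- the fixed points of `t` on `A` are `U`
  have hfix : ∀ a ∈ A, D.t * a = a * D.t → a ∈ UG D := by
    intro a ha hat
    have haO : a ∈ L.O := by
      obtain ⟨k, hk⟩ := h3 a ha
      exact L.odd.mem a (hAM ha) (((by decide : Odd 3).pow).of_dvd_nat (orderOf_dvd_of_pow_eq_one hk))
    have haBP := P.mem_BP_of_comm L.good L.odd haO hat.symm
    have hpr : D.pr ⟨a, haBP.1⟩ = 1 := by
      by_contra h
      obtain ⟨v, -, -, hve, hv3⟩ := P.trick hb haBP h
      have hvA : D.jL v ∈ A := by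
        rw [hve, show a * D.jL b * a⁻¹ * (D.jL b)⁻¹ = a * (D.jL b * a⁻¹ * (D.jL b)⁻¹) by group]
        exact mul_mem ha (hconj _ hbM _ (inv_mem ha))
      obtain ⟨k, hk⟩ := h3 _ (pow_mem hvA 3)
      rw [← map_pow, ← map_pow, map_eq_one_iff _ D.jL_inj] at hk
      have hd := orderOf_dvd_of_pow_eq_one hk
      rw [IsZ.order P hv3] at hd
      exact P.l_ne_three ((Nat.prime_dvd_prime_iff_eq P.l_prime Nat.prime_three).1
        (P.l_prime.dvd_of_dvd_pow hd))
    obtain ⟨β, hβ, σ, e⟩ := P.exists_BP haBP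
    rw [D.pr_spec _ β σ e] at hpr
    rw [hpr, map_one, mul_one] at e
    subst e
    obtain ⟨k, hk⟩ := h3 _ ha
    rw [← map_pow, map_eq_one_iff _ D.jL_inj] at hk
    obtain ⟨c, -, hc, -⟩ := exists_mult hβ
    have hc1 : c = 1 := by
      haveI := P.charP
      have h1 := (hc.pow (3 ^ k)).unique (hk.symm ▸ Mult.one)
      have h2 : (c - 1) ^ 3 ^ k = 0 := by rw [sub_pow_char_pow, h1, one_pow, sub_self]
      exact sub_eq_zero.1 (pow_eq_zero_iff (pow_ne_zero k (by norm_num : (3 : ℕ) ≠ 0)) |>.1 h2)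
    exact mem_map_of_mem _ (mem_unip_of_mult D.two_ne_zero (hc1 ▸ hc))
  have hzU : ∀ u ∈ UG D, D.jL b * u * (D.jL b)⁻¹ ∈ UG D := fun u hu =>
    (mem_normalizer_iff.1 (P.mem_BP_jL hb.1).2 u).1 hu
  have hUt : ∀ u ∈ UG D, D.t * u = u * D.t := fun u hu => by
    obtain ⟨v, -, rfl⟩ := hu; exact D.t_jL v
  have hUA : UG D ≤ A := by
    have hle : UG D ⊓ A = UG D := (P.irred hb inf_le_left
      (fun v hv => ⟨hzU v hv.1, hconj _ hbM v hv.2⟩)).resolve_left fun h => ha₀1 (by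
        have : a₀ ∈ UG D ⊓ A := ⟨hfix a₀ ha₀ ha₀t, ha₀⟩
        rwa [h, mem_bot] at this)
    exact hle ▸ inf_le_right
  -- a chief factor on which `t` has fixed points
  obtain ⟨V₀, -, ⟨hV₀A, hV₀n, hV₀f⟩, hV₀max⟩ := Finite.exists_le_maximal
    (p := fun V : Subgroup G => V ≤ A ∧ M ≤ normalizer (V : Set G) ∧ ∀ v ∈ V, D.t * v = v * D.t → v = 1)
    ⟨bot_le, fun g _ => Subgroup.mem_normalizer_fintype fun x hx => by
      rw [SetLike.mem_coe, mem_bot] at hx ⊢; rw [hx, mul_one, mul_inv_cancel],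
      fun v hv _ => mem_bot.1 hv⟩
  obtain ⟨V₁, -, ⟨hV₁A, hV₁n, hV₀₁, hU₁⟩, hV₁min⟩ := Finite.exists_le_minimal
    (p := fun V : Subgroup G => V ≤ A ∧ M ≤ normalizer (V : Set G) ∧ V₀ ≤ V ∧ UG D ≤ V)
    (a := A) ⟨le_rfl, le_rfl, hV₀A, hUA⟩
  have hchief : ∀ W : Subgroup G, W ≤ V₁ → M ≤ normalizer (W : Set G) → V₀ ≤ W → ¬ W ≤ V₀ → V₁ ≤ W := by
    intro W hW hWn h0 hne
    refine hV₁min ⟨hW.trans hV₁A, hWn, h0, ?_⟩ hW
    by_contra hU
    refine hne (hV₀max ⟨hW.trans hV₁A, hWn, fun v hv hvt => ?_⟩ h0)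
    rcases P.irred hb (inf_le_left : UG D ⊓ W ≤ UG D)
      (fun v hv => ⟨hzU v hv.1, (mem_normalizer_iff.1 (hWn hbM) v).1 hv.2⟩) with h | h
    · have : v ∈ UG D ⊓ W := ⟨hfix v (hV₁A (hW hv)) hvt, hv⟩
      rwa [h, mem_bot] at this
    · exact absurd (h ▸ inf_le_right) hU
  set N₀ := V₀.subgroupOf M with hN₀
  haveI : N₀.Normal := normal_subgroupOf_of_le_normalizer hV₀n
  set π := QuotientGroup.mk' N₀ with hπ
  set Vb := (V₁.subgroupOf M).map π with hVb
  haveI : Vb.Normal :=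
    (normal_subgroupOf_of_le_normalizer hV₁n).map π (QuotientGroup.mk'_surjective _)
  let act : M →* MulAut Vb := (MulAut.conjNormal (H := Vb)).comp π
  let Θ : M →* Vb ⋊[MonoidHom.id (MulAut Vb)] MulAut Vb := SemidirectProduct.inr.comp act
  let ι : V₁ →* Vb ⋊[MonoidHom.id (MulAut Vb)] MulAut Vb :=
    SemidirectProduct.inl.comp ((π.comp (inclusion (hV₁A.trans hAM))).codRestrict Vb fun v =>
      ⟨inclusion (hV₁A.trans hAM) v, v.2, rfl⟩)
  haveI : Finite (MulAut Vb) :=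
    Finite.of_injective (fun e : MulAut Vb => (e : Vb → Vb)) DFunLike.coe_injective
  haveI : Finite (Vb ⋊[MonoidHom.id (MulAut Vb)] MulAut Vb) :=
    Finite.of_equiv _ SemidirectProduct.equivProd.symm
  have hinlconj : ∀ (g : M) (v : Vb),
      SemidirectProduct.inl ((act g) v) = Θ g * SemidirectProduct.inl v * (Θ g)⁻¹ := fun g v => by
    show _ = SemidirectProduct.inr (act g) * SemidirectProduct.inl v * (SemidirectProduct.inr (act g))⁻¹
    rw [← map_inv]
    exact SemidirectProduct.inl_aut (φ := MonoidHom.id (MulAut Vb)) (act g) v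
  have hιV : ∀ v, v ∈ ι.range ↔ ∃ (u : G) (hu : u ∈ V₁), ι ⟨u, hu⟩ = v := fun v =>
    ⟨fun ⟨u, h⟩ => ⟨u, u.2, h⟩, fun ⟨u, hu, h⟩ => ⟨⟨u, hu⟩, h⟩⟩
  have hιsurj : ∀ v : Vb, ∃ u : V₁, ι u = SemidirectProduct.inl v := by
    rintro ⟨_, m, hm, rfl⟩
    exact ⟨⟨m, hm⟩, rfl⟩
  have hv₁ : ∀ {g}, g ∈ M → ∀ v : V₁, g * v * g⁻¹ ∈ V₁ := fun hg v =>
    (mem_normalizer_iff.1 (hV₁n hg) v).1 v.2
  have key : ∀ (g : M) (v : V₁), Θ g * ι v * (Θ g)⁻¹ = ι ⟨(g : G) * v * (g : G)⁻¹, hv₁ g.2 v⟩ := by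
    intro g v
    show SemidirectProduct.inr (act g) * SemidirectProduct.inl _ * (SemidirectProduct.inr (act g))⁻¹ = _
    rw [← map_inv, ← SemidirectProduct.inl_aut]
    refine congrArg SemidirectProduct.inl (Subtype.ext ?_)
    show π g * π _ * (π g)⁻¹ = π _
    rw [← map_mul, ← map_inv, ← map_mul]
    rfl
  have ι_ker : ∀ v : V₁, ι v = 1 ↔ (v : G) ∈ V₀ := by
    intro v
    constructor
    · intro h
      have h' := congrArg Subtype.val (SemidirectProduct.inl_injective (h.trans (map_one _).symm))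
      exact (QuotientGroup.eq_one_iff (inclusion (hV₁A.trans hAM) v)).1 h'
    · intro h
      show SemidirectProduct.inl _ = 1
      rw [← map_one (SemidirectProduct.inl (φ := MonoidHom.id (MulAut Vb)))]
      exact congrArg _ (Subtype.ext ((QuotientGroup.eq_one_iff _).2 h))
  have Θker : ∀ (g : M), Θ g = 1 → ∀ v : V₁, (g : G) * v * (g : G)⁻¹ * (v : G)⁻¹ ∈ V₀ := by
    intro g hg v
    have h := key g v
    rw [hg, one_mul, inv_one, mul_one] at h
    exact (ι_ker (⟨_, hv₁ g.2 v⟩ * v⁻¹)).1 (by rw [map_mul, map_inv, ← h, mul_inv_cancel])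
  -- the kernel on `BΦ` is `U`
  have kerBP : ∀ {c : G} (hc : c ∈ BP D), Θ ⟨c, L.good.BP_le hc⟩ = 1 → c ∈ UG D := by
    intro c hc h
    refine P.cen_UG hc fun u hu => ?_
    have h1 := Θker _ h ⟨u, hU₁ hu⟩
    have h2 : c * u * c⁻¹ * u⁻¹ ∈ UG D := mul_mem ((mem_normalizer_iff.1 hc.2 u).1 hu) (inv_mem hu)
    exact mul_inv_eq_iff_eq_mul.1 (mul_inv_eq_one.1 (hV₀f _ h1 (hUt _ h2)))
  set tM : M := ⟨D.t, L.good.t_mem⟩ with htM
  set zM : M := ⟨D.jL b, hbM⟩ with hzM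
  have ht2 : tM * tM = 1 := Subtype.ext D.t_sq
  have hinv₀ := inverts_of_fpf D.t_sq (fun v hv => (mem_normalizer_iff.1 (hV₀n L.good.t_mem) v).1 hv)
    (fun v hv h => hV₀f v hv h)
  have hoddO : ∀ {c}, c ∈ L.O → Odd (orderOf c) := fun hc =>
    L.odd.odd.of_dvd_nat (Subgroup.orderOf_dvd_natCard _ hc)
  -- fixed points lift
  have liftV : ∀ v : V₁, D.t * (v : G) * D.t⁻¹ * (v : G)⁻¹ ∈ V₀ →
      ∃ (c : G) (hc : c ∈ V₁), D.t * c = c * D.t ∧ ι ⟨c, hc⟩ = ι v := by
    intro v hv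
    set m := (v : G)⁻¹ * (D.t * v * D.t⁻¹) with hm
    have hm0 : m ∈ V₀ := by
      have := (mem_normalizer_iff.1 (hV₀n (M.inv_mem (hAM (hV₁A v.2)))) _).1 hv
      rwa [show (v : G)⁻¹ * (D.t * v * D.t⁻¹ * (v : G)⁻¹) * (v : G)⁻¹⁻¹ = m by rw [hm]; group] at this
    obtain ⟨k, hk⟩ := h3 m (hV₀A hm0)
    obtain ⟨j, hj⟩ := exists_sqrt (((by decide : Odd 3).pow).of_dvd_nat (orderOf_dvd_of_pow_eq_one hk))
    have hr : m ^ j ∈ V₀ := pow_mem hm0 j
    refine ⟨v * m ^ j, mul_mem v.2 (hV₀₁ hr), mul_inv_eq_iff_eq_mul.1 ?_, ?_⟩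
    · calc D.t * ((v : G) * m ^ j) * D.t⁻¹
          = (v : G) * m * (D.t * m ^ j * D.t⁻¹) := by rw [hm]; group
        _ = (v : G) * (m ^ j * m ^ j) * (m ^ j)⁻¹ := by rw [hinv₀ _ hr, hj]
        _ = _ := by group
    · show ι (v * ⟨m ^ j, hV₀₁ hr⟩) = ι v
      rw [map_mul, (ι_ker ⟨m ^ j, hV₀₁ hr⟩).2 hr, mul_one]
  let Ob := (L.O.subgroupOf M).map Θ
  have hOb : ∀ h ∈ Ob, ∃ (g : G) (hg : g ∈ L.O), Θ ⟨g, hOM hg⟩ = h := by
    rintro _ ⟨g, hg, rfl⟩
    exact ⟨g, hg, rfl⟩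
  let T : Act (Vb ⋊[MonoidHom.id (MulAut Vb)] MulAut Vb) :=
    { V := ι.range
      H := Ob
      t := Θ tM
      z := Θ zM
      l := P.l
      l_prime := P.l_prime
      l_five := P.l_five
      V_comm := by
        rintro _ ⟨u, rfl⟩ _ ⟨v, rfl⟩
        rw [← map_mul, ← map_mul]
        exact congrArg ι (Subtype.ext (ZJ.zJ_comm (hV₁A u.2) (hV₁A v.2)))
      V_three := IsPGroup.of_surjective (hA3.to_le hV₁A) ι.rangeRestrict ι.rangeRestrict_surjective
      H_odd := by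
        have hd := Subgroup.card_map_dvd (L.O.subgroupOf M) Θ
        rw [Nat.card_congr (subgroupOfEquivOfLe hOM).toEquiv] at hd
        exact L.odd.odd.of_dvd_nat hd
      t_sq := by rw [← map_mul, ht2, map_one]
      t_H := by
        intro h hh
        obtain ⟨g, hg, rfl⟩ := hOb h hh
        rw [← map_inv, ← map_mul, ← map_mul]
        exact mem_map_of_mem Θ (hOt g hg)
      t_V := by
        rintro _ ⟨v, rfl⟩
        exact ⟨_, (key tM v).symm⟩
      H_V := by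
        intro h hh
        obtain ⟨g, hg, rfl⟩ := hOb h hh
        refine Subgroup.mem_normalizer_fintype ?_
        rintro _ ⟨v, rfl⟩
        exact ⟨_, (key _ v).symm⟩
      faith := by
        intro h hh hc
        obtain ⟨g, hg, rfl⟩ := hOb h hh
        show SemidirectProduct.inr (act _) = 1
        rw [show act ⟨g, hOM hg⟩ = 1 from MulEquiv.ext fun v => ?_, map_one]
        obtain ⟨u, hu⟩ := hιsurj v
        refine SemidirectProduct.inl_injective (φ := MonoidHom.id (MulAut Vb)) ?_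
        rw [hinlconj, ← hu, hc _ ⟨u, rfl⟩, mul_inv_cancel_right]
        rw [hu]
        rfl
      z_mem := mem_map_of_mem Θ (P.BP_le_O L.good L.odd (P.mem_BP_jL hb.1) : D.jL b ∈ L.O)
      z_t := by
        rw [← map_mul, ← map_mul]
        exact congrArg Θ (Subtype.ext (D.t_jL b))
      z_l := by
        rw [← map_pow, show zM ^ P.l = 1 from Subtype.ext (by
          rw [Subgroup.coe_pow, Subgroup.coe_one, hzM]
          rw [← map_pow, hb.2.1, map_one]), map_one]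
      z_free := by
        rintro _ ⟨v, rfl⟩ h
        refine (ι_ker v).2 ?_
        have hzv : D.jL b * (v : G) * (D.jL b)⁻¹ * (v : G)⁻¹ ∈ V₀ := by
          have h' := key zM v
          rw [h, mul_inv_cancel_right] at h'
          exact (ι_ker (⟨_, hv₁ hbM v⟩ * v⁻¹)).1 (by rw [map_mul, map_inv, ← h', mul_inv_cancel])
        let f : V₀ → V₀ := fun r => ⟨D.jL b * r * (D.jL b)⁻¹ * (r : G)⁻¹,
          mul_mem ((mem_normalizer_iff.1 (hV₀n hbM) r).1 r.2) (inv_mem r.2)⟩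
        have hf : Function.Injective f := by
          intro r s hrs
          have e : D.jL b * r * (D.jL b)⁻¹ * (r : G)⁻¹ = D.jL b * s * (D.jL b)⁻¹ * (s : G)⁻¹ :=
            congrArg Subtype.val hrs
          refine Subtype.ext (inv_mul_eq_one.1 (P.cen_Z_three hb ?_ (h3 _ (hV₀A (mul_mem (inv_mem r.2) s.2)))))
          have hc : (s : G) * (r : G)⁻¹ = (r : G)⁻¹ * s :=
            ZJ.zJ_comm (hV₀A s.2) (hV₀A (inv_mem r.2))
          have e2 : D.jL b * ((r : G)⁻¹ * s) * (D.jL b)⁻¹ = (r : G)⁻¹ * s := by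
            calc D.jL b * ((r : G)⁻¹ * s) * (D.jL b)⁻¹
                = (D.jL b * r * (D.jL b)⁻¹ * (r : G)⁻¹ * r)⁻¹ *
                    (D.jL b * s * (D.jL b)⁻¹ * (s : G)⁻¹ * s) := by group
              _ = _ := by rw [e]; group
          exact (mul_inv_eq_iff_eq_mul.1 e2).symm
        obtain ⟨r, hr⟩ := (Finite.injective_iff_surjective.1 hf) ⟨_, hzv⟩
        have hr' : D.jL b * r * (D.jL b)⁻¹ * (r : G)⁻¹ = D.jL b * v * (D.jL b)⁻¹ * (v : G)⁻¹ :=
          congrArg Subtype.val hr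
        have h1 : (r : G)⁻¹ * v = 1 := by
          refine P.cen_Z_three hb ?_ (h3 _ (mul_mem (inv_mem (hV₀A r.2)) (hV₁A v.2)))
          have e2 : D.jL b * ((r : G)⁻¹ * v) * (D.jL b)⁻¹ = (r : G)⁻¹ * v := by
            calc D.jL b * ((r : G)⁻¹ * v) * (D.jL b)⁻¹
                = (D.jL b * r * (D.jL b)⁻¹ * (r : G)⁻¹ * r)⁻¹ *
                    (D.jL b * v * (D.jL b)⁻¹ * (v : G)⁻¹ * v) := by group
              _ = _ := by rw [hr']; group
          exact (mul_inv_eq_iff_eq_mul.1 e2).symm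
        rw [← inv_mul_eq_one.1 h1]
        exact r.2
      irred := by
        intro W hW hWt hWz hWne v hv hvt
        have liftW : ∀ v ∈ ι.range, Θ tM * v = v * Θ tM →
            ∃ (c : G) (hc : c ∈ UG D), ι ⟨c, hU₁ hc⟩ = v := by
          rintro _ ⟨u, rfl⟩ h
          have h' := key tM u
          rw [h, mul_inv_cancel_right] at h'
          obtain ⟨c, hc, hct, he⟩ := liftV u
            ((ι_ker (⟨_, hv₁ L.good.t_mem u⟩ * u⁻¹)).1 (by rw [map_mul, map_inv, ← h', mul_inv_cancel]))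
          exact ⟨c, hfix c (hV₁A hc) hct, he⟩
        let U' : Subgroup G := ((W.comap ι).map V₁.subtype) ⊓ UG D
        have hU' : U' = UG D := by
          refine (P.irred hb inf_le_right ?_).resolve_left fun h => hWne ?_
          · rintro _ ⟨⟨u, hu, rfl⟩, hu2⟩
            refine ⟨⟨⟨_, hv₁ hbM u⟩, ?_, rfl⟩, hzU _ hu2⟩
            show ι _ ∈ W
            rw [← key zM u]
            exact hWz _ hu
          · rw [eq_bot_iff_forall]
            intro w' hw'
            obtain ⟨c, hc, rfl⟩ := liftW w' (hW hw') (hWt w' hw')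
            have hm : c ∈ U' := ⟨⟨⟨c, hU₁ hc⟩, hw', rfl⟩, hc⟩
            rw [show U' = ⊥ from h, mem_bot] at hm
            subst hm
            exact (ι_ker _).2 (one_mem _)
        obtain ⟨c, hc, rfl⟩ := liftW v hv hvt
        have hcm : c ∈ U' := hU'.symm ▸ hc
        obtain ⟨u, hu, he⟩ := hcm.1
        exact (show u = ⟨c, hU₁ hc⟩ from Subtype.ext he) ▸ hu
      cyc := by
        intro h hh hht hhl hhz
        obtain ⟨g, hg, rfl⟩ := hOb h hh
        set gM : M := ⟨g, hOM hg⟩ with hgM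
        set m := g⁻¹ * (D.t * g * D.t⁻¹) with hm
        set mM : M := gM⁻¹ * (tM * gM * tM⁻¹) with hmM
        have hmO : m ∈ L.O := mul_mem (inv_mem hg) (hOt g hg)
        obtain ⟨j, hj⟩ := exists_sqrt (hoddO hmO)
        have hmk : Θ mM = 1 := by
          rw [hmM, map_mul, map_mul, map_mul, map_inv, map_inv, hht, mul_inv_cancel_right, inv_mul_cancel]
        set c := g * m ^ j with hc
        have hct : c * D.t = D.t * c := by
          refine (mul_inv_eq_iff_eq_mul.1 ?_).symm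
          have he : D.t * m ^ j * D.t⁻¹ = (m ^ j)⁻¹ := by
            rw [← conj_pow, hm, t_conj_gen, inv_pow]
          calc D.t * (g * m ^ j) * D.t⁻¹ = g * m * (D.t * m ^ j * D.t⁻¹) := by rw [hm]; group
            _ = g * (m ^ j * m ^ j) * (m ^ j)⁻¹ := by rw [he, hj]
            _ = _ := by rw [hc]; group
        have hcBP : c ∈ BP D := P.mem_BP_of_comm L.good L.odd (mul_mem hg (pow_mem hmO j)) hct
        set cM : M := ⟨c, L.good.BP_le hcBP⟩ with hcM
        have hcg : Θ cM = Θ gM := by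
          rw [show cM = gM * mM ^ j from rfl, map_mul, map_pow, hmk, one_pow, mul_one]
        have hcl : c ^ P.l ∈ UG D := kerBP (pow_mem hcBP P.l) (by
          rw [show (⟨c ^ P.l, L.good.BP_le (pow_mem hcBP P.l)⟩ : M) = cM ^ P.l from rfl, map_pow,
            hcg, hhl])
        obtain ⟨i, hi⟩ := P.pow_l hb hcBP hcl
        set uM : M := cM * (zM ^ i)⁻¹ with huM
        have hu3 : Θ uM ^ 3 = 1 := by
          obtain ⟨v, hv, hve⟩ := hi
          rw [← map_pow, show uM ^ 3 = 1 from Subtype.ext (by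
            show (c * ((D.jL b) ^ i)⁻¹) ^ 3 = 1
            rw [← hve, ← map_pow, P.unip_cube hv, map_one]), map_one]
        have hzl : Θ zM ^ P.l = 1 := by
          rw [← map_pow, show zM ^ P.l = 1 from Subtype.ext (by
            show (D.jL b) ^ P.l = 1
            rw [← map_pow, hb.2.1, map_one]), map_one]
        have hul : Θ uM ^ P.l = 1 := by
          rw [huM, map_mul, map_inv, map_pow, hcg,
            ((show Commute (Θ gM) (Θ zM) from hhz).pow_right i).inv_right.mul_pow, hhl, inv_pow,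
            ← pow_mul, mul_comm, pow_mul, hzl, one_pow, inv_one, one_mul]
        have hu1 : Θ uM = 1 := orderOf_eq_one_iff.1 (Nat.eq_one_of_dvd_coprimes
          ((Nat.coprime_primes P.l_prime Nat.prime_three).2 P.l_ne_three)
          (orderOf_dvd_of_pow_eq_one hul) (orderOf_dvd_of_pow_eq_one hu3))
        rw [huM, map_mul, map_inv, map_pow, hcg, mul_inv_eq_one] at hu1
        exact hu1 ▸ pow_mem (mem_zpowers _) i
      core_three := by
        intro Q hQ hQ3 hQn hQt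
        set C : Subgroup _ := ι.range ⊓ centralizer (Q : Set (Vb ⋊[MonoidHom.id (MulAut Vb)] MulAut Vb))
          with hC
        set W := (C.comap ι).map V₁.subtype with hW
        have hW₁ : W ≤ V₁ := map_subtype_le _
        have hW₀ : V₀ ≤ W := fun v hv => ⟨⟨v, hV₀₁ hv⟩, by
          show ι _ ∈ C
          rw [(ι_ker ⟨v, hV₀₁ hv⟩).2 hv]; exact one_mem C, rfl⟩
        have hQall : ∀ g : M, ∀ q ∈ Q, (Θ g)⁻¹ * q * Θ g ∈ Q := by
          intro g q hq
          have h0 : ∀ {k}, k ∈ Ob → k⁻¹ * q * k ∈ Q := fun {k} hk =>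
            (mem_normalizer_iff.1 (hQn hk) _).2 (by
              rwa [show k * (k⁻¹ * q * k) * k⁻¹ = q by group])
          rcases L.odd.dec g g.2 with h | h
          · exact h0 (mem_map_of_mem Θ (show g ∈ L.O.subgroupOf M from h))
          · have h1 := hQt q hq
            have hk : Θ (tM * g) ∈ Ob := mem_map_of_mem Θ (show tM * g ∈ L.O.subgroupOf M from h)
            have h2 := (mem_normalizer_iff.1 (hQn hk) ((Θ g)⁻¹ * q * Θ g)).2 (by
              rw [map_mul]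
              rwa [show Θ tM * Θ g * ((Θ g)⁻¹ * q * Θ g) * (Θ tM * Θ g)⁻¹ =
                Θ tM * q * (Θ tM)⁻¹ by group])
            exact h2
        have hWn : M ≤ normalizer (W : Set G) := by
          intro g hg
          refine Subgroup.mem_normalizer_fintype ?_
          rintro _ ⟨u, hu, rfl⟩
          refine ⟨⟨_, hv₁ hg u⟩, ?_, rfl⟩
          show ι _ ∈ C
          refine ⟨⟨_, rfl⟩, mem_centralizer_iff.2 fun q hq => ?_⟩
          rw [← key ⟨g, hg⟩ u]
          have hcom := mem_centralizer_iff.1 (show ι u ∈ C from hu).2 _ (hQall ⟨g, hg⟩ q hq)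
          calc q * (Θ ⟨g, hg⟩ * ι u * (Θ ⟨g, hg⟩)⁻¹)
              = Θ ⟨g, hg⟩ * (((Θ ⟨g, hg⟩)⁻¹ * q * Θ ⟨g, hg⟩) * ι u) * (Θ ⟨g, hg⟩)⁻¹ := by group
            _ = Θ ⟨g, hg⟩ * (ι u * ((Θ ⟨g, hg⟩)⁻¹ * q * Θ ⟨g, hg⟩)) * (Θ ⟨g, hg⟩)⁻¹ := by rw [hcom]
            _ = _ := by group
        have hCne : ¬ W ≤ V₀ := by
          intro hle
          letI : MulAction Q ι.range :=
            { smul := fun q v => ⟨(q : Vb ⋊[MonoidHom.id (MulAut Vb)] MulAut Vb) * v * (q : Vb ⋊[MonoidHom.id (MulAut Vb)] MulAut Vb)⁻¹, by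
                obtain ⟨g, hg, hge⟩ := hOb _ (hQ q.2)
                obtain ⟨u, hu⟩ := v.2
                exact ⟨_, by rw [← hge, ← hu, key]⟩⟩
              one_smul := fun v => Subtype.ext (by
                show ((1 : Q) : Vb ⋊[MonoidHom.id (MulAut Vb)] MulAut Vb) * (v : Vb ⋊[MonoidHom.id (MulAut Vb)] MulAut Vb) * ((1 : Q) : Vb ⋊[MonoidHom.id (MulAut Vb)] MulAut Vb)⁻¹ = v
                rw [Subgroup.coe_one]; group)
              mul_smul := fun q q' v => Subtype.ext (by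
                show ((q * q' : Q) : Vb ⋊[MonoidHom.id (MulAut Vb)] MulAut Vb) * (v : Vb ⋊[MonoidHom.id (MulAut Vb)] MulAut Vb) *
                    ((q * q' : Q) : Vb ⋊[MonoidHom.id (MulAut Vb)] MulAut Vb)⁻¹ = (q : Vb ⋊[MonoidHom.id (MulAut Vb)] MulAut Vb) * ((q' : Vb ⋊[MonoidHom.id (MulAut Vb)] MulAut Vb) * v * (q' : Vb ⋊[MonoidHom.id (MulAut Vb)] MulAut Vb)⁻¹) * (q : Vb ⋊[MonoidHom.id (MulAut Vb)] MulAut Vb)⁻¹
                rw [Subgroup.coe_mul]; group) }
          have hmod := hQ3.card_modEq_card_fixedPoints ι.range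
          have hfx : MulAction.fixedPoints Q ι.range = {1} := by
            ext v
            refine ⟨fun hv => ?_, ?_⟩
            · obtain ⟨u, hu⟩ := v.2
              have hmem : (v : Vb ⋊[MonoidHom.id (MulAut Vb)] MulAut Vb) ∈ C := ⟨v.2, mem_centralizer_iff.2 fun q hq => by
                exact mul_inv_eq_iff_eq_mul.1 (congrArg Subtype.val (hv ⟨q, hq⟩))⟩
              have : (u : G) ∈ V₀ := hle ⟨u, by show ι u ∈ C; rw [hu]; exact hmem, rfl⟩
              refine Subtype.ext ?_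
              rw [← hu, (ι_ker u).2 this]
              rfl
            · rintro rfl q
              exact Subtype.ext (by
                show (q : Vb ⋊[MonoidHom.id (MulAut Vb)] MulAut Vb) * (1 : Vb ⋊[MonoidHom.id (MulAut Vb)] MulAut Vb) * (q : Vb ⋊[MonoidHom.id (MulAut Vb)] MulAut Vb)⁻¹ = 1
                group)
          rw [hfx, Nat.card_coe_set_eq, Set.ncard_singleton] at hmod
          obtain ⟨k, hk⟩ := (IsPGroup.of_surjective (hA3.to_le hV₁A) ι.rangeRestrict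
            ι.rangeRestrict_surjective).exists_card_eq
          rw [hk] at hmod
          rcases Nat.eq_zero_or_pos k with rfl | hk0
          · have hbot : ι.range = ⊥ := card_eq_one.1 (by simpa using hk)
            have hU0 : UG D ≤ V₀ := fun u hu => (ι_ker ⟨u, hU₁ hu⟩).1 (by
              have hm : ι ⟨u, hU₁ hu⟩ ∈ ι.range := ⟨_, rfl⟩
              rwa [hbot, mem_bot] at hm)
            exact ha₀1 (hV₀f a₀ (hU0 (hfix a₀ ha₀ ha₀t)) ha₀t)
          · rw [Nat.ModEq, Nat.mod_eq_zero_of_dvd (dvd_pow_self 3 hk0.ne')] at hmod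
            exact absurd hmod (by norm_num)
        have hall := hchief W hW₁ hWn hW₀ hCne
        rw [eq_bot_iff_forall]
        intro q hq
        obtain ⟨g, hg, rfl⟩ := hOb q (hQ hq)
        show SemidirectProduct.inr (act _) = 1
        rw [show act ⟨g, hOM hg⟩ = 1 from MulEquiv.ext fun v => ?_, map_one]
        obtain ⟨u, hu⟩ := hιsurj v
        obtain ⟨u', hu', he⟩ := hall u.2
        obtain rfl : u' = u := Subtype.ext he
        have hcomm := mem_centralizer_iff.1 (show ι u' ∈ C from hu').2 _ hq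
        refine SemidirectProduct.inl_injective (φ := MonoidHom.id (MulAut Vb)) ?_
        rw [hinlconj, ← hu, hcomm, mul_inv_cancel_right]
        rw [hu]
        rfl }
  have hxM : x ∈ M := L.good.BP_le hx
  have hK : comT D L.O ≤ (((closure {y | ∃ h ∈ T.H, y = h⁻¹ * (T.t * h * T.t⁻¹)}).comap Θ).map M.subtype) := by
    rw [comT, closure_le]
    rintro _ ⟨h, hh, rfl⟩
    refine ⟨(⟨h, hOM hh⟩ : M)⁻¹ * (tM * ⟨h, hOM hh⟩ * tM⁻¹), subset_closure ⟨Θ ⟨h, hOM hh⟩,
      mem_map_of_mem Θ (hh : _), ?_⟩, rfl⟩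
    rw [map_mul, map_mul, map_mul, map_inv, map_inv]
  obtain ⟨xM, hxC, hxe⟩ := hK hxK
  obtain rfl : xM = ⟨x, hxM⟩ := Subtype.ext hxe
  have hcomm := Act.conclusion (A := T)
    (mem_map_of_mem Θ (P.BP_le_O L.good L.odd hx : x ∈ L.O))
    (by
      show Θ tM * Θ ⟨x, hxM⟩ = Θ ⟨x, hxM⟩ * Θ tM
      rw [← map_mul, ← map_mul]
      exact congrArg Θ (Subtype.ext (D.X_comm hx.1).symm)) hxC
  have hwBP : D.jL w ∈ BP D := P.mem_BP_jL hwB
  have hwk : D.jL w ∈ UG D := kerBP hwBP (by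
    rw [show (⟨D.jL w, L.good.BP_le hwBP⟩ : M) = ⟨x, hxM⟩ * zM * (⟨x, hxM⟩ : M)⁻¹ * zM⁻¹ from
      Subtype.ext hwe, map_mul, map_mul, map_mul, map_inv, map_inv]
    change Θ ⟨x, hxM⟩ * Θ zM = Θ zM * Θ ⟨x, hxM⟩ at hcomm
    rw [hcomm, mul_inv_cancel_right, mul_inv_cancel])
  obtain ⟨v, hv, hve⟩ := hwk
  exact hwU (D.jL_inj hve ▸ hv)

end Prim

end Cfsg.Agent.NoField.P3
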