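import Cfsg.Agent.Lib.Solvable.Coprime
import Cfsg.Agent.Lib.Involutions.Basic
import Cfsg.Agent.Lib.ClosedAbelian.Basic
import Mathlib.GroupTheory.Perm.Basic
import Mathlib.FieldTheory.Finite.Basic

/-!
An abelian group of exponent `l` containing `z`, on a module on which `z` is free and on whose `t`-fixed
part `z` is irreducible: at most three of its hyperplanes have fixed points.
-/

set_option autoImplicit false
set_option linter.style.haveILetI false
set_option linter.unusedSectionVars false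

namespace Cfsg.Agent.NoField.P3

open Subgroup

universe u

variable {X : Type u} [Group X] [Finite X]

/-- An odd order group `H` with an automorphism `t` acting on the abelian group `V`. -/
structure Act (X : Type u) [Group X] where
  V : Subgroup X
  H : Subgroup X
  t : X
  z : X
  l : ℕ
  l_prime : l.Prime
  l_five : 5 ≤ l
  V_comm : ∀ a ∈ V, ∀ b ∈ V, a * b = b * a
  V_three : IsPGroup 3 V
  H_odd : Odd (Nat.card H)
  t_sq : t * t = 1
  t_H : ∀ h ∈ H, t * h * t⁻¹ ∈ H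
  t_V : ∀ v ∈ V, t * v * t⁻¹ ∈ V
  H_V : H ≤ normalizer (V : Set X)
  faith : ∀ h ∈ H, (∀ v ∈ V, h * v = v * h) → h = 1
  z_mem : z ∈ H
  z_t : t * z = z * t
  z_l : z ^ l = 1
  z_free : ∀ v ∈ V, z * v = v * z → v = 1
  irred : ∀ W : Subgroup X, W ≤ V → (∀ w ∈ W, t * w = w * t) → (∀ w ∈ W, z * w * z⁻¹ ∈ W) →
    W ≠ ⊥ → ∀ v ∈ V, t * v = v * t → v ∈ W
  cyc : ∀ h ∈ H, t * h = h * t → h ^ l = 1 → h * z = z * h → h ∈ zpowers z
  core_three : ∀ Q : Subgroup X, Q ≤ H → IsPGroup 3 Q → H ≤ normalizer (Q : Set X) →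
    (∀ q ∈ Q, t * q * t⁻¹ ∈ Q) → Q = ⊥

namespace Act

variable (A : Act X) {W : Subgroup X}

/-- The subgroups considered. -/
structure Wd (W : Subgroup X) : Prop where
  le : W ≤ A.H
  comm : ∀ a ∈ W, ∀ b ∈ W, a * b = b * a
  exp : ∀ a ∈ W, a ^ A.l = 1
  z_mem : A.z ∈ W
  t_W : ∀ a ∈ W, A.t * a * A.t⁻¹ ∈ W

/-- A hyperplane with a fixed point. -/
def Supp (W N : Subgroup X) : Prop :=
  N ≤ W ∧ (∀ w ∈ W, ∃ i : ℕ, w * (A.z ^ i)⁻¹ ∈ N) ∧
    ∃ v ∈ A.V, v ≠ 1 ∧ ∀ n ∈ N, n * v = v * n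

theorem ext_of_comm_z {N : Subgroup X} {v : X} (hv : v ∈ A.V) (hN : ∀ n ∈ N, n * v = v * n)
    {i : ℕ} (hzi : A.z ^ i ∈ N) (hi : ¬ A.l ∣ i) : v = 1 := by
  haveI := Fact.mk A.l_prime
  obtain ⟨j, -, hj⟩ := Nat.exists_mul_mod_eq_one_of_coprime
    ((A.l_prime.coprime_iff_not_dvd.2 hi).symm) A.l_prime.one_lt
  refine A.z_free v hv ?_
  have h1 : A.z ^ (i * j) = A.z := by
    rw [← Nat.div_add_mod (i * j) A.l, hj, pow_add, pow_mul, A.z_l, one_pow, one_mul, pow_one]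
  rw [← h1, pow_mul]
  exact hN _ (pow_mem hzi j)

variable {A}

theorem Supp.dvd {N : Subgroup X} (hN : A.Supp W N) {i : ℕ} (hi : A.z ^ i ∈ N) : A.l ∣ i := by
  by_contra h
  obtain ⟨v, hv, hv1, hc⟩ := hN.2.2
  exact hv1 (A.ext_of_comm_z hv hc hi h)

theorem Supp.eq_of_le {N N' : Subgroup X} (hN : A.Supp W N) (hN' : A.Supp W N') (h : N ≤ N') :
    N = N' := by
  refine le_antisymm h fun n hn => ?_
  obtain ⟨i, hi⟩ := hN.2.1 n (hN'.1 hn)
  have h1 : A.z ^ i ∈ N' := by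
    have := mul_mem (inv_mem (h hi)) hn
    rwa [mul_inv_rev, inv_inv, mul_assoc, inv_mul_cancel, mul_one] at this
  obtain ⟨k, rfl⟩ := hN'.dvd h1
  rwa [pow_mul, A.z_l, one_pow, inv_one, mul_one] at hi

/-- Different hyperplanes have no common fixed point. -/
theorem Supp.indep {N N' : Subgroup X} (hW : A.Wd W) (hN : A.Supp W N) (hN' : A.Supp W N')
    (hne : N ≠ N') {v : X} (hv : v ∈ A.V) (h : ∀ n ∈ N, n * v = v * n)
    (h' : ∀ n ∈ N', n * v = v * n) : v = 1 := by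
  obtain ⟨g, hg, hg'⟩ := SetLike.not_le_iff_exists.1 fun hle : N' ≤ N => hne (hN'.eq_of_le hN hle).symm
  obtain ⟨i, hi⟩ := hN.2.1 g (hN'.1 hg)
  refine A.ext_of_comm_z (N := centralizer ({v} : Set X)) hv
    (fun n hn => mem_centralizer_singleton_iff.1 hn) (i := i) ?_ ?_
  · have e : A.z ^ i = (g * (A.z ^ i)⁻¹)⁻¹ * g := by group
    rw [e]
    exact mul_mem (inv_mem (mem_centralizer_singleton_iff.2 (h _ hi)))
      (mem_centralizer_singleton_iff.2 (h' _ hg))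
  · rintro ⟨k, rfl⟩
    refine hg' ?_
    rwa [pow_mul, A.z_l, one_pow, inv_one, mul_one] at hi

theorem conjV {g v : X} (hg : g ∈ A.H) (hv : v ∈ A.V) : g * v * g⁻¹ ∈ A.V :=
  (mem_normalizer_iff.1 (A.H_V hg) v).1 hv

theorem t_inv (A : Act X) : A.t⁻¹ = A.t := inv_eq_of_mul_eq_one_right A.t_sq

theorem t_t (A : Act X) (x : X) : A.t * (A.t * x * A.t⁻¹) * A.t⁻¹ = x := by
  rw [show A.t * (A.t * x * A.t⁻¹) * A.t⁻¹ = (A.t * A.t) * x * (A.t * A.t)⁻¹ by group, A.t_sq,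
    inv_one, one_mul, mul_one]

/-- The image under `t`. -/
def tN (A : Act X) (N : Subgroup X) : Subgroup X := N.map (MulAut.conj A.t).toMonoidHom

theorem mem_tN {N : Subgroup X} {x : X} : x ∈ A.tN N ↔ A.t * x * A.t⁻¹ ∈ N := by
  constructor
  · rintro ⟨y, hy, rfl⟩
    exact (A.t_t y).symm ▸ hy
  · exact fun h => ⟨_, h, A.t_t x⟩

theorem tN_tN (N : Subgroup X) : A.tN (A.tN N) = N := by
  ext x
  rw [mem_tN, mem_tN, A.t_t]

theorem Supp.tN {N : Subgroup X} (hW : A.Wd W) (hN : A.Supp W N) : A.Supp W (A.tN N) := by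
  refine ⟨fun x hx => ?_, fun w hw => ?_, ?_⟩
  · have := hW.t_W _ (hN.1 (mem_tN.1 hx))
    rwa [A.t_t] at this
  · obtain ⟨i, hi⟩ := hN.2.1 _ (hW.t_W w hw)
    refine ⟨i, mem_tN.2 ?_⟩
    have hz : Commute A.t A.z := A.z_t
    have e : A.t * (w * (A.z ^ i)⁻¹) * A.t⁻¹ = A.t * w * A.t⁻¹ * (A.z ^ i)⁻¹ := by
      rw [mul_assoc A.t, mul_assoc w, ← ((hz.pow_right i).inv_right.inv_left).eq]
      group
    rwa [e]
  · obtain ⟨v, hv, hv1, hc⟩ := hN.2.2
    refine ⟨A.t * v * A.t⁻¹, A.t_V v hv, fun h => hv1 (conj_eq_one_iff.1 h), fun n hn => ?_⟩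
    have h := congrArg (fun y => A.t * y * A.t⁻¹) (hc _ (mem_tN.1 hn))
    calc n * (A.t * v * A.t⁻¹) = (A.t * (A.t * n * A.t⁻¹) * A.t⁻¹) * (A.t * v * A.t⁻¹) := by rw [A.t_t]
      _ = A.t * (A.t * n * A.t⁻¹ * v) * A.t⁻¹ := by group
      _ = A.t * (v * (A.t * n * A.t⁻¹)) * A.t⁻¹ := h
      _ = (A.t * v * A.t⁻¹) * (A.t * (A.t * n * A.t⁻¹) * A.t⁻¹) := by group
      _ = _ := by rw [A.t_t]

/-- An element of `W` outside a hyperplane moves every fixed point of it. -/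
theorem Supp.move {N : Subgroup X} (hN : A.Supp W N) {g w : X} (hg : g ∈ W) (hgN : g ∉ N)
    (hw : w ∈ A.V) (hfix : ∀ n ∈ N, n * w = w * n) (hgw : g * w = w * g) : w = 1 := by
  obtain ⟨i, hi⟩ := hN.2.1 g hg
  refine A.ext_of_comm_z (N := centralizer ({w} : Set X)) hw
    (fun n hn => mem_centralizer_singleton_iff.1 hn) (i := i) ?_ ?_
  · have e : A.z ^ i = (g * (A.z ^ i)⁻¹)⁻¹ * g := by group
    rw [e]
    exact mul_mem (inv_mem (mem_centralizer_singleton_iff.2 (hfix _ hi)))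
      (mem_centralizer_singleton_iff.2 hgw)
  · rintro ⟨k, rfl⟩
    refine hgN ?_
    rwa [pow_mul, A.z_l, one_pow, inv_one, mul_one] at hi

/-- The map `v ↦ g v g⁻¹ v⁻¹`. -/
theorem comm_mul {g a b : X} (hg : g ∈ A.H) (ha : a ∈ A.V) (hb : b ∈ A.V) :
    g * (a * b) * g⁻¹ * (a * b)⁻¹ = (g * a * g⁻¹ * a⁻¹) * (g * b * g⁻¹ * b⁻¹) := by
  have h1 : g * b * g⁻¹ * b⁻¹ ∈ A.V := mul_mem (conjV hg hb) (inv_mem hb)
  calc g * (a * b) * g⁻¹ * (a * b)⁻¹ = g * a * g⁻¹ * ((g * b * g⁻¹ * b⁻¹) * a⁻¹) := by group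
    _ = g * a * g⁻¹ * (a⁻¹ * (g * b * g⁻¹ * b⁻¹)) := by rw [A.V_comm _ h1 _ (inv_mem ha)]
    _ = _ := by group

theorem comm_fix (hW : A.Wd W) {g v n : X} (hg : g ∈ W) (hn : n ∈ W) (h : n * v = v * n) :
    n * (g * v * g⁻¹ * v⁻¹) = (g * v * g⁻¹ * v⁻¹) * n := by
  have h1 : Commute n g := hW.comm n hn g hg
  have h2 : Commute n v := h
  exact (((h1.mul_right h2).mul_right h1.inv_right).mul_right h2.inv_right).eq

/-- At most one pair of hyperplanes is moved by `t`. -/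
theorem Supp.pair {N M : Subgroup X} (hW : A.Wd W) (hN : A.Supp W N) (hNt : A.tN N ≠ N)
    (hM : A.Supp W M) (hMt : A.tN M ≠ M) : M = N ∨ M = A.tN N := by
  by_contra hne
  push Not at hne
  obtain ⟨g, hgN, hgM⟩ := SetLike.not_le_iff_exists.1 fun hle : N ≤ M => hne.1 (hN.eq_of_le hM hle).symm
  obtain ⟨g', hgN', hgM'⟩ := SetLike.not_le_iff_exists.1
    fun hle : A.tN N ≤ M => hne.2 ((hN.tN hW).eq_of_le hM hle).symm
  have hgW := hN.1 hgN
  have hgW' := (hN.tN hW).1 hgN'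
  have fixt : ∀ {K : Subgroup X} {v : X}, (∀ n ∈ K, n * v = v * n) →
      ∀ n ∈ A.tN K, n * (A.t * v * A.t⁻¹) = (A.t * v * A.t⁻¹) * n := by
    intro K v h n hn
    calc n * (A.t * v * A.t⁻¹) = (A.t * (A.t * n * A.t⁻¹) * A.t⁻¹) * (A.t * v * A.t⁻¹) := by rw [A.t_t]
      _ = A.t * ((A.t * n * A.t⁻¹) * v) * A.t⁻¹ := by group
      _ = A.t * (v * (A.t * n * A.t⁻¹)) * A.t⁻¹ := by rw [h _ (mem_tN.1 hn)]
      _ = (A.t * v * A.t⁻¹) * (A.t * (A.t * n * A.t⁻¹) * A.t⁻¹) := by group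
      _ = _ := by rw [A.t_t]
  -- the diagonal over `N`
  let C : Subgroup X := A.V ⊓ centralizer (N : Set X)
  have hC : ∀ {v}, v ∈ C → v ∈ A.V ∧ ∀ n ∈ N, n * v = v * n :=
    fun {v} h => ⟨h.1, fun n hn => mem_centralizer_iff.1 h.2 n hn⟩
  let d : C →* X := MonoidHom.mk' (fun v => (v : X) * (A.t * v * A.t⁻¹)) fun a b => by
    rw [Subgroup.coe_mul]
    calc (a : X) * b * (A.t * (a * b) * A.t⁻¹)
        = a * (b * (A.t * a * A.t⁻¹)) * (A.t * b * A.t⁻¹) := by group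
      _ = a * ((A.t * a * A.t⁻¹) * b) * (A.t * b * A.t⁻¹) := by
          rw [A.V_comm _ b.2.1 _ (A.t_V _ a.2.1)]
      _ = _ := by group
  have hd : ∀ x ∈ d.range, ∃ v ∈ C, x = v * (A.t * v * A.t⁻¹) := by
    rintro _ ⟨v, rfl⟩; exact ⟨v, v.2, rfl⟩
  have hsym : ∀ v ∈ A.V, A.t * (v * (A.t * v * A.t⁻¹)) = v * (A.t * v * A.t⁻¹) * A.t := by
    intro v hv
    have e : A.t * (v * (A.t * v * A.t⁻¹)) * A.t⁻¹ = v * (A.t * v * A.t⁻¹) := by
      calc A.t * (v * (A.t * v * A.t⁻¹)) * A.t⁻¹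
          = (A.t * v * A.t⁻¹) * (A.t * (A.t * v * A.t⁻¹) * A.t⁻¹) := by group
        _ = (A.t * v * A.t⁻¹) * v := by rw [A.t_t]
        _ = _ := A.V_comm _ (A.t_V v hv) _ hv
    exact mul_inv_eq_iff_eq_mul.1 e
  have hzN : ∀ n ∈ N, n * A.z = A.z * n := fun n hn => hW.comm n (hN.1 hn) _ hW.z_mem
  have hrange : ∀ v ∈ A.V, A.t * v = v * A.t → v ∈ d.range := by
    refine A.irred d.range ?_ ?_ ?_ ?_
    · intro x hx
      obtain ⟨v, hv, rfl⟩ := hd x hx
      exact mul_mem hv.1 (A.t_V _ hv.1)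
    · intro x hx
      obtain ⟨v, hv, rfl⟩ := hd x hx
      exact hsym v hv.1
    · intro x hx
      obtain ⟨v, hv, rfl⟩ := hd x hx
      refine ⟨⟨A.z * v * A.z⁻¹, conjV A.z_mem hv.1, mem_centralizer_iff.2 fun n hn => ?_⟩, ?_⟩
      · have h1 : Commute n A.z := hzN n hn
        have h2 : Commute n v := (hC hv).2 n hn
        exact ((h1.mul_right h2).mul_right h1.inv_right).eq
      · show A.z * v * A.z⁻¹ * (A.t * (A.z * v * A.z⁻¹) * A.t⁻¹) = _
        calc A.z * v * A.z⁻¹ * (A.t * (A.z * v * A.z⁻¹) * A.t⁻¹)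
            = A.z * v * A.z⁻¹ * ((A.t * A.z) * v * (A.t * A.z)⁻¹) := by group
          _ = A.z * v * A.z⁻¹ * ((A.z * A.t) * v * (A.z * A.t)⁻¹) := by rw [A.z_t]
          _ = _ := by group
    · obtain ⟨v, hv, hv1, hc⟩ := hN.2.2
      intro hb
      have hvC : v ∈ C := ⟨hv, mem_centralizer_iff.2 hc⟩
      have h0 : v * (A.t * v * A.t⁻¹) ∈ d.range := ⟨⟨v, hvC⟩, rfl⟩
      rw [hb, mem_bot] at h0
      refine hv1 (Supp.indep hW hN (hN.tN hW) (Ne.symm hNt) hv hc fun n hn => ?_)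
      have := fixt hc n hn
      rw [eq_inv_of_mul_eq_one_right h0] at this
      exact inv_inv v ▸ (Commute.inv_right this).eq
  obtain ⟨w, hw, hw1, hcw⟩ := hM.2.2
  obtain ⟨v, hv, he⟩ := hd _ (hrange _ (mul_mem hw (A.t_V w hw)) (hsym w hw))
  -- kill the right side
  set c : X → X → X := fun g x => g * x * g⁻¹ * x⁻¹ with hc
  have hgH := hW.le hgW
  have hgH' := hW.le hgW'
  have hcV : ∀ {g x}, g ∈ A.H → x ∈ A.V → c g x ∈ A.V := fun hg hx => mul_mem (conjV hg hx) (inv_mem hx)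
  have hc1 : ∀ {g x}, g * x = x * g → c g x = 1 := fun {g x} h => by
    show g * x * g⁻¹ * x⁻¹ = 1
    rw [h, mul_inv_cancel_right, mul_inv_cancel]
  have hcone : c g' 1 = 1 := hc1 (by rw [mul_one, one_mul])
  have hcc : ∀ {a b}, a ∈ A.V → b ∈ A.V → c g' (c g (a * b)) = c g' (c g a) * c g' (c g b) :=
    fun {a b} ha hb => by
      show c g' (c g (a * b)) = _
      rw [show c g (a * b) = c g a * c g b from comm_mul hgH ha hb]
      exact comm_mul hgH' (hcV hgH ha) (hcV hgH hb)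
  have h0 : c g' (c g (v * (A.t * v * A.t⁻¹))) = 1 := by
    rw [hcc hv.1 (A.t_V _ hv.1), hc1 ((hC hv).2 g hgN), hcone, one_mul]
    exact hc1 (comm_fix hW hgW hgW' (fixt (hC hv).2 g' hgN'))
  rw [← he, hcc hw (A.t_V _ hw)] at h0
  have hMW := hM.1
  have hM'W := (hM.tN hW).1
  have hx1 : c g' (c g w) = 1 := by
    refine Supp.indep hW hM (hM.tN hW) (Ne.symm hMt) (hcV hgH' (hcV hgH hw))
      (fun n hn => comm_fix hW hgW' (hMW hn) (comm_fix hW hgW (hMW hn) (hcw n hn))) fun n hn => ?_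
    rw [eq_inv_of_mul_eq_one_left h0]
    exact ((show Commute n (c g' (c g (A.t * w * A.t⁻¹))) from
      comm_fix hW hgW' (hM'W hn) (comm_fix hW hgW (hM'W hn) (fixt hcw n hn))).inv_right).eq
  have hx2 : c g w = 1 := by
    refine hM.move hgW' hgM' (hcV hgH hw) (fun n hn => comm_fix hW hgW (hMW hn) (hcw n hn)) ?_
    exact mul_inv_eq_iff_eq_mul.1 (mul_inv_eq_one.1 hx1)
  exact hw1 (hM.move hgW hgM hw hcw (mul_inv_eq_iff_eq_mul.1 (mul_inv_eq_one.1 hx2)))

/-- A `t`-invariant hyperplane is inverted. -/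
theorem Supp.fixed_inv {N : Subgroup X} (hW : A.Wd W) (hN : A.Supp W N) (hNt : A.tN N = N) :
    ∀ n ∈ N, A.t * n * A.t⁻¹ = n⁻¹ := by
  intro n hn
  have hn' : A.t * n * A.t⁻¹ ∈ N := mem_tN.1 (hNt.symm ▸ hn)
  have hm : n * (A.t * n * A.t⁻¹) ∈ N := mul_mem hn hn'
  have hfix : A.t * (n * (A.t * n * A.t⁻¹)) = n * (A.t * n * A.t⁻¹) * A.t := by
    refine mul_inv_eq_iff_eq_mul.1 ?_
    calc A.t * (n * (A.t * n * A.t⁻¹)) * A.t⁻¹
        = (A.t * n * A.t⁻¹) * (A.t * (A.t * n * A.t⁻¹) * A.t⁻¹) := by group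
      _ = (A.t * n * A.t⁻¹) * n := by rw [A.t_t]
      _ = _ := hW.comm _ (hW.t_W _ (hN.1 hn)) _ (hN.1 hn)
  have hz := A.cyc _ (hW.le (hN.1 hm)) hfix (hW.exp _ (hN.1 hm))
    (hW.comm _ (hN.1 hm) _ hW.z_mem)
  obtain ⟨i, hi⟩ := mem_powers_iff_mem_zpowers.2 hz
  simp only at hi
  obtain ⟨k, rfl⟩ := hN.dvd (hi ▸ hm)
  rw [pow_mul, A.z_l, one_pow] at hi
  exact eq_inv_of_mul_eq_one_right hi.symm

/-- A `t`-invariant hyperplane contains every inverted element. -/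
theorem Supp.mem_of_inv {N : Subgroup X} (hW : A.Wd W) (hN : A.Supp W N) (hNt : A.tN N = N) {n : X}
    (hn : n ∈ W) (hni : A.t * n * A.t⁻¹ = n⁻¹) : n ∈ N := by
  obtain ⟨i, hi⟩ := hN.2.1 n hn
  have h := hN.fixed_inv hW hNt _ hi
  have hz : Commute A.t (A.z ^ i) := (show Commute A.t A.z from A.z_t).pow_right i
  have hcm : Commute n (A.z ^ i) := hW.comm n hn _ (pow_mem hW.z_mem i)
  have h2 : A.z ^ (2 * i) = 1 := by
    have e : A.t * (n * (A.z ^ i)⁻¹) * A.t⁻¹ = n⁻¹ * (A.z ^ i)⁻¹ := by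
      calc A.t * (n * (A.z ^ i)⁻¹) * A.t⁻¹
          = (A.t * n * A.t⁻¹) * (A.t * (A.z ^ i)⁻¹ * A.t⁻¹) := by group
        _ = n⁻¹ * (A.z ^ i)⁻¹ := by rw [hni, hz.inv_right.eq, mul_inv_cancel_right]
    rw [e, mul_inv_rev, inv_inv, (hcm.inv_left.symm).eq] at h
    rw [two_mul, pow_add]
    exact inv_eq_iff_mul_eq_one.1 (mul_left_cancel h)
  have hd : A.l ∣ 2 * i := hN.dvd (h2 ▸ one_mem N)
  obtain ⟨k, rfl⟩ := ((Nat.coprime_primes A.l_prime Nat.prime_two).2
    (by have := A.l_five; omega)).dvd_of_dvd_mul_left hd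
  rwa [pow_mul, A.z_l, one_pow, inv_one, mul_one] at hi

theorem Supp.fixed_unique {N M : Subgroup X} (hW : A.Wd W) (hN : A.Supp W N) (hNt : A.tN N = N)
    (hM : A.Supp W M) (hMt : A.tN M = M) : N = M :=
  hN.eq_of_le hM fun n hn => hM.mem_of_inv hW hMt (hN.1 hn) (hN.fixed_inv hW hNt n hn)

/-- Every point is a product of fixed points of hyperplanes. -/
theorem le_iSup_fix (hW : A.Wd W) :
    A.V ≤ ⨆ N ∈ {N | A.Supp W N}, A.V ⊓ centralizer (N : Set X) := by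
  classical
  suffices h : ∀ (n : ℕ) (M : Subgroup X), M ≤ W → Nat.card W - Nat.card M = n →
      A.V ⊓ centralizer (M : Set X) ≤ ⨆ N ∈ {N | A.Supp W N}, A.V ⊓ centralizer (N : Set X) by
    refine le_trans ?_ (h _ ⊥ bot_le rfl)
    refine le_inf le_rfl fun v _ => mem_centralizer_iff.2 fun x hx => ?_
    rw [Subgroup.mem_bot.1 hx, one_mul, mul_one]
  intro n
  induction n using Nat.strong_induction_on with
  | _ n ih =>
    intro M hMW hn
    by_cases hhyp : ∀ w ∈ W, ∃ i : ℕ, w * (A.z ^ i)⁻¹ ∈ M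
    · intro v hv
      by_cases hv1 : v = 1
      · rw [hv1]; exact one_mem _
      exact le_iSup₂ (f := fun N (_ : N ∈ {N | A.Supp W N}) => A.V ⊓ centralizer (N : Set X)) M
        ⟨hMW, hhyp, v, hv.1, hv1, fun x hx => mem_centralizer_iff.1 hv.2 x hx⟩ hv
    push Not at hhyp
    obtain ⟨w, hw, hwM⟩ := hhyp
    by_cases hzM : A.z ∈ M
    · intro v hv
      rw [A.z_free v hv.1 (mem_centralizer_iff.1 hv.2 _ hzM)]
      exact one_mem _
    set K := A.V ⊓ centralizer (M : Set X) with hK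
    set B := zpowers A.z ⊔ zpowers w with hB
    have hBW : B ≤ W := sup_le (zpowers_le.2 hW.z_mem) (zpowers_le.2 hw)
    haveI : IsMulCommutative B := ⟨⟨fun a b => Subtype.ext (hW.comm _ (hBW a.2) _ (hBW b.2))⟩⟩
    haveI := Fact.mk A.l_prime
    have hzo : orderOf A.z = A.l := orderOf_eq_prime A.z_l fun h => hzM (h ▸ one_mem M)
    have hBc : ¬ IsCyclic B := by
      intro hc
      obtain ⟨⟨b, hb⟩, hgen⟩ := hc.exists_generator
      have hcard : Nat.card B ∣ A.l := by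
        rw [← orderOf_eq_card_of_forall_mem_zpowers hgen, Subgroup.orderOf_mk]
        exact orderOf_dvd_of_pow_eq_one (hW.exp b (hBW hb))
      have hwz : w ∈ zpowers A.z := by
        rw [eq_of_le_of_card_ge (le_sup_left : zpowers A.z ≤ B) (by
          rw [Nat.card_zpowers, hzo]; exact Nat.le_of_dvd A.l_prime.pos hcard)]
        exact mem_sup_right (mem_zpowers w)
      obtain ⟨i, hi⟩ := mem_powers_iff_mem_zpowers.2 hwz
      exact hwM i (by rw [← hi]; simp [one_mem])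
    have hBK : B ≤ normalizer (K : Set X) := fun b hb => Subgroup.mem_normalizer_fintype fun v hv =>
      ⟨conjV (hW.le (hBW hb)) hv.1, mem_centralizer_iff.2 fun x hx => by
        have h1 : Commute x b := hW.comm x (hMW hx) b (hBW hb)
        have h2 : Commute x v := mem_centralizer_iff.1 hv.2 x hx
        exact ((h1.mul_right h2).mul_right h1.inv_right).eq⟩
    have hcop : (Nat.card B).Coprime (Nat.card K) := by
      obtain ⟨k, hk⟩ := (A.V_three.to_le (inf_le_left : K ≤ A.V)).exists_card_eq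
      obtain ⟨k', hk'⟩ := (show IsPGroup A.l B from fun b => ⟨1, Subtype.ext (by
        rw [pow_one, Subgroup.coe_pow]; exact hW.exp _ (hBW b.2))⟩).exists_card_eq
      rw [hk, hk']
      exact ((Nat.coprime_primes A.l_prime Nat.prime_three).2 (by have := A.l_five; omega)).pow _ _
    rw [← CoprimeAct.generated_by_centralizers hBc hBK hcop]
    refine iSup₂_le fun a ha => ?_
    have haM : a ∉ M := by
      intro haM
      obtain ⟨x, hx, y, hy, hxy⟩ := (SolvBasic.mem_sup_iff_of_le_normalizer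
        (show zpowers w ≤ normalizer (zpowers A.z : Set X) from zpowers_le.2 (centralizer_le_normalizer _
          (mem_centralizer_iff.2 fun u hu => hW.comm u ((zpowers_le.2 hW.z_mem : zpowers A.z ≤ W) hu) w hw)))).1 ha.1
      obtain ⟨i, rfl⟩ := mem_powers_iff_mem_zpowers.2 hx
      obtain ⟨j, rfl⟩ := mem_powers_iff_mem_zpowers.2 hy
      simp only at hxy
      by_cases hj : A.l ∣ j
      · obtain ⟨k, rfl⟩ := hj
        rw [pow_mul w, hW.exp w hw, one_pow, mul_one] at hxy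
        by_cases hi : A.l ∣ i
        · obtain ⟨k', rfl⟩ := hi
          rw [pow_mul, A.z_l, one_pow] at hxy
          exact ha.2 hxy
        · obtain ⟨m, -, hm⟩ := Nat.exists_mul_mod_eq_one_of_coprime
            ((A.l_prime.coprime_iff_not_dvd.2 hi).symm) A.l_prime.one_lt
          refine hzM ?_
          have h1 : A.z ^ (i * m) = A.z := by
            rw [← Nat.div_add_mod (i * m) A.l, hm, pow_add, pow_mul, A.z_l, one_pow, one_mul, pow_one]
          rw [← h1, pow_mul, ← hxy]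
          exact pow_mem haM m
      · obtain ⟨m, -, hm⟩ := Nat.exists_mul_mod_eq_one_of_coprime
          ((A.l_prime.coprime_iff_not_dvd.2 hj).symm) A.l_prime.one_lt
        obtain ⟨p, hp⟩ := mem_powers_iff_mem_zpowers.2
          (inv_mem (pow_mem (mem_zpowers A.z) (i * m)) : (A.z ^ (i * m))⁻¹ ∈ zpowers A.z)
        have h1 : w ^ (j * m) = w := by
          rw [← Nat.div_add_mod (j * m) A.l, hm, pow_add, pow_mul, hW.exp w hw, one_pow, one_mul,
            pow_one]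
        refine hwM p ?_
        simp only at hp
        have h2 : a ^ m = A.z ^ (i * m) * w := by
          rw [hxy, (show Commute (A.z ^ i) (w ^ j) from (show Commute A.z w from
            hW.comm _ hW.z_mem w hw).pow_pow i j).mul_pow, ← pow_mul, ← pow_mul, h1]
        rw [hp, inv_inv, (show Commute w (A.z ^ (i * m)) from
          hW.comm w hw _ (pow_mem hW.z_mem _)).eq, ← h2]
        exact pow_mem haM m
    have hlt : M < M ⊔ zpowers a := lt_of_le_of_ne le_sup_left fun h =>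
      haM (h.symm ▸ mem_sup_right (mem_zpowers a))
    have hle : M ⊔ zpowers a ≤ W := sup_le hMW (zpowers_le.2 (hBW ha.1))
    refine le_trans ?_ (ih _ ?_ (M ⊔ zpowers a) hle rfl)
    · intro v hv
      refine ⟨hv.1.1, ?_⟩
      have hMc : M ⊔ zpowers a ≤ centralizer ({v} : Set X) := sup_le
        (fun x hx => mem_centralizer_singleton_iff.2 (mem_centralizer_iff.1 hv.1.2 x hx))
        (zpowers_le.2 (mem_centralizer_singleton_iff.2 (mem_centralizer_singleton_iff.1 hv.2).symm))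
      exact mem_centralizer_iff.2 fun x hx => mem_centralizer_singleton_iff.1 (hMc hx)
    · have h1 := Subgroup.card_le_of_le hle
      have h2 : Nat.card M < Nat.card (M ⊔ zpowers a : Subgroup X) :=
        lt_of_le_of_ne (Subgroup.card_le_of_le hlt.le) fun h => hlt.ne (eq_of_le_of_card_ge hlt.le h.ge)
      omega

/-- An element in every hyperplane with fixed points is trivial. -/
theorem eq_one_of_forall (hW : A.Wd W) {w : X} (hw : w ∈ W) (h : ∀ N, A.Supp W N → w ∈ N) : w = 1 := by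
  refine A.faith w (hW.le hw) fun v hv => ?_
  have hle : (⨆ N ∈ {N | A.Supp W N}, A.V ⊓ centralizer (N : Set X)) ≤ centralizer ({w} : Set X) :=
    iSup₂_le fun N hN x hx => mem_centralizer_singleton_iff.2 (mem_centralizer_iff.1 hx.2 w (h N hN)).symm
  exact (mem_centralizer_singleton_iff.1 (hle (le_iSup_fix hW hv))).symm

end Act

end Cfsg.Agent.NoField.P3
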