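import Cfsg.Agent.Lib.NoField.Cols

/-!
The interfaces inside the main case: the rows of the blocks of full defect, the torus coefficients and
the two rows given by the character of `C(f)`.
-/

set_option autoImplicit false
set_option linter.style.haveILetI false
set_option linter.unusedSectionVars false

namespace Cfsg.Agent.NoField

open Subgroup Cfsg Cfsg.Agent.Walter8 Cfsg.Agent.AutPSL
open scoped ComplexConjugate Classical

universe u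

variable {G : Type u} [Group G]

noncomputable instance instFintypeΦ (D : Data G) : Fintype D.Φ :=
  haveI : Finite (D.F ≃+* D.F) :=
    Finite.of_injective (fun e : D.F ≃+* D.F => (e : D.F → D.F)) DFunLike.coe_injective
  Fintype.ofFinite _

variable [Fintype G] {D : Data G} {M : Main D} (XF : XFacts M)

/-- A character in a block of full defect meets the section in one twist only. -/
def LocalStmt : Prop :=
  ∀ (μ : D.Φ →* ℂˣ) (χ : IrrCharacter G), (XF.bc μ χ ≠ 0 ∨ XF.ec μ χ ≠ 0) →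
    2 * D.tv χ = ((Fintype.card D.F : ℤ) + 1) * XF.bc μ χ - ((Fintype.card D.F : ℤ) - 1) * XF.ec μ χ ∧
      ∀ ν : D.Φ →* ℂˣ, ν ≠ μ → XF.bc ν χ = 0 ∧ XF.ec ν χ = 0

/-- The coefficients of the functions `μ₁ ⊗ μ (1 - λ)` on `C(r) = ⟨t, s⟩ × (Z ⋊ Φ)`, induced to `G`,
where `μ₁` is `1` at `t` and `-1` at `s`. -/
structure Torus where
  lam : M.ld.Zh →* ℂˣ
  lam_inv : ∀ (σ : D.Φ) (z z' : M.ld.Zh),
    semi 1 (σ : D.F ≃+* D.F) (z : PSL2 D.F) = z' → lam z' = lam z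
  lam_r : ∀ z : M.ld.Zh, lam z ≠ 1 → M.r ∈ zpowers (z : PSL2 D.F)
  lam_ne : ∃ z : M.ld.Zh, (∀ σ : D.Φ, semi 1 (σ : D.F ≃+* D.F) (z : PSL2 D.F) = z) ∧ lam z ≠ 1
  a : (D.Φ →* ℂˣ) → IrrCharacter G → ℤ
  a_spec : ∀ (μ : D.Φ →* ℂˣ) (χ : IrrCharacter G),
    (a μ χ : ℂ) * (4 * (Nat.card M.ld.Zh : ℂ) * (Nat.card D.Φ : ℂ)) =
      ∑ z : M.ld.Zh, ∑ σ : D.Φ, ∑ x : Bool, ∑ y : Bool, (if y then -1 else 1 : ℂ) *
        conj ((μ σ : ℂˣ) : ℂ) * (1 - conj ((lam z : ℂˣ) : ℂ)) *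
        (χ : G → ℂ) (D.four x y * D.jL (z : PSL2 D.F) * D.jΦ σ)
  norm : ∀ μ, ∑ χ, a μ χ * a μ χ = 3
  a_bc : ∀ μ ν, ∑ χ, a μ χ * XF.bc ν χ = 0
  a_ec : ∀ μ ν, ∑ χ, a μ χ * XF.ec ν χ = if μ = ν then -2 else 0
  a_dg : ∀ μ, ∑ χ, a μ χ * D.dg χ = 0
  a_tv : ∀ μ, ∑ χ, a μ χ * D.tv χ = 0
  a_weight : ∀ μ, ∑ χ, (a μ χ : ℚ) * ((D.tv χ : ℚ) ^ 2 / (D.dg χ : ℚ)) = 0

/-- Existence of the torus coefficients. -/
def TorusStmt : Prop := Nonempty (Torus XF)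

variable {XF}

/-- The two rows given by the character of defect zero of `C(f)`. -/
structure Pairs (T : Torus XF) where
  μ : D.Φ →* ℂˣ
  μ_ne : μ ≠ 1
  ψ : IrrCharacter G
  ψ' : IrrCharacter G
  ε : ℤ
  ε_unit : ε = 1 ∨ ε = -1
  ψ_row : XF.bc μ ψ = ε ∧ XF.ec μ ψ = ε ∧ T.a μ ψ = -ε
  ψ'_row : XF.bc 1 ψ' = ε ∧ XF.ec 1 ψ' = ε ∧ T.a 1 ψ' = -ε
  same_deg : D.dg ψ = D.dg ψ'

/-- The rows exist. -/
def PairsStmt (T : Torus XF) : Prop := Nonempty (Pairs T)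

/-- The numbers contradict. -/
def ArithStmt (T : Torus XF) : Prop := LocalStmt XF → Pairs T → False

end Cfsg.Agent.NoField
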