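import Cfsg.Agent.Lib.J1.Extra
import Cfsg.Agent.S4273

/-!
In a simple group of order 175560 a Sylow subgroup of order 7, 11 or 19 has an automiser of order at least three.
-/

set_option autoImplicit false
set_option linter.style.haveILetI false

namespace Cfsg.Agent.NoField

open Subgroup Cfsg.Agent.J1Cert Cfsg.Agent.J1Mat

/-- The words of the elements of orders 7, 11, 19, of normalising elements and the exponents. -/
def j1Wit : List (ℕ × List ℕ × List ℕ × ℕ) :=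
  [(7, [0], [1, 1, 0, 0, 1, 0, 1, 0, 0, 0, 0, 1, 0, 0, 1, 0, 1, 0, 1], 5),
   (11, [1, 1, 0], [0, 0, 1, 0, 1, 1, 0, 1], 7),
   (19, [1, 0, 0, 0], [0, 1, 0, 0, 1, 0, 0, 1, 1, 0, 1, 0, 1, 0, 0], 12)]

theorem j1Wit_ok : (j1Wit.all fun w =>
    Nat.beq (powN (wordVal w.2.1) w.1) idCode && !(Nat.beq (wordVal w.2.1) idCode) &&
      Nat.beq (mul (wordVal w.2.2.1) (wordVal w.2.1)) (mul (powN (wordVal w.2.1) w.2.2.2) (wordVal w.2.2.1)) &&
      !(w.2.2.2 % w.1 == 1) && !(w.2.2.2 ^ 2 % w.1 == 1)) = true := by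
  decide +kernel

/-- The automisers of the subgroups of orders 7, 11, 19. -/
theorem j1_auto {E : Type*} [Group E] [Finite E] [IsSimpleGroup E] (hE : Nat.card E = 175560) {p : ℕ}
    (hp : p = 7 ∨ p = 11 ∨ p = 19) :
    ∃ (u g : E) (k : ℕ), orderOf u = p ∧ g * u * g⁻¹ = u ^ k ∧ ¬ k % p = 1 ∧ ¬ k ^ 2 % p = 1 := by
  classical
  haveI := Cfsg.Agent.J1.isSimple_J1
  haveI : Finite Cfsg.Spor.J1 := Nat.finite_of_card_ne_zero (by rw [J1.card_J1]; norm_num)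
  obtain ⟨e⟩ := Cfsg.Agent.S4273.result hE J1.card_J1
  obtain ⟨w, hw, hwp⟩ : ∃ w ∈ j1Wit, w.1 = p := by
    rcases hp with rfl | rfl | rfl
    all_goals simp [j1Wit]
  obtain ⟨q, a, b, k⟩ := w
  obtain rfl : q = p := hwp
  have h := List.all_eq_true.1 j1Wit_ok _ hw
  simp only [Bool.and_eq_true, Bool.not_eq_true', beq_eq_false_iff_ne, ne_eq] at h
  obtain ⟨⟨⟨⟨h1, h2⟩, h3⟩, h4⟩, h5⟩ := h
  haveI : Fact q.Prime := ⟨by rcases hp with rfl | rfl | rfl <;> norm_num⟩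
  have ho : orderOf (J1.el a) = q := by
    refine orderOf_eq_prime (J1.cd_injective ?_) fun e1 => ?_
    · rw [J1.cd_pow, J1.cd_el, J1.cd_one]; exact Nat.eq_of_beq_eq_true h1
    · exact Nat.ne_of_beq_eq_false h2 (by rw [← J1.cd_el, e1, J1.cd_one])
  refine ⟨e.symm (J1.el a), e.symm (J1.el b), k, by rw [MulEquiv.orderOf_eq, ho], ?_, h4, h5⟩
  rw [← map_inv, ← map_mul, ← map_mul, ← map_pow]
  refine congrArg e.symm (mul_inv_eq_iff_eq_mul.2 (J1.cd_injective ?_))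
  rw [J1.cd_mul, J1.cd_mul, J1.cd_pow, J1.cd_el, J1.cd_el]
  exact Nat.eq_of_beq_eq_true h3

end Cfsg.Agent.NoField
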