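import Cfsg.Agent.Lib.NoField.CPhiLocal

/-!
The action of `N(S)` on the seven involutions of `S`: a normal subgroup of order seven, normalised by `y`.
-/

set_option autoImplicit false
set_option linter.style.haveILetI false
set_option linter.unusedSectionVars false

namespace Cfsg.Agent.NoField

open Subgroup Cfsg.Agent.AutPSL
open Cfsg.Agent.Walter8 (cen)

universe u

variable {G : Type u} [Group G] [Finite G]

namespace Data

/-- The involutions of `S`. -/
abbrev SInv (D : Data G) : Type u := {a : G // a ∈ D.S ∧ a ≠ 1}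

instance sinvAction (D : Data G) : MulAction (normalizer (D.S : Set G)) D.SInv where
  smul n a := ⟨(n : G) * a.1 * (n : G)⁻¹, (mem_normalizer_iff.1 n.2 _).1 a.2.1,
    fun e => a.2.2 (conj_eq_one_iff.1 e)⟩
  one_smul a := Subtype.ext (show (1 : G) * a.1 * 1⁻¹ = a.1 by simp)
  mul_smul a b x := Subtype.ext (show ((a : G) * b) * x.1 * ((a : G) * b)⁻¹ =
    a * (b * x.1 * (b : G)⁻¹) * (a : G)⁻¹ by group)

theorem sinv_smul (D : Data G) (n : normalizer (D.S : Set G)) (a : D.SInv) :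
    ((n • a : D.SInv) : G) = (n : G) * a.1 * (n : G)⁻¹ := rfl

/-- The permutations induced on the involutions of `S`. -/
def θ (D : Data G) : normalizer (D.S : Set G) →* Equiv.Perm D.SInv :=
  MulAction.toPermHom (normalizer (D.S : Set G)) D.SInv

theorem θ_apply (D : Data G) (n : normalizer (D.S : Set G)) (a : D.SInv) :
    ((D.θ n a : D.SInv) : G) = (n : G) * a.1 * (n : G)⁻¹ := rfl

theorem θ_eq_one (D : Data G) {n : normalizer (D.S : Set G)} :
    D.θ n = 1 ↔ ∀ a ∈ D.S, (n : G) * a = a * n := by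
  constructor
  · intro h a ha
    by_cases h1 : a = 1
    · rw [h1, mul_one, one_mul]
    · exact mul_inv_eq_iff_eq_mul.1 (congrArg Subtype.val (Equiv.Perm.ext_iff.1 h ⟨a, ha, h1⟩))
  · intro h
    refine Equiv.ext fun a => Subtype.ext ?_
    rw [θ_apply, h _ a.2.1, mul_inv_cancel_right]
    rfl

theorem card_SInv (D : Data G) : Nat.card D.SInv = 7 := by
  classical
  haveI := Fintype.ofFinite D.S
  rw [Nat.card_congr (show D.SInv ≃ {x : D.S // x ≠ 1} from
    { toFun := fun x => ⟨⟨x.1, x.2.1⟩, fun h => x.2.2 (congrArg Subtype.val h)⟩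
      invFun := fun x => ⟨x.1.1, x.1.2, fun h => x.2 (Subtype.ext h)⟩
      left_inv := fun _ => rfl
      right_inv := fun _ => rfl }), Nat.card_eq_fintype_card, Fintype.card_subtype_compl,
    Fintype.card_subtype_eq, ← Nat.card_eq_fintype_card, D.card_S]

instance sinv_pretransitive (D : Data G) : MulAction.IsPretransitive D.θ.range D.SInv := by
  refine ⟨fun a b => ?_⟩
  obtain ⟨g, hg, e⟩ := D.trans a.2.1 a.2.2 b.2.1 b.2.2
  exact ⟨⟨D.θ ⟨g, hg⟩, _, rfl⟩, Subtype.ext e⟩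

theorem θ_range_odd (D : Data G) : Odd (Nat.card D.θ.range) := by
  rw [Nat.odd_iff, ← Nat.two_dvd_ne_zero]
  intro h
  have hS : (D.S.subgroupOf (normalizer (D.S : Set G))) ≤ D.θ.ker := fun n hn =>
    D.θ_eq_one.2 fun a ha => D.S_comm hn ha
  have h8 : 8 ∣ Nat.card D.θ.ker := by
    have := card_dvd_of_le hS
    rwa [Nat.card_congr (subgroupOfEquivOfLe le_normalizer).toEquiv, D.card_S] at this
  refine D.sixteen (dvd_trans ?_ (card_subgroup_dvd_card (normalizer (D.S : Set G))))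
  rw [← D.θ.ker.index_mul_card, index_ker]
  exact Nat.mul_dvd_mul h h8

theorem θ_range_dvd (D : Data G) : Nat.card D.θ.range ∣ 63 := by
  classical
  set A := D.θ.range
  let t₀ : D.SInv := ⟨D.t, D.t_mem_S, D.t_ne⟩
  set B := MulAction.stabilizer A t₀
  have hB : Nat.card B * 7 = Nat.card A := by
    rw [← B.card_mul_index, MulAction.index_stabilizer_of_transitive, D.card_SInv]
  have h5040 : Nat.card A ∣ 2 ^ 4 * 315 := by
    have := card_subgroup_dvd_card A
    rwa [Nat.card_perm, D.card_SInv, show Nat.factorial 7 = 2 ^ 4 * 315 from rfl] at this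
  have h315 : Nat.card A ∣ 315 :=
    ((Nat.coprime_two_right.2 D.θ_range_odd).pow_right 4).dvd_of_dvd_mul_left h5040
  rw [← hB, show (315 : ℕ) = 45 * 7 from rfl, Nat.mul_dvd_mul_iff_right (by norm_num : 0 < 7)] at h315
  have h5 : ¬ 5 ∣ Nat.card B := by
    intro h
    haveI : Fact (Nat.Prime 5) := ⟨by norm_num⟩
    obtain ⟨b, hb⟩ := exists_prime_orderOf_dvd_card' 5 h
    have hp : IsPGroup 5 (zpowers b) := IsPGroup.of_card (n := 1) (by rw [Nat.card_zpowers, hb, pow_one])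
    have hmod := hp.card_modEq_card_fixedPoints D.SInv
    rw [D.card_SInv] at hmod
    have hsub : t₀ ∈ MulAction.fixedPoints (zpowers b) D.SInv := by
      rintro ⟨_, k, rfl⟩
      exact MulAction.mem_stabilizer_iff.1 (b ^ k : B).2
    have h2 : 2 ≤ Nat.card (MulAction.fixedPoints (zpowers b) D.SInv) := by
      have := Nat.ModEq.symm hmod
      rw [Nat.ModEq] at this
      omega
    obtain ⟨a, ha, hat⟩ : ∃ a ∈ MulAction.fixedPoints (zpowers b) D.SInv, a ≠ t₀ := by
      by_contra hcon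
      push Not at hcon
      have : Subsingleton (MulAction.fixedPoints (zpowers b) D.SInv) :=
        ⟨fun x y => Subtype.ext ((hcon _ x.2).trans (hcon _ y.2).symm)⟩
      have := Finite.card_le_one_iff_subsingleton.2 this
      omega
    obtain ⟨n, hn⟩ := (b : A).2
    have hfix : ∀ c : D.SInv, c ∈ MulAction.fixedPoints (zpowers b) D.SInv → (n : G) * c.1 = c.1 * n := by
      intro c hc
      have e : D.θ n c = c := by rw [hn]; exact hc ⟨b, mem_zpowers b⟩
      exact mul_inv_eq_iff_eq_mul.1 (congrArg Subtype.val e)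
    have h1 : a.1 * D.t ≠ 1 := fun h => hat (Subtype.ext (show a.1 = D.t from by
      rw [eq_inv_of_mul_eq_one_left h, D.t_inv]))
    let c₀ : D.SInv := ⟨a.1 * D.t, mul_mem a.2.1 D.t_mem_S, h1⟩
    have hc : c₀ ∈ MulAction.fixedPoints (zpowers b) D.SInv := by
      have hgc : D.θ n c₀ = c₀ := Subtype.ext (by
        rw [θ_apply]
        refine mul_inv_eq_iff_eq_mul.2 ?_
        show (n : G) * (a.1 * D.t) = a.1 * D.t * n
        rw [← mul_assoc, hfix a ha, mul_assoc, show (n : G) * D.t = D.t * n from hfix t₀ hsub, mul_assoc])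
      rw [hn] at hgc
      rintro ⟨_, k, rfl⟩
      have : (b : A) ∈ MulAction.stabilizer A c₀ := MulAction.mem_stabilizer_iff.2 hgc
      exact MulAction.mem_stabilizer_iff.1 (SubgroupClass.coe_zpow b k ▸ zpow_mem this k : ((b ^ k : B) : A) ∈ _)
    have h3 : 3 ≤ Nat.card (MulAction.fixedPoints (zpowers b) D.SInv) := by
      let f : Fin 3 → MulAction.fixedPoints (zpowers b) D.SInv := ![⟨t₀, hsub⟩, ⟨a, ha⟩, ⟨c₀, hc⟩]
      have hf : Function.Injective f := by
        have e1 : a.1 ≠ a.1 * D.t := fun e => D.t_ne (left_eq_mul.1 e)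
        have e2 : D.t ≠ a.1 * D.t := fun e => a.2.2 (right_eq_mul.1 e)
        have e3 : a.1 ≠ D.t := fun e => hat (Subtype.ext e)
        intro i j h
        fin_cases i <;> fin_cases j <;> simp [f, t₀, c₀, Subtype.ext_iff, e1, e2, e3, e1.symm, e2.symm, e3.symm] at h ⊢
      simpa using Nat.card_le_card_of_injective f hf
    have hle : Nat.card (MulAction.fixedPoints (zpowers b) D.SInv) ≤ 7 := by
      rw [← D.card_SInv]; exact Nat.card_le_card_of_injective _ Subtype.val_injective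
    have hall : ∀ c : D.SInv, c ∈ MulAction.fixedPoints (zpowers b) D.SInv := by
      have h7 : Nat.card (MulAction.fixedPoints (zpowers b) D.SInv) = 7 := by
        rw [Nat.ModEq] at hmod; omega
      intro c
      by_contra hc'
      have := Finite.card_subtype_lt (p := fun x => x ∈ MulAction.fixedPoints (zpowers b) D.SInv) hc'
      rw [D.card_SInv] at this
      exact (lt_irrefl 7) (h7 ▸ this)
    have hb1 : b = 1 := Subtype.ext (Subtype.ext (Equiv.ext fun c => hall c ⟨b, mem_zpowers b⟩))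
    rw [hb1, orderOf_one] at hb
    norm_num at hb
  have h9 : Nat.card B ∣ 9 := ((Nat.Coprime.symm ((Nat.Prime.coprime_iff_not_dvd (by norm_num)).2 h5))).dvd_of_dvd_mul_left h315
  rw [← hB]
  exact Nat.mul_dvd_mul h9 (dvd_refl 7)

/-- The normal subgroup of order seven. -/
theorem exists_seven (D : Data G) :
    ∃ u ∈ D.θ.range, orderOf u = 7 ∧ (∀ c ∈ D.θ.range, ∃ k : ℕ, c * u * c⁻¹ = u ^ k) ∧
      (∀ c ∈ D.θ.range, c * u = u * c → c ∈ zpowers u) ∧
      ∀ (j : ℕ) (a : D.SInv), (u ^ j) a = a → 7 ∣ j := by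
  classical
  haveI : Fact (Nat.Prime 7) := ⟨by norm_num⟩
  set A := D.θ.range
  let t₀ : D.SInv := ⟨D.t, D.t_mem_S, D.t_ne⟩
  have hB := (MulAction.stabilizer A t₀).card_mul_index
  rw [MulAction.index_stabilizer_of_transitive, D.card_SInv] at hB
  have h7 : 7 ∣ Nat.card A := ⟨_, (mul_comm _ _).trans hB |>.symm⟩
  obtain ⟨P⟩ : Nonempty (Sylow 7 A) := inferInstance
  have h9 : Nat.card (MulAction.stabilizer A t₀) ∣ 9 := by
    have := D.θ_range_dvd
    rw [← hB] at this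
    exact Nat.dvd_of_mul_dvd_mul_right (by norm_num) (this : _ * 7 ∣ 9 * 7)
  have h49 : ¬ 7 * 7 ∣ Nat.card A := fun h => by
    rw [← hB] at h
    exact absurd ((Nat.dvd_of_mul_dvd_mul_right (by norm_num) h).trans h9) (by norm_num)
  have hP7 : Nat.card (P : Subgroup A) = 7 := by
    rw [P.card_eq_multiplicity]
    have : (Nat.card A).factorization 7 = 1 := by
      refine le_antisymm ?_ ((Fact.out : Nat.Prime 7).factorization_pos_of_dvd Nat.card_pos.ne' h7)
      by_contra hlt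
      exact h49 ((pow_two 7).symm ▸ ((Fact.out : Nat.Prime 7).pow_dvd_iff_le_factorization Nat.card_pos.ne').2 (by omega))
    rw [this, pow_one]
  have hi : (P : Subgroup A).index ∣ 9 := by
    have := (P : Subgroup A).index_mul_card
    rw [hP7] at this
    rw [Nat.eq_of_mul_eq_mul_right (by norm_num) (this.trans hB.symm)]
    exact h9
  have hn1 : Nat.card (Sylow 7 A) = 1 := by
    have hd : Nat.card (Sylow 7 A) ∈ Nat.divisors 9 := Nat.mem_divisors.2 ⟨P.card_dvd_index.trans hi, by norm_num⟩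
    have hm := card_sylow_modEq_one 7 A
    rw [show Nat.divisors 9 = {1, 3, 9} from rfl] at hd
    simp only [Finset.mem_insert, Finset.mem_singleton] at hd
    rcases hd with e | e | e
    · exact e
    all_goals rw [e] at hm; exact absurd hm (by decide)
  haveI : Subsingleton (Sylow 7 A) := (Nat.card_eq_one_iff_unique.1 hn1).1
  have hPn : (P : Subgroup A).Normal := P.normal_of_subsingleton
  haveI : Nontrivial (P : Subgroup A) := Finite.one_lt_card_iff_nontrivial.1 (by rw [hP7]; norm_num)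
  obtain ⟨u, hu1⟩ := exists_ne (1 : (P : Subgroup A))
  have huo : orderOf u = 7 := by
    have := orderOf_dvd_natCard u
    rw [hP7] at this
    exact ((Fact.out : Nat.Prime 7).eq_one_or_self_of_dvd _ this).resolve_left fun e => hu1 (orderOf_eq_one_iff.1 e)
  have huo' : orderOf ((u : A) : Equiv.Perm D.SInv) = 7 := by rw [Subgroup.orderOf_coe, Subgroup.orderOf_coe, huo]
  have hgen : zpowers (u : A) = (P : Subgroup A) :=
    eq_of_le_of_card_ge (zpowers_le.2 u.2) (by rw [hP7, Nat.card_zpowers, Subgroup.orderOf_coe, huo])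
  set v : Equiv.Perm D.SInv := ((u : A) : Equiv.Perm D.SInv)
  have hnorm : ∀ c ∈ A, ∃ k : ℕ, c * v * c⁻¹ = v ^ k := by
    intro c hc
    have hmem : (⟨c, hc⟩ : A) * u * (⟨c, hc⟩ : A)⁻¹ ∈ (P : Subgroup A) := hPn.conj_mem _ u.2 _
    replace hmem : (⟨c, hc⟩ : A) * u * (⟨c, hc⟩ : A)⁻¹ ∈ zpowers (u : A) := hgen.symm ▸ hmem
    rw [← mem_powers_iff_mem_zpowers] at hmem
    obtain ⟨k, hk⟩ := hmem
    exact ⟨k, (congrArg Subtype.val hk).symm⟩
  have hfree : ∀ (j : ℕ) (a : D.SInv), (v ^ j) a = a → 7 ∣ j := by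
    intro j a h
    by_contra hj
    have hv : ∀ i : ℕ, (v ^ i) a = a := by
      intro i
      obtain ⟨m, hm⟩ := exists_pow_eq_self_of_coprime (x := v) (n := j) (by
        rw [huo', Nat.coprime_comm]; exact (Fact.out : Nat.Prime 7).coprime_iff_not_dvd.2 hj)
      rw [← hm, ← pow_mul]
      have hk : ∀ n : ℕ, ((v ^ j) ^ n) a = a := fun n => by
        induction n with
        | zero => simp
        | succ n ih => rw [pow_succ', Equiv.Perm.mul_apply, ih, h]
      exact hk _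
    have hall : ∀ b : D.SInv, v b = b := by
      intro b
      obtain ⟨⟨c, hc⟩, rfl⟩ := MulAction.exists_smul_eq A a b
      show v (c a) = c a
      obtain ⟨k, hk⟩ := hnorm c⁻¹ (inv_mem hc)
      rw [inv_inv] at hk
      have : v * c = c * v ^ k := by rw [← hk]; group
      rw [← Equiv.Perm.mul_apply, this, Equiv.Perm.mul_apply, hv]
    rw [show v = 1 from Equiv.ext hall, orderOf_one] at huo'
    norm_num at huo'
  refine ⟨v, (u : A).2, huo', hnorm, fun c hc hcv => ?_, hfree⟩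
  have hinj : Function.Injective fun i : Fin 7 => (v ^ (i : ℕ)) t₀ := by
    have key : ∀ i j : ℕ, i ≤ j → j < 7 → (v ^ i) t₀ = (v ^ j) t₀ → i = j := by
      intro i j hij hj e
      have : (v ^ i) ((v ^ (j - i)) t₀) = (v ^ i) t₀ := by
        rw [← Equiv.Perm.mul_apply, ← pow_add, Nat.add_sub_cancel' hij, ← e]
      have := Nat.eq_zero_of_dvd_of_lt (hfree _ _ ((v ^ i).injective this)) (by omega)
      omega
    intro i j e
    rcases le_total (i : ℕ) j with h | h
    · exact Fin.ext (key _ _ h j.2 e)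
    · exact Fin.ext (key _ _ h i.2 e.symm).symm
  obtain ⟨i, hi⟩ := (hinj.bijective_of_nat_card_le (by rw [D.card_SInv, Nat.card_fin])).2 (c t₀)
  refine mem_zpowers_iff.2 ⟨((i : ℕ) : ℤ), ?_⟩
  rw [zpow_natCast]
  refine Equiv.ext fun b => ?_
  obtain ⟨j, rfl⟩ := (hinj.bijective_of_nat_card_le (by rw [D.card_SInv, Nat.card_fin])).2 b
  show (v ^ (i : ℕ)) ((v ^ (j : ℕ)) t₀) = c ((v ^ (j : ℕ)) t₀)
  rw [← Equiv.Perm.mul_apply, ← pow_add, add_comm, pow_add, Equiv.Perm.mul_apply,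
    show (v ^ (i : ℕ)) t₀ = c t₀ from hi, ← Equiv.Perm.mul_apply, ← Equiv.Perm.mul_apply,
    ((show Commute c v from hcv).pow_right _).eq]

/-- A normal subgroup of `N(S)` moving a point induces an element of order seven. -/
theorem exists_seven_of_normal (D : Data G) {K : Subgroup (normalizer (D.S : Set G))} (hK : K.Normal)
    {k : normalizer (D.S : Set G)} (hk : k ∈ K) (hk1 : D.θ k ≠ 1) :
    ∃ g ∈ K, orderOf (D.θ g) = 7 := by
  haveI : Fact (Nat.Prime 7) := ⟨by norm_num⟩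
  obtain ⟨v, ⟨n, hn⟩, hv, hnorm, hcen, -⟩ := D.exists_seven
  have key : ∀ g ∈ K, D.θ g ∈ zpowers v → D.θ g ≠ 1 → ∃ g' ∈ K, orderOf (D.θ g') = 7 := by
    intro g hg hgv hg1
    refine ⟨g, hg, orderOf_eq_prime ?_ hg1⟩
    obtain ⟨i, hi⟩ := mem_zpowers_iff.1 hgv
    rw [← hi, ← zpow_natCast, ← zpow_mul, mul_comm, zpow_mul, zpow_natCast, ← hv, pow_orderOf_eq_one,
      one_zpow]
  by_cases hc : D.θ k * v = v * D.θ k
  · exact key k hk (hcen _ ⟨k, rfl⟩ hc) hk1
  · refine key (k * (n * k⁻¹ * n⁻¹)) (mul_mem hk (hK.conj_mem _ (inv_mem hk) n)) ?_ ?_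
    · obtain ⟨j, hj⟩ := hnorm _ ⟨k, rfl⟩
      rw [map_mul, map_mul, map_mul, map_inv, map_inv, hn, ← mul_assoc, ← mul_assoc, hj]
      exact mul_mem (pow_mem (mem_zpowers v) j) (inv_mem (mem_zpowers v))
    · rw [map_mul, map_mul, map_mul, map_inv, map_inv, hn]
      intro h
      exact hc (by
        calc D.θ k * v = D.θ k * (v * (D.θ k)⁻¹ * v⁻¹) * (v * D.θ k) := by group
          _ = v * D.θ k := by rw [h, one_mul])

/-- An element of order seven with a weight in the centraliser of a field automorphism. -/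
theorem pair_seven (D : Data G) (σ : D.Φ) :
    ∃ (z w : G) (k : ℕ), orderOf z = 7 ∧ z ∈ normalizer (D.S : Set G) ∧ z ∉ zpowers (D.jΦ σ) ∧
      D.jΦ σ * z = z * D.jΦ σ ∧ D.jΦ σ * w = w * D.jΦ σ ∧ w * z * w⁻¹ = z ^ k ∧
      ¬ k % 7 = 1 ∧ ¬ k ^ 2 % 7 = 1 := by
  classical
  haveI : Fact (Nat.Prime 7) := ⟨by norm_num⟩
  obtain ⟨v, ⟨u, hu⟩, hv, hnorm, hcen, hfree⟩ := D.exists_seven
  let yN : normalizer (D.S : Set G) := ⟨D.jL D.y, D.y_mem_normalizer⟩
  obtain ⟨k, hk⟩ := hnorm _ ⟨yN, rfl⟩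
  have hy3 : D.θ yN ^ 3 = 1 := by
    rw [← map_pow, show yN ^ 3 = 1 from Subtype.ext (by
      rw [Subgroup.coe_pow]; show D.jL D.y ^ 3 = 1; rw [← map_pow, D.y_cube, map_one]), map_one]
  have hk1 : ¬ k % 7 = 1 := by
    intro h
    have hkv : v ^ k = v := by
      rw [← pow_one v, ← pow_mul, one_mul, pow_eq_pow_iff_modEq, hv, Nat.ModEq, h]
    rw [hkv, mul_inv_eq_iff_eq_mul] at hk
    obtain ⟨i, hi⟩ := mem_zpowers_iff.1 (hcen _ ⟨yN, rfl⟩ hk)
    have hy1 : D.θ yN = 1 := by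
      refine orderOf_eq_one_iff.1 (Nat.eq_one_of_dvd_coprimes (show Nat.Coprime 7 3 by norm_num)
        (hv ▸ orderOf_dvd_of_mem_zpowers (hi ▸ zpow_mem (mem_zpowers v) i)) (orderOf_dvd_of_pow_eq_one hy3))
    have h' := D.θ_eq_one.1 hy1 _ D.s_mem_S
    refine D.i_ne_s ?_
    rw [← D.y_s]
    refine mul_inv_eq_iff_eq_mul.2 (D.jL_inj ?_)
    rw [map_mul, map_mul]; exact h'
  have hk3 : v ^ k ^ 3 = v := by
    have step : ∀ a : ℕ, D.θ yN * v ^ a * (D.θ yN)⁻¹ = v ^ (k * a) := fun a => by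
      rw [← conj_pow, hk, ← pow_mul]
    have : D.θ yN ^ 3 * v * (D.θ yN ^ 3)⁻¹ = v ^ (k * (k * k)) := by
      rw [← step (k * k), ← step k, ← hk]
      simp only [pow_succ, pow_zero, one_mul, mul_inv_rev, mul_assoc]
    rw [hy3, one_mul, inv_one, mul_one] at this
    rw [show k ^ 3 = k * (k * k) by ring, ← this]
  have hk2 : ¬ k ^ 2 % 7 = 1 := by
    intro h
    have h3 : k ^ 3 % 7 = 1 := by
      have := pow_eq_pow_iff_modEq.1 (hk3.trans (pow_one v).symm)
      rwa [hv, Nat.ModEq] at this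
    rw [pow_succ, Nat.mul_mod, h, one_mul, Nat.mod_mod] at h3
    exact hk1 h3
  -- correct `y` by an element of `S`
  have hd : ∀ a ∈ D.S, ((yN * u * yN⁻¹ * (u ^ k)⁻¹ : normalizer (D.S : Set G)) : G) * a =
      a * (yN * u * yN⁻¹ * (u ^ k)⁻¹ : normalizer (D.S : Set G)) := D.θ_eq_one.1 (by
    rw [map_mul, map_mul, map_mul, map_inv, map_inv, map_pow, hu, hk, mul_inv_cancel])
  obtain ⟨a, ha, τ, hd'⟩ := D.cen_S hd
  have hcj : ∀ b ∈ D.S, (u : G) ^ k * b * ((u : G) ^ k)⁻¹ ∈ D.S := fun b hb =>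
    (mem_normalizer_iff.1 (pow_mem u.2 k) b).1 hb
  let ψ : D.S → D.S := fun b => ⟨(b : G) * ((u : G) ^ k * b * ((u : G) ^ k)⁻¹), mul_mem b.2 (hcj _ b.2)⟩
  have hψ : Function.Injective ψ := by
    intro b c h
    have h' : (b : G) * ((u : G) ^ k * b * ((u : G) ^ k)⁻¹) = c * ((u : G) ^ k * c * ((u : G) ^ k)⁻¹) :=
      congrArg Subtype.val h
    set d := (b : G) * c with hd
    have hdS : d ∈ D.S := mul_mem b.2 c.2
    have hfix : (u : G) ^ k * d * ((u : G) ^ k)⁻¹ = d := by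
      have e : (u : G) ^ k * b * ((u : G) ^ k)⁻¹ = b * (c * ((u : G) ^ k * c * ((u : G) ^ k)⁻¹)) := by
        rw [← h', ← mul_assoc, D.S_sq b.2, one_mul]
      calc (u : G) ^ k * d * ((u : G) ^ k)⁻¹
          = ((u : G) ^ k * b * ((u : G) ^ k)⁻¹) * ((u : G) ^ k * c * ((u : G) ^ k)⁻¹) := by rw [hd]; group
        _ = b * c * (((u : G) ^ k * c * ((u : G) ^ k)⁻¹) * ((u : G) ^ k * c * ((u : G) ^ k)⁻¹)) := by
          rw [e]; simp only [mul_assoc]
        _ = d := by rw [D.S_sq (hcj _ c.2), mul_one]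
    by_contra hne
    have hd1 : d ≠ 1 := fun e => hne (Subtype.ext (by
      rw [eq_inv_of_mul_eq_one_left e]; exact inv_eq_of_mul_eq_one_right (D.S_sq c.2)))
    have h7 := hfree k ⟨d, hdS, hd1⟩ (by
      rw [← hu, ← map_pow]
      exact Subtype.ext (by rw [θ_apply, Subgroup.coe_pow]; exact hfix))
    have h3 := pow_eq_pow_iff_modEq.1 (hk3.trans (pow_one v).symm)
    rw [hv, Nat.ModEq, Nat.mod_eq_zero_of_dvd (h7.trans (dvd_pow_self k (by norm_num : 3 ≠ 0)))] at h3
    norm_num at h3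
  obtain ⟨b, hb⟩ := (Finite.injective_iff_surjective.1 hψ) ⟨a, ha⟩
  have hb' : (b : G) * ((u : G) ^ k * b * ((u : G) ^ k)⁻¹) = a := congrArg Subtype.val hb
  set f := D.jΦ τ with hf
  set wy : G := (b : G) * D.jL D.y with hwy
  have hyu : D.jL D.y * (u : G) * (D.jL D.y)⁻¹ = a * f * (u : G) ^ k := by
    have e : D.jL D.y * (u : G) * (D.jL D.y)⁻¹ * ((u : G) ^ k)⁻¹ = a * f := hd'
    rw [← e, inv_mul_cancel_right]
  have hwu : wy * (u : G) * wy⁻¹ = f * (u : G) ^ k := by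
    calc wy * (u : G) * wy⁻¹ = b * (D.jL D.y * (u : G) * (D.jL D.y)⁻¹) * (b : G)⁻¹ := by rw [hwy]; group
      _ = (b : G) * a * f * ((u : G) ^ k * (b : G)⁻¹ * ((u : G) ^ k)⁻¹) * (u : G) ^ k := by rw [hyu]; group
      _ = f * ((b : G) * a * ((u : G) ^ k * (b : G) * ((u : G) ^ k)⁻¹)) * (u : G) ^ k := by
        rw [inv_eq_of_mul_eq_one_right (D.S_sq b.2),
          show (b : G) * a * f = f * ((b : G) * a) from (D.jΦ_comm_S τ (mul_mem b.2 ha)).symm]
        group
      _ = _ := by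
        rw [show (b : G) * a * ((u : G) ^ k * (b : G) * ((u : G) ^ k)⁻¹) = 1 by
          rw [D.S_comm b.2 ha, mul_assoc, hb', D.S_sq ha], mul_one]
  have hN : ∀ ρ : D.Φ, Commute (u : G) (D.jΦ ρ) := fun ρ => D.normalizer_comm u.2 ρ
  have hwN : wy ∈ normalizer (D.S : Set G) := mul_mem (le_normalizer b.2) D.y_mem_normalizer
  have hwf : ∀ ρ : D.Φ, Commute wy (D.jΦ ρ) := fun ρ => D.normalizer_comm hwN ρ
  -- the seventh power of `u`
  obtain ⟨a', ha', τ', h7⟩ := D.cen_S (g := (u : G) ^ 7) (fun b hb => by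
    have := D.θ_eq_one.1 (show D.θ (u ^ 7) = 1 by rw [map_pow, hu, ← hv, pow_orderOf_eq_one]) b hb
    rwa [Subgroup.coe_pow] at this)
  have ha'1 : a' = 1 := by
    by_contra hne
    have hc : (u : G) * a' * (u : G)⁻¹ = a' := by
      have e : a' = (u : G) ^ 7 * (D.jΦ τ')⁻¹ := by rw [h7, mul_inv_cancel_right]
      have : Commute (u : G) a' := e ▸ (Commute.self_pow _ 7).mul_right (hN τ').inv_right
      rw [this.eq, mul_inv_cancel_right]
    have := hfree 1 ⟨a', ha', hne⟩ (by rw [pow_one, ← hu]; exact Subtype.ext (by rw [θ_apply]; exact hc))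
    norm_num at this
  rw [ha'1, one_mul] at h7
  set z : G := wy * (u : G) * wy⁻¹ * (u : G)⁻¹ with hz
  have hcfu : Commute (f * (u : G) ^ k) (u : G) := (hN τ).symm.mul_left (Commute.pow_self _ _)
  have hz7 : z ^ 7 = 1 := by
    have hc : Commute (wy * (u : G) * wy⁻¹) (u : G)⁻¹ := by rw [hwu]; exact hcfu.inv_right
    rw [hz, hc.mul_pow, conj_pow, h7, (hwf τ').eq, mul_inv_cancel_right, inv_pow, h7, mul_inv_cancel]
  have hzN : z ∈ normalizer (D.S : Set G) :=
    mul_mem (mul_mem (mul_mem hwN u.2) (inv_mem hwN)) (inv_mem u.2)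
  have hzf : ∀ ρ : D.Φ, z ≠ D.jΦ ρ := by
    intro ρ e
    have h1 : D.θ ⟨z, hzN⟩ = 1 := D.θ_eq_one.2 fun c hc => by
      show z * c = c * z
      rw [e]; exact D.jΦ_comm_S ρ hc
    have hzθ : D.θ ⟨z, hzN⟩ = v ^ k * v⁻¹ := by
      have hfθ : D.θ ⟨f, D.mem_normalizer_S fun c hc => by
          rw [D.jΦ_comm_S τ hc, mul_inv_cancel_right]; exact hc⟩ = 1 :=
        D.θ_eq_one.2 fun c hc => D.jΦ_comm_S τ hc
      rw [show (⟨z, hzN⟩ : normalizer (D.S : Set G)) = ⟨f, D.mem_normalizer_S fun c hc => by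
          rw [D.jΦ_comm_S τ hc, mul_inv_cancel_right]; exact hc⟩ * u ^ k * u⁻¹ from Subtype.ext (by
        show z = f * ((u ^ k : normalizer (D.S : Set G)) : G) * (u : G)⁻¹
        rw [Subgroup.coe_pow, hz, hwu]), map_mul, map_mul, hfθ, one_mul, map_inv, map_pow, hu]
    rw [h1, eq_comm, mul_inv_eq_one] at hzθ
    refine hk1 ?_
    have := pow_eq_pow_iff_modEq.1 (hzθ.trans (pow_one v).symm)
    rwa [hv, Nat.ModEq] at this
  refine ⟨z, wy, k, orderOf_eq_prime hz7 fun e => hzf 1 (by rw [e, map_one]), hzN, fun h => ?_,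
    (D.normalizer_comm hzN σ).symm, (hwf σ).symm.eq, ?_, hk1, hk2⟩
  · obtain ⟨i, hi⟩ := mem_zpowers_iff.1 h
    exact hzf (σ ^ i) (by rw [map_zpow, hi])
  · have hcu : Commute f ((u : G) ^ k) := (hN τ).symm.pow_right k
    calc wy * z * wy⁻¹ = wy * f * wy⁻¹ * (wy * u * wy⁻¹) ^ k * (wy * u * wy⁻¹)⁻¹ := by
          rw [show z = f * (u : G) ^ k * (u : G)⁻¹ by rw [hz, hwu], conj_pow]; group
      _ = f * (f * (u : G) ^ k) ^ k * (f * (u : G) ^ k)⁻¹ := by
          rw [(hwf τ).eq, mul_inv_cancel_right, hwu]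
      _ = (f * (u : G) ^ k) ^ k * ((u : G) ^ k)⁻¹ := by
          rw [((Commute.refl f).mul_right hcu).pow_right k |>.eq, mul_assoc,
            show f * (f * (u : G) ^ k)⁻¹ = ((u : G) ^ k)⁻¹ by rw [hcu.eq, mul_inv_rev, mul_inv_cancel_left]]
      _ = (f * (u : G) ^ k * (u : G)⁻¹) ^ k := by rw [hcfu.inv_right.mul_pow, inv_pow]
      _ = z ^ k := by rw [hz, hwu]

end Data

end Cfsg.Agent.NoField
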