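import Cfsg.Agent.Lib.NoField.SmallBase
import Cfsg.Agent.Lib.NoField.SmallJ1
import Cfsg.Agent.Lib.NoField.SmallSeven

/-!
The small common fixed fields: `SmallStmt`.
-/

set_option autoImplicit false
set_option linter.style.haveILetI false
set_option linter.unusedSectionVars false

namespace Cfsg.Agent.NoField

open Subgroup Cfsg.Agent.AutPSL
open Cfsg.Agent.Walter8 (cen)
open Cfsg.Agent.JanThom (C2 card_C2)

universe u

variable {G : Type u} [Group G] [Finite G]

namespace Data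

/-- An element of `C(f)` normalising the image of `S` normalises `S`. -/
theorem lift_normalizer (D : Data G) (σ : D.Φ) {g : D.Cf σ}
    (hg : D.pH σ g ∈ normalizer (((D.S.subgroupOf (D.Cf σ)).map (D.pH σ) : Subgroup (D.Hbar σ)) : Set (D.Hbar σ))) :
    (g : G) ∈ normalizer (D.S : Set G) := by
  refine D.mem_normalizer_S fun a ha => ?_
  obtain ⟨b, hb, e⟩ := (mem_normalizer_iff.1 hg _).1 ⟨⟨a, D.S_le_Cf σ ha⟩, ha, rfl⟩
  rw [← map_inv, ← map_mul, ← map_mul] at e
  have h1 : D.pH σ (b⁻¹ * (g * ⟨a, D.S_le_Cf σ ha⟩ * g⁻¹)) = 1 := by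
    rw [map_mul, map_inv, e, inv_mul_cancel]
  have hx := (D.pH_eq_one σ).1 h1
  set x : G := (b : G)⁻¹ * ((g : G) * a * (g : G)⁻¹) with hxd
  have hxm : x ∈ zpowers (D.jΦ σ) := hx
  have hbx : Commute (b : G) x := by
    obtain ⟨i, hi⟩ := mem_zpowers_iff.1 hxm
    rw [← hi]
    exact ((show Commute (D.jΦ σ) (b : G) from D.jΦ_comm_S σ hb).symm).zpow_right i
  have hga : (g : G) * a * (g : G)⁻¹ = b * x := by rw [hxd, mul_inv_cancel_left]
  have hsq : x ^ 2 = 1 := by
    have e2 : ((b : G) * x) ^ 2 = 1 := by rw [← hga, conj_pow, pow_two, D.S_sq ha, mul_one, mul_inv_cancel]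
    rw [hbx.mul_pow, pow_two (b : G), D.S_sq (show (b : G) ∈ D.S from hb), one_mul] at e2
    exact e2
  have hx1 : x = 1 := by
    have hd := orderOf_dvd_of_pow_eq_one hsq
    have ho : Odd (orderOf x) := (D.jΦ_odd σ).of_dvd_nat (orderOf_dvd_of_mem_zpowers hxm)
    rcases (Nat.dvd_prime Nat.prime_two).1 hd with h | h
    · exact orderOf_eq_one_iff.1 h
    · rw [h] at ho; exact absurd ho (by decide)
  rw [hga, hx1, mul_one]
  exact hb

/-- With three fixed elements the number of involutions of `C(f) ⧸ ⟨f⟩` is not divisible by 49. -/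
theorem index_three (D : Data G) {σ : D.Φ} (h3 : D.qfix σ = 3) :
    ¬ 7 * 7 ∣ (cen (D.tb σ)).index := by
  classical
  intro h49
  haveI : Fact (Nat.Prime 2) := ⟨Nat.prime_two⟩
  obtain ⟨P, hPS, hn, hcase⟩ := D.exists_count h3
  set n := Nat.card (Sylow 2 (D.Hbar σ)) with hnd
  set Sb := (D.S.subgroupOf (D.Cf σ)).map (D.pH σ) with hSb
  have hN := D.card_normalizer_Sb h3
  have hidx : n = (normalizer (Sb : Set (D.Hbar σ))).index := P.card_eq_index_normalizer.trans
    (congrArg (fun Q : Subgroup (D.Hbar σ) => (normalizer (Q : Set (D.Hbar σ))).index) hPS)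
  have h1 : 7 * 7 ∣ n * (24 * 7) := by
    have h := (cen (D.tb σ)).index_mul_card
    rw [D.card_cen_small h3, ← (normalizer (Sb : Set (D.Hbar σ))).index_mul_card, ← hidx] at h
    exact (h49.trans (Dvd.intro 24 h)).trans (Nat.mul_dvd_mul_left n hN)
  have h7 : 7 ∣ n := by
    rw [← mul_assoc] at h1
    exact ((by norm_num : Nat.Coprime 7 24)).dvd_of_dvd_mul_right (Nat.dvd_of_mul_dvd_mul_right (by norm_num) h1)
  rcases hcase with h | ⟨M, hM, hMs, hPM, hM504, hcnt⟩
  · rw [h] at h7; norm_num at h7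
  haveI := hM
  haveI := hMs
  let Q : Sylow 2 M := P.subtype hPM
  have hQ8 : Nat.card (Q : Subgroup M) = 8 := by
    show Nat.card ((P : Subgroup (D.Hbar σ)).subgroupOf M) = 8
    rw [Nat.card_congr (subgroupOfEquivOfLe hPM).toEquiv, hPS]
    exact D.card_Sb σ
  set NM := normalizer ((Q : Subgroup M) : Set M) with hNM
  have hnc : ¬ NM ≤ centralizer ((Q : Subgroup M) : Set M) := by
    intro hle
    have hc := (MonoidHom.ker_transferSylow_isComplement' Q hle).card_mul_card
    rw [hQ8, hM504] at hc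
    rcases (inferInstance : (MonoidHom.transferSylow Q hle).ker.Normal).eq_bot_or_eq_top with h | h
    · rw [h, card_bot] at hc; norm_num at hc
    · rw [h, Subgroup.card_top, hM504] at hc; norm_num at hc
  obtain ⟨m, hm, hm'⟩ := SetLike.not_le_iff_exists.1 hnc
  rw [mem_centralizer_iff] at hm'
  push Not at hm'
  obtain ⟨q, hq, hqm⟩ := hm'
  have hnormQ : ∀ x : M, x ∈ NM ↔ (x : D.Hbar σ) ∈ normalizer (Sb : Set (D.Hbar σ)) := by
    intro x
    have hmem : ∀ y : M, y ∈ (Q : Subgroup M) ↔ (y : D.Hbar σ) ∈ Sb := fun y => by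
      show y ∈ (P : Subgroup (D.Hbar σ)).subgroupOf M ↔ _
      rw [mem_subgroupOf, hPS]
    constructor
    · intro hx
      refine SEBrick.mem_normalizer_of fun y hy => ?_
      have hyM : y ∈ M := hPM (hPS ▸ hy)
      exact (hmem _).1 ((mem_normalizer_iff.1 hx ⟨y, hyM⟩).1 ((hmem _).2 hy))
    · intro hx
      refine SEBrick.mem_normalizer_of fun y hy => ?_
      exact (hmem _).2 ((mem_normalizer_iff.1 hx _).1 ((hmem _).1 hy))
  obtain ⟨g, hg⟩ := D.pH_surj σ (m : D.Hbar σ)
  have hgN : (g : G) ∈ normalizer (D.S : Set G) := D.lift_normalizer σ (hg ▸ (hnormQ m).1 hm)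
  let ι : normalizer (D.S : Set G) →* D.Hbar σ :=
    (D.pH σ).comp (Subgroup.inclusion (D.normalizer_le_Cf σ))
  have hK : (M.comap ι).Normal := hM.comap ι
  have hgK : (⟨g, hgN⟩ : normalizer (D.S : Set G)) ∈ M.comap ι := by
    show D.pH σ g ∈ M
    rw [hg]; exact m.2
  have hgθ : D.θ ⟨g, hgN⟩ ≠ 1 := by
    intro e
    refine hqm (Subtype.ext ?_)
    have hqS : (q : D.Hbar σ) ∈ Sb := hPS ▸ (mem_subgroupOf.1 hq : (q : D.Hbar σ) ∈ (P : Subgroup (D.Hbar σ)))
    obtain ⟨a, ha, haq⟩ := hqS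
    show (q : D.Hbar σ) * m = m * q
    rw [← haq, ← hg, ← map_mul, ← map_mul]
    exact congrArg (D.pH σ) (Subtype.ext (D.θ_eq_one.1 e _ ha).symm)
  obtain ⟨g', hg', hg7⟩ := D.exists_seven_of_normal hK hgK hgθ
  have h7o : 7 ∣ orderOf (ι g') := by
    have e : ι (g' ^ orderOf (ι g')) = 1 := by rw [map_pow, pow_orderOf_eq_one]
    have hθ : D.θ (g' ^ orderOf (ι g')) = 1 := D.θ_eq_one.2 fun a ha => by
      obtain ⟨i, hi⟩ := mem_zpowers_iff.1 ((D.pH_eq_one σ).1 e)
      show ((g' ^ orderOf (ι g') : normalizer (D.S : Set G)) : G) * a = a * _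
      rw [show ((g' ^ orderOf (ι g') : normalizer (D.S : Set G)) : G) = D.jΦ σ ^ i from hi.symm]
      exact ((show Commute (D.jΦ σ) a from D.jΦ_comm_S σ ha).zpow_left i).eq
    rw [map_pow] at hθ
    exact hg7 ▸ orderOf_dvd_of_pow_eq_one hθ
  have hmem : (⟨ι g', hg'⟩ : M) ∈ NM := (hnormQ _).2 (SEBrick.mem_normalizer_of (by
    rintro _ ⟨a, ha, rfl⟩
    refine ⟨Subgroup.inclusion (D.normalizer_le_Cf σ) g' * a *
      (Subgroup.inclusion (D.normalizer_le_Cf σ) g')⁻¹, (mem_normalizer_iff.1 g'.2 _).1 ha, ?_⟩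
    rw [map_mul, map_mul, map_inv]; rfl))
  have h56 : 56 ∣ Nat.card NM := by
    refine (show Nat.Coprime 7 8 by norm_num).mul_dvd_of_dvd_of_dvd ?_ ?_
    · refine h7o.trans ?_
      rw [show orderOf (ι g') = orderOf (⟨_, hmem⟩ : NM) by rw [← Subgroup.orderOf_coe, ← Subgroup.orderOf_coe]]
      exact orderOf_dvd_natCard _
    · exact hQ8 ▸ card_dvd_of_le le_normalizer
  have h504 : n * Nat.card NM = 504 := by
    rw [hcnt, Q.card_eq_index_normalizer, ← hM504]
    exact NM.index_mul_card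
  obtain ⟨c, hc⟩ := h56
  rw [hc, show 504 = 9 * 56 from rfl, ← mul_assoc, mul_comm (n * 56)] at h504
  have : n * c = 9 := by
    refine Nat.eq_of_mul_eq_mul_right (show 0 < 56 by norm_num) ?_
    rw [← h504]; ring
  have := h7.trans (Dvd.intro c this)
  norm_num at this

/-- `3 ^ (6 m)` modulo 49. -/
theorem mod_fortynine (m : ℕ) : (729 : ZMod 49) ^ m = 1 + 42 * (m : ZMod 49) := by
  induction m with
  | zero => simp
  | succ m ih =>
    rw [pow_succ, ih, Nat.cast_succ, show (729 : ZMod 49) = 1 + 42 from by decide]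
    have h : (42 : ZMod 49) * 42 = 0 := by decide
    linear_combination (m : ZMod 49) * h

/-- `49` does not divide the number of involutions of a group of Ree order at `q = 3 ^ m`, `7 ∤ m`. -/
theorem not_fortynine {m : ℕ} (hm : ¬ 7 ∣ m) : ¬ 7 * 7 ∣ (3 ^ m) ^ 2 * ((3 ^ m) ^ 2 - 3 ^ m + 1) := by
  intro h
  have hcop : Nat.Coprime (7 * 7) ((3 ^ m) ^ 2) := Nat.Coprime.pow_right _ (Nat.Coprime.pow_right _ (by norm_num))
  have h' := (ZMod.natCast_eq_zero_iff _ 49).2 (hcop.dvd_of_dvd_mul_left h)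
  rw [Nat.cast_add, Nat.cast_sub (Nat.le_self_pow (by norm_num) _)] at h'
  push_cast at h'
  have h6 : (729 : ZMod 49) ^ m = 1 := by
    rw [show (729 : ZMod 49) = 3 ^ 6 by norm_num, ← pow_mul, mul_comm, pow_mul]
    linear_combination (((3 : ZMod 49) ^ m) ^ 4 + ((3 : ZMod 49) ^ m) ^ 3 - (3 : ZMod 49) ^ m - 1) * h'
  rw [mod_fortynine, add_eq_left, show (42 : ZMod 49) * m = ((42 * m : ℕ) : ZMod 49) by push_cast; rfl,
    ZMod.natCast_eq_zero_iff] at h6
  refine hm ?_
  have : 7 * 7 ∣ 7 * (6 * m) := by rw [← mul_assoc]; exact h6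
  exact (show Nat.Coprime 7 6 by norm_num).dvd_of_dvd_mul_left (Nat.dvd_of_mul_dvd_mul_left (by norm_num) this)

end Data

theorem thirteen : (3 : ZMod 13) ^ 3 = 1 ∧ (1 : ZMod 13) ≠ -1 := by decide

theorem seven_three : ((3 : ℕ) : ZMod 7) ^ 2 ≠ 1 := by decide

theorem j1_mod {p : ℕ} (hp : p = 7 ∨ p = 11 ∨ p = 19) :
    ((5 : ℕ) : ZMod p) ≠ 0 ∧ ((5 : ℕ) : ZMod p) ^ 2 ≠ 1 ∧ ¬ p * p ∣ 1463 := by
  rcases hp with rfl | rfl | rfl <;> exact ⟨by decide, by decide, by norm_num⟩

/-- The prime field, or the field of five elements, is not the common fixed field. -/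
theorem small (D : Data G) : SmallStmt D := by
  intro hnot h11
  classical
  obtain ⟨γ, hγ, hγq⟩ := D.exists_gen
  obtain ⟨K, _, _, hK, hKodd, hK8, hq, -⟩ := D.qfix_spec γ
  rw [hγq] at hK
  rw [orderOf_eq_card_of_forall_mem_zpowers hγ, hK] at hq
  have hK1 : 1 < Fintype.card K := Fintype.one_lt_card
  have hbot : D.qbot = 3 ∨ D.qbot = 5 := by omega
  obtain ⟨r, hchar⟩ := CharP.exists D.F
  obtain ⟨e, hr, hre⟩ := FiniteField.card D.F r
  have hrc : ∀ b : ℕ, b.Prime → D.qbot = b → ringChar D.F = b := by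
    intro b hb h
    rw [ringChar.eq D.F r]
    refine (Nat.prime_dvd_prime_iff_eq hr hb).1 (hr.dvd_of_dvd_pow (?_ : r ∣ b ^ Nat.card D.Φ))
    rw [← h, ← hq, hre]
    exact dvd_pow_self r e.ne_zero
  have hc1 : Nat.card D.Φ ≠ 1 := fun h => D.nontrivial (card_eq_one.1 h)
  rcases hbot with hb | hb
  · -- three common fixed elements
    have hc3 := hrc 3 Nat.prime_three hb
    rw [hb] at hq
    set p := (Nat.card D.Φ).minFac with hpd
    have hp : p.Prime := Nat.minFac_prime hc1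
    have hpdvd : p ∣ Nat.card D.Φ := Nat.minFac_dvd _
    haveI : Fact p.Prime := ⟨hp⟩
    obtain ⟨σ, hσ⟩ := D.exists_isPart hp hpdvd
    have hp3 : p ≠ 3 := fun h => hnot ⟨h ▸ hpdvd, hc3⟩
    obtain ⟨K', _, _, hK', -, -, hq', -⟩ := D.qfix_spec σ
    rw [hK', hσ.2.2, hq] at hq'
    obtain ⟨k, -, hk⟩ := (Nat.dvd_prime_pow Nat.prime_three).1
      (hq'.symm ▸ dvd_pow_self _ (pow_ne_zero _ hp.ne_zero) : D.qfix σ ∣ 3 ^ Nat.card D.Φ)
    rw [hk, ← pow_mul] at hq'
    have hke : Nat.card D.Φ = k * p ^ (Nat.card D.Φ).factorization p :=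
      Nat.pow_right_injective (le_refl 2 |>.trans (by norm_num)) hq'
    have hkp : ¬ p ∣ k := by
      rintro ⟨c, rfl⟩
      have : p ^ ((Nat.card D.Φ).factorization p + 1) ∣ Nat.card D.Φ := ⟨c, hke.trans (by ring)⟩
      have := (hp.pow_dvd_iff_le_factorization Nat.card_pos.ne').1 this
      omega
    have h7 : p = 7 ∧ (D.qfix σ : ZMod p) ^ 2 ≠ 1 ∧ ¬ 7 * 7 ∣ (cen (D.tb σ)).index := by
      rcases cases D p σ hσ with ⟨h, -⟩ | ⟨h11', -, -, hR⟩ | ⟨h, -⟩ | ⟨h, hp7⟩
      · exact absurd h hp3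
      · rw [hk] at hR
        have h3 : (3 : ZMod p) ≠ 0 := by
          rw [show (3 : ZMod p) = ((3 : ℕ) : ZMod p) from rfl, ne_eq, ZMod.natCast_eq_zero_iff]
          exact fun h => hp3 ((Nat.prime_dvd_prime_iff_eq hp Nat.prime_three).1 h)
        have hR' := (ZMod.natCast_eq_zero_iff _ p).2 hR
        rw [Nat.cast_add, Nat.cast_sub (Nat.le_self_pow two_ne_zero _)] at hR'
        push_cast at hR'
        have hcube : ((3 : ZMod p) ^ k) ^ 3 = -1 := by linear_combination ((3 : ZMod p) ^ k + 1) * hR'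
        have hd1 : orderOf (3 : ZMod p) ∣ 6 * k := orderOf_dvd_of_pow_eq_one (by
          rw [mul_comm, pow_mul, show 6 = 3 * 2 from rfl, pow_mul, hcube, neg_one_sq])
        have hd2 : orderOf (3 : ZMod p) ∣ p - 1 := ZMod.orderOf_dvd_card_sub_one h3
        have hcop : Nat.Coprime (p - 1) k := by
          refine Nat.coprime_of_dvd fun l hl h1 h2 => ?_
          have h3' : l ∣ Nat.card D.Φ := hke.symm ▸ h2.trans (dvd_mul_right k _)
          have h4 : p ≤ l := Nat.minFac_le_of_dvd hl.two_le h3'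
          have h5 : l ≤ p - 1 := Nat.le_of_dvd (Nat.sub_pos_of_lt hp.one_lt) h1
          have := hp.two_le
          omega
        have hd6 : orderOf (3 : ZMod p) ∣ 6 :=
          (hcop.coprime_dvd_left hd2).dvd_of_dvd_mul_right hd1
        have h728 : p ∣ 728 := by
          rw [← ZMod.natCast_eq_zero_iff]
          have := orderOf_dvd_iff_pow_eq_one.1 hd6
          push_cast
          linear_combination this
        have hp7 : p = 7 := by
          have hp2 : p ≠ 2 := fun h => by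
            have := Nat.odd_iff.1 (D.card_Φ_odd.of_dvd_nat hpdvd); omega
          rw [show 728 = 2 ^ 3 * (7 * 13) from rfl] at h728
          rcases hp.dvd_mul.1 h728 with h | h
          · exact absurd ((Nat.prime_dvd_prime_iff_eq hp Nat.prime_two).1 (hp.dvd_of_dvd_pow h)) hp2
          rcases hp.dvd_mul.1 h with h | h
          · exact (Nat.prime_dvd_prime_iff_eq hp (by norm_num)).1 h
          · exfalso
            have h13 : p = 13 := (Nat.prime_dvd_prime_iff_eq hp (by norm_num)).1 h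
            clear_value p
            subst h13
            rw [← pow_mul, mul_comm, pow_mul, thirteen.1, one_pow] at hcube
            exact thirteen.2 hcube
        refine ⟨hp7, fun hsq => ?_, ?_⟩
        · rw [hk] at hsq
          push_cast at hsq
          have e2 : (3 : ZMod p) ^ k = 2 := by linear_combination hsq - hR'
          rw [e2] at hsq
          exact h3 (by linear_combination hsq)
        · have h5 : 5 ≤ D.qfix σ := by omega
          obtain ⟨E, hE⟩ := D.exists_soc h5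
          have hσ1 : σ ≠ 1 := fun h => by
            have := hσ.2.2
            rw [h, orderOf_one] at this
            exact (Nat.one_lt_pow (hp.factorization_pos_of_dvd Nat.card_pos.ne' hpdvd).ne' hp.one_lt).ne this
          rcases hE.index_val h5 hσ1 with ⟨-, hi⟩ | ⟨h, -⟩
          · rw [hi, hk]
            exact Data.not_fortynine (hp7 ▸ hkp)
          · omega
      · exfalso
        rw [hk] at h
        have : 5 ∣ 3 ^ k := ⟨1, h⟩
        exact absurd ((Nat.prime_dvd_prime_iff_eq (by norm_num) Nat.prime_three).1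
          ((show Nat.Prime 5 by norm_num).dvd_of_dvd_pow this)) (by norm_num)
      · refine ⟨hp7, ?_, D.index_three h⟩
        rw [h]
        clear_value p
        subst hp7
        exact seven_three
    obtain ⟨hp7, h2, hidx⟩ := h7
    obtain ⟨z, w, j, hz, -, hzf, hfz, hfw, hwz, hj1, hj2⟩ := D.pair_seven σ
    refine D.part_absurd hσ ?_ h2 (hp7.symm ▸ hidx) (hp7.symm ▸ hz) hzf hfz hfw hwz (hp7.symm ▸ hj1)
      (hp7.symm ▸ hj2)
    rw [ne_eq, ZMod.natCast_eq_zero_iff, hk]
    exact fun h => hp3 ((Nat.prime_dvd_prime_iff_eq hp Nat.prime_three).1 (hp.dvd_of_dvd_pow h))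
  · -- five common fixed elements
    have hc5 := hrc 5 (by norm_num) hb
    obtain ⟨p, hp, hpdvd⟩ := Nat.exists_prime_and_dvd hc1
    obtain ⟨σ, hσ⟩ := D.exists_isPart hp hpdvd
    rcases cases D p σ hσ with ⟨-, h⟩ | ⟨-, h, -⟩ | ⟨h5, hp'⟩ | ⟨h, -⟩
    · omega
    · omega
    · have h5' : 5 ≤ D.qfix σ := h5.ge
      have hσ1 : σ ≠ 1 := fun h => by
        have := hσ.2.2
        rw [h, orderOf_one] at this
        exact (Nat.one_lt_pow (hp.factorization_pos_of_dvd Nat.card_pos.ne' hpdvd).ne' hp.one_lt).ne this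
      obtain ⟨E, hE⟩ := D.exists_soc h5'
      have hidx : (cen (D.tb σ)).index = 1463 := by
        rcases hE.index_val h5' hσ1 with ⟨⟨m, -, hm⟩, -⟩ | ⟨-, h⟩
        · exfalso
          rw [h5] at hm
          have : 5 ∣ 3 ^ (2 * m + 1) := hm ▸ dvd_refl 5
          exact absurd ((Nat.prime_dvd_prime_iff_eq (by norm_num) Nat.prime_three).1
            ((show Nat.Prime 5 by norm_num).dvd_of_dvd_pow this)) (by norm_num)
        · exact h
      haveI := hE.simple
      obtain ⟨K', k1, k2, ek, ι, hK', hodd', -, hι, hran, -, -⟩ := hE.exists_iota h5' hσ1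
      have hEc : Nat.card E = 175560 := by
        rw [← (cen hE.tE).index_mul_card, ← hE.index_eq h5', hidx,
          Nat.card_congr ((MulEquiv.subgroupCongr hran.symm).trans (MonoidHom.ofInjective hι).symm).toEquiv,
          Nat.card_prod, card_C2, Walter8.two_mul_card_psl hodd', hK', h5]
        norm_num
      obtain ⟨x, g, j, hx, hgx, hj1, hj2⟩ := j1_auto hEc hp'
      obtain ⟨z, w, hz, hzf, hfz, hfw, hwz⟩ := D.pair_of_bar hp (u := (x : D.Hbar σ)) (g := (g : D.Hbar σ))
        (by rw [Subgroup.orderOf_coe, hx]) (by rw [← Subgroup.coe_pow, ← hgx]; rfl) hj1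
      obtain ⟨e1, e2, e3⟩ := j1_mod hp'
      exact D.part_absurd hσ (by rw [h5]; exact e1) (by rw [h5]; exact e2) (by rw [hidx]; exact e3) hz hzf
        hfz hfw hwz hj1 hj2
    · have := D.qbot_le σ
      omega

end Cfsg.Agent.NoField
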