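import Cfsg.Agent.Lib.NoField.MainSmall
import Cfsg.Agent.Lib.NoField.Small

/-!
The field automorphisms are eliminated.
-/

set_option autoImplicit false

namespace Cfsg.Agent.NoField

universe u

/-- The centraliser of an involution has no field automorphisms. -/
theorem noFieldStmt : Walter8.NoFieldStmt.{u} :=
  noFieldStmt_of_small fun _ _ _ D => small D

end Cfsg.Agent.NoField
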