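import Cfsg.Agent.Lib.NoField.Ind
import Cfsg.Agent.Lib.NoField.Facts
import Cfsg.Agent.Lib.Char.ChiefRestrict
import Cfsg.Agent.Lib.Blocks.Block
import Cfsg.Agent.Lib.Blocks.LocalRing

/-!
The section of the involution `t`: the twisted columns of the functions `fixN` and `4 - 2 fixN` on the
elements of odd order of `X`, and their Gram numbers.
-/

set_option autoImplicit false
set_option linter.style.haveILetI false
set_option linter.unusedSectionVars false

namespace Cfsg.Agent.NoField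

open Subgroup Cfsg Cfsg.Agent.Char Cfsg.Agent.Walter8
open scoped ComplexConjugate Classical

universe u

variable {G : Type u} [Group G]

/-- An element of order two times an element of odd order, raised to an odd multiple of that order. -/
theorem sec_pow {t x : G} (ht : t * t = 1) (hc : Commute t x) {N : ℕ} (hN : Odd N)
    (hd : orderOf x ∣ N) : (t * x) ^ N = t := by
  obtain ⟨k, hk⟩ := hN
  rw [hc.mul_pow, orderOf_dvd_iff_pow_eq_one.1 hd, mul_one, hk, pow_succ, pow_mul, pow_two, ht, one_pow,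
    one_mul]

variable [Fintype G] (D : Data G)

namespace Data

/-- `X` inside the centraliser of `t`. -/
def XC : D.X →* cen D.t := inclusion D.X_le

/-- `t` inside its centraliser. -/
def tC : cen D.t := ⟨D.t, mem_centralizer_singleton_iff.2 rfl⟩

theorem coe_XC (x : D.X) : (D.XC x : G) = x := rfl

theorem coe_tC : (D.tC : G) = D.t := rfl

theorem tC_sq : D.tC * D.tC = 1 := Subtype.ext D.t_sq

theorem tC_comm (g : cen D.t) : g * D.tC = D.tC * g :=
  Subtype.ext (mem_centralizer_singleton_iff.1 g.2)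

theorem cases_C (g : cen D.t) : (∃ x, g = D.XC x) ∨ ∃ x, g = D.tC * D.XC x := by
  rcases D.dec g g.2 with h | h
  · exact Or.inl ⟨⟨g, h⟩, rfl⟩
  · exact Or.inr ⟨⟨_, h⟩, Subtype.ext (show (g : G) = D.t * (D.t * g) by
      rw [← mul_assoc, D.t_sq, one_mul])⟩

theorem t_mul_notMem {x : G} (hx : x ∈ D.X) : D.t * x ∉ D.X := fun h =>
  D.t_notMem (by simpa using mul_mem h (inv_mem hx))

/-- The sign: `1` on `X` and `-1` outside. -/
noncomputable def sgnC (g : cen D.t) : ℂ := if (g : G) ∈ D.X then 1 else -1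

theorem sgnC_X (x : D.X) : D.sgnC (D.XC x) = 1 := if_pos x.2

theorem sgnC_t (x : D.X) : D.sgnC (D.tC * D.XC x) = -1 := if_neg (D.t_mul_notMem x.2)

/-- The projection of the centraliser onto `X`, as a function. -/
noncomputable def pXfun (g : cen D.t) : D.X :=
  if h : (g : G) ∈ D.X then ⟨g, h⟩ else ⟨D.t * g, (D.dec g g.2).resolve_left h⟩

theorem pXfun_X (x : D.X) : D.pXfun (D.XC x) = x := dif_pos x.2

theorem pXfun_t (x : D.X) : D.pXfun (D.tC * D.XC x) = x := by
  rw [pXfun, dif_neg (show ((D.tC * D.XC x : cen D.t) : G) ∉ D.X from D.t_mul_notMem x.2)]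
  exact Subtype.ext (show D.t * (D.t * x) = x by rw [← mul_assoc, D.t_sq, one_mul])

theorem XC_mul_tC (x y : D.X) : D.XC x * (D.tC * D.XC y) = D.tC * D.XC (x * y) := by
  rw [map_mul, ← mul_assoc, D.tC_comm, mul_assoc]

theorem tC_mul_tC (x y : D.X) : D.tC * D.XC x * (D.tC * D.XC y) = D.XC (x * y) := by
  rw [mul_assoc, D.XC_mul_tC, ← mul_assoc, D.tC_sq, one_mul]

/-- The projection of the centraliser onto `X`. -/
noncomputable def pX : cen D.t →* D.X := MonoidHom.mk' D.pXfun fun g h => by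
  rcases D.cases_C g with ⟨x, rfl⟩ | ⟨x, rfl⟩ <;> rcases D.cases_C h with ⟨y, rfl⟩ | ⟨y, rfl⟩
  · rw [← map_mul, D.pXfun_X, D.pXfun_X, D.pXfun_X]
  · rw [D.XC_mul_tC, D.pXfun_X, D.pXfun_t, D.pXfun_t]
  · rw [mul_assoc, ← map_mul, D.pXfun_X, D.pXfun_t, D.pXfun_t]
  · rw [D.tC_mul_tC, D.pXfun_X, D.pXfun_t, D.pXfun_t]

theorem pX_X (x : D.X) : D.pX (D.XC x) = x := D.pXfun_X x

theorem pX_t (x : D.X) : D.pX (D.tC * D.XC x) = x := D.pXfun_t x

/-- The sign as a homomorphism. -/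
noncomputable def sgnHom : cen D.t →* ℂˣ :=
  MonoidHom.mk' (fun g => if (g : G) ∈ D.X then 1 else -1) fun g h => by
    have hX : ∀ z : D.X, ((D.XC z : cen D.t) : G) ∈ D.X := fun z => z.2
    have ht : ∀ z : D.X, ((D.tC * D.XC z : cen D.t) : G) ∉ D.X := fun z => D.t_mul_notMem z.2
    rcases D.cases_C g with ⟨x, rfl⟩ | ⟨x, rfl⟩ <;> rcases D.cases_C h with ⟨y, rfl⟩ | ⟨y, rfl⟩
    · rw [← map_mul, if_pos (hX _), if_pos (hX _), if_pos (hX _), one_mul]
    · rw [D.XC_mul_tC, if_neg (ht _), if_pos (hX _), if_neg (ht _), one_mul]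
    · rw [mul_assoc, ← map_mul, if_neg (ht _), if_neg (ht _), if_pos (hX _), mul_one]
    · rw [D.tC_mul_tC, if_pos (hX _), if_neg (ht _), if_neg (ht _), neg_one_mul, neg_neg]

theorem sgnHom_coe (g : cen D.t) : (D.sgnHom g : ℂ) = D.sgnC g := by
  show ((if (g : G) ∈ D.X then (1 : ℂˣ) else -1 : ℂˣ) : ℂ) = _
  unfold sgnC
  split_ifs <;> simp

/-- The two cosets of `X` in the centraliser. -/
theorem sum_C (F : cen D.t → ℂ) :
    ∑ g, F g = (∑ x : D.X, F (D.XC x)) + ∑ x : D.X, F (D.tC * D.XC x) := by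
  refine Eq.trans (Fintype.sum_bijective (Sum.elim (fun x => D.XC x) fun x => D.tC * D.XC x) ⟨?_, ?_⟩
    (fun p => F (Sum.elim (fun x => D.XC x) (fun x => D.tC * D.XC x) p)) F fun _ => rfl).symm
    (Fintype.sum_sum_type _)
  · rintro (x | x) (y | y) h <;> simp only [Sum.elim_inl, Sum.elim_inr] at h
    · exact congrArg Sum.inl (inclusion_injective _ h)
    · have h' : (x : G) = D.t * (y : G) := congrArg (fun z : cen D.t => (z : G)) h
      exact absurd (h' ▸ x.2) (D.t_mul_notMem y.2)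
    · have h' : D.t * (x : G) = (y : G) := congrArg (fun z : cen D.t => (z : G)) h
      exact absurd (h'.symm ▸ y.2) (D.t_mul_notMem x.2)
    · exact congrArg Sum.inr (inclusion_injective _ (mul_left_cancel h))
  · intro g
    rcases D.cases_C g with ⟨x, h⟩ | ⟨x, h⟩
    exacts [⟨Sum.inl x, h.symm⟩, ⟨Sum.inr x, h.symm⟩]

theorem card_C : Nat.card (cen D.t) = 2 * Nat.card D.X := by
  have h := D.sum_C fun _ => 1
  simp only [Finset.sum_const, Finset.card_univ, nsmul_eq_mul, mul_one] at h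
  rw [Nat.card_eq_fintype_card, Nat.card_eq_fintype_card, two_mul]
  exact_mod_cast h

theorem t_X_comm (x : D.X) : Commute D.t (x : G) := (D.X_comm x.2).symm

theorem sec_pow' (x : D.X) {N : ℕ} (hN : Odd N) (hd : orderOf x ∣ N) : (D.t * (x : G)) ^ N = D.t :=
  sec_pow D.t_sq (D.t_X_comm x) hN (by rwa [Subgroup.orderOf_coe])

/-- Fusion in the section is controlled by the centraliser of `t`. -/
theorem sec_ti {g : G} {x y : D.X} (hx : Odd (orderOf x)) (hy : Odd (orderOf y))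
    (h : g * (D.t * x) * g⁻¹ = D.t * y) : g ∈ cen D.t := by
  have h1 := congrArg (· ^ (orderOf x * orderOf y)) h
  simp only [conj_pow] at h1
  rw [D.sec_pow' x (hx.mul hy) (Dvd.intro _ rfl), D.sec_pow' y (hx.mul hy) (Dvd.intro_left _ rfl)] at h1
  exact mem_centralizer_singleton_iff.2 (mul_inv_eq_iff_eq_mul.1 h1)

theorem sec_not_odd {x : D.X} (hx : Odd (orderOf x)) : ¬ Odd (orderOf (D.t * (x : G))) := fun h => by
  have h1 := D.sec_pow' x (h.mul hx) (Dvd.intro_left _ rfl)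
  rw [pow_mul, pow_orderOf_eq_one, one_pow] at h1
  exact D.t_ne h1.symm

/-- A function on `X`, moved to the section. -/
noncomputable def liftF (P : D.X → ℂ) (g : cen D.t) : ℂ := (1 - D.sgnC g) * P (D.pX g)

theorem liftF_X (P : D.X → ℂ) (x : D.X) : D.liftF P (D.XC x) = 0 := by
  rw [liftF, D.sgnC_X, sub_self, zero_mul]

theorem liftF_t (P : D.X → ℂ) (x : D.X) : D.liftF P (D.tC * D.XC x) = 2 * P x := by
  rw [liftF, D.sgnC_t, D.pX_t]; ring

theorem liftF_gen {P : D.X → ℂ} (hP : IsGeneralizedCharacter D.X P) :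
    IsGeneralizedCharacter (cen D.t) (D.liftF P) := by
  have h1 := IsGeneralizedCharacter.comp hP D.pX
  have h2 : IsGeneralizedCharacter (cen D.t) (fun g => (D.sgnHom g : ℂ)) :=
    IsGeneralizedCharacter.of_isCharacter (IsIrrCharacter.isCharacter (isIrrCharacter_linear _))
  have e : D.liftF P = (fun g => P (D.pX g)) -
      (fun g => (D.sgnHom g : ℂ)) * fun g => P (D.pX g) := funext fun g => by
    simp only [liftF, Pi.sub_apply, Pi.mul_apply, D.sgnHom_coe]; ring
  rw [e]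
  exact IsGeneralizedCharacter.sub h1 (IsGeneralizedCharacter.mul h2 h1)

/-- The multiplicities of a function of the section. -/
noncomputable def scol {P : D.X → ℂ} (hP : IsGeneralizedCharacter D.X P) (χ : IrrCharacter G) : ℤ :=
  icoef (D.liftF_gen hP) χ

theorem scol_spec {P : D.X → ℂ} (hP : IsGeneralizedCharacter D.X P) (χ : IrrCharacter G) :
    (D.scol hP χ : ℂ) * (Nat.card D.X : ℂ) = ∑ x : D.X, conj (P x) * (χ : G → ℂ) (D.t * x) := by
  have h := icoef_spec (D.liftF_gen hP) χ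
  rw [D.card_C, D.sum_C] at h
  simp only [D.liftF_X, D.liftF_t, map_zero, zero_mul, Finset.sum_const_zero, zero_add, map_mul,
    map_ofNat, mul_assoc, Subgroup.coe_mul, coe_tC, coe_XC] at h
  rw [← Finset.mul_sum] at h
  refine mul_left_cancel₀ (two_ne_zero (α := ℂ)) ?_
  rw [← h]
  show 2 * ((icoef (D.liftF_gen hP) χ : ℂ) * (Nat.card D.X : ℂ)) = _
  push_cast
  ring

/-- The induced function on the section. -/
theorem scol_value {P : D.X → ℂ} (hP : IsGeneralizedCharacter D.X P)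
    (hodd : ∀ x, P x ≠ 0 → Odd (orderOf x)) {x : D.X} (hx : Odd (orderOf x)) :
    ∑ χ, (D.scol hP χ : ℂ) * (χ : G → ℂ) (D.t * x) = 2 * P x := by
  rw [show (D.t * (x : G)) = ((D.tC * D.XC x : cen D.t) : G) from rfl]
  refine (icoef_value_of_ti (D.liftF_gen hP) fun g hg => ?_).trans ((ev_coe _ _).trans (D.liftF_t P x))
  by_cases hm : g * ((D.tC * D.XC x : cen D.t) : G) * g⁻¹ ∈ cen D.t
  · rw [show g * ((D.tC * D.XC x : cen D.t) : G) * g⁻¹ = ((⟨_, hm⟩ : cen D.t) : G) from rfl, ev_coe] at hg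
    rcases D.cases_C ⟨_, hm⟩ with ⟨y, hy⟩ | ⟨y, hy⟩
    · rw [hy, D.liftF_X] at hg; exact absurd rfl hg
    · rw [hy, D.liftF_t] at hg
      exact D.sec_ti hx (hodd y (right_ne_zero_of_mul hg)) (congrArg Subtype.val hy)
  · exact absurd (ev_of_not_mem _ hm) hg

/-- The induced function vanishes off the section. -/
theorem scol_zero {P : D.X → ℂ} (hP : IsGeneralizedCharacter D.X P)
    (hodd : ∀ x, P x ≠ 0 → Odd (orderOf x)) {y : G}
    (hy : ∀ (g : G) (x : D.X), Odd (orderOf x) → g * y * g⁻¹ ≠ D.t * x) :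
    ∑ χ, (D.scol hP χ : ℂ) * (χ : G → ℂ) y = 0 := by
  refine icoef_value_zero (D.liftF_gen hP) fun g => ?_
  by_cases hm : g * y * g⁻¹ ∈ cen D.t
  · rw [show g * y * g⁻¹ = ((⟨_, hm⟩ : cen D.t) : G) from rfl, ev_coe]
    rcases D.cases_C ⟨_, hm⟩ with ⟨x, hx⟩ | ⟨x, hx⟩
    · rw [hx, D.liftF_X]
    · rw [hx, D.liftF_t]
      by_contra h
      exact hy g x (hodd x (right_ne_zero_of_mul h)) (congrArg Subtype.val hx)
  · exact ev_of_not_mem _ hm

theorem scol_zero_odd {P : D.X → ℂ} (hP : IsGeneralizedCharacter D.X P)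
    (hodd : ∀ x, P x ≠ 0 → Odd (orderOf x)) {y : G} (hy : Odd (orderOf y)) :
    ∑ χ, (D.scol hP χ : ℂ) * (χ : G → ℂ) y = 0 :=
  D.scol_zero hP hodd fun g x hx h => D.sec_not_odd hx (by
    rw [← h]
    exact (orderOf_injective (MulAut.conj g).toMonoidHom (MulAut.conj g).injective y).symm ▸ hy)

theorem scol_deg {P : D.X → ℂ} (hP : IsGeneralizedCharacter D.X P)
    (hodd : ∀ x, P x ≠ 0 → Odd (orderOf x)) :
    ∑ χ, (D.scol hP χ : ℂ) * (χ : G → ℂ) 1 = 0 :=
  D.scol_zero_odd hP hodd (by rw [orderOf_one]; exact odd_one)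

/-- Gram numbers in the section. -/
theorem scol_gram {P P' : D.X → ℂ} (hP : IsGeneralizedCharacter D.X P)
    (hP' : IsGeneralizedCharacter D.X P') (hodd : ∀ x, P x ≠ 0 → Odd (orderOf x))
    (hodd' : ∀ x, P' x ≠ 0 → Odd (orderOf x)) :
    (∑ χ, (D.scol hP χ : ℂ) * (D.scol hP' χ : ℂ)) * (Nat.card D.X : ℂ) =
      2 * ∑ x : D.X, conj (P x) * P' x := by
  have h := icoef_weight (D.liftF_gen hP) (fun χ => (D.scol hP' χ : ℂ))
  rw [D.card_C, D.sum_C] at h
  simp only [D.liftF_X, D.liftF_t, map_zero, zero_mul, Finset.sum_const_zero, zero_add, map_mul,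
    map_ofNat, Subgroup.coe_mul, coe_tC, coe_XC] at h
  have e : ∀ x : D.X, 2 * conj (P x) * ∑ χ, (D.scol hP' χ : ℂ) * (χ : G → ℂ) (D.t * x) =
      4 * (conj (P x) * P' x) := fun x => by
    by_cases h0 : P x = 0
    · simp [h0]
    · rw [D.scol_value hP' hodd' (hodd x h0)]; ring
  rw [Finset.sum_congr rfl fun x _ => e x, ← Finset.mul_sum] at h
  refine mul_left_cancel₀ (two_ne_zero (α := ℂ)) ?_
  change (∑ χ, (D.scol hP χ : ℂ) * (D.scol hP' χ : ℂ)) * _ = _ at h
  push_cast at h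
  linear_combination h

/-- A linear character of `Φ`, read on `X`. -/
def tw (μ : D.Φ →* ℂˣ) : D.X →* ℂˣ := μ.comp D.pr

theorem card_X_two : Nat.card D.X ∣ Nat.card G ∧ ¬ 8 ∣ Nat.card D.X := by
  refine ⟨card_subgroup_dvd_card _, fun h => D.sixteen ?_⟩
  refine dvd_trans ?_ (card_subgroup_dvd_card (cen D.t))
  rw [D.card_C, show 16 = 2 * 8 from rfl]
  exact mul_dvd_mul_left 2 h

/-- An element of `jΦ` has a class of odd size in `X`. -/
theorem index_cen_jΦ (σ : D.Φ) : Odd (centralizer ({D.jΦX σ} : Set D.X)).index := by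
  set K := centralizer ({D.jΦX σ} : Set D.X)
  set f : (D.S.subgroupOf (cen D.t)) →* D.X := D.pX.comp (D.S.subgroupOf (cen D.t)).subtype
  have hcomm : ∀ a : cen D.t, (a : G) ∈ D.S → D.pX a ∈ K := fun a ha => by
    rw [mem_centralizer_singleton_iff]
    have h1 : D.XC (D.jΦX σ) * a = a * D.XC (D.jΦX σ) := Subtype.ext (D.jΦ_comm_S σ ha)
    have h2 := congrArg D.pX h1
    rw [map_mul, map_mul, D.pX_X] at h2
    exact h2.symm
  have hSle : D.S ≤ cen D.t := fun a ha => mem_centralizer_singleton_iff.2 (D.S_comm ha D.t_mem_S)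
  have hle : f.range ≤ K := by
    rintro _ ⟨⟨a, ha⟩, rfl⟩
    exact hcomm a (mem_subgroupOf.1 ha)
  have hker : Nat.card f.ker ≤ 2 := by
    let j : Bool → cen D.t := fun b => if b then D.tC else 1
    have hj : ∀ b, j b ∈ D.S.subgroupOf (cen D.t) := fun b => by
      cases b
      exacts [one_mem _, mem_subgroupOf.2 D.t_mem_S]
    have hj' : ∀ b, (⟨j b, hj b⟩ : D.S.subgroupOf (cen D.t)) ∈ f.ker := fun b => by
      rw [MonoidHom.mem_ker]
      show D.pX (j b) = 1
      cases b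
      · exact map_one _
      · have := D.pX_t 1
        rwa [map_one, mul_one] at this
    have hsur : Function.Surjective (fun b => (⟨⟨j b, hj b⟩, hj' b⟩ : f.ker)) := by
      rintro ⟨⟨a, ha⟩, hk⟩
      rw [MonoidHom.mem_ker] at hk
      change D.pX a = 1 at hk
      rcases D.cases_C a with ⟨x, rfl⟩ | ⟨x, rfl⟩
      · rw [D.pX_X] at hk
        exact ⟨false, Subtype.ext (Subtype.ext (show (1 : cen D.t) = D.XC x by rw [hk, map_one]))⟩
      · rw [D.pX_t] at hk
        exact ⟨true, Subtype.ext (Subtype.ext (show D.tC = D.tC * D.XC x by rw [hk, map_one, mul_one]))⟩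
    exact (Nat.card_le_card_of_surjective _ hsur).trans (by simp)
  have h4 : 4 ∣ Nat.card K := by
    refine dvd_trans ?_ (card_dvd_of_le hle)
    have h := f.ker.card_mul_index
    rw [Subgroup.index_ker, Nat.card_congr (subgroupOfEquivOfLe hSle).toEquiv, D.card_S] at h
    have h0 : 0 < Nat.card f.ker := Nat.card_pos
    interval_cases Nat.card f.ker <;> omega
  rw [← Nat.not_even_iff_odd, even_iff_two_dvd]
  intro h2
  refine D.card_X_two.2 ?_
  rw [← K.card_mul_index]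
  exact Nat.mul_dvd_mul h4 h2

end Data

variable {D} {M : Main D} (XF : XFacts M)

/-- A twisted character of the principal block of `X`. -/
noncomputable def XFacts.tch (μ : D.Φ →* ℂˣ) (j : Fin 4) : IrrCharacter D.X :=
  ⟨fun x => (D.tw μ x : ℂ) * (XF.ξ j : D.X → ℂ) x, ChiefRestrict.isIrr_mul_linear (XF.ξ j).2 (D.tw μ)⟩

/-- Only the trivial twist keeps the principal block. -/
theorem XFacts.twist_trivial (ν : D.Φ →* ℂˣ) {i j : Fin 4}
    (h : ∀ x : D.X, (XF.ξ j : D.X → ℂ) x = (D.tw ν x : ℂ) * (XF.ξ i : D.X → ℂ) x) : ν = 1 := by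
  haveI := Blocks.IsPModular.isPrime XF.modular
  haveI : Finite D.Φ := Finite.of_injective _ D.jΦ_inj
  refine MonoidHom.ext fun σ => ?_
  set x := D.jΦX σ
  have hblock : ∀ k : Fin 4, MemLocalIdeal XF.I
      (centralChar (fun _ : D.X => (1 : ℂ)) x - centralChar (XF.ξ k : D.X → ℂ) x) := fun k => by
    have hk : XF.ξ k ∈ principalBlock XF.I D.X := by rw [XF.block]; exact ⟨k, rfl⟩
    exact hk x
  have h1x : (D.tw ν x : ℂ) = (ν σ : ℂ) := by
    show ((ν (D.pr (D.jΦX σ)) : ℂˣ) : ℂ) = _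
    rw [D.pr_jΦ]
  have h11 : (D.tw ν 1 : ℂ) = 1 := by simp
  set n := (centralizer ({x} : Set D.X)).index with hn
  have hone : centralChar (fun _ : D.X => (1 : ℂ)) x = (n : ℂ) := by simp [centralChar, ← hn]
  have hcc : centralChar (XF.ξ j : D.X → ℂ) x = (ν σ : ℂ) * centralChar (XF.ξ i : D.X → ℂ) x := by
    simp only [centralChar, h x, h 1, h1x, h11, one_mul]
    ring
  have hz : (ν σ : ℂˣ) ^ Nat.card D.Φ = 1 := by rw [← map_pow, pow_card_eq_one', map_one]
  have hzC : ((ν σ : ℂˣ) : ℂ) ^ Nat.card D.Φ = 1 := by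
    rw [← Units.val_pow_eq_pow_val, hz, Units.val_one]
  have hint : IsIntegral ℤ ((ν σ : ℂˣ) : ℂ) :=
    IsIntegral.of_pow (Nat.card_pos (α := D.Φ)) (by rw [hzC]; exact isIntegral_one)
  have hring : MemLocalRing XF.I ((ν σ : ℂˣ) : ℂ) := Blocks.mem_locRing_of_isIntegral hint
  have h2 : MemLocalIdeal XF.I ((1 - ((ν σ : ℂˣ) : ℂ)) * (n : ℂ)) := by
    have hi := hblock i
    have hj := hblock j
    rw [hone] at hi hj
    rw [hcc] at hj
    have := Blocks.MemLocalIdeal.sub hj (Blocks.MemLocalIdeal.mul_left hring hi)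
    convert this using 1
    ring
  have hodd : ¬ 2 ∣ n := fun hd => Nat.not_even_iff_odd.2 (D.index_cen_jΦ σ) (even_iff_two_dvd.2 hd)
  have h3 : MemLocalIdeal XF.I (1 - ((ν σ : ℂˣ) : ℂ)) := by
    have := Blocks.MemLocalIdeal.mul_right h2 (Blocks.inv_natCast_memLocalRing XF.modular hodd)
    rwa [mul_assoc, mul_inv_cancel₀ (by exact_mod_cast fun h0 => hodd (by simp [h0])), mul_one] at this
  have h4 := Blocks.eq_of_sub_mem_of_pow_eq_one XF.modular (a := 1) (b := ⟨_, hint⟩)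
    (m := Nat.card D.Φ) (fun hd => Nat.not_even_iff_odd.2 D.card_Φ_odd (even_iff_two_dvd.2 hd))
    (one_pow _) (Subtype.ext (by simpa using hzC))
    ((Blocks.memLocalIdeal_coe_iff _).1 (by simpa using h3))
  exact Units.ext (congrArg Subtype.val h4).symm

theorem XFacts.tch_inj {μ ν : D.Φ →* ℂˣ} {i j : Fin 4} (h : XF.tch μ i = XF.tch ν j) :
    μ = ν ∧ i = j := by
  have h' : ∀ x : D.X, (D.tw μ x : ℂ) * (XF.ξ i : D.X → ℂ) x = (D.tw ν x : ℂ) * (XF.ξ j : D.X → ℂ) x :=
    fun x => congrFun (congrArg Subtype.val h) x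
  have he : μ = ν := by
    refine div_eq_one.1 (XF.twist_trivial (μ / ν) (i := i) (j := j) fun x => ?_)
    show _ = (((μ / ν) (D.pr x) : ℂˣ) : ℂ) * _
    rw [MonoidHom.div_apply, Units.val_div_eq_div_val, div_mul_eq_mul_div, eq_div_iff (Units.ne_zero _),
      mul_comm]
    exact (h' x).symm
  refine ⟨he, XF.ξ_inj (Subtype.ext (funext fun x => ?_))⟩
  have := h' x
  rw [he] at this
  exact mul_left_cancel₀ (Units.ne_zero _) this

/-- The combination of the signed characters giving `fixN`. -/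
def vb : Fin 4 → ℤ := ![1, -1, 0, 0]

/-- The combination of the signed characters giving `4 - 2 fixN` on odd elements. -/
def ve : Fin 4 → ℤ := ![1, 1, -1, -1]

/-- A twisted combination of the signed characters. -/
noncomputable def XFacts.comb (μ : D.Φ →* ℂˣ) (c : Fin 4 → ℤ) (x : D.X) : ℂ :=
  ∑ j, ((c j * XF.sgn j : ℤ) : ℂ) * (XF.tch μ j : D.X → ℂ) x

theorem XFacts.comb_gen (μ : D.Φ →* ℂˣ) (c : Fin 4 → ℤ) :
    IsGeneralizedCharacter D.X (XF.comb μ c) := by
  have h : IsGeneralizedCharacter D.X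
      (∑ j : Fin 4, ((c j * XF.sgn j : ℤ) : ℂ) • (XF.tch μ j : D.X → ℂ)) :=
    isGeneralizedCharacter_sum _ fun j _ =>
      IsGeneralizedCharacter.int_smul (IsGeneralizedCharacter.of_isCharacter
        (IsIrrCharacter.isCharacter (XF.tch μ j).2)) _
  convert h using 1
  funext x
  simp [XFacts.comb, Finset.sum_apply]

theorem XFacts.comb_inner (μ ν : D.Φ →* ℂˣ) (c d : Fin 4 → ℤ) :
    ∑ x : D.X, conj (XF.comb μ c x) * XF.comb ν d x =
      if μ = ν then (Nat.card D.X : ℂ) * ((∑ j, c j * d j : ℤ) : ℂ) else 0 := by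
  have horth : ∀ i j, ∑ x : D.X, conj ((XF.tch μ i : D.X → ℂ) x) * (XF.tch ν j : D.X → ℂ) x =
      if μ = ν ∧ i = j then (Nat.card D.X : ℂ) else 0 := fun i j => by
    have h := classInner_irr (XF.tch ν j).2 (XF.tch μ i).2
    rw [Cfsg.classInner, inv_mul_eq_iff_eq_mul₀ (Nat.cast_ne_zero.2 Nat.card_pos.ne')] at h
    rw [show (∑ x : D.X, conj ((XF.tch μ i : D.X → ℂ) x) * (XF.tch ν j : D.X → ℂ) x) =
      ∑ x : D.X, (XF.tch ν j : D.X → ℂ) x * conj ((XF.tch μ i : D.X → ℂ) x) from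
      Finset.sum_congr rfl fun x _ => mul_comm _ _, h]
    by_cases he : μ = ν ∧ i = j
    · rw [if_pos he, if_pos (by rw [he.1, he.2]), mul_one]
    · rw [if_neg he, if_neg fun hc => he (by
        obtain ⟨a, b⟩ := XF.tch_inj (Subtype.ext hc)
        exact ⟨a.symm, b.symm⟩), mul_zero]
  calc ∑ x : D.X, conj (XF.comb μ c x) * XF.comb ν d x
      = ∑ i, ∑ j, (((c i * XF.sgn i : ℤ) : ℂ) * ((d j * XF.sgn j : ℤ) : ℂ)) *
          ∑ x : D.X, conj ((XF.tch μ i : D.X → ℂ) x) * (XF.tch ν j : D.X → ℂ) x := by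
        rw [Finset.sum_congr rfl fun x _ => (?_ : conj (XF.comb μ c x) * XF.comb ν d x = ∑ i, ∑ j,
          (((c i * XF.sgn i : ℤ) : ℂ) * ((d j * XF.sgn j : ℤ) : ℂ)) *
            (conj ((XF.tch μ i : D.X → ℂ) x) * (XF.tch ν j : D.X → ℂ) x))]
        · simp only [Finset.mul_sum]
          rw [Finset.sum_comm]
          exact Finset.sum_congr rfl fun i _ => Finset.sum_comm
        · unfold XFacts.comb
          rw [map_sum, Finset.sum_mul]
          refine Finset.sum_congr rfl fun i _ => ?_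
          rw [Finset.mul_sum]
          refine Finset.sum_congr rfl fun j _ => ?_
          rw [map_mul, map_intCast]
          ring
    _ = _ := by
        simp only [horth]
        by_cases he : μ = ν
        · simp only [he, true_and, if_true, mul_ite, mul_zero, Finset.sum_ite_eq, Finset.mem_univ,
            Int.cast_sum, Finset.mul_sum]
          refine Finset.sum_congr rfl fun i _ => ?_
          have hs : ((XF.sgn i : ℤ) : ℂ) * (XF.sgn i : ℂ) = 1 := by
            rcases XF.sgn_unit i with h | h <;> rw [h] <;> norm_num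
          push_cast
          linear_combination ((Nat.card D.X : ℂ) * (c i : ℂ) * (d i : ℂ)) * hs
        · simp [he]

/-- The twisted fixed point function. -/
theorem XFacts.comb_b (μ : D.Φ →* ℂˣ) (x : D.X) :
    XF.comb μ vb x = (D.tw μ x : ℂ) * (D.fixN x : ℂ) := by
  rw [XF.steinberg]
  simp [XFacts.comb, Fin.sum_univ_four, vb, XFacts.tch, XF.sgn_zero, XF.ξ_zero]
  ring

/-- The twisted second function. -/
theorem XFacts.comb_e (μ : D.Φ →* ℂˣ) (x : D.X) :
    XF.comb μ ve x = (D.tw μ x : ℂ) * ((if Odd (orderOf x) then 4 else 0) - 2 * (D.fixN x : ℂ)) := by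
  have h := XF.singular x
  rw [Fin.sum_univ_four] at h
  rw [XF.steinberg]
  simp [XFacts.comb, Fin.sum_univ_four, ve, XFacts.tch, XF.sgn_zero, XF.ξ_zero] at h ⊢
  split_ifs at h ⊢ with ho <;> linear_combination -(D.tw μ x : ℂ) * h

theorem XFacts.comb_b_odd {μ : D.Φ →* ℂˣ} {x : D.X} (h : XF.comb μ vb x ≠ 0) : Odd (orderOf x) := by
  by_contra ho
  exact h (by rw [XF.comb_b, XF.fix_even x ho, Nat.cast_zero, mul_zero])

theorem XFacts.comb_e_odd {μ : D.Φ →* ℂˣ} {x : D.X} (h : XF.comb μ ve x ≠ 0) : Odd (orderOf x) := by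
  by_contra ho
  exact h (by rw [XF.comb_e, if_neg ho, XF.fix_even x ho, Nat.cast_zero]; ring)

/-- The column `b_μ`. -/
noncomputable def XFacts.bc (μ : D.Φ →* ℂˣ) (χ : IrrCharacter G) : ℤ := D.scol (XF.comb_gen μ vb) χ

/-- The column `e_μ`. -/
noncomputable def XFacts.ec (μ : D.Φ →* ℂˣ) (χ : IrrCharacter G) : ℤ := D.scol (XF.comb_gen μ ve) χ

theorem XFacts.bc_spec (μ : D.Φ →* ℂˣ) (χ : IrrCharacter G) :
    (XF.bc μ χ : ℂ) * (Nat.card D.X : ℂ) =
      ∑ x : D.X, conj (D.tw μ x : ℂ) * (D.fixN x : ℂ) * (χ : G → ℂ) (D.t * x) := by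
  refine (D.scol_spec _ χ).trans (Finset.sum_congr rfl fun x _ => ?_)
  rw [XF.comb_b, map_mul, map_natCast]

theorem XFacts.ec_spec (μ : D.Φ →* ℂˣ) (χ : IrrCharacter G) :
    (XF.ec μ χ : ℂ) * (Nat.card D.X : ℂ) = ∑ x : D.X, conj (D.tw μ x : ℂ) *
      ((if Odd (orderOf x) then 4 else 0) - 2 * (D.fixN x : ℂ)) * (χ : G → ℂ) (D.t * x) := by
  refine (D.scol_spec _ χ).trans (Finset.sum_congr rfl fun x _ => ?_)
  rw [XF.comb_e]
  split_ifs <;> simp [map_ofNat]

theorem XFacts.gram (μ ν : D.Φ →* ℂˣ) :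
    ∑ χ, XF.bc μ χ * XF.bc ν χ = (if μ = ν then 4 else 0) ∧
      ∑ χ, XF.ec μ χ * XF.ec ν χ = (if μ = ν then 8 else 0) ∧
      ∑ χ, XF.bc μ χ * XF.ec ν χ = 0 := by
  have key : ∀ (c d : Fin 4 → ℤ), (∀ x, XF.comb μ c x ≠ 0 → Odd (orderOf x)) →
      (∀ x, XF.comb ν d x ≠ 0 → Odd (orderOf x)) →
      ∑ χ, D.scol (XF.comb_gen μ c) χ * D.scol (XF.comb_gen ν d) χ =
        if μ = ν then 2 * ∑ j, c j * d j else 0 := by
    intro c d hc hd
    have h := D.scol_gram (XF.comb_gen μ c) (XF.comb_gen ν d) hc hd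
    rw [XF.comb_inner] at h
    have hX : (Nat.card D.X : ℂ) ≠ 0 := Nat.cast_ne_zero.2 Nat.card_pos.ne'
    split_ifs at h ⊢ with he
    · have h' : ((∑ χ, D.scol (XF.comb_gen μ c) χ * D.scol (XF.comb_gen ν d) χ : ℤ) : ℂ) =
          ((2 * ∑ j, c j * d j : ℤ) : ℂ) := by
        refine mul_right_cancel₀ hX ?_
        push_cast at h ⊢
        linear_combination h
      exact_mod_cast h'
    · have h' : ((∑ χ, D.scol (XF.comb_gen μ c) χ * D.scol (XF.comb_gen ν d) χ : ℤ) : ℂ) = 0 := by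
        refine (mul_eq_zero.1 ?_).resolve_right hX
        push_cast
        rw [h, mul_zero]
      exact_mod_cast h'
  have hb := fun μ => fun x => XF.comb_b_odd (μ := μ) (x := x)
  have he := fun μ => fun x => XF.comb_e_odd (μ := μ) (x := x)
  refine ⟨?_, ?_, ?_⟩
  · refine (key vb vb (hb μ) (hb ν)).trans ?_
    simp [Fin.sum_univ_four, vb]
  · refine (key ve ve (he μ) (he ν)).trans ?_
    simp [Fin.sum_univ_four, ve]
  · refine (key vb ve (hb μ) (he ν)).trans ?_
    simp [Fin.sum_univ_four, vb, ve]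

theorem XFacts.deg_sum (μ : D.Φ →* ℂˣ) :
    ∑ χ, (XF.bc μ χ : ℂ) * (χ : G → ℂ) 1 = 0 ∧ ∑ χ, (XF.ec μ χ : ℂ) * (χ : G → ℂ) 1 = 0 :=
  ⟨D.scol_deg _ fun _ => XF.comb_b_odd, D.scol_deg _ fun _ => XF.comb_e_odd⟩

/-- The two columns at the principal character. -/
theorem XFacts.col_one (μ : D.Φ →* ℂˣ) {χ : IrrCharacter G} (hχ : ∀ g, (χ : G → ℂ) g = 1) :
    XF.bc μ χ = (if μ = 1 then 1 else 0) ∧ XF.ec μ χ = (if μ = 1 then 1 else 0) := by
  have key : ∀ c : Fin 4 → ℤ, c 0 = 1 →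
      D.scol (XF.comb_gen μ c) χ = if μ = 1 then 1 else 0 := by
    intro c hc
    have h := D.scol_spec (XF.comb_gen μ c) χ
    have h1 : ∀ x : D.X, XF.comb 1 (fun j => if j = 0 then 1 else 0) x = 1 := fun x => by
      simp [XFacts.comb, XFacts.tch, Data.tw, XF.sgn_zero, XF.ξ_zero]
    have h2 := XF.comb_inner μ 1 c (fun j => if j = 0 then 1 else 0)
    simp only [h1, mul_one] at h2
    simp only [hχ, mul_one] at h
    rw [h2] at h
    have hX : (Nat.card D.X : ℂ) ≠ 0 := Nat.cast_ne_zero.2 Nat.card_pos.ne'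
    split_ifs at h ⊢ with he
    · simp [hc] at h
      exact h
    · simpa [hX] using h
  exact ⟨key vb rfl, key ve rfl⟩

end Cfsg.Agent.NoField
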