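import Cfsg.Agent.Lib.NoField.Weight
import Cfsg.Agent.Lib.NoField.CPhiCases
import Cfsg.Agent.Lib.NoField.Choose

/-!
The weight lemma applied to a field automorphism: orders and Sylow subgroups.
-/

set_option autoImplicit false
set_option linter.style.haveILetI false
set_option linter.unusedSectionVars false

namespace Cfsg.Agent.NoField

open Subgroup Cfsg.Agent.AutPSL
open Cfsg.Agent.Walter8 (cen)

universe u

variable {G : Type u} [Group G] [Finite G]

namespace Data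

/-- The order of `C(t) ∩ C(f)`. -/
theorem card_cen_inf (D : Data G) (σ : D.Φ) :
    Nat.card ↥(cen D.t ⊓ D.Cf σ) = D.qfix σ * (D.qfix σ ^ 2 - 1) * Nat.card D.Φ := by
  classical
  let f : Bool × fixed (σ : D.F ≃+* D.F) × D.Φ → ↥(cen D.t ⊓ D.Cf σ) := fun p =>
    ⟨(if p.1 then D.t else 1) * (D.jL (p.2.1 : PSL2 D.F) * D.jΦ p.2.2), mul_mem (by
        split_ifs
        exacts [⟨mem_centralizer_singleton_iff.2 rfl, D.t_mem_cf σ⟩, one_mem _])
      ⟨D.X_le (mul_mem (D.jL_mem _) (D.jΦ_mem _)), (D.mem_cf_iff σ _ _).2 p.2.1.2⟩⟩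
  have hX : ∀ (l : PSL2 D.F) (τ : D.Φ), D.jL l * D.jΦ τ ∈ D.X := fun l τ => mul_mem (D.jL_mem _) (D.jΦ_mem _)
  have hf : Function.Bijective f := by
    constructor
    · rintro ⟨a, l, τ⟩ ⟨a', l', τ'⟩ h
      have h' : (if a then D.t else 1) * (D.jL (l : PSL2 D.F) * D.jΦ τ) =
          (if a' then D.t else 1) * (D.jL (l' : PSL2 D.F) * D.jΦ τ') := congrArg Subtype.val h
      have haa : a = a' := by
        cases a <;> cases a' <;> simp only [if_true, one_mul, Bool.false_eq_true, if_false] at h' ⊢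
        · exact absurd ((mul_mem_cancel_right (hX _ _)).1 (h' ▸ hX _ _)) D.t_notMem
        · exact absurd ((mul_mem_cancel_right (hX _ _)).1 (h'.symm ▸ hX _ _)) D.t_notMem
      subst haa
      obtain ⟨h1, h2⟩ := D.prod_unique (mul_left_cancel h')
      rw [Subtype.ext h1, h2]
    · rintro ⟨g, hg1, hg2⟩
      obtain ⟨a, ha, l, hl, τ, rfl⟩ := D.exists_decomp hg1 hg2
      rcases ha with rfl | rfl
      · exact ⟨(false, ⟨l, hl⟩, τ), Subtype.ext (by simp [f])⟩
      · exact ⟨(true, ⟨l, hl⟩, τ), Subtype.ext (by simp [f])⟩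
  rw [← Nat.card_eq_of_bijective f hf, Nat.card_prod, Nat.card_prod, Nat.card_eq_fintype_card (α := Bool),
    Fintype.card_bool, ← mul_assoc, D.two_mul_card_fixed]

theorem qfix_one (D : Data G) : D.qfix 1 = Fintype.card D.F := by
  obtain ⟨K, _, _, hK, -, -, hq, -⟩ := D.qfix_spec 1
  rw [orderOf_one, pow_one] at hq
  rw [hq, hK]

/-- The order of `C(t)`. -/
theorem card_cen_t (D : Data G) :
    Nat.card (cen D.t) = Fintype.card D.F * (Fintype.card D.F ^ 2 - 1) * Nat.card D.Φ := by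
  rw [← D.qfix_one, ← D.card_cen_inf 1,
    show cen D.t ⊓ D.Cf 1 = cen D.t from inf_eq_left.2 fun x _ =>
      mem_centralizer_singleton_iff.2 (by rw [map_one, mul_one, one_mul])]

/-- The order of `C(f)`. -/
theorem card_Cf (D : Data G) (σ : D.Φ) :
    Nat.card (D.Cf σ) = (cen (D.tb σ)).index * Nat.card ↥(cen D.t ⊓ D.Cf σ) := by
  have h : (cen (D.tb σ)).index = (centralizer ({D.tH σ} : Set (D.Cf σ))).index := by
    show (centralizer ({D.pH σ (D.tH σ)} : Set (D.Hbar σ))).index = _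
    rw [D.cen_tbar, index_map_eq _ (D.pH_surj σ) fun x hx => ?_]
    rw [MonoidHom.mem_ker, D.pH_eq_one] at hx
    refine mem_centralizer_singleton_iff.2 (Subtype.ext ?_)
    obtain ⟨i, hi⟩ := mem_zpowers_iff.1 hx
    show (x : G) * D.t = D.t * x
    rw [← hi]
    exact ((show Commute (D.jΦ σ) D.t from (D.t_jΦ σ).symm).zpow_left i).eq
  rw [h, ← (centralizer ({D.tH σ} : Set (D.Cf σ))).index_mul_card]
  refine congrArg _ ?_
  rw [← Nat.card_congr (subgroupOfEquivOfLe (inf_le_right : cen D.t ⊓ D.Cf σ ≤ D.Cf σ)).toEquiv]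
  refine Nat.card_congr (MulEquiv.subgroupCongr (SetLike.ext fun x => ?_)).toEquiv
  rw [mem_subgroupOf, mem_inf, mem_centralizer_singleton_iff, mem_centralizer_singleton_iff]
  exact ⟨fun e => ⟨congrArg Subtype.val e, x.2⟩, fun e => Subtype.ext e.1⟩

theorem not_dvd_psl_part (D : Data G) {p : ℕ} (hp : p.Prime) {σ : D.Φ} {v : ℕ} (hσ : orderOf σ = p ^ v)
    (h1 : (D.qfix σ : ZMod p) ≠ 0) (h2 : (D.qfix σ : ZMod p) ^ 2 ≠ 1) :
    ¬ p ∣ D.qfix σ * (D.qfix σ ^ 2 - 1) ∧ ¬ p ∣ Fintype.card D.F * (Fintype.card D.F ^ 2 - 1) := by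
  haveI : Fact p.Prime := ⟨hp⟩
  have key : ∀ n : ℕ, 0 < n → (n : ZMod p) = D.qfix σ → ¬ p ∣ n * (n ^ 2 - 1) := by
    intro n hn hnq h
    rw [← ZMod.natCast_eq_zero_iff, Nat.cast_mul, Nat.cast_sub (Nat.one_le_pow _ _ hn), Nat.cast_pow,
      Nat.cast_one, hnq] at h
    rcases mul_eq_zero.1 h with h | h
    · exact h1 h
    · exact h2 (sub_eq_zero.1 h)
  refine ⟨key _ ?_ rfl, key _ Fintype.card_pos (D.q_mod_part hp hσ)⟩
  rcases Nat.eq_zero_or_pos (D.qfix σ) with h | h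
  · exact absurd (by rw [h, Nat.cast_zero]) h1
  · exact h

/-- A pair of elements with a weight in `C(f)` refutes the part `σ`. -/
theorem part_absurd (D : Data G) {p : ℕ} {σ : D.Φ} (hσ : D.IsPart p σ)
    (h1 : (D.qfix σ : ZMod p) ≠ 0) (h2 : (D.qfix σ : ZMod p) ^ 2 ≠ 1)
    (hidx : ¬ p * p ∣ (cen (D.tb σ)).index) {z w : G} {k : ℕ} (hz : orderOf z = p)
    (hzf : z ∉ zpowers (D.jΦ σ)) (hfz : D.jΦ σ * z = z * D.jΦ σ) (hfw : D.jΦ σ * w = w * D.jΦ σ)
    (hwz : w * z * w⁻¹ = z ^ k) (hk1 : ¬ k % p = 1) (hk2 : ¬ k ^ 2 % p = 1) : False := by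
  obtain ⟨hp, hpd, hord⟩ := hσ
  haveI : Fact p.Prime := ⟨hp⟩
  set v := (Nat.card D.Φ).factorization p with hv
  have hv0 : 0 < v := hp.factorization_pos_of_dvd Nat.card_pos.ne' hpd
  have hp2 : p ≠ 2 := fun h => by
    subst h
    have := Nat.odd_iff.1 (D.card_Φ_odd.of_dvd_nat hpd); omega
  obtain ⟨hnf, hnt⟩ := D.not_dvd_psl_part hp hord h1 h2
  have hfac : ∀ m : ℕ, ¬ p ∣ m → (m * Nat.card D.Φ).factorization p = v := fun m hm => by
    rw [Nat.factorization_mul (show m ≠ 0 from fun e => hm (by rw [e]; exact dvd_zero p)) Nat.card_pos.ne', Finsupp.add_apply,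
      Nat.factorization_eq_zero_of_not_dvd hm, zero_add]
  have hI : (cen (D.tb σ)).index.factorization p = 1 := by
    have hd : p ∣ (cen (D.tb σ)).index := D.dvd_index hp hv0 hord
    have h0 : (cen (D.tb σ)).index ≠ 0 := index_ne_zero_of_finite
    refine le_antisymm ?_ (hp.factorization_pos_of_dvd h0 hd)
    by_contra hlt
    exact hidx (pow_two p ▸ (hp.pow_dvd_iff_le_factorization h0).2 (by omega))
  have hfo : orderOf (D.jΦ σ) = p ^ v := (D.orderOf_jΦ σ).trans hord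
  refine weight G p hp hp2 (D.jΦ σ) z w v k D.simple D.nc D.no_four hv0 hfo hz hzf hfz hfw hwz hk1 hk2 ?_ ?_ ?_
  · rw [D.card_Cf σ, Nat.factorization_mul index_ne_zero_of_finite Nat.card_pos.ne', Finsupp.add_apply,
      hI, D.card_cen_inf σ, hfac _ hnf, add_comm]
  · intro g a b h
    rw [← map_pow, ← map_pow] at h ⊢
    exact congrArg D.jΦ (D.jΦ_conj h)
  · intro x i hi hxi hx
    obtain ⟨c, hc⟩ := isConj_iff.1 (D.one_class i D.t hi D.t_order)
    have hxt : c * x * c⁻¹ ∈ cen D.t := mem_centralizer_singleton_iff.2 (by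
      rw [← hc]
      calc c * x * c⁻¹ * (c * i * c⁻¹) = c * (x * i) * c⁻¹ := by group
        _ = c * (i * x) * c⁻¹ := by rw [hxi]
        _ = _ := by group)
    let y : cen D.t := ⟨_, hxt⟩
    have hfc : D.jΦ σ ∈ cen D.t := mem_centralizer_singleton_iff.2 (D.t_jΦ σ).symm
    let Q : Sylow p (cen D.t) := Sylow.ofCard (zpowers (⟨D.jΦ σ, hfc⟩ : cen D.t)) (by
      rw [Nat.card_zpowers, ← Subgroup.orderOf_coe, hfo, D.card_cen_t, hfac _ hnt])
    obtain ⟨j, hj⟩ := hx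
    have hy : IsPGroup p (zpowers y) := IsPGroup.of_card (n := j) (by
      rw [Nat.card_zpowers, ← Subgroup.orderOf_coe, show ((y : cen D.t) : G) = MulAut.conj c x from rfl,
        MulEquiv.orderOf_eq, hj])
    obtain ⟨P, hP⟩ := hy.exists_le_sylow
    obtain ⟨g, hg⟩ := MulAction.exists_smul_eq (cen D.t) P Q
    have hmem : g * y * g⁻¹ ∈ (Q : Subgroup (cen D.t)) := by
      rw [← hg, Sylow.coe_subgroup_smul]
      exact ⟨y, hP (mem_zpowers y), rfl⟩
    obtain ⟨n, hn⟩ := mem_zpowers_iff.1 hmem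
    refine ⟨(g : G) * c, ?_⟩
    rw [show (g : G) * c * x * ((g : G) * c)⁻¹ = (g : G) * (c * x * c⁻¹) * (g : G)⁻¹ by group]
    have hn' := congrArg Subtype.val hn
    simp only [SubgroupClass.coe_zpow, Subgroup.coe_mul, Subgroup.coe_inv, y] at hn'
    exact hn' ▸ zpow_mem (mem_zpowers _) n

/-- A weight on a subgroup of order `p` of `C(f) ⧸ ⟨f⟩` lifts. -/
theorem pair_of_bar (D : Data G) {σ : D.Φ} {p k : ℕ} (hp : p.Prime) {u g : D.Hbar σ} (hu : orderOf u = p)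
    (hgu : g * u * g⁻¹ = u ^ k) (hk : ¬ k % p = 1) :
    ∃ z w : G, orderOf z = p ∧ z ∉ zpowers (D.jΦ σ) ∧ D.jΦ σ * z = z * D.jΦ σ ∧
      D.jΦ σ * w = w * D.jΦ σ ∧ w * z * w⁻¹ = z ^ k := by
  haveI : Fact p.Prime := ⟨hp⟩
  obtain ⟨x, rfl⟩ := D.pH_surj σ u
  obtain ⟨w, rfl⟩ := D.pH_surj σ g
  have hcz : ∀ (a : D.Cf σ) {b : D.Cf σ}, D.pH σ b = 1 → Commute a b := fun a b hb => by
    obtain ⟨i, hi⟩ := mem_zpowers_iff.1 ((D.pH_eq_one σ).1 hb)
    refine Subtype.ext ?_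
    show (a : G) * b = b * a
    rw [← hi]
    exact ((show Commute (a : G) (D.jΦ σ) from mem_centralizer_singleton_iff.1 a.2).zpow_right i).eq
  set b := (x ^ k)⁻¹ * (w * x * w⁻¹) with hb
  have hb1 : D.pH σ b = 1 := by
    rw [hb, map_mul, map_inv, map_pow, map_mul, map_mul, map_inv, hgu, inv_mul_cancel]
  have hwx : w * x * w⁻¹ = x ^ k * b := by rw [hb, mul_inv_cancel_left]
  set z := w * x * w⁻¹ * x⁻¹ with hz
  have hzbar : D.pH σ z ≠ 1 := fun h => by
    rw [hz, map_mul, map_mul, map_mul, map_inv, map_inv, hgu, mul_inv_eq_one] at h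
    have h' : D.pH σ x ^ k = D.pH σ x ^ 1 := by rw [pow_one]; exact h
    rw [pow_eq_pow_iff_modEq, hu, Nat.ModEq, Nat.mod_eq_of_lt hp.one_lt] at h'
    exact hk h'
  have hzp : z ^ p = 1 := by
    have hxp : D.pH σ (x ^ p) = 1 := by rw [map_pow, ← hu, pow_orderOf_eq_one]
    have hcomm : Commute (w * x * w⁻¹) x⁻¹ := by
      rw [hwx]; exact ((Commute.pow_self x k).mul_left (hcz x hb1).symm).inv_right
    rw [hz, hcomm.mul_pow, conj_pow, (hcz w hxp).eq, mul_inv_cancel_right, inv_pow, mul_inv_cancel]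
  have hz' : orderOf z = p := orderOf_eq_prime hzp fun h => hzbar (by rw [h, map_one])
  have hwz : w * z * w⁻¹ = z ^ k := by
    have hab : Commute (x ^ k) b := hcz _ hb1
    have e1 : w * z * w⁻¹ = (w * x * w⁻¹) ^ k * b * (w * x * w⁻¹)⁻¹ := by
      calc w * z * w⁻¹ = w * (x ^ k * b * x⁻¹) * w⁻¹ := by rw [hz, hwx]
        _ = (w * x ^ k * w⁻¹) * (w * b * w⁻¹) * (w * x * w⁻¹)⁻¹ := by group
        _ = _ := by rw [← conj_pow, (hcz w hb1).eq, mul_inv_cancel_right]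
    rw [e1, hwx, mul_assoc, mul_inv_rev, mul_inv_cancel_left,
      show z ^ k = (x ^ k * b) ^ k * (x⁻¹) ^ k by
        rw [hz, hwx, (((Commute.pow_self x k).mul_left (hcz x hb1).symm).inv_right).mul_pow], inv_pow,
      mul_inv_cancel_left, hwx]
  refine ⟨(z : G), (w : G), by rw [Subgroup.orderOf_coe, hz'], fun h => hzbar ((D.pH_eq_one σ).2 h),
    (mem_centralizer_singleton_iff.1 z.2).symm, (mem_centralizer_singleton_iff.1 w.2).symm, ?_⟩
  exact (congrArg Subtype.val hwz).trans (Subgroup.coe_pow _ _ _)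

end Data

end Cfsg.Agent.NoField
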