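import Cfsg.Agent.Lib.NoField.TorusBase
import Cfsg.Agent.Lib.Solvable.Coprime
import Cfsg.Agent.Lib.SEBrick.Common

/-!
The centraliser and the normaliser of `⟨r⟩`.
-/

set_option autoImplicit false
set_option linter.style.haveILetI false
set_option linter.unusedSectionVars false

namespace Cfsg.Agent.NoField

open Subgroup Cfsg.Agent.Walter8 Cfsg.Agent.AutPSL
open scoped Classical

universe u

variable {G : Type u} [Group G] [Finite G] {D : Data G}

/-- An element of `N(S)` rotating `s → t → ts`, centralising `Φ` and normalising `⟨r⟩`. -/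
structure Main.Rot (M : Main D) (g : G) : Prop where
  mt : g * D.t * g⁻¹ = D.t * D.jL D.s
  ms : g * D.jL D.s * g⁻¹ = D.t
  phi : ∀ σ : D.Φ, g * D.jΦ σ = D.jΦ σ * g
  pow : g * M.R * g⁻¹ ∈ zpowers M.R
  norm : g ∈ normalizer (D.S : Set G)

namespace Main

variable (M : Main D)

theorem mem_zpowers_r {a : PSL2 D.F} (hs : a * D.s = D.s * a) (ha : orderOf a = M.l) :
    a ∈ zpowers M.r := by
  have hz : a ∈ M.ld.Zh := M.mem_Zh_of_comm hs (ha.symm ▸ M.l_odd)
  haveI := M.ld.Zh_cyclic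
  have hle : zpowers (⟨M.r, M.r_mem⟩ : M.ld.Zh) = zpowers (⟨a, hz⟩ : M.ld.Zh) := by
    have hc : ∀ b : M.ld.Zh, orderOf b = M.l → (zpowers b : Set M.ld.Zh) = {x | x ^ M.l = 1} := by
      intro b hb
      refine Set.eq_of_subset_of_ncard_le ?_ ?_ (Set.toFinite _)
      · rintro x ⟨i, rfl⟩
        show (b ^ i) ^ M.l = 1
        rw [← zpow_natCast, ← zpow_mul, mul_comm, zpow_mul, zpow_natCast, ← hb, pow_orderOf_eq_one, one_zpow]
      · haveI := Fintype.ofFinite M.ld.Zh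
        rw [show (zpowers b : Set M.ld.Zh).ncard = M.l by rw [← Nat.card_coe_set_eq, ← hb]; exact Nat.card_zpowers b,
          Set.ncard_eq_toFinset_card']
        convert IsCyclic.card_pow_eq_one_le (α := M.ld.Zh) M.l_prime.pos using 2
        ext x; simp
    exact SetLike.coe_injective ((hc _ (by rw [← Subgroup.orderOf_coe]; exact M.r_order)).trans
      (hc _ (by rw [← Subgroup.orderOf_coe]; exact ha)).symm)
  obtain ⟨i, hi⟩ := mem_zpowers_iff.1 (hle ▸ mem_zpowers (⟨a, hz⟩ : M.ld.Zh) : (⟨a, hz⟩ : M.ld.Zh) ∈ zpowers _)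
  exact mem_zpowers_iff.2 ⟨i, by have := congrArg Subtype.val hi; simpa using this⟩

theorem R_mem_of_ne {a : G} (ha : a ∈ zpowers M.R) (h1 : a ≠ 1) : M.R ∈ zpowers a := by
  have hle : zpowers a ≤ zpowers M.R := zpowers_le.2 ha
  have he : zpowers a = zpowers M.R := eq_of_le_of_card_ge hle (by
    rw [Nat.card_zpowers, Nat.card_zpowers, M.R_order]
    rcases (Nat.dvd_prime M.l_prime).1 (M.R_order ▸ orderOf_dvd_of_mem_zpowers ha) with h | h
    · exact absurd (orderOf_eq_one_iff.1 h) h1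
    · exact h.ge)
  exact he ▸ mem_zpowers _

theorem comm_R_of_pow {g x : G} (hp : g * M.R * g⁻¹ ∈ zpowers M.R)
    (h : x * (g * M.R * g⁻¹) = g * M.R * g⁻¹ * x) : x * M.R = M.R * x := by
  obtain ⟨i, hi⟩ := mem_zpowers_iff.1 (M.R_mem_of_ne hp fun e => M.R_ne (conj_eq_one_iff.1 e))
  rw [← hi]
  exact ((show Commute x (g * M.R * g⁻¹) from h).zpow_right i).eq

/-- An element of `N(S)` exchanging two involutions of `S` does not exist. -/
theorem no_swap {g a b : G} (hg : g ∈ normalizer (D.S : Set G)) (ha : a ∈ D.S) (hab : a ≠ b)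
    (h1 : g * a * g⁻¹ = b) (h2 : g * b * g⁻¹ = a) : False := by
  haveI : Fact (Nat.Prime 2) := ⟨Nat.prime_two⟩
  set n := orderOf g / 2 ^ (orderOf g).factorization 2
  have hg0 : orderOf g ≠ 0 := (orderOf_pos g).ne'
  have hn : Odd n := Nat.odd_iff.2 (Nat.two_dvd_ne_zero.1 (Nat.not_dvd_ordCompl Nat.prime_two hg0))
  set u := g ^ n
  have hu : u ^ 2 ^ (orderOf g).factorization 2 = 1 := by
    rw [← pow_mul, Nat.div_mul_cancel (Nat.ordProj_dvd _ _), pow_orderOf_eq_one]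
  have huP : IsPGroup 2 (zpowers u) := by
    rintro ⟨x, hx⟩
    obtain ⟨i, rfl⟩ := mem_zpowers_iff.1 hx
    refine ⟨(orderOf g).factorization 2, Subtype.ext ?_⟩
    show (u ^ i) ^ 2 ^ (orderOf g).factorization 2 = 1
    rw [← zpow_natCast, ← zpow_mul, mul_comm, zpow_mul, zpow_natCast, hu, one_zpow]
  have huS : u ∈ D.S := by
    have h := huP.inf_normalizer_sylow D.Syl
    have hm : u ∈ zpowers u ⊓ normalizer ((D.Syl : Subgroup G) : Set G) :=
      ⟨mem_zpowers u, pow_mem hg n⟩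
    rw [show zpowers u ⊓ normalizer ((D.Syl : Subgroup G) : Set G) = zpowers u ⊓ (D.Syl : Subgroup G) from h] at hm
    exact hm.2
  have hua : u * a * u⁻¹ = a := by rw [D.S_comm huS ha, mul_inv_cancel_right]
  obtain ⟨k, hk⟩ := hn
  have hsq : Commute (g * g) a := by
    show g * g * a = a * (g * g)
    calc g * g * a = g * (g * a * g⁻¹) * g⁻¹ * (g * g) := by group
      _ = a * (g * g) := by rw [h1, h2]
  have hub : u * a * u⁻¹ = b := by
    show g ^ n * a * (g ^ n)⁻¹ = b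
    rw [hk, pow_succ', pow_mul, pow_two]
    calc g * (g * g) ^ k * a * (g * (g * g) ^ k)⁻¹ = g * ((g * g) ^ k * a * ((g * g) ^ k)⁻¹) * g⁻¹ := by group
      _ = b := by rw [(hsq.pow_left k).eq, mul_inv_cancel_right, h1]
  exact hab (hua.symm.trans hub)

theorem exists_rot : ∃ g, M.Rot g := by
  have hs1 : D.jL D.s ≠ 1 := fun h => D.s_ne (D.jL_inj (h.trans (map_one D.jL).symm))
  obtain ⟨n, hn, hns⟩ := D.trans D.s_mem_S hs1 D.t_mem_S D.t_ne
  set R1 := n * M.R * n⁻¹ with hR1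
  have hR1o : orderOf R1 = M.l := by rw [hR1, Invol.order_conj, M.R_order]
  have hsR : D.jL D.s * M.R = M.R * D.jL D.s := by
    show _ * D.jL M.r = D.jL M.r * _
    rw [← map_mul, ← map_mul, M.Zh_s M.r_mem]
  have hR1t : R1 * D.t = D.t * R1 := by
    rw [← hns, hR1]
    calc n * M.R * n⁻¹ * (n * D.jL D.s * n⁻¹) = n * (M.R * D.jL D.s) * n⁻¹ := by group
      _ = n * (D.jL D.s * M.R) * n⁻¹ := by rw [hsR]
      _ = _ := by group
  obtain ⟨l1, hl1⟩ : ∃ l1, R1 = D.jL l1 := by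
    obtain ⟨l1, τ, h⟩ := D.exists_dec hR1t
    let x : D.X := ⟨D.jL l1 * D.jΦ τ, mul_mem (D.jL_mem _) (D.jΦ_mem _)⟩
    have hpow : R1 ^ M.l = 1 := hR1o ▸ pow_orderOf_eq_one R1
    rcases h with h | h
    · have hxl : x ^ M.l = 1 := Subtype.ext (by
        rw [SubmonoidClass.coe_pow]; show (D.jL l1 * D.jΦ τ) ^ M.l = _; rw [← h]; exact hpow)
      have hτ : τ = 1 := by
        have h' := congrArg D.pr hxl
        rw [map_pow, map_one, D.pr_spec x l1 τ rfl] at h'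
        exact orderOf_eq_one_iff.1 (Nat.eq_one_of_dvd_coprimes (M.l_prime.coprime_iff_not_dvd.2 M.l_coprime)
          (orderOf_dvd_of_pow_eq_one h') (orderOf_dvd_natCard τ))
      exact ⟨l1, by rw [h, hτ, map_one, mul_one]⟩
    · exfalso
      have hc : Commute D.t (x : G) := (D.X_comm x.2).symm
      rw [show R1 = D.t * (x : G) from h, hc.mul_pow] at hpow
      obtain ⟨k, hk⟩ := M.l_odd
      rw [hk, pow_succ, pow_mul, pow_two, D.t_sq, one_pow, one_mul, ← hk] at hpow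
      exact D.t_notMem ((mul_mem_cancel_right (pow_mem x.2 M.l)).1 (hpow ▸ one_mem D.X))
  set v0 := n * D.t * n⁻¹ with hv0
  have hv0S : v0 ∈ D.S := (mem_normalizer_iff.1 hn _).1 D.t_mem_S
  have hv0t : v0 ≠ D.t := fun h => by
    have h' : D.t = D.jL D.s := (MulAut.conj n).injective (show n * D.t * n⁻¹ = n * D.jL D.s * n⁻¹ by
      rw [hns]; exact h)
    exact D.t_notMem (h' ▸ D.jL_mem _)
  have hv0R : v0 * R1 = R1 * v0 := by
    rw [hv0, hR1]
    calc n * D.t * n⁻¹ * (n * M.R * n⁻¹) = n * (D.t * M.R) * n⁻¹ := by group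
      _ = n * (M.R * D.t) * n⁻¹ := by rw [show D.t * M.R = M.R * D.t from D.t_jL _]
      _ = _ := by group
  obtain ⟨v, hv, hvv⟩ := D.mem_S hv0S
  have hv1 : v ≠ 1 := fun h => by
    rw [h, map_one, mul_one] at hvv
    rcases hvv with e | e
    · exact D.t_ne ((MulAut.conj n).injective (by simpa [hv0] using e))
    · exact hv0t e
  have hvl : v * l1 = l1 * v := by
    refine D.jL_inj ?_
    rw [map_mul, map_mul, ← hl1]
    rcases hvv with e | e
    · rw [← e]; exact hv0R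
    · have : D.jL v = D.t * v0 := by rw [e, ← mul_assoc, D.t_sq, one_mul]
      rw [this, mul_assoc, hv0R, ← mul_assoc, ← hR1t, mul_assoc]
  obtain ⟨m, hmN, hmt, hmP, hmv⟩ : ∃ m : PSL2 D.F, D.jL m ∈ normalizer (D.S : Set G) ∧
      D.jL m * D.t = D.t * D.jL m ∧ (∀ σ : D.Φ, D.jL m * D.jΦ σ = D.jΦ σ * D.jL m) ∧ m * v * m⁻¹ = D.s := by
    have hy1 : ∀ k : ℕ, D.jL (D.y ^ k) ∈ normalizer (D.S : Set G) ∧
        D.jL (D.y ^ k) * D.t = D.t * D.jL (D.y ^ k) ∧
        ∀ σ : D.Φ, D.jL (D.y ^ k) * D.jΦ σ = D.jΦ σ * D.jL (D.y ^ k) := fun k =>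
      ⟨by rw [map_pow]; exact pow_mem D.y_mem_normalizer k, (D.t_jL _).symm,
        fun σ => (D.jΦ_comm_jL σ _ (by rw [map_pow, D.fix_y])).symm⟩
    have e1 : D.y * (D.s * D.i) * D.y⁻¹ = D.s := by
      calc D.y * (D.s * D.i) * D.y⁻¹ = (D.y * D.s * D.y⁻¹) * (D.y * D.i * D.y⁻¹) := by group
        _ = D.s := by rw [D.y_s, D.y_i, ← mul_assoc, D.i_comm, mul_assoc, D.i_sq, mul_one]
    rcases hv with h | h | h | h
    · exact absurd h hv1
    · obtain ⟨a, b, c⟩ := hy1 0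
      exact ⟨_, a, b, c, by rw [h, pow_zero, one_mul, inv_one, mul_one]⟩
    · obtain ⟨a, b, c⟩ := hy1 2
      refine ⟨_, a, b, c, ?_⟩
      rw [h, pow_two]
      calc D.y * D.y * D.i * (D.y * D.y)⁻¹ = D.y * (D.y * D.i * D.y⁻¹) * D.y⁻¹ := by group
        _ = D.s := by rw [D.y_i, e1]
    · obtain ⟨a, b, c⟩ := hy1 1
      exact ⟨_, a, b, c, by rw [h, pow_one, e1]⟩
  set g := D.jL m * n with hg
  have hgN : g ∈ normalizer (D.S : Set G) := mul_mem hmN hn
  have hgs : g * D.jL D.s * g⁻¹ = D.t := by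
    calc g * D.jL D.s * g⁻¹ = D.jL m * (n * D.jL D.s * n⁻¹) * (D.jL m)⁻¹ := by rw [hg]; group
      _ = D.t := by rw [hns, hmt, mul_inv_cancel_right]
  have hgt : g * D.t * g⁻¹ = D.jL D.s ∨ g * D.t * g⁻¹ = D.t * D.jL D.s := by
    have e : g * D.t * g⁻¹ = D.jL m * v0 * (D.jL m)⁻¹ := by rw [hg, hv0]; group
    rcases hvv with h | h
    · left; rw [e, h, ← map_inv, ← map_mul, ← map_mul, hmv]
    · right
      rw [e, h]
      calc D.jL m * (D.t * D.jL v) * (D.jL m)⁻¹ = D.jL m * D.t * D.jL v * (D.jL m)⁻¹ := by group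
        _ = D.t * D.jL (m * v * m⁻¹) := by rw [hmt, map_mul, map_mul, map_inv]; group
        _ = _ := by rw [hmv]
  refine ⟨g, hgt.resolve_left fun h => no_swap hgN D.t_mem_S ?_ h hgs, hgs, fun σ => ?_, ?_, hgN⟩
  · exact fun e => D.t_notMem (e ▸ D.jL_mem _)
  · rw [hg, mul_assoc, D.normalizer_comm hn σ, ← mul_assoc, hmP σ, mul_assoc]
  · have e : g * M.R * g⁻¹ = D.jL (m * l1 * m⁻¹) := by
      rw [map_mul, map_mul, map_inv, ← hl1, hg, hR1]; group
    obtain ⟨i, hi⟩ := mem_zpowers_iff.1 (M.mem_zpowers_r (a := m * l1 * m⁻¹) (by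
      rw [← hmv]
      calc m * l1 * m⁻¹ * (m * v * m⁻¹) = m * (l1 * v) * m⁻¹ := by group
        _ = m * (v * l1) * m⁻¹ := by rw [hvl]
        _ = _ := by group) (by
      rw [← orderOf_injective D.jL D.jL_inj (m * l1 * m⁻¹), ← e, Invol.order_conj, M.R_order]))
    rw [e, ← hi, map_zpow]
    exact mem_zpowers_iff.2 ⟨i, rfl⟩

variable {M}

theorem Rot.mts {g : G} (hg : M.Rot g) : g * (D.t * D.jL D.s) * g⁻¹ = D.jL D.s := by
  calc g * (D.t * D.jL D.s) * g⁻¹ = (g * D.t * g⁻¹) * (g * D.jL D.s * g⁻¹) := by group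
    _ = D.jL D.s := by rw [hg.mt, hg.ms, mul_assoc, ← D.t_jL D.s, ← mul_assoc, D.t_sq, one_mul]

theorem Rot.conj_mem {g : G} (hg : M.Rot g) {c : G} (hc : c ∈ M.C0) : g * c * g⁻¹ ∈ M.C0 := by
  obtain ⟨h1, h2, h3⟩ := M.mem_C0.1 hc
  have key : ∀ {a b : G}, c * a = a * c → g * a * g⁻¹ = b → g * c * g⁻¹ * b = b * (g * c * g⁻¹) := by
    rintro a _ h rfl
    calc g * c * g⁻¹ * (g * a * g⁻¹) = g * (c * a) * g⁻¹ := by group
      _ = g * (a * c) * g⁻¹ := by rw [h]
      _ = _ := by group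
  have ht := key h2 hg.ms
  refine M.mem_C0.2 ⟨ht, ?_, M.comm_R_of_pow hg.pow (key h3 rfl)⟩
  refine key (a := D.t * D.jL D.s) ?_ hg.mts
  rw [← mul_assoc, h1, mul_assoc, h2, mul_assoc]

theorem Rot.mem_normalizer {g : G} (hg : M.Rot g) : g ∈ normalizer (M.C0 : Set G) :=
  SEBrick.mem_normalizer_of fun _ h => hg.conj_mem h

/-- The rotation on the coordinates. -/
theorem Rot.exists_conj {g : G} (hg : M.Rot g) (z : M.ld.Zh) :
    ∃ z' : M.ld.Zh, ∀ x y σ, g * M.el x y z σ * g⁻¹ = M.el (x ^^ y) x z' σ := by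
  obtain ⟨χ, hχ⟩ := D.exists_proj
  obtain ⟨z1, hz1⟩ : ∃ z1 : M.ld.Zh, z1 * z1 = z := by
    obtain ⟨k, hk⟩ : Odd (orderOf z) := by rw [← Subgroup.orderOf_coe]; exact M.Zh_odd z.2
    exact ⟨z ^ (k + 1), by rw [← pow_add, show k + 1 + (k + 1) = orderOf z + 1 by omega, pow_succ,
      pow_orderOf_eq_one, one_mul]⟩
  set A := g * D.jL (z1 : PSL2 D.F) * g⁻¹
  set B := g * D.jL D.i * g⁻¹
  have hw : D.jL (z : PSL2 D.F) = M.el false false z 1 := by simp [el, Data.four]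
  have hwz : D.jL (z1 : PSL2 D.F) = M.el false false z1 1 := by simp [el, Data.four]
  have hA : A ∈ cen D.t := mem_centralizer_singleton_iff.2
    (M.mem_C0.1 (hg.conj_mem (hwz ▸ M.el_mem _ _ _ _))).1
  have hB : B ∈ cen D.t := mem_centralizer_singleton_iff.2
    (D.S_comm ((mem_normalizer_iff.1 hg.norm _).1 D.i_mem_S) D.t_mem_S)
  have hcomm : g * D.jL (z : PSL2 D.F) * g⁻¹ = A * B * A⁻¹ * B⁻¹ := by
    have e : (z : PSL2 D.F) = z1 * D.i * (z1 : PSL2 D.F)⁻¹ * D.i⁻¹ := by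
      rw [mul_assoc, mul_assoc, ← mul_assoc D.i, M.i_inv (inv_mem z1.2), inv_inv, ← Subgroup.coe_mul, hz1]
    rw [e, map_mul, map_mul, map_mul, map_inv, map_inv]
    simp only [A, B]
    group
  obtain ⟨x', y', z', σ', he⟩ := M.exists_el_of_mem (hg.conj_mem (hw ▸ M.el_mem _ _ _ _ : D.jL (z : PSL2 D.F) ∈ M.C0))
  have hodd : Odd (orderOf (M.el x' y' z' σ')) := by
    rw [← he, Invol.order_conj, orderOf_injective _ D.jL_inj]
    exact M.Zh_odd z.2
  obtain ⟨rfl, rfl⟩ := M.el_odd hodd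
  have he' : A * B * A⁻¹ * B⁻¹ = D.jL (z' : PSL2 D.F) * D.jΦ σ' := by
    rw [← hcomm, he]; simp [el, Data.four]
  have hσ : σ' = 1 := by
    have h := hχ (⟨A, hA⟩ * ⟨B, hB⟩ * ⟨A, hA⟩⁻¹ * ⟨B, hB⟩⁻¹) _ _ he'
    rw [map_mul, map_mul, map_mul, map_inv, map_inv, D.Φ_comm (χ ⟨A, hA⟩) (χ ⟨B, hB⟩),
      mul_inv_cancel_right, mul_inv_cancel] at h
    exact h.symm
  subst hσ
  have hz : g * D.jL (z : PSL2 D.F) * g⁻¹ = D.jL (z' : PSL2 D.F) := by
    rw [he]; simp [el, Data.four]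
  refine ⟨z', fun x y σ => ?_⟩
  have hf : g * D.four x y * g⁻¹ = D.four (x ^^ y) x := by
    cases x <;> cases y
    · simp [Data.four]
    · simpa [Data.four] using hg.ms
    · simpa [Data.four] using hg.mt
    · simpa [Data.four] using hg.mts
  calc g * M.el x y z σ * g⁻¹
      = (g * D.four x y * g⁻¹) * ((g * D.jL (z : PSL2 D.F) * g⁻¹) * (g * D.jΦ σ * g⁻¹)) := by
        simp only [el]; group
    _ = _ := by rw [hf, hz, hg.phi σ, mul_inv_cancel_right]; rfl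

/-- The centraliser of `s` (or of `ts`) and `r` is the torus. -/
theorem Rot.mem_C0_of_comm {g : G} (hg : M.Rot g) {c : G} (hR : c * M.R = M.R * c)
    (h : c * D.jL D.s = D.jL D.s * c ∨ c * (D.t * D.jL D.s) = D.t * D.jL D.s * c) : c ∈ M.C0 := by
  have key : ∀ x : G, g * x * g⁻¹ ∈ M.C0 → x ∈ M.C0 := fun x hx =>
    (mem_normalizer_iff.1 hg.mem_normalizer x).2 hx
  have key' : ∀ {a b y : G}, y * a = a * y → g * a * g⁻¹ = b → g * y * g⁻¹ * b = b * (g * y * g⁻¹) := by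
    rintro a _ y h rfl
    calc g * y * g⁻¹ * (g * a * g⁻¹) = g * (y * a) * g⁻¹ := by group
      _ = g * (a * y) * g⁻¹ := by rw [h]
      _ = _ := by group
  have case1 : ∀ y : G, y * M.R = M.R * y → y * D.jL D.s = D.jL D.s * y → y ∈ M.C0 := by
    intro y hy hys
    refine key y ?_
    obtain ⟨a, b, z, σ, e⟩ := M.exists_el (key' hys hg.ms) (M.comm_R_of_pow hg.pow (key' hy rfl))
    rw [e]; exact M.el_mem _ _ _ _
  rcases h with h | h
  · exact case1 c hR h
  · exact key c (case1 _ (M.comm_R_of_pow hg.pow (key' hR rfl)) (key' h hg.mts))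

/-- The centraliser of `r`. -/
theorem cen_R (hfree : FreeStmt M) : ∀ g : G, g * M.R = M.R * g → g ∈ M.C0 := by
  haveI : Fact (Nat.Prime 2) := ⟨Nat.prime_two⟩
  obtain ⟨γ, hγ⟩ := M.exists_rot
  set C := cen M.R with hC
  have hC0 : M.C0 ≤ C := inf_le_right
  have hmem : ∀ g : G, g ∈ C → g * M.R = M.R * g := fun g h => mem_centralizer_singleton_iff.1 h
  -- the Sylow subgroup
  have htC : D.t ∈ C := mem_centralizer_singleton_iff.2 (D.t_jL _)
  have hsC : D.jL D.s ∈ C := mem_centralizer_singleton_iff.2 (by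
    show _ * D.jL M.r = D.jL M.r * _
    rw [← map_mul, ← map_mul, M.Zh_s M.r_mem])
  let V : Subgroup C := closure {(⟨D.t, htC⟩ : C), ⟨D.jL D.s, hsC⟩}
  have hVS : V.map C.subtype ≤ D.S := by
    rw [MonoidHom.map_closure, closure_le]
    rintro _ ⟨a, (rfl | rfl), rfl⟩
    exacts [D.t_mem_S, D.s_mem_S]
  have hV2 : IsPGroup 2 V := fun x => ⟨1, Subtype.ext (Subtype.ext (by
    show ((x : C) : G) ^ (2 ^ 1) = 1
    rw [pow_one, pow_two]
    exact D.S_sq (hVS ⟨(x : C), x.2, rfl⟩)))⟩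
  obtain ⟨P, hP⟩ := hV2.exists_le_sylow
  have htP : (⟨D.t, htC⟩ : C) ∈ (P : Subgroup C) := hP (subset_closure (Or.inl rfl))
  have hsP : (⟨D.jL D.s, hsC⟩ : C) ∈ (P : Subgroup C) := hP (subset_closure (Or.inr rfl))
  obtain ⟨c, -, hcP⟩ := D.exists_conj_S (H := ⊤) le_top (P.isPGroup'.map C.subtype) le_top
  have hab : ∀ a ∈ (P : Subgroup C), ∀ b ∈ (P : Subgroup C), a * b = b * a := by
    intro a ha b hb
    refine Subtype.ext ((MulAut.conj c).injective ?_)
    have h1 := hcP _ ⟨a, ha, rfl⟩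
    have h2 := hcP _ ⟨b, hb, rfl⟩
    calc c * ((a : G) * b) * c⁻¹ = (c * a * c⁻¹) * (c * b * c⁻¹) := by group
      _ = (c * b * c⁻¹) * (c * a * c⁻¹) := D.S_comm h1 h2
      _ = _ := by show _ = c * ((b : G) * a) * c⁻¹; group
  have hsq : ∀ a ∈ (P : Subgroup C), a * a = 1 := by
    intro a ha
    refine Subtype.ext ((MulAut.conj c).injective ?_)
    have h1 := hcP _ ⟨a, ha, rfl⟩
    calc c * ((a : G) * a) * c⁻¹ = (c * a * c⁻¹) * (c * a * c⁻¹) := by group
      _ = 1 := D.S_sq h1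
      _ = _ := by show _ = c * (1 : G) * c⁻¹; group
  have hfour : ∀ a ∈ (P : Subgroup C), ∃ x y, (a : G) = D.four x y := by
    intro a ha
    obtain ⟨x, y, z, σ, e⟩ := M.exists_el (congrArg Subtype.val (hab a ha _ htP)) (hmem _ a.2)
    have h2 : (a : G) * a = 1 := congrArg Subtype.val (hsq a ha)
    rw [e] at h2
    obtain ⟨rfl, rfl⟩ := M.el_sq h2
    exact ⟨x, y, by rw [e]; simp [el]⟩
  -- the automiser
  have hNC : normalizer ((P : Subgroup C) : Set C) ≤ centralizer ((P : Subgroup C) : Set C) := by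
    intro n hn a ha
    set g : G := (n : G)
    have hgR : g * M.R = M.R * g := hmem _ n.2
    have himg : ∀ b (hb : b ∈ C), (⟨b, hb⟩ : C) ∈ (P : Subgroup C) → b ≠ 1 →
        g * b * g⁻¹ = D.t ∨ g * b * g⁻¹ = D.jL D.s ∨ g * b * g⁻¹ = D.t * D.jL D.s := by
      intro b hb hbP hb1
      obtain ⟨x, y, e⟩ := hfour _ ((mem_normalizer_iff.1 hn _).1 hbP)
      change g * b * g⁻¹ = D.four x y at e
      cases x <;> cases y <;> simp [Data.four] at e
      · exact absurd e hb1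
      · exact Or.inr (Or.inl e)
      · exact Or.inl e
      · exact Or.inr (Or.inr e)
    have hs1 : D.jL D.s ≠ 1 := fun h => D.s_ne (D.jL_inj (h.trans (map_one D.jL).symm))
    have hts : D.t ≠ D.jL D.s := fun e => D.t_notMem (e ▸ D.jL_mem _)
    have ht3 : D.t ≠ D.t * D.jL D.s := fun e => hs1 (mul_eq_left.1 e.symm)
    have hs3 : D.jL D.s ≠ D.t * D.jL D.s := fun e => D.t_ne (mul_eq_right.1 e.symm)
    have hinj : g * D.t * g⁻¹ ≠ g * D.jL D.s * g⁻¹ := fun e => hts ((MulAut.conj g).injective e)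
    have hmul : g * (D.t * D.jL D.s) * g⁻¹ = (g * D.t * g⁻¹) * (g * D.jL D.s * g⁻¹) := by group
    have hstay : ∀ {b : G}, g * b * g⁻¹ = b → g * b = b * g := fun h => mul_inv_eq_iff_eq_mul.1 h
    have hfix : g ∈ M.C0 := by
      rcases himg _ htC htP D.t_ne with h | h | h
      · obtain ⟨x, y, z, σ, e⟩ := M.exists_el (hstay h) hgR
        exact e ▸ M.el_mem _ _ _ _
      · exfalso
        rcases himg _ hsC hsP hs1 with h' | h' | h'
        · have e : g * (D.t * D.jL D.s) * g⁻¹ = D.t * D.jL D.s := by rw [hmul, h, h', ← D.t_jL]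
          have hc := (M.mem_C0.1 (hγ.mem_C0_of_comm hgR (Or.inr (hstay e)))).1
          exact hts (by rw [← h, hc, mul_inv_cancel_right])
        · exact hinj (h.trans h'.symm)
        · exact hfree g h h' hgR
      · exfalso
        rcases himg _ hsC hsP hs1 with h' | h' | h'
        · refine hfree g⁻¹ ?_ ?_ ?_
          · rw [← h']; group
          · have e : g * (D.t * D.jL D.s) * g⁻¹ = D.jL D.s := by
              rw [hmul, h, h', mul_assoc, ← D.t_jL, ← mul_assoc, D.t_sq, one_mul]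
            calc g⁻¹ * D.jL D.s * g⁻¹⁻¹ = g⁻¹ * (g * (D.t * D.jL D.s) * g⁻¹) * g⁻¹⁻¹ := by rw [e]
              _ = _ := by group
          · exact ((show Commute g M.R from hgR).inv_left).eq
        · have hc := (M.mem_C0.1 (hγ.mem_C0_of_comm hgR (Or.inl (hstay h')))).1
          exact ht3 (by rw [← h, hc, mul_inv_cancel_right])
        · exact hinj (h.trans h'.symm)
    obtain ⟨x, y, e⟩ := hfour a ha
    obtain ⟨h1, h2, -⟩ := M.mem_C0.1 hfix
    refine Subtype.ext ?_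
    show (a : G) * g = g * a
    rw [e]
    have c1 : Commute g (if x then D.t else 1) := by
      split_ifs
      exacts [h1, Commute.one_right _]
    have c2 : Commute g (if y then D.jL D.s else 1) := by
      split_ifs
      exacts [h2, Commute.one_right _]
    exact (c1.mul_right c2).eq.symm
  -- the odd complement
  set O := (MonoidHom.transferSylow P hNC).ker with hO
  have hcompl := MonoidHom.ker_transferSylow_isComplement' P hNC
  haveI : IsMulCommutative (P : Subgroup C) := ⟨⟨fun a b => Subtype.ext (hab _ a.2 _ b.2)⟩⟩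
  have hcyc : ¬ IsCyclic (P : Subgroup C) := by
    intro h
    obtain ⟨q, hq⟩ := h.exists_generator
    have h2 : Nat.card (P : Subgroup C) ≤ 2 := by
      rw [← orderOf_eq_card_of_forall_mem_zpowers hq]
      exact orderOf_le_of_pow_eq_one (by norm_num) (Subtype.ext (by rw [pow_two]; exact hsq _ q.2))
    have h3 : 3 ≤ Nat.card (P : Subgroup C) := by
      let f : Fin 3 → (P : Subgroup C) := ![1, ⟨_, htP⟩, ⟨_, hsP⟩]
      have hf : Function.Injective f := by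
        have e1 : D.t ≠ D.jL D.s := fun e => D.t_notMem (e ▸ D.jL_mem _)
        have e2 : D.jL D.s ≠ 1 := fun h => D.s_ne (D.jL_inj (h.trans (map_one D.jL).symm))
        intro i j hij
        fin_cases i <;> fin_cases j <;>
          simp [f, Subtype.ext_iff, D.t_ne, Ne.symm D.t_ne, e1, Ne.symm e1, e2, Ne.symm e2] at hij ⊢
      simpa using Nat.card_le_card_of_injective f hf
    omega
  have hcop : (Nat.card (P : Subgroup C)).Coprime (Nat.card O) := by
    obtain ⟨k, hk⟩ := IsPGroup.iff_card.1 P.isPGroup'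
    rw [hk]
    exact (Nat.prime_two.coprime_iff_not_dvd.2 (MonoidHom.not_dvd_card_ker_transferSylow P hNC)).pow_left k
  have hOle : O ≤ M.C0.subgroupOf C := by
    rw [← CoprimeAct.generated_by_centralizers hcyc
      (show (P : Subgroup C) ≤ normalizer (O : Set C) by rw [normalizer_eq_top]; exact le_top) hcop]
    refine iSup₂_le fun a ha x hx => ?_
    obtain ⟨u, v, e⟩ := hfour a ha.1
    have hxa : (x : G) * a = a * x := congrArg Subtype.val (mem_centralizer_singleton_iff.1 hx.2)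
    rw [e] at hxa
    refine mem_subgroupOf.2 ?_
    cases u <;> cases v <;> simp [Data.four] at hxa e
    · exact absurd e fun h => ha.2 (Subtype.ext (by simpa using h))
    · exact hγ.mem_C0_of_comm (hmem _ x.2) (Or.inl hxa)
    · obtain ⟨_, _, _, _, h⟩ := M.exists_el hxa (hmem _ x.2)
      exact h ▸ M.el_mem _ _ _ _
    · exact hγ.mem_C0_of_comm (hmem _ x.2) (Or.inr hxa)
  intro g hg
  have htop : M.C0.subgroupOf C = ⊤ := by
    rw [eq_top_iff, ← hcompl.sup_eq_top]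
    refine sup_le hOle fun a ha => ?_
    obtain ⟨x, y, e⟩ := hfour a ha
    exact mem_subgroupOf.2 (e.symm ▸ (by simpa [el] using M.el_mem x y 1 1))
  exact mem_subgroupOf.1 (htop ▸ mem_top (⟨g, mem_centralizer_singleton_iff.2 hg⟩ : C))

/-- The normaliser of `⟨r⟩`. -/
theorem norm_cases (hfree : FreeStmt M) {γ : G} (hγ : M.Rot γ) {n : G}
    (hn : n * M.R * n⁻¹ ∈ zpowers M.R) :
    ∃ (k : Fin 3) (j : Bool), ∃ c ∈ M.C0, n = γ ^ (k : ℕ) * (if j then D.jL D.i else 1) * c := by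
  have hpk : ∀ k : ℕ, γ ^ k * M.R * (γ ^ k)⁻¹ ∈ zpowers M.R := by
    intro k
    induction k with
    | zero => simpa using mem_zpowers M.R
    | succ k ih =>
      obtain ⟨a, ha⟩ := mem_zpowers_iff.1 ih
      rw [show γ ^ (k + 1) * M.R * (γ ^ (k + 1))⁻¹ = γ * (γ ^ k * M.R * (γ ^ k)⁻¹) * γ⁻¹ by
        rw [pow_succ']; group, ← ha, ← conj_zpow]
      exact zpow_mem hγ.pow a
  obtain ⟨k, hk⟩ : ∃ k : Fin 3, γ ^ (k : ℕ) * D.t * (γ ^ (k : ℕ))⁻¹ = n * D.t * n⁻¹ := by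
    have hm : n * D.t * n⁻¹ ∈ M.C0 := cen_R hfree _ (M.comm_R_of_pow hn (by
      calc n * D.t * n⁻¹ * (n * M.R * n⁻¹) = n * (D.t * M.R) * n⁻¹ := by group
        _ = n * (M.R * D.t) * n⁻¹ := by rw [show D.t * M.R = M.R * D.t from D.t_jL _]
        _ = _ := by group))
    obtain ⟨x, y, z, σ, e⟩ := M.exists_el_of_mem hm
    obtain ⟨rfl, rfl⟩ := M.el_sq (show M.el x y z σ * M.el x y z σ = 1 by
      rw [← e, show n * D.t * n⁻¹ * (n * D.t * n⁻¹) = n * (D.t * D.t) * n⁻¹ by group, D.t_sq]; group)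
    rw [e]
    cases x <;> cases y
    · exfalso; exact D.t_ne (conj_eq_one_iff.1 (e.trans (by simp [el, Data.four])))
    · refine ⟨2, ?_⟩
      simp only [el, Data.four, Bool.false_eq_true, if_false, if_true, one_mul, mul_one, map_one,
        OneMemClass.coe_one]
      show γ ^ 2 * D.t * (γ ^ 2)⁻¹ = D.jL D.s
      rw [show γ ^ 2 * D.t * (γ ^ 2)⁻¹ = γ * (γ * D.t * γ⁻¹) * γ⁻¹ by rw [pow_two]; group, hγ.mt, hγ.mts]
    · exact ⟨0, by simp [el, Data.four]⟩
    · refine ⟨1, ?_⟩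
      simp [el, Data.four, hγ.mt]
  set n' := (γ ^ (k : ℕ))⁻¹ * n with hn'
  have hnt : n' * D.t = D.t * n' := by
    calc n' * D.t = (γ ^ (k : ℕ))⁻¹ * (n * D.t * n⁻¹) * n := by rw [hn']; group
      _ = _ := by rw [← hk, hn']; group
  have hnR : n' * M.R * n'⁻¹ ∈ zpowers M.R := by
    obtain ⟨a, ha⟩ := mem_zpowers_iff.1 hn
    obtain ⟨b, hb⟩ := mem_zpowers_iff.1 (M.R_mem_of_ne (hpk k) fun e => M.R_ne (conj_eq_one_iff.1 e))
    have hinv : (γ ^ (k : ℕ))⁻¹ * M.R * γ ^ (k : ℕ) ∈ zpowers M.R := by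
      have e : (γ ^ (k : ℕ))⁻¹ * M.R * γ ^ (k : ℕ) = M.R ^ b := by
        conv_lhs => rw [← hb, conj_zpow]
        group
      rw [e]; exact zpow_mem (mem_zpowers _) b
    obtain ⟨d, hd⟩ := mem_zpowers_iff.1 hinv
    rw [show n' * M.R * n'⁻¹ = (γ ^ (k : ℕ))⁻¹ * (n * M.R * n⁻¹) * γ ^ (k : ℕ) by rw [hn']; group, ← ha]
    have e : (γ ^ (k : ℕ))⁻¹ * M.R ^ a * γ ^ (k : ℕ) = ((γ ^ (k : ℕ))⁻¹ * M.R * γ ^ (k : ℕ)) ^ a := by
      have h := map_zpow (MulAut.conj (γ ^ (k : ℕ))⁻¹) M.R a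
      simp only [MulAut.conj_apply, inv_inv] at h
      exact h
    rw [e]; exact zpow_mem hinv a
  obtain ⟨a, ha⟩ := mem_zpowers_iff.1 hnR
  obtain ⟨l, τ, hl⟩ := D.exists_dec hnt
  have hconj : n' * M.R * n'⁻¹ = D.jL (l * M.r * l⁻¹) := by
    have h1 : D.jL l * D.jΦ τ * M.R * (D.jL l * D.jΦ τ)⁻¹ = D.jL (l * M.r * l⁻¹) := by
      calc D.jL l * D.jΦ τ * M.R * (D.jL l * D.jΦ τ)⁻¹
          = D.jL l * (D.jΦ τ * D.jL M.r * (D.jΦ τ)⁻¹) * (D.jL l)⁻¹ := by show _ * D.jL M.r * _ = _; group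
        _ = _ := by rw [D.jconj, M.r_fix, map_mul, map_mul, map_inv]
    rcases hl with h | h
    · rw [h, h1]
    · rw [h, show D.t * (D.jL l * D.jΦ τ) * M.R * (D.t * (D.jL l * D.jΦ τ))⁻¹ =
        D.t * (D.jL l * D.jΦ τ * M.R * (D.jL l * D.jΦ τ)⁻¹) * D.t⁻¹ by group, h1, D.t_jL, mul_inv_cancel_right]
  have hra : l * M.r * l⁻¹ = M.r ^ a := D.jL_inj (by rw [← hconj, ← ha, map_zpow])
  have hlC := M.ld.ti_h M.r M.r_mem M.r_ne l (hra ▸ zpow_mem M.r_mem a)
  by_cases hcase : n' * M.R = M.R * n'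
  · exact ⟨k, false, n', cen_R hfree _ hcase, by simp [hn']⟩
  · refine ⟨k, true, (D.jL D.i)⁻¹ * n', cen_R hfree _ ?_, by simp [hn', mul_assoc]⟩
    have hinv : l * M.r * l⁻¹ = M.r⁻¹ := by
      rcases M.ld.Cs_cases l hlC with h | h
      · exfalso
        obtain ⟨z, hz, y, rfl⟩ := M.sup_split h
        have hc : z * (if y then D.s else 1) * M.r = M.r * (z * (if y then D.s else 1)) := by
          have c1 : Commute z M.r := M.Zh_comm hz M.r_mem
          have c2 : Commute (if y then D.s else 1) M.r := by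
            split_ifs
            exacts [(M.Zh_s M.r_mem).symm, Commute.one_left _]
          exact (c1.mul_left c2).eq
        refine hcase (mul_inv_eq_iff_eq_mul.1 ?_)
        rw [hconj, hc, mul_inv_cancel_right]
      · exact h.2.2 M.r M.r_mem
    have e : n' * M.R * n'⁻¹ = M.R⁻¹ := by rw [hconj, hinv, map_inv]
    have ei : D.jL D.i * M.R * (D.jL D.i)⁻¹ = M.R⁻¹ := by
      show D.jL D.i * D.jL M.r * _ = (D.jL M.r)⁻¹
      rw [← map_inv, ← map_mul, ← map_mul, M.i_inv M.r_mem, map_inv]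
    calc (D.jL D.i)⁻¹ * n' * M.R = (D.jL D.i)⁻¹ * (n' * M.R * n'⁻¹) * n' := by group
      _ = (D.jL D.i)⁻¹ * (D.jL D.i * M.R * (D.jL D.i)⁻¹) * n' := by rw [e, ei]
      _ = _ := by group

end Main

end Cfsg.Agent.NoField
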