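import Cfsg.Agent.Lib.NoField.TorusBase
import Mathlib.RingTheory.RootsOfUnity.Complex
import Mathlib.RingTheory.IntegralDomain

/-!
The character `λ` of the torus `Zh`: it has order `l`, is fixed by `Φ` and detects `r`.
-/

set_option autoImplicit false
set_option linter.style.haveILetI false
set_option linter.unusedSectionVars false

namespace Cfsg.Agent.NoField

open Subgroup Cfsg.Agent.Walter8 Cfsg.Agent.AutPSL
open scoped Classical ComplexConjugate

universe u

variable {G : Type u} [Group G] [Finite G] {D : Data G}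

/-- In a finite cyclic subgroup the order determines the subgroup generated. -/
theorem mem_zpowers_of_order {K : Type*} [Group K] [Finite K] {a b c : K} (ha : a ∈ zpowers c)
    (hb : b ∈ zpowers c) (h : orderOf a = orderOf b) : a ∈ zpowers b := by
  classical
  set C := zpowers c
  haveI := Fintype.ofFinite C
  set a' : C := ⟨a, ha⟩
  set b' : C := ⟨b, hb⟩
  have hao : orderOf a' = orderOf b' := by rw [← Subgroup.orderOf_coe, ← Subgroup.orderOf_coe]; exact h
  have hset : ∀ u : C, orderOf u = orderOf b' → (zpowers u : Set C) = {x | x ^ orderOf b' = 1} := by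
    intro u hu
    refine Set.eq_of_subset_of_ncard_le ?_ ?_ (Set.toFinite _)
    · rintro x ⟨i, rfl⟩
      show (u ^ i) ^ orderOf b' = 1
      rw [← zpow_natCast, ← zpow_mul, mul_comm, zpow_mul, zpow_natCast, ← hu, pow_orderOf_eq_one, one_zpow]
    · rw [show (zpowers u : Set C).ncard = orderOf b' by rw [← Nat.card_coe_set_eq, ← hu]; exact Nat.card_zpowers u,
        Set.ncard_eq_toFinset_card']
      convert IsCyclic.card_pow_eq_one_le (α := C) (orderOf_pos b') using 2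
      ext x; simp
  have hm : a' ∈ zpowers b' := by
    rw [← SetLike.mem_coe, hset b' rfl, ← hset a' hao]
    exact mem_zpowers a'
  obtain ⟨i, hi⟩ := mem_zpowers_iff.1 hm
  exact mem_zpowers_iff.2 ⟨i, congrArg Subtype.val hi⟩

namespace Main

variable (M : Main D)

theorem Zh_pow_eq_one (z : M.ld.Zh) : z ^ M.ld.h = 1 := M.ld.card_Zh ▸ pow_card_eq_one'

theorem l_dvd_h : M.l ∣ M.ld.h := by
  rw [← M.ld.card_Zh, ← M.r_order]
  exact Subgroup.orderOf_dvd_natCard _ M.r_mem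

theorem pow_mem_r (z : M.ld.Zh) : ((z ^ (M.ld.h / M.l) : M.ld.Zh) : PSL2 D.F) ∈ zpowers M.r := by
  set w := z ^ (M.ld.h / M.l)
  have hw : w ^ M.l = 1 := by rw [← pow_mul, Nat.div_mul_cancel M.l_dvd_h, M.Zh_pow_eq_one]
  by_cases h1 : w = 1
  · rw [h1]; exact one_mem _
  · haveI := Fact.mk M.l_prime
    have hZ : ∀ a : M.ld.Zh, (a : PSL2 D.F) ∈ zpowers (⟨_, M.r_mem⟩ : M.ld.Zh).1 ↔ a ∈ zpowers (⟨_, M.r_mem⟩ : M.ld.Zh) := by
      intro a
      simp only [mem_zpowers_iff, Subtype.ext_iff, Subgroup.coe_zpow]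
    refine (hZ w).2 ?_
    haveI := M.ld.Zh_cyclic
    obtain ⟨c, hc⟩ := IsCyclic.exists_generator (α := M.ld.Zh)
    exact mem_zpowers_of_order (hc _) (hc _) ((orderOf_eq_prime hw h1).trans
      (M.r_order.symm.trans (Subgroup.orderOf_coe (⟨_, M.r_mem⟩ : M.ld.Zh))))

/-- The character `λ`. -/
theorem exists_lam : ∃ lam : M.ld.Zh →* ℂˣ, (∀ σ z, lam (M.act σ z) = lam z) ∧
    (∀ z : M.ld.Zh, lam z ≠ 1 → M.r ∈ zpowers (z : PSL2 D.F)) ∧
    (∃ z : M.ld.Zh, (∀ σ : D.Φ, semi 1 (σ : D.F ≃+* D.F) (z : PSL2 D.F) = z) ∧ lam z ≠ 1) ∧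
    ∀ z, lam z ^ M.l = 1 := by
  haveI := M.ld.Zh_cyclic
  letI : CommGroup M.ld.Zh := IsCyclic.commGroup
  set e := M.ld.h / M.l with he
  let pw : M.ld.Zh →* zpowers M.r :=
    MonoidHom.mk' (fun z => ⟨((z ^ e : M.ld.Zh) : PSL2 D.F), M.pow_mem_r z⟩) fun a b =>
      Subtype.ext (by
        show (((a * b) ^ e : M.ld.Zh) : PSL2 D.F) = ((a ^ e : M.ld.Zh) : PSL2 D.F) * ((b ^ e : M.ld.Zh) : PSL2 D.F)
        rw [mul_pow, Subgroup.coe_mul])
  have hl0 : M.l ≠ 0 := M.l_prime.ne_zero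
  have hζ := Complex.isPrimitiveRoot_exp M.l hl0
  set ζ : ℂˣ := Units.mk0 _ (hζ.ne_zero hl0)
  have hζo : orderOf ζ = M.l := by rw [← orderOf_units]; exact hζ.eq_orderOf.symm
  let r' : zpowers M.r := ⟨M.r, mem_zpowers _⟩
  have hgen : ∀ x, x ∈ zpowers r' := by
    rintro ⟨x, hx⟩
    obtain ⟨i, rfl⟩ := mem_zpowers_iff.1 hx
    exact mem_zpowers_iff.2 ⟨i, Subtype.ext (Subgroup.coe_zpow _ _ _)⟩
  have hr' : orderOf r' = M.l := by rw [← Subgroup.orderOf_coe]; exact M.r_order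
  let ψ : zpowers M.r →* ℂˣ := monoidHomOfForallMemZpowers hgen (g' := ζ) (by rw [hζo, hr'])
  have hψ : ∀ x, ψ x = 1 → x = 1 := by
    intro x hx
    obtain ⟨i, rfl⟩ := mem_zpowers_iff.1 (hgen x)
    rw [map_zpow, monoidHomOfForallMemZpowers_apply_gen, ← orderOf_dvd_iff_zpow_eq_one, hζo, ← hr',
      orderOf_dvd_iff_zpow_eq_one] at hx
    exact hx
  refine ⟨ψ.comp pw, fun σ z => ?_, fun z hz => ?_, ?_, fun z => ?_⟩
  · refine congrArg ψ (Subtype.ext ?_)
    show (((M.act σ z) ^ e : M.ld.Zh) : PSL2 D.F) = ((z ^ e : M.ld.Zh) : PSL2 D.F)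
    rw [SubmonoidClass.coe_pow, coe_act, ← map_pow]
    obtain ⟨i, hi⟩ := mem_zpowers_iff.1 (M.pow_mem_r z)
    rw [← SubmonoidClass.coe_pow, ← hi, map_zpow, M.r_fix]
  · have hne : pw z ≠ 1 := fun h => hz (by rw [MonoidHom.comp_apply, h, map_one])
    have h2 : ((z ^ e : M.ld.Zh) : PSL2 D.F) ≠ 1 := fun h => hne (Subtype.ext h)
    have h3 : M.r ∈ zpowers ((z ^ e : M.ld.Zh) : PSL2 D.F) := by
      refine mem_zpowers_of_order (c := M.r) (mem_zpowers _) (M.pow_mem_r z) ?_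
      rw [M.r_order]
      haveI := Fact.mk M.l_prime
      refine (orderOf_eq_prime ?_ h2).symm
      rw [← SubmonoidClass.coe_pow, ← pow_mul, Nat.div_mul_cancel M.l_dvd_h, M.Zh_pow_eq_one]
      rfl
    refine zpowers_le.2 ?_ h3
    rw [SubmonoidClass.coe_pow]
    exact pow_mem (mem_zpowers _) e
  · obtain ⟨c, hc⟩ := IsCyclic.exists_generator (α := M.ld.Zh)
    have hco : orderOf c = M.ld.h := by rw [orderOf_eq_card_of_forall_mem_zpowers hc, M.ld.card_Zh]
    have hc1 : ψ (pw c) ≠ 1 := fun h => by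
      have h' : c ^ e = 1 := Subtype.ext (show ((c ^ e : M.ld.Zh) : PSL2 D.F) = 1 from congrArg Subtype.val (hψ _ h))
      have hh := M.h_odd.pos
      have hd := Nat.le_of_dvd (Nat.div_pos (Nat.le_of_dvd hh M.l_dvd_h) M.l_prime.pos)
        (hco ▸ orderOf_dvd_of_pow_eq_one h')
      have : e * 2 ≤ M.ld.h :=
        (Nat.mul_le_mul_left e M.l_prime.two_le).trans (Nat.div_mul_cancel M.l_dvd_h).le
      omega
    haveI : Fintype D.Φ := Fintype.ofFinite _
    let actH : D.Φ → (M.ld.Zh →* M.ld.Zh) := fun σ => MonoidHom.mk' (M.act σ) fun a b =>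
      Subtype.ext (map_mul _ _ _)
    let z' : M.ld.Zh := ∏ σ : D.Φ, M.act σ c
    have hlam : ∀ σ, ψ (pw (M.act σ c)) = ψ (pw c) := fun σ => by
      refine congrArg ψ (Subtype.ext ?_)
      show (((M.act σ c) ^ e : M.ld.Zh) : PSL2 D.F) = ((c ^ e : M.ld.Zh) : PSL2 D.F)
      rw [SubmonoidClass.coe_pow, coe_act, ← map_pow]
      obtain ⟨i, hi⟩ := mem_zpowers_iff.1 (M.pow_mem_r c)
      rw [← SubmonoidClass.coe_pow, ← hi, map_zpow, M.r_fix]
    refine ⟨z', fun τ => ?_, fun h => ?_⟩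
    · have h' : M.act τ z' = z' := by
        show actH τ (∏ σ : D.Φ, M.act σ c) = _
        rw [map_prod]
        refine Fintype.prod_equiv (Equiv.mulLeft τ) _ _ fun σ => ?_
        refine Subtype.ext (D.jL_inj ?_)
        show D.jL (semi 1 (τ : D.F ≃+* D.F) (semi 1 (σ : D.F ≃+* D.F) c)) =
          D.jL (semi 1 ((τ * σ : D.Φ) : D.F ≃+* D.F) c)
        rw [← D.jconj, ← D.jconj, ← D.jconj, map_mul]
        group
      exact congrArg Subtype.val h'
    · refine hc1 ?_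
      rw [map_prod] at h
      simp only [MonoidHom.comp_apply, hlam, Finset.prod_const, Finset.card_univ] at h
      have h2 : ψ (pw c) ^ M.l = 1 := by
        rw [← map_pow]
        refine (congrArg ψ ?_).trans (map_one ψ)
        refine Subtype.ext ?_
        show ((pw c : PSL2 D.F)) ^ M.l = 1
        show (((c ^ e : M.ld.Zh) : PSL2 D.F)) ^ M.l = 1
        rw [← SubmonoidClass.coe_pow, ← pow_mul, Nat.div_mul_cancel M.l_dvd_h, M.Zh_pow_eq_one]
        rfl
      exact orderOf_eq_one_iff.1 (Nat.eq_one_of_dvd_coprimes (M.l_prime.coprime_iff_not_dvd.2 M.l_coprime)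
        (orderOf_dvd_of_pow_eq_one h2) (Nat.card_eq_fintype_card (α := D.Φ) ▸ orderOf_dvd_of_pow_eq_one h))
  · rw [MonoidHom.comp_apply, ← map_pow]
    refine (congrArg ψ ?_).trans (map_one ψ)
    refine Subtype.ext ?_
    show (((z ^ e : M.ld.Zh) : PSL2 D.F)) ^ M.l = 1
    rw [← SubmonoidClass.coe_pow, ← pow_mul, Nat.div_mul_cancel M.l_dvd_h, M.Zh_pow_eq_one]
    rfl

end Main

end Cfsg.Agent.NoField
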