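import Cfsg.Agent.Lib.NoField.TorusCent
import Cfsg.Agent.Lib.NoField.TorusLam
import Cfsg.Agent.Lib.NoField.Pieces

/-!
The function `μ₁ ⊗ μ (1 - λ)` on the torus and the values of the induced function.
-/

set_option autoImplicit false
set_option linter.style.haveILetI false
set_option linter.unusedSectionVars false

namespace Cfsg.Agent.NoField

open Subgroup Cfsg Cfsg.Agent.Char Cfsg.Agent.Walter8 Cfsg.Agent.AutPSL
open scoped Classical ComplexConjugate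

universe u

variable {G : Type u} [Group G] [Fintype G] {D : Data G}

/-- The sign of a bit. -/
def sgb (b : Bool) : ℂ := if b then -1 else 1

theorem conj_unit_val {n : ℕ} (hn : n ≠ 0) {u : ℂˣ} (h : u ^ n = 1) :
    (u : ℂ) * conj (u : ℂ) = 1 := by
  have h1 : (u : ℂ) ^ n = 1 := by rw [← Units.val_pow_eq_pow_val, h, Units.val_one]
  rw [← Complex.inv_eq_conj (Complex.norm_eq_one_of_pow_eq_one h1 hn), mul_inv_cancel₀ u.ne_zero]

theorem cls (χ : IrrCharacter G) (g c : G) : (χ : G → ℂ) (g * c * g⁻¹) = (χ : G → ℂ) c :=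
  (isClassFunction_iff.1 (IsCharacter.isClassFunction (IsIrrCharacter.isCharacter χ.2)) _ _
    (isConj_iff.2 ⟨g, rfl⟩)).symm

/-- The data used on the torus. -/
structure Main.TData (M : Main D) where
  γ : G
  rot : M.Rot γ
  free : FreeStmt M
  lam : M.ld.Zh →* ℂˣ
  inv : ∀ σ z, lam (M.act σ z) = lam z
  det : ∀ z : M.ld.Zh, lam z ≠ 1 → M.r ∈ zpowers (z : PSL2 D.F)
  fixed : ∃ z : M.ld.Zh, (∀ σ : D.Φ, semi 1 (σ : D.F ≃+* D.F) (z : PSL2 D.F) = z) ∧ lam z ≠ 1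
  pow_l : ∀ z, lam z ^ M.l = 1

theorem Main.exists_tData (M : Main D) (hfree : FreeStmt M) : Nonempty M.TData := by
  obtain ⟨γ, hγ⟩ := M.exists_rot
  obtain ⟨lam, h1, h2, h3, h4⟩ := M.exists_lam
  exact ⟨⟨γ, hγ, hfree, lam, h1, h2, h3, h4⟩⟩

namespace Main

variable {M : Main D}

/-- The element `jL z * jΦ σ` of `X`. -/
def wX (M : Main D) (z : M.ld.Zh) (σ : D.Φ) : D.X :=
  ⟨D.jL (z : PSL2 D.F) * D.jΦ σ, mul_mem (D.jL_mem _) (D.jΦ_mem _)⟩

theorem el_wX (M : Main D) (x y : Bool) (z : M.ld.Zh) (σ : D.Φ) :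
    M.el x y z σ = D.four x y * (M.wX z σ : G) := rfl

theorem el_ff (M : Main D) (z : M.ld.Zh) (σ : D.Φ) : M.el false false z σ = (M.wX z σ : G) := by
  rw [el_wX]; simp [Data.four]

theorem pr_wX (M : Main D) (z : M.ld.Zh) (σ : D.Φ) : D.pr (M.wX z σ) = σ := D.pr_spec _ _ σ rfl

theorem conj_i (M : Main D) (x y : Bool) (z : M.ld.Zh) (σ : D.Φ) :
    D.jL D.i * M.el x y z σ * (D.jL D.i)⁻¹ = M.el x y z⁻¹ σ := by
  have hf : D.jL D.i * D.four x y * (D.jL D.i)⁻¹ = D.four x y := by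
    rw [D.S_comm D.i_mem_S (four_mem_S D x y), mul_inv_cancel_right]
  have hp : D.jL D.i * D.jΦ σ * (D.jL D.i)⁻¹ = D.jΦ σ := by
    rw [← D.jΦ_comm_i σ, mul_inv_cancel_right]
  have hz : D.jL D.i * D.jL (z : PSL2 D.F) * (D.jL D.i)⁻¹ = D.jL ((z⁻¹ : M.ld.Zh) : PSL2 D.F) := by
    rw [← map_inv, ← map_mul, ← map_mul, M.i_inv z.2]; rfl
  calc D.jL D.i * M.el x y z σ * (D.jL D.i)⁻¹
      = (D.jL D.i * D.four x y * (D.jL D.i)⁻¹) * ((D.jL D.i * D.jL (z : PSL2 D.F) * (D.jL D.i)⁻¹) *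
          (D.jL D.i * D.jΦ σ * (D.jL D.i)⁻¹)) := by simp only [el]; group
    _ = _ := by rw [hf, hp, hz]; rfl

namespace TData

variable (T : M.TData)

theorem el_ff_pow (z : M.ld.Zh) (σ : D.Φ) (n : ℕ) :
    ∃ z' : M.ld.Zh, M.el false false z σ ^ n = M.el false false z' (σ ^ n) ∧ T.lam z' = T.lam z ^ n := by
  induction n with
  | zero => exact ⟨1, by rw [pow_zero, pow_zero, M.el_one], by rw [map_one, pow_zero]⟩
  | succ n ih =>
    obtain ⟨z', h, h'⟩ := ih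
    refine ⟨z' * M.act (σ ^ n) z, ?_, ?_⟩
    · rw [pow_succ, h, M.el_mul, pow_succ]; rfl
    · rw [map_mul, T.inv, h', pow_succ]

theorem lam_pow_ne {z : M.ld.Zh} (hz : T.lam z ≠ 1) {n : ℕ} (hn : ¬ M.l ∣ n) : T.lam z ^ n ≠ 1 := by
  intro h
  haveI := Fact.mk M.l_prime
  have ho := orderOf_eq_prime (T.pow_l z) hz
  exact hn (ho ▸ orderOf_dvd_of_pow_eq_one h)

/-- The support detects `⟨r⟩`. -/
theorem R_mem {z : M.ld.Zh} (hz : T.lam z ≠ 1) (x y : Bool) (σ : D.Φ) :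
    M.R ∈ zpowers (M.el x y z σ) := by
  obtain ⟨z', h, h'⟩ := T.el_ff_pow (z * M.act σ z) (σ * σ) (Nat.card D.Φ)
  rw [pow_card_eq_one', map_mul, T.inv, ← pow_two, ← pow_mul] at *
  have h2 : T.lam z' ≠ 1 := by
    rw [h']
    refine T.lam_pow_ne hz fun hd => ?_
    rcases M.l_prime.dvd_mul.1 hd with hd | hd
    · have h3 := (Nat.prime_dvd_prime_iff_eq M.l_prime Nat.prime_two).1 hd
      have := M.l_odd
      rw [h3] at this
      exact absurd this (by decide)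
    · exact M.l_coprime hd
  have he : M.el false false (z * M.act σ z) (σ ^ 2) = M.el x y z σ ^ 2 := by
    rw [pow_two (M.el x y z σ), M.el_mul, Bool.xor_self, Bool.xor_self, pow_two]
  rw [he] at h
  refine zpowers_le.2 (pow_mem (pow_mem (mem_zpowers _) 2) (Nat.card D.Φ)) ?_
  rw [h, el_ff]
  show M.R ∈ zpowers (D.jL (z' : PSL2 D.F) * D.jΦ 1)
  rw [map_one, mul_one, ← MonoidHom.map_zpowers]
  exact Subgroup.mem_map_of_mem _ (T.det z' h2)

include T in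
theorem wX_odd (z : M.ld.Zh) (σ : D.Φ) : Odd (orderOf (M.wX z σ)) := by
  rw [← Subgroup.orderOf_coe, ← el_ff]
  obtain ⟨z', h, -⟩ := T.el_ff_pow z σ (Nat.card D.Φ)
  rw [pow_card_eq_one'] at h
  refine (D.card_Φ_odd.mul (M.Zh_odd z'.2)).of_dvd_nat (orderOf_dvd_of_pow_eq_one ?_)
  rw [pow_mul, h, el_ff]
  show (D.jL (z' : PSL2 D.F) * D.jΦ 1) ^ orderOf (z' : PSL2 D.F) = 1
  rw [map_one, mul_one, ← map_pow, pow_orderOf_eq_one, map_one]

theorem l_dvd_order {z : M.ld.Zh} (hz : T.lam z ≠ 1) (x y : Bool) (σ : D.Φ) :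
    M.l ∣ orderOf (M.el x y z σ) :=
  M.R_order ▸ orderOf_dvd_of_mem_zpowers (T.R_mem hz x y σ)

theorem trivial_lam_inv : ∀ (σ : D.Φ) (z : M.ld.Zh), (1 : M.ld.Zh →* ℂˣ) (M.act σ z) = (1 : M.ld.Zh →* ℂˣ) z :=
  fun _ _ => rfl

/-- The function on the torus. -/
noncomputable def f0 (μ : D.Φ →* ℂˣ) (c : M.C0) : ℂ :=
  (M.lin μ 1 trivial_lam_inv c : ℂ) - (M.lin μ T.lam T.inv c : ℂ)

theorem f0_gen (μ : D.Φ →* ℂˣ) : IsGeneralizedCharacter M.C0 (T.f0 μ) := by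
  have h : ∀ f : M.C0 →* ℂˣ, IsGeneralizedCharacter M.C0 (fun c => (f c : ℂ)) := fun f =>
    IsGeneralizedCharacter.of_isCharacter (IsIrrCharacter.isCharacter (isIrrCharacter_linear f))
  exact IsGeneralizedCharacter.sub (h _) (h _)

theorem ev_el (μ : D.Φ →* ℂˣ) (x y : Bool) (z : M.ld.Zh) (σ : D.Φ) :
    ev (T.f0 μ) (M.el x y z σ) = sgb y * (μ σ : ℂ) * (1 - (T.lam z : ℂ)) := by
  rw [show M.el x y z σ = ((⟨M.el x y z σ, M.el_mem x y z σ⟩ : M.C0) : G) from rfl, ev_coe, f0,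
    M.lin_el, M.lin_el, sgb]
  simp only [MonoidHom.one_apply, Units.val_one]
  ring

/-- A point of the support. -/
theorem exists_of_ev {μ : D.Φ →* ℂˣ} {g : G} (h : ev (T.f0 μ) g ≠ 0) :
    ∃ x y z σ, g = M.el x y z σ ∧ T.lam z ≠ 1 := by
  by_cases hg : g ∈ M.C0
  · obtain ⟨x, y, z, σ, rfl⟩ := M.exists_el_of_mem hg
    refine ⟨x, y, z, σ, rfl, fun hz => h ?_⟩
    rw [ev_el, hz, Units.val_one, sub_self, mul_zero]
  · exact absurd (ev_of_not_mem _ hg) h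

/-- Fusion of the support lies in `N(⟨r⟩)`. -/
theorem norm_of_ev {μ : D.Φ →* ℂˣ} {x y : Bool} {z : M.ld.Zh} {σ : D.Φ} (hz : T.lam z ≠ 1) {g : G}
    (h : ev (T.f0 μ) (g * M.el x y z σ * g⁻¹) ≠ 0) : g * M.R * g⁻¹ ∈ zpowers M.R := by
  obtain ⟨x', y', z', σ', he, hz'⟩ := T.exists_of_ev h
  refine mem_zpowers_of_order (c := M.el x' y' z' σ') ?_ (T.R_mem hz' x' y' σ') (Invol.order_conj g M.R)
  obtain ⟨i, hi⟩ := mem_zpowers_iff.1 (T.R_mem hz x y σ)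
  rw [← he, ← hi, ← conj_zpow]
  exact zpow_mem (mem_zpowers _) i

/-- The representatives of `N(⟨r⟩)` modulo the torus. -/
def mv (T : M.TData) (p : Fin 3 × Bool) : G := T.γ ^ (p.1 : ℕ) * (if p.2 then D.jL D.i else 1)

theorem mv_norm (p : Fin 3 × Bool) : T.mv p ∈ normalizer (M.C0 : Set G) := by
  refine mul_mem (pow_mem T.rot.mem_normalizer _) ?_
  split_ifs
  · refine SEBrick.mem_normalizer_of fun c hc => ?_
    obtain ⟨x, y, z, σ, rfl⟩ := M.exists_el_of_mem hc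
    rw [M.conj_i]
    exact M.el_mem _ _ _ _
  · exact one_mem _

theorem mv_cover {g : G} (h : g * M.R * g⁻¹ ∈ zpowers M.R) :
    ∃ (p : Fin 3 × Bool) (c : M.C0), g = T.mv p * c := by
  obtain ⟨k, j, c, hc, e⟩ := Main.norm_cases T.free T.rot h
  exact ⟨(k, j), ⟨c, hc⟩, e⟩

theorem mv_t (p : Fin 3 × Bool) (c : M.C0) :
    T.mv p * c * D.t * (T.mv p * c)⁻¹ = T.γ ^ (p.1 : ℕ) * D.t * (T.γ ^ (p.1 : ℕ))⁻¹ := by
  have hc : Commute (c : G) D.t := (M.mem_C0.1 c.2).1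
  have hi : Commute (if p.2 then D.jL D.i else 1) D.t := by
    split_ifs
    exacts [(D.t_jL _).symm, Commute.one_left _]
  calc T.mv p * c * D.t * (T.mv p * c)⁻¹
      = T.γ ^ (p.1 : ℕ) * ((if p.2 then D.jL D.i else 1) * ((c : G) * D.t) * (c : G)⁻¹ *
          (if p.2 then D.jL D.i else 1)⁻¹) * (T.γ ^ (p.1 : ℕ))⁻¹ := by simp only [mv]; group
    _ = _ := by rw [hc.eq, mul_assoc _ (D.t * c), mul_inv_cancel_right, hi.eq, mul_inv_cancel_right]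

theorem pow_t : ∀ k : Fin 3, T.γ ^ (k : ℕ) * D.t * (T.γ ^ (k : ℕ))⁻¹ =
    ![D.t, D.t * D.jL D.s, D.jL D.s] k := by
  intro k
  fin_cases k
  · simp
  · simpa using T.rot.mt
  · show T.γ ^ 2 * D.t * (T.γ ^ 2)⁻¹ = D.jL D.s
    rw [show T.γ ^ 2 * D.t * (T.γ ^ 2)⁻¹ = T.γ * (T.γ * D.t * T.γ⁻¹) * T.γ⁻¹ by rw [pow_two]; group,
      T.rot.mt, T.rot.mts]

theorem mv_inj : Function.Injective fun q : (Fin 3 × Bool) × M.C0 => T.mv q.1 * (q.2 : G) := by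
  rintro ⟨⟨k, j⟩, c⟩ ⟨⟨k', j'⟩, c'⟩ h
  change T.mv (k, j) * (c : G) = T.mv (k', j') * (c' : G) at h
  have e : ![D.t, D.t * D.jL D.s, D.jL D.s] k = ![D.t, D.t * D.jL D.s, D.jL D.s] k' := by
    rw [← T.pow_t, ← T.pow_t, ← T.mv_t (k, j) c, ← T.mv_t (k', j') c', h]
  have hk : k = k' := by
    have e1 : D.t ≠ D.jL D.s := fun e => D.t_notMem (e ▸ D.jL_mem _)
    have e2 : D.t ≠ D.t * D.jL D.s := fun e =>
      D.s_ne (D.jL_inj ((mul_eq_left.1 e.symm).trans (map_one D.jL).symm))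
    have e3 : D.jL D.s ≠ D.t * D.jL D.s := fun e => D.t_ne (mul_eq_right.1 e.symm)
    fin_cases k <;> fin_cases k' <;> simp [e1, e2, e3, Ne.symm e1, Ne.symm e2, Ne.symm e3] at e ⊢
  subst hk
  have h' : (if j then D.jL D.i else 1) * (c : G) = (if j' then D.jL D.i else 1) * (c' : G) := by
    simp only [mv, mul_assoc] at h
    exact mul_left_cancel h
  have hi : D.jL D.i ∉ M.C0 := fun hm => by
    have h1 := (M.mem_C0.1 hm).2.2
    change D.jL D.i * D.jL M.r = D.jL M.r * D.jL D.i at h1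
    rw [← map_mul, ← map_mul] at h1
    have h2 := M.i_inv M.r_mem
    rw [D.jL_inj h1, mul_inv_cancel_right] at h2
    have h3 : M.r ^ 2 = 1 := by rw [pow_two]; exact mul_eq_one_iff_eq_inv.2 h2
    have h4 := Nat.le_of_dvd (by norm_num) (M.r_order ▸ orderOf_dvd_of_pow_eq_one h3)
    have h5 := M.l_odd
    have h6 := M.l_prime.two_le
    rw [show M.l = 2 by omega] at h5
    exact absurd h5 (by decide)
  cases j <;> cases j' <;> simp only [if_true, if_false, Bool.false_eq_true, one_mul] at h'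
  · exact Prod.ext rfl (Subtype.ext h')
  · exact absurd (by rw [eq_mul_inv_of_mul_eq h'.symm]; exact mul_mem c.2 (inv_mem c'.2)) hi
  · exact absurd (by rw [eq_mul_inv_of_mul_eq h']; exact mul_mem c'.2 (inv_mem c.2)) hi
  · exact Prod.ext rfl (Subtype.ext (mul_left_cancel h'))

/-- The multiplicities. -/
noncomputable def a (μ : D.Φ →* ℂˣ) (χ : IrrCharacter G) : ℤ := icoef (T.f0_gen μ) χ

/-- The induced function on the support. -/
theorem value (μ : D.Φ →* ℂˣ) {z : M.ld.Zh} (hz : T.lam z ≠ 1) (x y : Bool) (σ : D.Φ) :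
    ∑ χ, (T.a μ χ : ℂ) * (χ : G → ℂ) (M.el x y z σ) =
      ∑ p : Fin 3 × Bool, ev (T.f0 μ) (T.mv p * M.el x y z σ * (T.mv p)⁻¹) := by
  refine mul_right_cancel₀ (Nat.cast_ne_zero.2 (Nat.card_pos (α := M.C0)).ne') ?_
  show (∑ χ, (icoef (T.f0_gen μ) χ : ℂ) * _) * _ = _
  rw [icoef_value]
  calc ∑ g : G, ev (T.f0 μ) (g * M.el x y z σ * g⁻¹)
      = ∑ q : (Fin 3 × Bool) × M.C0,
          ev (T.f0 μ) (T.mv q.1 * q.2 * M.el x y z σ * (T.mv q.1 * q.2)⁻¹) := by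
        refine (Fintype.sum_of_injective _ T.mv_inj _ _ (fun g hg => ?_) fun q => rfl).symm
        by_contra h
        obtain ⟨p, c, e⟩ := T.mv_cover (T.norm_of_ev hz h)
        exact hg ⟨(p, c), e.symm⟩
    _ = ∑ p : Fin 3 × Bool, ∑ _c : M.C0, ev (T.f0 μ) (T.mv p * M.el x y z σ * (T.mv p)⁻¹) := by
        rw [Fintype.sum_prod_type]
        refine Finset.sum_congr rfl fun p _ => Finset.sum_congr rfl fun c _ => ?_
        have hc' : T.mv p * (c : G) * (T.mv p)⁻¹ ∈ M.C0 := (mem_normalizer_iff.1 (T.mv_norm p) _).1 c.2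
        rw [← ev_conj (T.f0_gen μ) hc' (T.mv p * M.el x y z σ * (T.mv p)⁻¹)]
        congr 1
        group
    _ = _ := by
        simp only [Finset.sum_const, Finset.card_univ, nsmul_eq_mul, ← Finset.mul_sum, Nat.card_eq_fintype_card]
        ring

theorem sum_Zh : ∑ z : M.ld.Zh, (T.lam z : ℂ) = 0 ∧ ∑ z : M.ld.Zh, conj (T.lam z : ℂ) = 0 ∧
    ∑ z : M.ld.Zh, conj (T.lam z : ℂ) ^ 2 = 0 := by
  obtain ⟨z0, -, hz0⟩ := T.fixed
  have h1 : ∑ z : M.ld.Zh, (T.lam z : ℂ) = 0 := by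
    refine sum_hom_units_eq_zero ((Units.coeHom ℂ).comp T.lam) fun h => hz0 (Units.ext ?_)
    exact congrArg (fun f : M.ld.Zh →* ℂ => f z0) h
  have h2 : ∑ z : M.ld.Zh, (T.lam z : ℂ) ^ 2 = 0 := by
    refine sum_hom_units_eq_zero ((powMonoidHom 2).comp ((Units.coeHom ℂ).comp T.lam)) fun h => ?_
    have e : (T.lam z0 : ℂ) ^ 2 = 1 := congrArg (fun f : M.ld.Zh →* ℂ => f z0) h
    refine T.lam_pow_ne hz0 (n := 2) (fun hd => ?_) (Units.ext (by rw [Units.val_pow_eq_pow_val]; exact e))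
    have h5 := M.l_odd
    rw [(Nat.prime_dvd_prime_iff_eq M.l_prime Nat.prime_two).1 hd] at h5
    exact absurd h5 (by decide)
  exact ⟨h1, by rw [← map_sum, h1, map_zero],
    by simp only [← map_pow]; rw [← map_sum, h2, map_zero]⟩

/-- Summation over the torus. -/
theorem sum_C0 {_ : Fintype M.C0} (F : M.C0 → ℂ) :
    ∑ c, F c = ∑ z : M.ld.Zh, ∑ σ : D.Φ, ∑ x : Bool, ∑ y : Bool,
      F ⟨M.el x y z σ, M.el_mem x y z σ⟩ := by
  rw [← Equiv.sum_comp M.coord F, Fintype.sum_prod_type]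
  simp only [Fintype.sum_prod_type]
  calc ∑ x : Bool, ∑ y : Bool, ∑ z : M.ld.Zh, ∑ σ : D.Φ, F (M.coord (x, y, z, σ))
      = ∑ x : Bool, ∑ z : M.ld.Zh, ∑ y : Bool, ∑ σ : D.Φ, F (M.coord (x, y, z, σ)) :=
        Finset.sum_congr rfl fun x _ => Finset.sum_comm
    _ = ∑ z : M.ld.Zh, ∑ x : Bool, ∑ y : Bool, ∑ σ : D.Φ, F (M.coord (x, y, z, σ)) := Finset.sum_comm
    _ = ∑ z : M.ld.Zh, ∑ x : Bool, ∑ σ : D.Φ, ∑ y : Bool, F (M.coord (x, y, z, σ)) :=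
        Finset.sum_congr rfl fun z _ => Finset.sum_congr rfl fun x _ => Finset.sum_comm
    _ = _ := Finset.sum_congr rfl fun z _ => Finset.sum_comm

theorem card_C0' : (Nat.card M.C0 : ℂ) = 4 * (Nat.card M.ld.Zh : ℂ) * (Nat.card D.Φ : ℂ) := by
  rw [M.card_C0]; push_cast; ring

/-- A sum against the multiplicities. -/
theorem weight_sum (μ : D.Φ →* ℂˣ) (wt : IrrCharacter G → ℂ) :
    (∑ χ, (T.a μ χ : ℂ) * wt χ) * (4 * (Nat.card M.ld.Zh : ℂ) * (Nat.card D.Φ : ℂ)) =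
      ∑ z : M.ld.Zh, ∑ σ : D.Φ, conj (μ σ : ℂ) * (1 - conj (T.lam z : ℂ)) *
        ∑ x : Bool, ∑ y : Bool, sgb y * ∑ χ, wt χ * (χ : G → ℂ) (M.el x y z σ) := by
  rw [← card_C0']
  show (∑ χ, (icoef (T.f0_gen μ) χ : ℂ) * wt χ) * _ = _
  rw [icoef_weight]
  refine (sum_C0 (M := M) _).trans ?_
  refine Finset.sum_congr rfl fun z _ => Finset.sum_congr rfl fun σ _ => ?_
  rw [Finset.mul_sum]
  refine Finset.sum_congr rfl fun x _ => ?_
  rw [Finset.mul_sum]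
  refine Finset.sum_congr rfl fun y _ => ?_
  rw [← ev_coe (T.f0 μ) ⟨M.el x y z σ, M.el_mem x y z σ⟩]
  show conj (ev (T.f0 μ) (M.el x y z σ)) * ∑ χ, wt χ * (χ : G → ℂ) (M.el x y z σ) = _
  rw [ev_el, map_mul, map_mul, map_sub, map_one]
  have hs : conj (sgb y) = sgb y := by cases y <;> simp [sgb]
  rw [hs]; ring

end TData

end Main

end Cfsg.Agent.NoField
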