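import Mathlib.GroupTheory.Nilpotent
import Mathlib.GroupTheory.Abelianization.Defs
import Mathlib.FieldTheory.Finite.Basic

/-!
An automorphism of a `p`-group all of whose weights on the centraliser of a fixed element are `1` or `ω`:
the weights on the whole group are `1` or `ω`, and a part moved by it is commutative when `ω² ∉ {1, ω}`.
-/

set_option autoImplicit false
set_option linter.unusedSectionVars false
set_option linter.style.haveILetI false

namespace Cfsg.Agent.NoField.Weight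

open Subgroup
open scoped commutatorElement

universe u

variable {H : Type u} [Group H]

/-- Invariance of a subgroup. -/
def Inv (α : MulAut H) (B : Subgroup H) : Prop := ∀ b ∈ B, α b ∈ B

/-- Every invariant section inside `C` has a non-trivial element of weight `1` or `ω`. -/
def Good (α : MulAut H) (ω : ℕ) (C : Subgroup H) : Prop :=
  ∀ A B : Subgroup H, A ≤ B → B ≤ C → Inv α A → Inv α B → (∀ b ∈ B, ∀ a ∈ A, b * a * b⁻¹ ∈ A) → ¬ B ≤ A →
    ∃ b ∈ B, b ∉ A ∧ ∃ e : ℕ, (e = 1 ∨ e = ω) ∧ (b ^ e)⁻¹ * α b ∈ A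

theorem conj_pow_eq {b f c : H} (hc : b * f * b⁻¹ = c * f) (hcc : b * c = c * b) :
    ∀ k : ℕ, b ^ k * f * (b ^ k)⁻¹ = c ^ k * f := by
  intro k
  induction k with
  | zero => simp
  | succ k ih =>
    calc b ^ (k + 1) * f * (b ^ (k + 1))⁻¹ = b * (b ^ k * f * (b ^ k)⁻¹) * b⁻¹ := by rw [pow_succ']; group
      _ = b * (c ^ k * f) * b⁻¹ := by rw [ih]
      _ = (b * c ^ k * b⁻¹) * (b * f * b⁻¹) := by group
      _ = c ^ k * (c * f) := by
        rw [hc, (show Commute b c from hcc).pow_right k |>.eq, mul_inv_cancel_right]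
      _ = c ^ (k + 1) * f := by rw [← mul_assoc, ← pow_succ]

/-- The weights on a centraliser are the weights on the whole group. -/
theorem good_top {p : ℕ} [Fact p.Prime] (ω : ℕ) : ∀ (n : ℕ) (H : Type u) [Group H] [Finite H],
    Nat.card H = n → IsPGroup p H → ∀ (α : MulAut H) (f : H), α f = f →
      Good α ω (centralizer ({f} : Set H)) → Good α ω ⊤ := by
  intro n
  induction n using Nat.strong_induction_on with
  | _ n ih =>
  intro H _ _ hn hH α f hf hC
  classical
  have hp : p.Prime := Fact.out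
  intro A B hAB _ hA hB hnorm hne
  rcases subsingleton_or_nontrivial H with hs | hs
  · exact absurd (fun b _ => by rw [Subsingleton.elim b 1]; exact one_mem A) hne
  -- a central element of order `p` of one of the two weights
  have hZ : Nontrivial (center H) := hH.center_nontrivial
  obtain ⟨b₀, hb₀, hb₀1, e₀, he₀, hb₀e⟩ := hC ⊥ (center H) bot_le
    (fun z hz => mem_centralizer_singleton_iff.2 (mem_center_iff.1 hz f).symm)
    (fun b hb => by rw [mem_bot] at hb ⊢; rw [hb, map_one])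
    (fun z hz => mem_center_iff.2 fun g => by
      obtain ⟨g', rfl⟩ := α.surjective g
      rw [← map_mul, ← map_mul, mem_center_iff.1 hz g'])
    (fun b _ a ha => by rw [mem_bot] at ha ⊢; rw [ha, mul_one, mul_inv_cancel])
    (fun h => (Subgroup.nontrivial_iff_ne_bot (center H)).1 hZ (le_bot_iff.1 h))
  rw [mem_bot] at hb₀1 hb₀e
  have hαb₀ : α b₀ = b₀ ^ e₀ := (inv_mul_eq_one.1 hb₀e).symm
  obtain ⟨k, hk⟩ := IsPGroup.iff_orderOf.1 hH b₀
  obtain ⟨k, rfl⟩ : ∃ j, k = j + 1 := by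
    refine ⟨k - 1, ?_⟩
    rcases Nat.eq_zero_or_pos k with h0 | h0
    · exact absurd (orderOf_eq_one_iff.1 (by rw [hk, h0, pow_zero])) hb₀1
    · omega
  set c₀ := b₀ ^ (p ^ k) with hc₀
  have hc₀o : orderOf c₀ = p := by
    rw [hc₀, orderOf_pow' _ (pow_ne_zero _ hp.ne_zero), hk,
      Nat.gcd_eq_right (pow_dvd_pow p k.le_succ), pow_succ, Nat.mul_div_cancel_left _ (pow_pos hp.pos k)]
  have hc₀c : c₀ ∈ center H := pow_mem hb₀ _
  have hαc₀ : α c₀ = c₀ ^ e₀ := by rw [hc₀, map_pow, hαb₀, ← pow_mul, ← pow_mul, mul_comm]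
  set N := zpowers c₀ with hN
  have hNc : ∀ z ∈ N, ∀ g : H, g * z = z * g := fun z hz g =>
    mem_center_iff.1 (zpowers_le.2 hc₀c hz) g
  haveI : N.Normal := ⟨fun z hz g => by rw [hNc z hz g, mul_inv_cancel_right]; exact hz⟩
  have hαN : ∀ z ∈ N, α z = z ^ e₀ := by
    intro z hz
    obtain ⟨i, rfl⟩ := mem_zpowers_iff.1 hz
    rw [map_zpow, hαc₀, ← zpow_natCast, ← zpow_natCast, ← zpow_mul, ← zpow_mul, mul_comm]
  have hNα : N.map α.toMonoidHom = N := by
    refine Subgroup.eq_of_le_of_card_ge ?_ (le_of_eq ?_)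
    · rintro _ ⟨z, hz, rfl⟩
      show α z ∈ N
      rw [hαN z hz]; exact pow_mem hz _
    · exact (Subgroup.card_map_of_injective α.injective).symm
  by_cases hBN : B ⊓ N ≤ A
  swap
  · obtain ⟨b, hb, hbA⟩ := SetLike.not_le_iff_exists.1 hBN
    exact ⟨b, hb.1, hbA, e₀, he₀, by rw [hαN b hb.2, inv_mul_cancel]; exact one_mem A⟩
  -- the quotient
  let φ := QuotientGroup.mk' N
  let α' : MulAut (H ⧸ N) := QuotientGroup.congr N N α hNα
  have hα' : ∀ x, α' (φ x) = φ (α x) := fun x => rfl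
  have hcard : Nat.card (H ⧸ N) < n := by
    have h1 := Subgroup.card_eq_card_quotient_mul_card_subgroup N
    rw [hn, Nat.card_zpowers, hc₀o] at h1
    rw [h1]
    exact lt_mul_of_one_lt_right Nat.card_pos hp.one_lt
  have hC' : Good α' ω (centralizer ({φ f} : Set (H ⧸ N))) := by
    intro A₁ B₁ hAB₁ hB₁C hA₁ hB₁ hn₁ hne₁
    set C := centralizer ({f} : Set H) with hCdef
    have hCinv : ∀ x ∈ C, α x ∈ C := fun x hx => by
      rw [hCdef, mem_centralizer_singleton_iff] at hx ⊢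
      conv_lhs => rw [← hf]
      conv_rhs => rw [← hf]
      rw [← map_mul, ← map_mul, hx]
    by_cases hin : B₁.comap φ ⊓ C ≤ A₁.comap φ
    swap
    · obtain ⟨b, hb, hbA, e, he, hbe⟩ := hC (A₁.comap φ ⊓ C) (B₁.comap φ ⊓ C)
        (inf_le_inf_right _ (comap_mono hAB₁)) inf_le_right
        (fun x hx => ⟨by show φ (α x) ∈ A₁; rw [← hα']; exact hA₁ _ hx.1, hCinv x hx.2⟩)
        (fun x hx => ⟨by show φ (α x) ∈ B₁; rw [← hα']; exact hB₁ _ hx.1, hCinv x hx.2⟩)
        (fun b hb a ha => mem_inf.2 ⟨by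
          show φ (b * a * b⁻¹) ∈ A₁
          rw [map_mul, map_mul, map_inv]; exact hn₁ _ hb.1 _ ha.1,
          mul_mem (mul_mem (mem_inf.1 hb).2 (mem_inf.1 ha).2) (inv_mem (mem_inf.1 hb).2)⟩)
        (fun h => hin (fun x hx => (h hx).1))
      refine ⟨φ b, hb.1, fun h => hbA ⟨h, hb.2⟩, e, he, ?_⟩
      rw [hα', ← map_pow, ← map_inv, ← map_mul]
      exact hbe.1
    · obtain ⟨x, hx, hxA⟩ := SetLike.not_le_iff_exists.1 hne₁
      obtain ⟨b, rfl⟩ := QuotientGroup.mk'_surjective N x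
      have hbf := mem_centralizer_singleton_iff.1 (hB₁C hx)
      set c := b * f * b⁻¹ * f⁻¹ with hc
      have hcN : c ∈ N := by
        refine (QuotientGroup.eq_one_iff c).1 ?_
        show φ c = 1
        rw [hc, map_mul, map_mul, map_mul, map_inv, map_inv]
        change φ b * φ f * (φ b)⁻¹ * (φ f)⁻¹ = 1
        rw [hbf, mul_inv_cancel_right, mul_inv_cancel]
      have hbc : b * f * b⁻¹ = c * f := by rw [hc, inv_mul_cancel_right]
      refine ⟨φ b, hx, hxA, e₀, he₀, ?_⟩
      rw [hα', ← map_pow, ← map_inv, ← map_mul]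
      refine hin (mem_inf.2 ⟨?_, ?_⟩)
      · show φ ((b ^ e₀)⁻¹ * α b) ∈ B₁
        rw [map_mul, map_inv, map_pow, ← hα']
        exact mul_mem (inv_mem (pow_mem hx _)) (hB₁ _ hx)
      · have h1 : α b * f * (α b)⁻¹ = b ^ e₀ * f * (b ^ e₀)⁻¹ := by
          rw [conj_pow_eq hbc (hNc c hcN b), ← hαN c hcN]
          conv_lhs => rw [← hf, ← map_inv, ← map_mul, ← map_mul, hbc, map_mul, hf]
        rw [hCdef, mem_centralizer_singleton_iff, ← mul_inv_eq_iff_eq_mul]
        calc (b ^ e₀)⁻¹ * α b * f * ((b ^ e₀)⁻¹ * α b)⁻¹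
            = (b ^ e₀)⁻¹ * (α b * f * (α b)⁻¹) * b ^ e₀ := by group
          _ = f := by rw [h1]; group
  have hQ := ih _ hcard (H ⧸ N) rfl (hH.to_quotient N) α' (φ f) (by rw [hα', hf]) hC'
  obtain ⟨x, hx, hxA, e, he, hxe⟩ := hQ (A.map φ) (B.map φ) (map_mono hAB) le_top
    (by rintro _ ⟨a, ha, rfl⟩; exact ⟨α a, hA a ha, (hα' a).symm⟩)
    (by rintro _ ⟨a, ha, rfl⟩; exact ⟨α a, hB a ha, (hα' a).symm⟩)
    (by
      rintro _ ⟨b, hb, rfl⟩ _ ⟨a, ha, rfl⟩
      exact ⟨_, hnorm b hb a ha, by rw [map_mul, map_mul, map_inv]⟩)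
    (fun h => hne fun b hb => by
      obtain ⟨a, ha, hab⟩ := h ⟨b, hb, rfl⟩
      have hm : a⁻¹ * b ∈ B ⊓ N := mem_inf.2 ⟨mul_mem (inv_mem (hAB ha)) hb, QuotientGroup.eq.1 hab⟩
      have := mul_mem ha (hBN hm)
      rwa [mul_inv_cancel_left] at this)
  obtain ⟨b, hb, rfl⟩ := hx
  refine ⟨b, hb, fun h => hxA ⟨b, h, rfl⟩, e, he, ?_⟩
  rw [hα', ← map_pow, ← map_inv, ← map_mul] at hxe
  obtain ⟨a, ha, hab⟩ := hxe
  have hm : a⁻¹ * ((b ^ e)⁻¹ * α b) ∈ B ⊓ N :=
    mem_inf.2 ⟨mul_mem (inv_mem (hAB ha)) (mul_mem (inv_mem (pow_mem hb _)) (hB b hb)), QuotientGroup.eq.1 hab⟩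
  have := mul_mem ha (hBN hm)
  rwa [mul_inv_cancel_left] at this

variable [Finite H]

/-- A moved part has the single weight `ω` on top, so it is commutative. -/
theorem comm_of_good {p : ℕ} [Fact p.Prime] (hH : IsPGroup p H) (α : MulAut H) {ω n : ℕ}
    (hg : Good α ω ⊤) (hn : ¬ p ∣ n) (hαn : ∀ x, α^[n] x = x) (hωn : (ω : ZMod p) ^ n = 1)
    (hω1 : (ω : ZMod p) ≠ 1) (hω2 : (ω : ZMod p) ^ 2 ≠ 1)
    (hgen : closure (Set.range fun x : H => x⁻¹ * α x) = ⊤) : ∀ a b : H, a * b = b * a := by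
  classical
  have hp : p.Prime := Fact.out
  have hn0 : n ≠ 0 := fun h => hn (h ▸ dvd_zero p)
  have hω0 : (ω : ZMod p) ≠ 0 := fun h => by rw [h, zero_pow hn0] at hωn; exact zero_ne_one hωn
  -- the largest elementary commutative quotient
  set Φ := ⁅(⊤ : Subgroup H), ⊤⁆ ⊔ closure (Set.range fun x : H => x ^ p) with hΦ
  have hWΦ : ∀ a b : H, ⁅a, b⁆ ∈ Φ := fun a b =>
    mem_sup_left (commutator_mem_commutator (mem_top a) (mem_top b))
  have hpΦ : ∀ a : H, a ^ p ∈ Φ := fun a => mem_sup_right (subset_closure ⟨a, rfl⟩)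
  haveI hΦn : Φ.Normal := ⟨fun a ha g => by
    rw [show g * a * g⁻¹ = ⁅g, a⁆ * a by rw [commutatorElement_def]; group]
    exact mul_mem (hWΦ g a) ha⟩
  have hΦα : Inv α Φ := by
    suffices h : Φ ≤ Φ.comap α.toMonoidHom from fun b hb => h hb
    refine sup_le (commutator_le.2 fun a _ b _ => ?_) ((closure_le _).2 ?_)
    · show α ⁅a, b⁆ ∈ Φ
      rw [map_commutatorElement]; exact hWΦ _ _
    · rintro _ ⟨a, rfl⟩
      show α (a ^ p) ∈ Φ
      rw [map_pow]; exact hpΦ _
  let π := QuotientGroup.mk' Φ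
  have hcomm : ∀ a b : H ⧸ Φ, a * b = b * a := by
    rintro ⟨a⟩ ⟨b⟩
    refine commutatorElement_eq_one_iff_mul_comm.1 ?_
    show ⁅π a, π b⁆ = 1
    rw [← map_commutatorElement]
    exact (QuotientGroup.eq_one_iff _).2 (hWΦ a b)
  letI : CommGroup (H ⧸ Φ) := { (inferInstance : Group (H ⧸ Φ)) with mul_comm := hcomm }
  have hexp : ∀ v : H ⧸ Φ, v ^ p = 1 := by
    rintro ⟨a⟩
    exact (QuotientGroup.eq_one_iff _).2 (hpΦ a)
  let d : H →* H ⧸ Φ :=
    { toFun := fun x => (π x)⁻¹ * π (α x)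
      map_one' := by simp
      map_mul' := fun a b => by rw [map_mul, map_mul, map_mul, mul_inv, mul_mul_mul_comm] }
  have hdker : Φ ≤ d.ker := fun a ha => by
    show (π a)⁻¹ * π (α a) = 1
    rw [show π a = 1 from (QuotientGroup.eq_one_iff _).2 ha,
      show π (α a) = 1 from (QuotientGroup.eq_one_iff _).2 (hΦα a ha), inv_one, one_mul]
  let d' : H ⧸ Φ →* H ⧸ Φ := QuotientGroup.lift Φ d hdker
  have hd's : Function.Surjective d' := by
    rw [← MonoidHom.range_eq_top, eq_top_iff]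
    intro v _
    obtain ⟨x, rfl⟩ := QuotientGroup.mk'_surjective Φ v
    have : closure (Set.range fun x : H => x⁻¹ * α x) ≤ d'.range.comap π := by
      refine (closure_le _).2 ?_
      rintro _ ⟨y, rfl⟩
      exact ⟨π y, by show _ = π (y⁻¹ * α y); rw [map_mul, map_inv]; rfl⟩
    exact this (hgen ▸ mem_top x)
  have hd'i : Function.Injective d' := Finite.injective_iff_surjective.2 hd's
  have hsemi : ∀ y : H, π (α y) = π y ^ ω := by
    by_contra hcon
    push Not at hcon
    obtain ⟨y₀, hy₀⟩ := hcon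
    let u : H →* H ⧸ Φ :=
      { toFun := fun x => (π x ^ ω)⁻¹ * π (α x)
        map_one' := by simp
        map_mul' := fun a b => by rw [map_mul, map_mul, map_mul, mul_pow, mul_inv, mul_mul_mul_comm] }
    obtain ⟨b, hb, hbΦ, e, he, hbe⟩ := hg Φ (u.range.comap π)
      (fun a ha => ⟨1, by rw [map_one]; exact ((QuotientGroup.eq_one_iff a).2 ha).symm⟩) le_top hΦα
      (by
        rintro a ⟨x, hx⟩
        have hxa : π ((x ^ ω)⁻¹ * α x) = π a := by
          rw [map_mul, map_inv, map_pow]; exact hx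
        refine ⟨α x, ?_⟩
        have h' : ((x ^ ω)⁻¹ * α x)⁻¹ * a ∈ Φ := QuotientGroup.eq.1 hxa
        have h'' := (QuotientGroup.eq_one_iff _).2 (hΦα _ h')
        change π (α (((x ^ ω)⁻¹ * α x)⁻¹ * a)) = 1 at h''
        rw [map_mul, map_mul, map_inv, map_inv, inv_mul_eq_one, map_mul, map_inv, map_pow, map_mul,
          map_inv, map_pow] at h''
        exact h'')
      (fun c _ a ha => hΦn.conj_mem a ha c)
      (fun h => hy₀ (by
        have h1 : (y₀ ^ ω)⁻¹ * α y₀ ∈ Φ := h ⟨y₀, by rw [map_mul, map_inv, map_pow]; rfl⟩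
        have h2 := (QuotientGroup.eq_one_iff _).2 h1
        change π ((y₀ ^ ω)⁻¹ * α y₀) = 1 at h2
        rw [map_mul, map_inv, map_pow, inv_mul_eq_one] at h2
        exact h2.symm))
    have hb1 : π b ≠ 1 := fun h => hbΦ ((QuotientGroup.eq_one_iff b).1 h)
    have hbe' : π (α b) = π b ^ e := by
      have h2 : π ((b ^ e)⁻¹ * α b) = 1 := (QuotientGroup.eq_one_iff _).2 hbe
      rw [map_mul, map_inv, map_pow, inv_mul_eq_one] at h2
      exact h2.symm
    rcases he with rfl | rfl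
    · refine hb1 (hd'i ?_)
      rw [map_one]
      show (π b)⁻¹ * π (α b) = 1
      rw [hbe', pow_one, inv_mul_cancel]
    · obtain ⟨y, hy⟩ := hb
      have hy' : π (α y) = π y ^ e * π b := by
        rw [← hy]; show _ = _ * ((π y ^ e)⁻¹ * π (α y)); rw [mul_inv_cancel_left]
      have hcg : ∀ {a c : H}, π a = π c → π (α a) = π (α c) := fun {a c} h => by
        have h' : a⁻¹ * c ∈ Φ := QuotientGroup.eq.1 h
        have h'' : π (α (a⁻¹ * c)) = 1 := (QuotientGroup.eq_one_iff _).2 (hΦα _ h')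
        rwa [map_mul, map_mul, map_inv, map_inv, inv_mul_eq_one] at h''
      have hit : ∀ k : ℕ, π (α^[k + 1] y) = π y ^ (e ^ (k + 1)) * π b ^ ((k + 1) * e ^ k) := by
        intro k
        induction k with
        | zero => simpa using hy'
        | succ k ihk =>
          rw [Function.iterate_succ_apply']
          have h1 : π (α^[k + 1] y) = π (y ^ (e ^ (k + 1)) * b ^ ((k + 1) * e ^ k)) := by
            rw [ihk, map_mul, map_pow, map_pow]
          rw [hcg h1, map_mul, map_pow, map_pow, map_mul, map_pow, map_pow, hy', hbe', mul_pow,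
            ← pow_mul, ← pow_mul, mul_assoc, ← pow_add]
          congr 1
          · congr 1; rw [pow_succ' e (k + 1)]
          · congr 1; rw [pow_succ]; ring
      obtain ⟨m, rfl⟩ : ∃ m, n = m + 1 := ⟨n - 1, by omega⟩
      have h := hit m
      rw [hαn] at h
      have hye : π y ^ (e ^ (m + 1)) = π y := by
        conv_rhs => rw [← pow_one (π y)]
        rw [pow_eq_pow_mod _ (hexp _), pow_eq_pow_mod 1 (hexp _)]
        congr 1
        exact (ZMod.natCast_eq_natCast_iff' _ _ p).1 (by push_cast; exact hωn)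
      rw [hye, eq_comm, mul_eq_left] at h
      refine hb1 (orderOf_eq_one_iff.1 ((Nat.dvd_prime hp).1 (orderOf_dvd_of_pow_eq_one (hexp _)) |>.resolve_right
        fun ho => ?_))
      have h1 := orderOf_dvd_of_pow_eq_one h
      rw [ho, hp.dvd_mul] at h1
      rcases h1 with h1 | h1
      · exact hn h1
      · exact hω0 ((ZMod.natCast_eq_zero_iff _ p).2 (hp.dvd_of_dvd_pow h1))
  -- the commutator subgroup
  set W := (⁅(⊤ : Subgroup H), (⊤ : Subgroup H)⁆ : Subgroup H) with hWdef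
  haveI hWn : W.Normal := commutator_normal _ _
  have hW : ∀ a b : H, ⁅a, b⁆ ∈ W := fun a b => commutator_mem_commutator (mem_top a) (mem_top b)
  set A2 := ⁅W, (⊤ : Subgroup H)⁆ ⊔ closure ((fun x : H => x ^ p) '' (W : Set H)) with hA2
  have hA2W : A2 ≤ W := sup_le (commutator_le_left W ⊤) ((closure_le _).2 (by
    rintro _ ⟨a, ha, rfl⟩; exact pow_mem ha _))
  haveI hA2n : A2.Normal := ⟨fun a ha g => by
    rw [show g * a * g⁻¹ = ⁅a, g⁆⁻¹ * a by rw [commutatorElement_def]; group]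
    exact mul_mem (inv_mem (mem_sup_left (commutator_mem_commutator (hA2W ha) (mem_top g)))) ha⟩
  let ρ := QuotientGroup.mk' A2
  have hWc : ∀ w ∈ W, ∀ g : H ⧸ A2, g * ρ w = ρ w * g := by
    intro w hw g
    obtain ⟨g, rfl⟩ := QuotientGroup.mk'_surjective A2 g
    refine (commutatorElement_eq_one_iff_mul_comm.1 ?_).symm
    show ⁅ρ w, ρ g⁆ = 1
    rw [← map_commutatorElement]
    exact (QuotientGroup.eq_one_iff _).2 (mem_sup_left (commutator_mem_commutator hw (mem_top g)))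
  have hWp : ∀ w ∈ W, ρ w ^ p = 1 := fun w hw =>
    (QuotientGroup.eq_one_iff _).2 (mem_sup_right (subset_closure ⟨w, hw, rfl⟩))
  have hcl : ∀ a b c : H, ρ ⁅a * b, c⁆ = ρ ⁅a, c⁆ * ρ ⁅b, c⁆ := fun a b c => by
    rw [show ⁅a * b, c⁆ = a * ⁅b, c⁆ * a⁻¹ * ⁅a, c⁆ by simp only [commutatorElement_def]; group,
      map_mul, map_mul, map_mul, map_inv, hWc _ (hW b c) (ρ a), mul_inv_cancel_right,
      hWc _ (hW b c)]
  have hpow : ∀ (a c : H) (k : ℕ), ρ ⁅a ^ k, c⁆ = ρ ⁅a, c⁆ ^ k := by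
    intro a c k
    induction k with
    | zero => simp
    | succ k ihk => rw [pow_succ, hcl, ihk, pow_succ]
  have hΦc : ∀ a ∈ Φ, ∀ c : H, ρ ⁅a, c⁆ = 1 := by
    intro a ha c
    refine (QuotientGroup.eq_one_iff _).2 ?_
    revert c
    suffices h : Φ ≤ (center (H ⧸ A2)).comap ρ by
      intro c
      refine (QuotientGroup.eq_one_iff _).1 ?_
      show ρ ⁅a, c⁆ = 1
      rw [map_commutatorElement, commutatorElement_eq_one_iff_mul_comm]
      exact ((mem_center_iff.1 (h ha)) (ρ c)).symm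
    refine sup_le (fun w hw => mem_center_iff.2 fun g => hWc w hw g) ((closure_le _).2 ?_)
    rintro _ ⟨b, rfl⟩
    refine mem_center_iff.2 fun g => ?_
    obtain ⟨g, rfl⟩ := QuotientGroup.mk'_surjective A2 g
    refine (commutatorElement_eq_one_iff_mul_comm.1 ?_).symm
    show ⁅ρ (b ^ p), ρ g⁆ = 1
    rw [← map_commutatorElement, hpow, hWp _ (hW b g)]
  have hswap : ∀ a c : H, ρ ⁅a, c⁆ = (ρ ⁅c, a⁆)⁻¹ := fun a c => by
    rw [← map_inv, commutatorElement_inv]
  have hW2 : ∀ a c : H, ρ ⁅α a, α c⁆ = ρ ⁅a, c⁆ ^ (ω * ω) := by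
    intro a c
    obtain ⟨m, hm, ham⟩ : ∃ m ∈ Φ, α a = a ^ ω * m :=
      ⟨(a ^ ω)⁻¹ * α a, QuotientGroup.eq.1 (show π (a ^ ω) = π (α a) by rw [map_pow, hsemi]), by
        rw [mul_inv_cancel_left]⟩
    obtain ⟨m', hm', hcm⟩ : ∃ m ∈ Φ, α c = c ^ ω * m :=
      ⟨(c ^ ω)⁻¹ * α c, QuotientGroup.eq.1 (show π (c ^ ω) = π (α c) by rw [map_pow, hsemi]), by
        rw [mul_inv_cancel_left]⟩
    rw [ham, hcm, hcl, hΦc m hm, mul_one, hpow, hswap a (c ^ ω * m'), hcl, hΦc m' hm', mul_one, hpow,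
      ← inv_pow, ← hswap, ← pow_mul]
  have hWscal : ∀ w ∈ W, ρ (α w) = ρ w ^ (ω * ω) := by
    intro w hw
    suffices h : w ∈ W ∧ ρ (α w) = ρ w ^ (ω * ω) from h.2
    rw [hWdef, Subgroup.commutator_def] at hw
    induction hw using closure_induction with
    | mem v hv =>
      obtain ⟨a, -, c, -, rfl⟩ := hv
      exact ⟨hW a c, by rw [map_commutatorElement, hW2]⟩
    | one => exact ⟨one_mem W, by simp⟩
    | mul v v' _ _ hv hv' =>
      refine ⟨mul_mem hv.1 hv'.1, ?_⟩
      rw [map_mul, map_mul, map_mul, hv.2, hv'.2,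
        ← (show Commute (ρ v) (ρ v') from hWc v' hv'.1 (ρ v)).mul_pow]
    | inv v _ hv => exact ⟨inv_mem hv.1, by rw [map_inv, map_inv, map_inv, hv.2, inv_pow]⟩
  have hA2α : Inv α A2 := by
    have hWα : ∀ w ∈ W, α w ∈ W := fun w hw => by
      have : W.map α.toMonoidHom ≤ W := by
        rw [hWdef, map_commutator]; exact commutator_mono le_top le_top
      exact this ⟨w, hw, rfl⟩
    suffices h : A2 ≤ A2.comap α.toMonoidHom from fun b hb => h hb
    refine sup_le (commutator_le.2 fun a ha b _ => ?_) ((closure_le _).2 ?_)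
    · show α ⁅a, b⁆ ∈ A2
      rw [map_commutatorElement]
      exact mem_sup_left (commutator_mem_commutator (hWα a ha) (mem_top _))
    · rintro _ ⟨a, ha, rfl⟩
      show α (a ^ p) ∈ A2
      rw [map_pow]; exact mem_sup_right (subset_closure ⟨_, hWα a ha, rfl⟩)
  have hWA : W ≤ A2 := by
    by_contra hne
    obtain ⟨b, hb, hbA, e, he, hbe⟩ := hg A2 W hA2W le_top hA2α
      (fun w hw => by
        have : W.map α.toMonoidHom ≤ W := by
          rw [hWdef, map_commutator]; exact commutator_mono le_top le_top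
        exact this ⟨w, hw, rfl⟩)
      (fun c _ a ha => hA2n.conj_mem a ha c) hne
    have h1 : ρ b ^ e = ρ b ^ (ω * ω) := by
      have h2 : ρ ((b ^ e)⁻¹ * α b) = 1 := (QuotientGroup.eq_one_iff _).2 hbe
      rw [map_mul, map_inv, map_pow, inv_mul_eq_one, hWscal b hb] at h2
      exact h2
    have ho : orderOf (ρ b) = p := orderOf_eq_prime (hWp b hb) fun h => hbA ((QuotientGroup.eq_one_iff b).1 h)
    rw [pow_inj_mod, ho, ← ZMod.natCast_eq_natCast_iff'] at h1
    rcases he with rfl | rfl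
    · exact hω2 (by rw [pow_two, ← Nat.cast_mul, ← h1, Nat.cast_one])
    · rw [Nat.cast_mul] at h1
      exact hω1 (mul_left_cancel₀ hω0 (by rw [mul_one, ← h1]))
  -- nilpotence
  have hWc : W ≤ ⁅W, (⊤ : Subgroup H)⁆ := by
    intro w hw
    let σ := QuotientGroup.mk' ⁅W, (⊤ : Subgroup H)⁆
    have hWσ : ∀ v ∈ W, ∀ g, σ g * σ v = σ v * σ g := fun v hv g => by
      refine (commutatorElement_eq_one_iff_mul_comm.1 ?_).symm
      rw [← map_commutatorElement]
      exact (QuotientGroup.eq_one_iff _).2 (commutator_mem_commutator hv (mem_top g))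
    set K := W.map σ with hK
    let pw : K →* K :=
      { toFun := fun x => x ^ p
        map_one' := one_pow p
        map_mul' := fun a b => (show Commute a b from Subtype.ext (by
          obtain ⟨u, hu, hu'⟩ := a.2
          obtain ⟨v, hv, hv'⟩ := b.2
          show a.1 * b.1 = b.1 * a.1
          rw [← hu', ← hv', hWσ v hv u])).mul_pow p }
    have hsur : Function.Surjective pw := by
      rintro ⟨_, v, hv, rfl⟩
      suffices h : v ∈ W ∧ ∃ x : K, x.1 ^ p = σ v by
        obtain ⟨-, x, hx⟩ := h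
        exact ⟨x, Subtype.ext hx⟩
      have hv' := hWA hv
      clear hv
      obtain ⟨a, ha, c, hc, rfl⟩ := mem_sup_of_normal_left.1 hv'
      refine ⟨hA2W (mul_mem (mem_sup_left ha) (mem_sup_right hc)), ?_⟩
      have hle : closure ((fun x : H => x ^ p) '' (W : Set H)) ≤
          ((pw.range.map K.subtype).comap σ) := by
        refine (closure_le _).2 ?_
        rintro _ ⟨u, hu, rfl⟩
        exact ⟨pw ⟨σ u, u, hu, rfl⟩, ⟨_, rfl⟩, by show σ u ^ p = σ (u ^ p); rw [map_pow]⟩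
      obtain ⟨_, ⟨x, rfl⟩, hx⟩ := hle hc
      refine ⟨x, ?_⟩
      rw [map_mul, show σ a = 1 from (QuotientGroup.eq_one_iff a).2 ha, one_mul]
      exact hx
    have hinj : Function.Injective pw := Finite.injective_iff_surjective.2 hsur
    have hKp : IsPGroup p K := (hH.to_quotient _).to_subgroup K
    refine (QuotientGroup.eq_one_iff w).1 ?_
    obtain ⟨k, hk⟩ := hKp ⟨σ w, w, hw, rfl⟩
    have : (⟨σ w, w, hw, rfl⟩ : K) = 1 := by
      clear * - hk hinj
      generalize (⟨σ w, w, hw, rfl⟩ : K) = x at hk ⊢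
      induction k generalizing x with
      | zero => simpa using hk
      | succ k ihk => exact ihk x (hinj (by rw [map_one]; show (x ^ p ^ k) ^ p = 1; rw [← pow_mul, ← pow_succ]; exact hk))
    exact congrArg Subtype.val this
  haveI : Group.IsNilpotent H := hH.isNilpotent
  obtain ⟨k, hk⟩ := (_root_.nilpotent_iff_lowerCentralSeries (G := H)).1 inferInstance
  have hall : ∀ j, W ≤ (⊤ : Subgroup H).lowerCentralSeries j := by
    intro j
    induction j with
    | zero => exact le_top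
    | succ j ihj => exact hWc.trans (commutator_mono ihj le_rfl)
  intro a b
  refine commutatorElement_eq_one_iff_mul_comm.1 ?_
  have := hall k (hW a b)
  rwa [hk, mem_bot] at this

end Cfsg.Agent.NoField.Weight
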