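import Cfsg.Agent.Lib.NoField.XFactsRoots
import Cfsg.Agent.Lib.SEMain.Orbital
import Cfsg.Agent.Lib.Blocks.KleinLocal

/-!
The Steinberg character of `X` and the Sylow 2-subgroups of `X`.
-/

set_option autoImplicit false
set_option linter.style.haveILetI false
set_option linter.unusedSectionVars false

namespace Cfsg.Agent.NoField

open Subgroup Cfsg.Agent.Walter8 Cfsg.Agent.AutPSL
open scoped ComplexConjugate Classical

universe u

variable {G : Type u} [Group G] [Finite G] {D : Data G}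

namespace Data

variable (D : Data G)

theorem sum_fibers [Fintype G] [Fintype D.Φ] (f : D.X → ℂ) :
    ∑ σ : D.Φ, ∑ x : D.X, (if D.pr x = σ then f x else 0) = ∑ x : D.X, f x := by
  rw [Finset.sum_comm]
  exact Finset.sum_congr rfl fun x _ => by rw [Finset.sum_ite_eq]; simp

/-- The centraliser in `X` of a set fixed by the field automorphisms. -/
theorem card_cen (T : Set (PSL2 D.F)) (hT : ∀ σ : D.F ≃+* D.F, ∀ a ∈ T, semi 1 σ a = a) :
    Nat.card (centralizer (D.jLX '' T)) = Nat.card (centralizer T) * Nat.card D.Φ := by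
  have hmem : ∀ (l : PSL2 D.F) (σ : D.Φ), D.jLX l * D.jΦX σ ∈ centralizer (D.jLX '' T) ↔ l ∈ centralizer T := by
    intro l σ
    simp only [mem_centralizer_iff, Set.forall_mem_image]
    refine forall₂_congr fun a ha => ?_
    rw [Subtype.ext_iff]
    show D.jL a * (D.jL l * D.jΦ σ) = D.jL l * D.jΦ σ * D.jL a ↔ _
    rw [mul_assoc (D.jL l), D.jΦ_comm_jL σ a (hT _ a ha), ← mul_assoc, ← mul_assoc, mul_right_cancel_iff,
      ← map_mul, ← map_mul]
    exact D.jL_inj.eq_iff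
  rw [← Nat.card_prod]
  refine (Nat.card_eq_of_bijective (fun z : centralizer T × D.Φ =>
    (⟨D.jLX z.1 * D.jΦX z.2, (hmem _ _).2 z.1.2⟩ : centralizer (D.jLX '' T))) ⟨?_, ?_⟩).symm
  · intro z w h
    have h' := D.prod_unique (congrArg (fun x : centralizer (D.jLX '' T) => ((x : D.X) : G)) h)
    exact Prod.ext (Subtype.ext h'.1) h'.2
  · rintro ⟨x, hx⟩
    obtain ⟨l, hl⟩ := D.exists_prod x
    have e : x = D.jLX l * D.jΦX (D.pr x) := Subtype.ext hl
    exact ⟨⟨⟨l, (hmem l _).1 (e ▸ hx)⟩, D.pr x⟩, Subtype.ext e.symm⟩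

/-- The four-group `⟨s, i⟩` of `L`. -/
def V4 : Subgroup (PSL2 D.F) where
  carrier := {a | a = 1 ∨ a = D.s ∨ a = D.i ∨ a = D.s * D.i}
  one_mem' := Or.inl rfl
  mul_mem' := by
    have h1 : D.s * (D.s * D.i) = D.i := by rw [← mul_assoc, D.s_sq, one_mul]
    have h2 : D.i * (D.s * D.i) = D.s := by rw [← mul_assoc, D.i_comm, mul_assoc, D.i_sq, mul_one]
    have h3 : D.s * D.i * D.s = D.i := by rw [mul_assoc, D.i_comm, h1]
    have h4 : D.s * D.i * D.i = D.s := by rw [mul_assoc, D.i_sq, mul_one]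
    have h5 : D.s * D.i * (D.s * D.i) = 1 := by rw [← mul_assoc, h3, D.i_sq]
    rintro a b (rfl | rfl | rfl | rfl) (rfl | rfl | rfl | rfl) <;>
      simp [D.s_sq, D.i_sq, D.i_comm, h1, h2, h3, h4, h5]
  inv_mem' := by
    rintro a (rfl | rfl | rfl | rfl)
    · exact Or.inl inv_one
    · exact Or.inr (Or.inl (inv_eq_of_mul_eq_one_right D.s_sq))
    · exact Or.inr (Or.inr (Or.inl (inv_eq_of_mul_eq_one_right D.i_sq)))
    · exact Or.inr (Or.inr (Or.inr (by
        rw [mul_inv_rev, inv_eq_of_mul_eq_one_right D.s_sq, inv_eq_of_mul_eq_one_right D.i_sq, D.i_comm])))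

theorem mem_V4 {a : PSL2 D.F} : a ∈ D.V4 ↔ a = 1 ∨ a = D.s ∨ a = D.i ∨ a = D.s * D.i := Iff.rfl

theorem card_V4 : Nat.card D.V4 = 4 := by
  have e : (D.V4 : Set (PSL2 D.F)) = ↑({1, D.s, D.i, D.s * D.i} : Finset (PSL2 D.F)) := by
    ext a; simp [SetLike.mem_coe, D.mem_V4]
  rw [← SetLike.coe_sort_coe, e]
  simp only [Nat.card_eq_fintype_card, Finset.coe_sort_coe, Fintype.card_coe]
  have hsi : D.s * D.i ≠ 1 := fun h => D.i_ne_s (mul_left_cancel (a := D.s) (h.trans D.s_sq.symm))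
  rw [Finset.card_insert_of_notMem (by simp [D.s_ne.symm, D.i_ne.symm, hsi.symm]),
    Finset.card_insert_of_notMem (by simp [D.i_ne_s.symm, D.i_ne]),
    Finset.card_pair (fun h => D.s_ne (mul_right_cancel (b := D.i) (h.symm.trans (one_mul _).symm)))]

theorem V4_sq {a : PSL2 D.F} (ha : a ∈ D.V4) : a * a = 1 := by
  rcases D.mem_V4.1 ha with rfl | rfl | rfl | rfl
  · exact one_mul 1
  · exact D.s_sq
  · exact D.i_sq
  · rw [mul_assoc, ← mul_assoc D.i, D.i_comm, mul_assoc D.s D.i, D.i_sq, mul_one, D.s_sq]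

theorem fix_V4 (σ : D.F ≃+* D.F) {a : PSL2 D.F} (ha : a ∈ D.V4) : semi 1 σ a = a := by
  rcases D.mem_V4.1 ha with rfl | rfl | rfl | rfl
  · exact map_one _
  · exact D.fix_s σ
  · exact D.fix_i σ
  · rw [map_mul, D.fix_s, D.fix_i]

theorem cen_V4 : centralizer (D.V4 : Set (PSL2 D.F)) = D.V4 := by
  ext a
  rw [mem_centralizer_iff]
  refine ⟨fun h => D.mem_V4.2 (D.cen_four (h D.s (D.mem_V4.2 (Or.inr (Or.inl rfl)))).symm
    (h D.i (D.mem_V4.2 (Or.inr (Or.inr (Or.inl rfl))))).symm), fun ha b hb => ?_⟩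
  have h1 := D.V4_sq ha
  have h2 := D.V4_sq hb
  have h3 := D.V4_sq (mul_mem hb ha)
  calc b * a = b * a * 1 := (mul_one _).symm
    _ = b * a * (a * a) * (b * b) := by rw [h1, h2, mul_one, mul_one]
    _ = (b * a) * a * a * b * b := by group
    _ = b * (a * a) * a * b * b := by group
    _ = b * a * b * b := by rw [h1, mul_one]
    _ = (b * a) * (b * a) * (a * b) := by
      rw [mul_assoc (b * a) (b * a), mul_assoc b a (a * b), ← mul_assoc a a, h1, one_mul]
      group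
    _ = a * b := by rw [h3, one_mul]

theorem mem_cen_singleton {a b : PSL2 D.F} :
    a ∈ centralizer ({b} : Set (PSL2 D.F)) ↔ a * b = b * a := mem_centralizer_singleton_iff

end Data

namespace Main

variable (M : Main D)
include M

/-- The Steinberg character of `X`. -/
theorem exists_steinberg [Fintype G] : ∃ χ : Cfsg.IrrCharacter D.X,
    (∀ x : D.X, (χ : D.X → ℂ) x = (D.fixN x : ℂ) - 1) ∧ (χ : D.X → ℂ) 1 = (Fintype.card D.F : ℂ) := by
  haveI := Fintype.ofFinite D.Pts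
  haveI := Fintype.ofFinite D.Φ
  haveI : Nonempty D.Pts := (Nat.card_pos_iff.1 (by rw [M.card_pts]; omega)).1
  haveI : MulAction.IsPretransitive D.X D.Pts := ⟨fun P Q => by
    obtain ⟨l, hl⟩ := M.trans_pt P Q
    exact ⟨_, hl⟩⟩
  set f : D.X → ℂ := fun x => (D.fixN x : ℂ) - 1 with hf
  have hfc : Cfsg.IsCharacter D.X f := by
    have e : CharPerm.permChar D.X D.Pts - (fun _ => (1 : ℂ)) = f := funext fun x => by
      rw [hf, Pi.sub_apply]; simp only [CharPerm.permChar]; rw [D.fixN_eq]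
    exact e ▸ SEMain.isCharacter_permChar_sub
  have hnorm : Cfsg.classInner f f = 1 := by
    simp only [Cfsg.classInner, hf, map_sub, map_natCast, map_one]
    have e : ∀ σ : D.Φ, ∑ x : D.X, (if D.pr x = σ then ((D.fixN x : ℂ) - 1) * ((D.fixN x : ℂ) - 1) else 0) =
        Nat.card (PSL2 D.F) := fun σ => by
      have h0 : ∀ x : D.X, (if D.pr x = σ then ((D.fixN x : ℂ) - 1) * ((D.fixN x : ℂ) - 1) else 0) =
          (if D.pr x = σ then (D.fixN x : ℂ) ^ 2 else 0) - 2 * (if D.pr x = σ then (D.fixN x : ℂ) else 0) +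
            (if D.pr x = σ then (1 : ℂ) else 0) := fun x => by split_ifs <;> ring
      rw [Finset.sum_congr rfl fun x _ => h0 x, Finset.sum_add_distrib, Finset.sum_sub_distrib, ← Finset.mul_sum]
      have s1 : ∑ x : D.X, (if D.pr x = σ then (D.fixN x : ℂ) else 0) = (Nat.card (PSL2 D.F) : ℂ) := by
        convert (M.sum_fix σ).1
      have s2 : ∑ x : D.X, (if D.pr x = σ then (D.fixN x : ℂ) ^ 2 else 0) = 2 * (Nat.card (PSL2 D.F) : ℂ) := by
        convert (M.sum_fix σ).2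
      have s3 : ∑ x : D.X, (if D.pr x = σ then (1 : ℂ) else 0) = (Nat.card (PSL2 D.F) : ℂ) := by
        refine Eq.trans (by convert D.sum_coset σ (fun _ => (1 : ℂ))) (?_ : ∑ _l : PSL2 D.F, (1 : ℂ) = _)
        simp [Nat.card_eq_fintype_card]
      rw [s1, s2, s3]; ring
    rw [← D.sum_fibers, Finset.sum_congr rfl fun σ _ => e σ, Finset.sum_const, Finset.card_univ,
      nsmul_eq_mul, D.card_X, Nat.cast_mul, Nat.card_eq_fintype_card (α := D.Φ), inv_mul_cancel₀]
    exact mul_ne_zero (Nat.cast_ne_zero.2 Fintype.card_ne_zero) (Nat.cast_ne_zero.2 Nat.card_pos.ne')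
  refine ⟨⟨f, Char.IsCharacter.isIrr_of_norm_one hfc hnorm⟩, fun x => rfl, ?_⟩
  show (D.fixN ((1 : D.X) : G) : ℂ) - 1 = _
  rw [D.fixN_eq]
  have h : Nat.card (MulAction.fixedBy D.Pts (1 : D.X)) = Fintype.card D.F + 1 := by
    rw [← M.card_pts]
    exact Nat.card_congr (Equiv.subtypeUnivEquiv fun P => one_smul D.X P)
  rw [h]; push_cast; ring

theorem card_X_two : ∃ m, Odd m ∧ Nat.card D.X = 4 * m := by
  obtain ⟨c, hc⟩ : ∃ c, Fintype.card D.F = 8 * c + 3 := ⟨Fintype.card D.F / 8, by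
    have := M.q_mod_three; omega⟩
  refine ⟨Nat.card D.Φ * ((8 * c + 3) * ((4 * c + 1) * (2 * c + 1))), D.card_Φ_odd.mul
    (Odd.mul ⟨4 * c + 1, by ring⟩ (Odd.mul ⟨2 * c, by ring⟩ ⟨c, rfl⟩)), ?_⟩
  have h := M.card_L
  rw [hc, show (8 * c + 3) ^ 2 - 1 = (8 * c + 2) * (8 * c + 4) by rw [Nat.sub_eq_of_eq_add]; ring] at h
  have h2 : 2 * Nat.card (PSL2 D.F) = 2 * (4 * ((8 * c + 3) * ((4 * c + 1) * (2 * c + 1)))) :=
    h.trans (by ring)
  rw [D.card_X, Nat.eq_of_mul_eq_mul_left two_pos h2]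
  ring

theorem invol_X {x : D.X} (hx : orderOf x = 2) : IsConj (D.jLX D.s) x := by
  have hp : D.pr x = 1 := orderOf_eq_one_iff.1 (Nat.eq_one_of_dvd_coprimes
    (Nat.coprime_two_right.2 (D.card_Φ_odd.of_dvd_nat (orderOf_dvd_natCard _))) dvd_rfl
    (hx ▸ orderOf_map_dvd D.pr x))
  obtain ⟨a, ha⟩ := D.eq_jL_of_pr hp
  have hxa : D.jLX a = x := Subtype.ext ha.symm
  have h2 : x * x = 1 := by rw [← pow_two, ← hx, pow_orderOf_eq_one]
  have haa : a * a = 1 := D.jL_inj (by rw [map_mul, map_one, ← ha]; exact congrArg Subtype.val h2)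
  have ha1 : a ≠ 1 := fun e => by
    rw [← hxa, e, map_one, orderOf_one] at hx
    omega
  have hc := M.ld.invol a haa ha1
  rw [M.ld_s] at hc
  exact hxa ▸ D.jLX.map_isConj hc

theorem exists_sylow : ∃ P : Sylow 2 D.X, (P : Subgroup D.X) = D.V4.map D.jLX := by
  have hinj : Function.Injective D.jLX := fun a b h => D.jL_inj (congrArg Subtype.val h)
  have hc : Nat.card (D.V4.map D.jLX) = 4 := by rw [Subgroup.card_map_of_injective hinj, D.card_V4]
  haveI : Fact (Nat.Prime 2) := ⟨Nat.prime_two⟩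
  refine ⟨Sylow.ofCard _ ?_, Sylow.coe_ofCard _ _⟩
  obtain ⟨m, hm, hX⟩ := M.card_X_two
  rw [hc, hX, Nat.factorization_mul (by norm_num) hm.pos.ne', Finsupp.add_apply,
    Nat.factorization_eq_zero_of_not_dvd (n := m) (fun h => Nat.not_even_iff_odd.2 hm (even_iff_two_dvd.2 h)),
    show (4 : ℕ) = 2 ^ 2 from rfl, Nat.prime_two.factorization_pow, Finsupp.single_eq_same]

theorem setup : KleinBlock.Setup D.X := by
  obtain ⟨P, hP⟩ := M.exists_sylow
  have hinj : Function.Injective D.jLX := fun a b h => D.jL_inj (congrArg Subtype.val h)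
  refine KleinBlock.Setup.of_sylow P (by rw [hP, Subgroup.card_map_of_injective hinj, D.card_V4])
    (fun x => ?_) (fun a b ha hb => (M.invol_X ha).symm.trans (M.invol_X hb))
  obtain ⟨v, hv, hvx⟩ := Subgroup.mem_map.1 (hP ▸ x.2 : (x : D.X) ∈ D.V4.map D.jLX)
  refine Subtype.ext ?_
  rw [Subgroup.coe_mul, Subgroup.coe_one, ← hvx, ← map_mul, D.V4_sq hv, map_one]

theorem s_order : orderOf (D.jLX D.s) = 2 := by
  rw [orderOf_injective D.jLX (fun a b h => D.jL_inj (congrArg Subtype.val h))]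
  exact orderOf_eq_prime (by rw [pow_two]; exact D.s_sq) D.s_ne

/-- The centralisers of an involution and of a Sylow 2-subgroup. -/
theorem cen_counts (P : Sylow 2 D.X) (hP : (P : Subgroup D.X) = D.V4.map D.jLX) :
    ∃ r, 4 * r = Fintype.card D.F + 1 ∧
      Nat.card (centralizer ((P : Subgroup D.X) : Set D.X)) = 4 * Nat.card D.Φ ∧
      Nat.card (centralizer ({D.jLX D.s} : Set D.X)) =
        r * Nat.card (centralizer ((P : Subgroup D.X) : Set D.X)) := by
  have h1 : Nat.card (centralizer ((P : Subgroup D.X) : Set D.X)) = 4 * Nat.card D.Φ := by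
    rw [hP, Subgroup.coe_map, D.card_cen _ (fun σ a ha => D.fix_V4 σ ha), D.cen_V4, D.card_V4]
  refine ⟨M.ld.h, ?_, h1, ?_⟩
  · have h := M.ld.h_eq
    omega
  · rw [h1, ← Set.image_singleton, D.card_cen _ (fun σ a ha => by rw [Set.mem_singleton_iff.1 ha]; exact D.fix_s σ),
      ← M.ld_s, M.ld.card_Cs]
    ring

end Main

end Cfsg.Agent.NoField
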